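import Mathlib
import Groth.Prelude.Def_QCohCat
import Groth.Prelude.Def_Coh
import Groth.Agent.H22.QCohLimits

/-!
# (N1a) for helper22 / S11129: a monomorphism of `QCoh(Y)` is a monomorphism of `O_Y`-modules
(helper77)
-/
set_option autoImplicit false
universe u
open CategoryTheory CategoryTheory.Limits AlgebraicGeometry TopologicalSpace Opposite

namespace Groth.Agent.H77.NoethObj_N1a

theorem mono_hom_of_mono {Y : Scheme.{u}} {A B : QCohCat.QCoh Y} (f : A ⟶ B) [Mono f] :
    Mono f.hom := by
  have hA : A.obj.IsQuasicoherent := A.property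
  have hB : B.obj.IsQuasicoherent := B.property
  have hK : (kernel f.hom).IsQuasicoherent :=
    Groth.Agent.H22.QCohLimits.isQuasicoherent_kernel f.hom
  let K : QCohCat.QCoh Y := ⟨kernel f.hom, hK⟩
  let k : K ⟶ A := ObjectProperty.homMk (kernel.ι f.hom)
  let z : K ⟶ A := ObjectProperty.homMk 0
  have hkz : k ≫ f = z ≫ f := by
    apply ObjectProperty.hom_ext
    rw [ObjectProperty.FullSubcategory.comp_hom, ObjectProperty.FullSubcategory.comp_hom]
    change kernel.ι f.hom ≫ f.hom = 0 ≫ f.hom
    rw [kernel.condition, zero_comp]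
  have hk : k = z := (cancel_mono f).1 hkz
  have h0 : kernel.ι f.hom = 0 := congrArg (fun φ : K ⟶ A => φ.hom) hk
  exact Preadditive.mono_of_kernel_zero h0

end Groth.Agent.H77.NoethObj_N1a
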