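import Mathlib
set_option autoImplicit false
universe u
open TensorProduct IsLocalRing AlgebraicGeometry

namespace Groth.Agent.H77.RedAlg2

/-- Elements of the kernel of `E ⊗ C → E ⊗ C/I` correspond to nilpotent elements of `E`. -/
theorem isNilpotent_rid_of_mem_ker {C E : Type u} [CommRing C] [CommRing E] [Algebra C E]
    (I : Ideal C) (hI : I ≤ nilradical C) (z : E ⊗[C] C)
    (hz : TensorProduct.AlgebraTensorModule.lTensor E E (Submodule.mkQ I) z = 0) :
    IsNilpotent (TensorProduct.AlgebraTensorModule.rid C E E z) := by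
  have hex : Function.Exact (LinearMap.lTensor E I.subtype) (LinearMap.lTensor E (Submodule.mkQ I)) :=
    lTensor_exact E (LinearMap.exact_subtype_mkQ I) (Submodule.mkQ_surjective I)
  have hz' : LinearMap.lTensor E (Submodule.mkQ I) z = 0 := hz
  have key : ∀ w : E ⊗[C] I, IsNilpotent (TensorProduct.AlgebraTensorModule.rid C E E
      (LinearMap.lTensor E I.subtype w)) := by
    intro w
    induction w using TensorProduct.induction_on with
    | zero => rw [map_zero, map_zero]; exact IsNilpotent.zero
    | tmul e i =>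
      rw [LinearMap.lTensor_tmul, TensorProduct.AlgebraTensorModule.rid_tmul,
        Submodule.subtype_apply, Algebra.smul_def]
      have h1 : IsNilpotent (algebraMap C E (i : C)) := (mem_nilradical.mp (hI i.2)).map _
      exact (Commute.all (algebraMap C E (i : C)) e).isNilpotent_mul_right h1
    | add a b ha hb =>
      rw [map_add, map_add]
      exact (Commute.all _ _).isNilpotent_add ha hb
  obtain ⟨w, rfl⟩ := (hex z).mp hz'
  exact key w

/-- (ALG2) -/
theorem flat_localizedModule_tensor_quotient {C E V : Type u} [CommRing C] [CommRing E]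
    [Algebra C E] [CommRing V] [Algebra V E] [SMulCommClass C V E]
    (n : Ideal E) [n.IsPrime] (I : Ideal C) (hI : I ≤ nilradical C)
    (hE : ∀ a : E, IsNilpotent a → ∃ u : E, u ∉ n ∧ u * a = 0)
    (hflat : Module.Flat V (LocalizedModule n.primeCompl (E ⊗[C] C))) :
    Module.Flat V (LocalizedModule n.primeCompl (E ⊗[C] (C ⧸ I))) := by
  let S : Submonoid E := n.primeCompl
  let φ : E ⊗[C] C →ₗ[E] E ⊗[C] (C ⧸ I) :=
    TensorProduct.AlgebraTensorModule.lTensor E E (Submodule.mkQ I)
  have hφs : Function.Surjective φ :=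
    LinearMap.lTensor_surjective E (Submodule.mkQ_surjective I)
  have hker : ∀ z : E ⊗[C] C, φ z = 0 → ∃ u : S, u • z = 0 := by
    intro z hz
    obtain ⟨u, hun, hu⟩ := hE _ (isNilpotent_rid_of_mem_ker I hI z hz)
    refine ⟨⟨u, hun⟩, ?_⟩
    apply (TensorProduct.AlgebraTensorModule.rid C E E).injective
    rw [map_zero, Submonoid.smul_def, map_smul, smul_eq_mul]
    exact hu
  let ψ : LocalizedModule S (E ⊗[C] C) →ₗ[E] LocalizedModule S (E ⊗[C] (C ⧸ I)) :=
    IsLocalizedModule.map S (LocalizedModule.mkLinearMap S _) (LocalizedModule.mkLinearMap S _) φ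
  have hψs : Function.Surjective ψ := IsLocalizedModule.map_surjective S _ _ φ hφs
  have hψi : Function.Injective ψ := by
    rw [injective_iff_map_eq_zero]
    intro z hz
    induction z using LocalizedModule.induction_on with
    | h m s =>
      rw [IsLocalizedModule.map_LocalizedModules, ← LocalizedModule.zero_mk 1,
        LocalizedModule.mk_eq] at hz
      obtain ⟨t, ht⟩ := hz
      rw [one_smul, smul_zero, smul_zero, Submonoid.smul_def, ← map_smul] at ht
      obtain ⟨u, hu⟩ := hker _ ht
      rw [← LocalizedModule.zero_mk 1, LocalizedModule.mk_eq]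
      refine ⟨u * t, ?_⟩
      rw [one_smul, smul_zero, smul_zero, mul_smul]
      rw [Submonoid.smul_def t m]
      exact hu
  let e₀ : LocalizedModule S (E ⊗[C] C) ≃ₗ[E] LocalizedModule S (E ⊗[C] (C ⧸ I)) :=
    LinearEquiv.ofBijective ψ ⟨hψi, hψs⟩
  have hsmul1 : ∀ (v : V) (z : LocalizedModule S (E ⊗[C] C)),
      v • z = (algebraMap V E v) • z := by
    intro v z
    induction z using LocalizedModule.induction_on with
    | h m s =>
      rw [LocalizedModule.smul'_mk, LocalizedModule.smul'_mk, algebraMap_smul]
  have hsmul2 : ∀ (v : V) (z : LocalizedModule S (E ⊗[C] (C ⧸ I))),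
      v • z = (algebraMap V E v) • z := by
    intro v z
    induction z using LocalizedModule.induction_on with
    | h m s =>
      rw [LocalizedModule.smul'_mk, LocalizedModule.smul'_mk, algebraMap_smul]
  let e : LocalizedModule S (E ⊗[C] C) ≃ₗ[V] LocalizedModule S (E ⊗[C] (C ⧸ I)) :=
    { e₀ with
      map_smul' := fun v z => by
        simp only [AddHom.toFun_eq_coe, LinearMap.coe_toAddHom, LinearEquiv.coe_coe,
          RingHom.id_apply]
        rw [hsmul1, map_smul, ← hsmul2] }
  exact Module.Flat.of_linearEquiv e.symm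

end Groth.Agent.H77.RedAlg2
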