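import Mathlib
set_option autoImplicit false
universe u
open TensorProduct IsLocalRing AlgebraicGeometry

namespace Groth.Agent.H77.RedAlg3

/-- If `B ⧸ N` is `R`-flat then `N ∩ J B ⊆ J N`. -/
theorem mem_smul_of_flat_quotient {R B : Type*} [CommRing R] [AddCommGroup B] [Module R B]
    (N : Submodule R B) [Module.Flat R (B ⧸ N)] (J : Ideal R) (n : B) (hnN : n ∈ N)
    (hnJ : n ∈ J • (⊤ : Submodule R B)) : n ∈ J • N := by
  classical
  have hspan : (⊤ : Submodule R B) = Submodule.span R (Set.range (id : B → B)) := by
    rw [Set.range_id, Submodule.span_univ]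
  rw [hspan, Submodule.mem_ideal_smul_span_iff_exists_sum] at hnJ
  obtain ⟨a, haJ, hsum⟩ := hnJ
  -- index type: the support of `a`
  let ι := ↥a.support
  let f : ι → R := fun i => a i.1
  let x : ι → B ⧸ N := fun i => N.mkQ i.1
  have hsum' : ∑ i : ι, f i • (i.1 : B) = n := by
    rw [← hsum, Finsupp.sum]
    exact Finset.sum_coe_sort a.support (fun b => a b • (id b : B))
  have hrel : ∑ i : ι, f i • x i = 0 := by
    have h1 : ∑ i : ι, f i • x i = N.mkQ (∑ i : ι, f i • (i.1 : B)) := by
      rw [map_sum]
      exact Finset.sum_congr rfl (fun i _ => (map_smul _ _ _).symm)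
    rw [h1, hsum']
    exact (Submodule.Quotient.mk_eq_zero N).mpr hnN
  obtain ⟨k, c, y, hxy, hfc⟩ := Module.Flat.isTrivialRelation_of_sum_smul_eq_zero hrel
  choose y' hy' using fun j => N.mkQ_surjective (y j)
  let m : ι → B := fun i => (i.1 : B) - ∑ j, c i j • y' j
  have hm : ∀ i, m i ∈ N := by
    intro i
    rw [← Submodule.Quotient.mk_eq_zero N]
    change N.mkQ ((i.1 : B) - ∑ j, c i j • y' j) = 0
    rw [map_sub, map_sum]
    have : ∀ j, N.mkQ (c i j • y' j) = c i j • y j := fun j => by rw [map_smul, hy']
    rw [Finset.sum_congr rfl (fun j _ => this j), ← hxy i]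
    exact sub_self _
  have hn : n = ∑ i : ι, f i • m i := by
    have h2 : ∑ i : ι, f i • ∑ j, c i j • y' j = 0 := by
      simp_rw [Finset.smul_sum, smul_smul]
      rw [Finset.sum_comm]
      apply Finset.sum_eq_zero
      intro j _
      rw [← Finset.sum_smul, hfc j, zero_smul]
    calc n = ∑ i : ι, f i • (i.1 : B) := hsum'.symm
      _ = ∑ i : ι, (f i • m i + f i • ∑ j, c i j • y' j) := by
          apply Finset.sum_congr rfl
          intro i _
          rw [← smul_add]
          congr 1
          simp only [m]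
          abel
      _ = ∑ i : ι, f i • m i := by rw [Finset.sum_add_distrib, h2, add_zero]
  rw [hn]
  exact Submodule.sum_mem _ (fun i _ => Submodule.smul_mem_smul (haJ i.1) (hm i))

section

variable {R C B : Type u} [CommRing R] [CommRing C] [Algebra R C] (p : Ideal C) [p.IsPrime]
  [CommRing B] [Algebra C B] [IsLocalization.AtPrime B p] [Algebra R B] [IsScalarTower R C B]

/-- The localization of the nilradical. -/
noncomputable abbrev nilLoc : Submodule B B :=
  Submodule.localized' B p.primeCompl (Algebra.linearMap C B) (nilradical C)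

include p in
theorem mem_nilLoc_iff (b : B) : b ∈ nilLoc (B := B) p ↔ IsNilpotent b := by
  rw [Submodule.mem_localized']
  constructor
  · rintro ⟨m, hm, s, rfl⟩
    have h1 : IsNilpotent (algebraMap C B m) := (mem_nilradical.mp hm).map _
    have h2 : IsLocalizedModule.mk' (Algebra.linearMap C B) m s =
        IsLocalization.mk' B m s := by
      rw [IsLocalizedModule.mk'_eq_iff, Algebra.linearMap_apply, Submonoid.smul_def,
        Algebra.smul_def, mul_comm, IsLocalization.mk'_spec]
    rw [h2, IsLocalization.mk'_eq_mul_mk'_one]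
    exact (Commute.all _ _).isNilpotent_mul_right h1
  · rintro ⟨k, hk⟩
    obtain ⟨c, s, rfl⟩ := IsLocalization.exists_mk'_eq p.primeCompl b
    rw [← IsLocalization.mk'_pow, IsLocalization.mk'_eq_zero_iff] at hk
    obtain ⟨t, ht⟩ := hk
    refine ⟨(t : C) * c, ?_, t * s, ?_⟩
    · rw [mem_nilradical]
      refine ⟨k + 1, ?_⟩
      calc ((t : C) * c) ^ (k + 1) = (t : C) ^ k * c * ((t : C) * c ^ k) := by ring
        _ = 0 := by rw [ht, mul_zero]
    · rw [IsLocalizedModule.mk'_eq_iff, Algebra.linearMap_apply, Submonoid.smul_def,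
        Algebra.smul_def, Submonoid.coe_mul, map_mul, map_mul, mul_assoc,
        IsLocalization.mk'_spec']

end

/-- (ALG3) -/
theorem isReduced_of_flat_quotient_nilradical {R C A₀ B : Type u} [CommRing R] [CommRing C]
    [Algebra R C] (p : Ideal C) [p.IsPrime] [CommRing A₀] [Algebra R A₀] [IsLocalRing A₀]
    [IsLocalization.AtPrime A₀ (p.comap (algebraMap R C))]
    [CommRing B] [Algebra C B] [IsLocalization.AtPrime B p] [Algebra R B] [IsScalarTower R C B]
    [Algebra A₀ B] [IsScalarTower R A₀ B] [IsNoetherianRing B]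
    (hflat : Module.Flat R (LocalizedModule p.primeCompl (C ⧸ nilradical C)))
    (hrad : (Ideal.map (algebraMap A₀ B) (IsLocalRing.maximalIdeal A₀)).IsRadical) :
    IsReduced B := by
  haveI : IsLocalRing B := IsLocalization.AtPrime.isLocalRing B p
  set N' : Submodule B B := nilLoc (B := B) p with hN'
  have hmem : ∀ b, b ∈ N' ↔ IsNilpotent b := mem_nilLoc_iff p
  -- flatness of the quotient
  let e₀ : LocalizedModule p.primeCompl (C ⧸ nilradical C) ≃ₗ[C] B ⧸ N' :=
    IsLocalizedModule.iso p.primeCompl
      (Submodule.toLocalizedQuotient' B p.primeCompl (Algebra.linearMap C B) (nilradical C))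
  have hsmulL : ∀ (r : R) (z : LocalizedModule p.primeCompl (C ⧸ nilradical C)),
      r • z = (algebraMap R C r) • z := by
    intro r z
    induction z using LocalizedModule.induction_on with
    | h m s =>
      rw [LocalizedModule.smul'_mk, LocalizedModule.smul'_mk, algebraMap_smul]
  have hsmulQ : ∀ (r : R) (q : B ⧸ N'), r • q = (algebraMap R C r) • q := by
    intro r q
    induction q using Submodule.Quotient.induction_on with
    | H b =>
      rw [← Submodule.Quotient.mk_smul, ← Submodule.Quotient.mk_smul, algebraMap_smul]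
  let e : LocalizedModule p.primeCompl (C ⧸ nilradical C) ≃ₗ[R] B ⧸ N' :=
    { e₀ with
      map_smul' := fun r z => by
        simp only [AddHom.toFun_eq_coe, LinearMap.coe_toAddHom, LinearEquiv.coe_coe,
          RingHom.id_apply]
        rw [hsmulL, map_smul, ← hsmulQ] }
  haveI hQ : Module.Flat R (B ⧸ N') := Module.Flat.of_linearEquiv e.symm
  let NR : Submodule R B := N'.restrictScalars R
  haveI hQ' : Module.Flat R (B ⧸ NR) :=
    Module.Flat.of_linearEquiv (Submodule.Quotient.restrictScalarsEquiv R N')
  -- the ideal J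
  set J : Ideal R := p.comap (algebraMap R C) with hJ
  have hJB : Ideal.map (algebraMap A₀ B) (IsLocalRing.maximalIdeal A₀) =
      Ideal.map (algebraMap R B) J := by
    rw [← IsLocalization.AtPrime.map_eq_maximalIdeal J A₀, Ideal.map_map,
      ← IsScalarTower.algebraMap_eq]
  have hJm : ∀ a ∈ J, algebraMap R B a ∈ maximalIdeal B := by
    intro a ha
    rw [IsScalarTower.algebraMap_apply R C B]
    exact (IsLocalization.AtPrime.to_map_mem_maximal_iff B p _).mpr ha
  have hle : N' ≤ maximalIdeal B • N' := by
    intro n hn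
    have h1 : n ∈ Ideal.map (algebraMap R B) J := by
      rw [← hJB]
      obtain ⟨k, hk⟩ := (hmem n).mp hn
      exact hrad ⟨k, by rw [hk]; exact Ideal.zero_mem _⟩
    have h2 : n ∈ J • (⊤ : Submodule R B) := by
      rw [Ideal.smul_top_eq_map]
      exact h1
    have h3 : n ∈ J • NR := mem_smul_of_flat_quotient NR J n hn h2
    refine Submodule.smul_induction_on h3 ?_ ?_
    · intro a ha m hm
      rw [← algebraMap_smul B a m]
      exact Submodule.smul_mem_smul (hJm a ha) hm
    · intro x y hx hy
      exact Submodule.add_mem _ hx hy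
  have hbot : N' = ⊥ :=
    Submodule.eq_bot_of_le_smul_of_le_jacobson_bot (maximalIdeal B) N'
      (IsNoetherian.noetherian N') hle
      (by rw [IsLocalRing.jacobson_eq_maximalIdeal ⊥ bot_ne_top])
  constructor
  intro b hb
  have : b ∈ N' := (hmem b).mpr hb
  rw [hbot] at this
  exact this

end Groth.Agent.H77.RedAlg3
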