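import Mathlib
set_option autoImplicit false
universe u
open TensorProduct IsLocalRing AlgebraicGeometry

namespace Groth.Agent.H77.RedOpen

/-- A finitely generated ideal killed elementwise by a submonoid is killed by one element. -/
theorem exists_mem_mul_eq_zero {R : Type*} [CommRing R] (M : Submonoid R) (N : Ideal R)
    (hN : N.FG) (h : ∀ n ∈ N, ∃ m ∈ M, m * n = 0) : ∃ s ∈ M, ∀ n ∈ N, s * n = 0 := by
  classical
  obtain ⟨T, rfl⟩ := hN
  have h' : ∀ t : R, ∃ m ∈ M, t ∈ T → m * t = 0 := by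
    intro t
    by_cases ht : t ∈ T
    · obtain ⟨m, hm, hmt⟩ := h t (Ideal.subset_span ht)
      exact ⟨m, hm, fun _ => hmt⟩
    · exact ⟨1, M.one_mem, fun h => absurd h ht⟩
  choose m hmM hm using h'
  refine ⟨∏ t ∈ T, m t, Submonoid.prod_mem _ (fun t _ => hmM t), ?_⟩
  intro n hn
  induction hn using Submodule.span_induction with
  | mem t ht =>
    obtain ⟨c, hc⟩ := Finset.dvd_prod_of_mem m ht
    rw [hc, mul_comm (m t), mul_assoc, hm t ht, mul_zero]
  | zero => rw [mul_zero]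
  | add a b _ _ ha hb => rw [mul_add, ha, hb, add_zero]
  | smul r a _ ha => rw [smul_eq_mul, mul_left_comm, ha, mul_zero]

/-- (REDOPEN) on a locally noetherian scheme, the locus of points with reduced stalk is open. -/
theorem exists_open_isReduced_stalk {X : Scheme.{u}} [IsLocallyNoetherian X] (x : X)
    (hx : _root_.IsReduced (X.presheaf.stalk x)) :
    ∃ U : X.Opens, x ∈ U ∧ ∀ u : X, u ∈ U → _root_.IsReduced (X.presheaf.stalk u) := by
  obtain ⟨W, hW, hxW, -⟩ :=
    exists_isAffineOpen_mem_and_subset (x := x) (U := (⊤ : X.Opens)) trivial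
  haveI : IsNoetherianRing Γ(X, W) := IsLocallyNoetherian.component_noetherian ⟨W, hW⟩
  have hNfg : (nilradical Γ(X, W)).FG := IsNoetherian.noetherian _
  letI algx := X.presheaf.algebra_section_stalk ⟨x, hxW⟩
  haveI locx := hW.isLocalization_stalk ⟨x, hxW⟩
  have h1 : ∀ n ∈ nilradical Γ(X, W),
      ∃ m ∈ (hW.primeIdealOf ⟨x, hxW⟩).asIdeal.primeCompl, m * n = 0 := by
    intro n hn
    have hnil : IsNilpotent (algebraMap Γ(X, W) (X.presheaf.stalk x) n) :=
      (mem_nilradical.mp hn).map _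
    have h0 : algebraMap Γ(X, W) (X.presheaf.stalk x) n = 0 := hnil.eq_zero
    obtain ⟨m, hm⟩ := (IsLocalization.map_eq_zero_iff
      (hW.primeIdealOf ⟨x, hxW⟩).asIdeal.primeCompl _ n).mp h0
    exact ⟨m.1, m.2, hm⟩
  obtain ⟨s, hsM, hs⟩ := exists_mem_mul_eq_zero _ _ hNfg h1
  refine ⟨X.basicOpen s, ?_, ?_⟩
  · rw [X.mem_basicOpen s x hxW]
    exact (IsLocalization.AtPrime.isUnit_to_map_iff (X.presheaf.stalk x)
      (hW.primeIdealOf ⟨x, hxW⟩).asIdeal s).mpr hsM
  · intro u hu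
    have huW : u ∈ W := X.basicOpen_le s hu
    letI algu := X.presheaf.algebra_section_stalk ⟨u, huW⟩
    haveI locu := hW.isLocalization_stalk ⟨u, huW⟩
    have hsu : s ∈ (hW.primeIdealOf ⟨u, huW⟩).asIdeal.primeCompl :=
      (IsLocalization.AtPrime.isUnit_to_map_iff (X.presheaf.stalk u) _ s).mp
        ((X.mem_basicOpen s u huW).mp hu)
    constructor
    intro z hz
    obtain ⟨r, t, rfl⟩ :=
      IsLocalization.exists_mk'_eq (hW.primeIdealOf ⟨u, huW⟩).asIdeal.primeCompl z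
    obtain ⟨k, hk⟩ := hz
    rw [← IsLocalization.mk'_pow, IsLocalization.mk'_eq_zero_iff] at hk
    obtain ⟨t', ht'⟩ := hk
    have h2 : ((t' : Γ(X, W)) * r) ∈ nilradical Γ(X, W) := by
      rw [mem_nilradical]
      refine ⟨k + 1, ?_⟩
      calc ((t' : Γ(X, W)) * r) ^ (k + 1)
          = (t' : Γ(X, W)) ^ k * r * ((t' : Γ(X, W)) * r ^ k) := by ring
        _ = 0 := by rw [ht', mul_zero]
    have h3 := hs _ h2
    rw [IsLocalization.mk'_eq_zero_iff]
    refine ⟨⟨s, hsu⟩ * t', ?_⟩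
    rw [Submonoid.coe_mul, mul_assoc]
    exact h3

end Groth.Agent.H77.RedOpen
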