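import Mathlib
set_option autoImplicit false
universe u v w
open IsLocalRing

namespace Groth.Agent.H77.WQ_D2

/-- core: in a normal noetherian local domain of dimension 2, `𝔪 a ⊆ (x)` implies `a ∈ (x)`. -/
theorem core (A : Type v) [CommRing A] [IsDomain A] [IsIntegrallyClosed A] [IsLocalRing A]
    [IsNoetherianRing A] (hdim : ringKrullDim A = 2) (x a : A) (hx : x ≠ 0)
    (h : ∀ μ ∈ maximalIdeal A, μ * a ∈ Ideal.span {x}) : a ∈ Ideal.span {x} := by
  by_contra ha
  have hxm : x ∈ maximalIdeal A := by
    rw [IsLocalRing.mem_maximalIdeal]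
    intro hu
    apply ha
    rw [Ideal.span_singleton_eq_top.mpr hu]
    trivial
  have hg : ∀ μ ∈ maximalIdeal A, ∃ c, μ * a = x * c := by
    intro μ hμ
    obtain ⟨c, hc⟩ := Ideal.mem_span_singleton'.mp (h μ hμ)
    exact ⟨c, by rw [← hc, mul_comm]⟩
  by_cases hcase : ∀ μ ∈ maximalIdeal A, ∀ c, μ * a = x * c → c ∈ maximalIdeal A
  · -- integrality
    let K := FractionRing A
    have hxK : algebraMap A K x ≠ 0 := by
      intro h0
      exact hx ((IsFractionRing.injective A K) (by rw [h0, map_zero]))
    let t : K := algebraMap A K a / algebraMap A K x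
    let N : Submodule A K := Submodule.map (Algebra.linearMap A K) (maximalIdeal A)
    have hN : N ≠ ⊥ := by
      intro h0
      have : algebraMap A K x ∈ N := ⟨x, hxm, rfl⟩
      rw [h0, Submodule.mem_bot] at this
      exact hxK this
    have hN' : N.FG := Submodule.FG.map _ (IsNoetherian.noetherian _)
    have hst : ∀ n ∈ N, t • n ∈ N := by
      rintro _ ⟨μ, hμ, rfl⟩
      obtain ⟨c, hc⟩ := hg μ hμ
      refine ⟨c, hcase μ hμ c hc, ?_⟩
      have h1 : algebraMap A K μ * algebraMap A K a = algebraMap A K x * algebraMap A K c := by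
        rw [← map_mul, ← map_mul, hc]
      change algebraMap A K c = t * algebraMap A K μ
      rw [show t = algebraMap A K a / algebraMap A K x from rfl, div_mul_eq_mul_div,
        eq_div_iff hxK, mul_comm (algebraMap A K a), h1, mul_comm]
    have hint : IsIntegral A t := isIntegral_of_smul_mem_submodule N hN hN' t hst
    obtain ⟨b, hb⟩ := IsIntegrallyClosed.isIntegral_iff.mp hint
    apply ha
    rw [Ideal.mem_span_singleton']
    refine ⟨b, ?_⟩
    apply IsFractionRing.injective A K
    rw [map_mul, hb, show t = algebraMap A K a / algebraMap A K x from rfl,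
      div_mul_cancel₀ _ hxK]
  · -- the maximal ideal is principal
    push Not at hcase
    obtain ⟨μ, hμ, c, hc, hcm⟩ := hcase
    have hcu : IsUnit c := by
      by_contra hnu
      exact hcm ((IsLocalRing.mem_maximalIdeal c).mpr hnu)
    obtain ⟨u, rfl⟩ := hcu
    have hm : maximalIdeal A = Ideal.span {μ} := by
      apply le_antisymm
      · intro ν hν
        obtain ⟨c', hc'⟩ := hg ν hν
        have h1 : x * (ν * (u : A)) = x * (μ * c') := by
          calc x * (ν * (u : A)) = ν * (x * (u : A)) := by ring
            _ = ν * (μ * a) := by rw [hc]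
            _ = μ * (ν * a) := by ring
            _ = μ * (x * c') := by rw [hc']
            _ = x * (μ * c') := by ring
        have h2 : ν * (u : A) = μ * c' := mul_left_cancel₀ hx h1
        rw [Ideal.mem_span_singleton']
        refine ⟨c' * ((u⁻¹ : Aˣ) : A), ?_⟩
        calc c' * ((u⁻¹ : Aˣ) : A) * μ = (μ * c') * ((u⁻¹ : Aˣ) : A) := by ring
          _ = ν * (u : A) * ((u⁻¹ : Aˣ) : A) := by rw [h2]
          _ = ν := by rw [mul_assoc, Units.mul_inv, mul_one]
      · rw [Ideal.span_le]
        rintro _ rfl
        exact hμ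
    have hmin : maximalIdeal A ∈ (Ideal.span {μ}).minimalPrimes := by
      rw [← hm, Ideal.minimalPrimes_eq_subsingleton_self]
      rfl
    have hle : (maximalIdeal A).height ≤ 1 :=
      Ideal.height_le_one_of_isPrincipal_of_mem_minimalPrimes (Ideal.span {μ}) _ hmin
    have h2 : ((maximalIdeal A).height : WithBot ℕ∞) = 2 := by
      rw [IsLocalRing.maximalIdeal_height_eq_ringKrullDim, hdim]
    have h3 : ((maximalIdeal A).height : WithBot ℕ∞) ≤ 1 := by exact_mod_cast hle
    rw [h2] at h3
    norm_cast at h3

/-- (D2) normal local domain of dim 2 has depth 2. -/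
theorem mem_span_of_primary_mul_mem (A : Type v) [CommRing A] [IsDomain A]
    [IsIntegrallyClosed A] [IsLocalRing A] [IsNoetherianRing A] (hdim : ringKrullDim A = 2)
    (J : Ideal A) (N : ℕ) (hJ : maximalIdeal A ^ N ≤ J) (x a : A) (hx : x ≠ 0)
    (h : ∀ c ∈ J, c * a ∈ Ideal.span {x}) : a ∈ Ideal.span {x} := by
  have key : ∀ (n : ℕ) (a : A), (∀ c ∈ maximalIdeal A ^ n, c * a ∈ Ideal.span {x}) →
      a ∈ Ideal.span {x} := by
    intro n
    induction n with
    | zero =>
      intro a ha
      have := ha 1 (by rw [pow_zero, Ideal.one_eq_top]; trivial)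
      rwa [one_mul] at this
    | succ n ih =>
      intro a ha
      apply ih
      intro s hs
      apply core A hdim x (s * a) hx
      intro μ hμ
      have h1 : s * μ ∈ maximalIdeal A ^ (n + 1) := by
        rw [pow_succ]
        exact Ideal.mul_mem_mul hs hμ
      have h2 := ha _ h1
      have e : μ * (s * a) = s * μ * a := by ring
      rw [e]
      exact h2
  exact key N a (fun c hc => h c (hJ hc))

end Groth.Agent.H77.WQ_D2
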