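import Mathlib
set_option autoImplicit false
universe u v w
open IsLocalRing

namespace Groth.Agent.H77.WQ_F

open Pointwise in
/-- (F) a finite module over a 2-dimensional local ring `(R, (x,y))` on which `x, y` is a regular
sequence is free. -/
theorem free_of_regular_pair (R : Type u) [CommRing R] [IsLocalRing R] [IsNoetherianRing R]
    (x y : R) (hxy : maximalIdeal R = Ideal.span {x, y}) (M : Type v) [AddCommGroup M]
    [Module R M] [Module.Finite R M] (hx : ∀ m : M, x • m = 0 → m = 0)
    (hy : ∀ m m' : M, y • m = x • m' → ∃ m'' : M, m = x • m'') : Module.Free R M := by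
  have hxm : x ∈ maximalIdeal R := by
    rw [hxy]; exact Ideal.subset_span (by simp)
  have hym : y ∈ maximalIdeal R := by
    rw [hxy]; exact Ideal.subset_span (by simp)
  have hxjac : x ∈ (⊥ : Ideal R).jacobson := by
    rw [IsLocalRing.jacobson_eq_maximalIdeal ⊥ bot_ne_top]; exact hxm
  have hxreg : IsSMulRegular M x := by
    intro a b hab
    have h1 : x • (a - b) = 0 := by
      rw [smul_sub]; exact sub_eq_zero.mpr hab
    exact sub_eq_zero.mp (hx _ h1)
  haveI : Module.FinitePresentation R M := Module.finitePresentation_of_finite R M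
  rw [← Module.free_quotSMulTop_iff_free R M hxjac hxreg]
  -- second step, over R' = R/(x)
  set R' := R ⧸ Ideal.span {x} with hR'
  set M' := QuotSMulTop x M with hM'
  set y' : R' := Ideal.Quotient.mk _ y with hy'
  haveI : Module.Finite R' M' := Module.Finite.of_restrictScalars_finite R R' M'
  haveI : Module.FinitePresentation R' M' := Module.finitePresentation_of_finite R' M'
  have hyjac : y' ∈ (⊥ : Ideal R').jacobson := by
    rw [Ideal.mem_jacobson_bot]
    intro z'
    obtain ⟨z, rfl⟩ := Ideal.Quotient.mk_surjective z'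
    have hu : IsUnit (y * z + 1) := by
      have h1 : y * z ∈ maximalIdeal R := Ideal.mul_mem_right _ _ hym
      by_contra hnu
      have h2 : y * z + 1 ∈ maximalIdeal R := (IsLocalRing.mem_maximalIdeal _).mpr hnu
      have h3 : (1 : R) ∈ maximalIdeal R := by
        have := Ideal.sub_mem _ h2 h1
        simpa using this
      exact (Ideal.ne_top_iff_one _).mp (IsLocalRing.maximalIdeal.isMaximal R).ne_top h3
    have := hu.map (Ideal.Quotient.mk (Ideal.span {x}))
    simpa [hy'] using this
  have hyreg0 : ∀ c : M', y' • c = 0 → c = 0 := by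
    intro c hc
    obtain ⟨m, rfl⟩ := Submodule.mkQ_surjective _ c
    have h1 : y' • (Submodule.mkQ (x • (⊤ : Submodule R M)) m) =
        Submodule.mkQ (x • (⊤ : Submodule R M)) (y • m) := rfl
    rw [h1] at hc
    have h2 : y • m ∈ x • (⊤ : Submodule R M) := by
      rwa [Submodule.mkQ_apply, Submodule.Quotient.mk_eq_zero] at hc
    obtain ⟨m', -, hm'⟩ := (Submodule.mem_smul_pointwise_iff_exists _ _ _).mp h2
    obtain ⟨m'', rfl⟩ := hy m m' hm'.symm
    rw [Submodule.mkQ_apply, Submodule.Quotient.mk_eq_zero]
    exact Submodule.smul_mem_pointwise_smul _ _ _ trivial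
  have hyreg : IsSMulRegular M' y' := by
    intro a b hab
    have h1 : y' • (a - b) = 0 := by
      rw [smul_sub]; exact sub_eq_zero.mpr hab
    exact sub_eq_zero.mp (hyreg0 _ h1)
  rw [← Module.free_quotSMulTop_iff_free R' M' hyjac hyreg]
  -- R'' = R'/(y') is a field
  have hmax : (Ideal.span {y'}).IsMaximal := by
    have h1 : Ideal.span {y'} = (maximalIdeal R).map (Ideal.Quotient.mk (Ideal.span {x})) := by
      rw [hxy, Ideal.map_span, Set.image_pair]
      have h0 : (Ideal.Quotient.mk (Ideal.span {x})) x = 0 :=
        Ideal.Quotient.eq_zero_iff_mem.mpr (Ideal.mem_span_singleton_self x)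
      rw [h0]
      apply le_antisymm
      · exact Ideal.span_mono (by
          intro a ha
          rw [Set.mem_singleton_iff] at ha
          rw [ha]
          exact Or.inr rfl)
      · rw [Ideal.span_le]
        rintro a (rfl | rfl)
        · exact Ideal.zero_mem _
        · exact Ideal.subset_span rfl
    rw [h1]
    apply Ideal.IsMaximal.map_of_surjective_of_ker_le Ideal.Quotient.mk_surjective
    rw [Ideal.mk_ker, Ideal.span_le]
    rintro a rfl
    exact hxm
  letI : Field (R' ⧸ Ideal.span {y'}) := Ideal.Quotient.field _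
  exact Module.Free.of_divisionRing _ _

end Groth.Agent.H77.WQ_F
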