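import Mathlib
import Groth.Prelude.Def_CohB1
import Groth.Agent.H22.FPExt.Defs
import Groth.Agent.H8.FPAffine

/-!
# (P1) + (P5) for helper22's S2115 squad (helper77): `FPOn` and restriction along an open immersion

* `fp_of_semilinear` : finite presentation transfers along a ring isomorphism and a semilinear
  additive equivalence.
* `fpOn_of_isFP_restrict` (P1), `fpOn_restrict` (P5).
-/
set_option autoImplicit false
set_option linter.style.haveILetI false
universe u
open CategoryTheory CategoryTheory.Limits AlgebraicGeometry TopologicalSpace Opposite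
open AlgebraicGeometry.Scheme.Modules
open Groth.Agent.H22.FPExt

namespace Groth.Agent.H77.FPExt_P1

theorem fp_of_semilinear {R S : Type*} [CommRing R] [CommRing S] (σ : S ≃+* R)
    {N N' : Type*} [AddCommGroup N] [Module S N] [AddCommGroup N'] [Module R N']
    (φ : N ≃+ N') (hφ : ∀ (s : S) (n : N), φ (s • n) = σ s • φ n)
    [Module.FinitePresentation S N] : Module.FinitePresentation R N' := by
  letI : Algebra R S := σ.symm.toRingHom.toAlgebra
  letI : Module R N := Module.compHom N σ.symm.toRingHom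
  have hsm : ∀ (r : R) (n : N), r • n = σ.symm r • n := fun r n => rfl
  have halg : ∀ (r : R) (s : S), r • s = σ.symm r * s := fun r s => rfl
  haveI : IsScalarTower R S N := ⟨fun r s n => by rw [hsm, halg, mul_smul]⟩
  let e : R ≃ₗ[R] S :=
    { toFun := fun r => σ.symm r
      map_add' := fun a b => map_add _ _ _
      map_smul' := fun r a => by
        simp only [smul_eq_mul, map_mul, RingHom.id_apply]
        rw [halg]
      invFun := fun s => σ s
      left_inv := fun r => σ.apply_symm_apply r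
      right_inv := fun s => σ.symm_apply_apply s }
  haveI : Module.FinitePresentation R S := Module.FinitePresentation.of_equiv e
  haveI : Module.FinitePresentation R N := Module.FinitePresentation.trans R N S
  let ψ : N ≃ₗ[R] N' :=
    { φ with
      map_smul' := fun r n => by
        simp only [RingHom.id_apply]
        show φ (r • n) = r • φ n
        rw [hsm, hφ, σ.apply_symm_apply] }
  exact Module.FinitePresentation.of_equiv ψ

variable {X : Scheme.{u}}

/-- **(P1)** -/
theorem fpOn_of_isFP_restrict {Y : Scheme.{u}} (j : Y ⟶ X) [IsOpenImmersion j] (M : X.Modules)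
    (h : CohB1.IsFP ((restrictFunctor j).obj M)) : FPOn M j.opensRange := by
  intro x hx
  obtain ⟨y, rfl⟩ := hx
  obtain ⟨_, ⟨O', hO', rfl⟩, hyO', -⟩ :=
    Y.isBasis_affineOpens.exists_subset_of_mem_open (Set.mem_univ y) isOpen_univ
  refine ⟨j ''ᵁ O', hO'.image_of_isOpenImmersion j, ⟨y, hyO', rfl⟩, j.image_le_opensRange O', ?_⟩
  haveI := h
  haveI : Module.FinitePresentation Γ(Y, O') Γ((restrictFunctor j).obj M, O') :=
    Groth.Agent.H8.finitePresentation_sections_of_isAffineOpen ((restrictFunctor j).obj M) hO'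
  exact fp_of_semilinear (S := Γ(Y, O')) (R := Γ(X, j ''ᵁ O'))
    (N := Γ((restrictFunctor j).obj M, O')) (N' := Γ(M, j ''ᵁ O'))
    (j.appIso O').symm.commRingCatIsoToRingEquiv (AddEquiv.refl _) (fun s n => rfl)

/-- **(P5)** -/
theorem fpOn_restrict {Y : Scheme.{u}} (j : Y ⟶ X) [IsOpenImmersion j] (M : X.Modules)
    [M.IsQuasicoherent] (W : X.Opens) (h : FPOn M W) :
    FPOn ((restrictFunctor j).obj M) (j ⁻¹ᵁ W) := by
  intro y hy
  obtain ⟨O, hO, hxO, hOW, hfp⟩ := h (j y) hy
  obtain ⟨a, haV, hya⟩ := hO.exists_basicOpen_le (V := O ⊓ j.opensRange)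
    ⟨j y, ⟨hxO, ⟨y, rfl⟩⟩⟩ hxO
  have hfpa : Module.FinitePresentation Γ(X, X.basicOpen a) Γ(M, X.basicOpen a) :=
    Groth.Agent.H8.finitePresentation_basicOpen M hO a hfp
  have hle : X.basicOpen a ≤ j.opensRange := haV.trans inf_le_right
  have himg : j ''ᵁ (j ⁻¹ᵁ X.basicOpen a) = X.basicOpen a := by
    rw [Scheme.Hom.image_preimage_eq_opensRange_inf]
    exact inf_eq_right.2 hle
  have hfp' : Module.FinitePresentation Γ(X, j ''ᵁ (j ⁻¹ᵁ X.basicOpen a))
      Γ(M, j ''ᵁ (j ⁻¹ᵁ X.basicOpen a)) := himg.symm ▸ hfpa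
  refine ⟨j ⁻¹ᵁ X.basicOpen a, (hO.basicOpen a).preimage_of_isOpenImmersion j hle, hya,
    fun z hz => hOW ((haV.trans inf_le_left) hz), ?_⟩
  exact fp_of_semilinear (S := Γ(X, j ''ᵁ (j ⁻¹ᵁ X.basicOpen a)))
    (R := Γ(Y, j ⁻¹ᵁ X.basicOpen a))
    (N := Γ(M, j ''ᵁ (j ⁻¹ᵁ X.basicOpen a)))
    (N' := Γ((restrictFunctor j).obj M, j ⁻¹ᵁ X.basicOpen a))
    (j.appIso (j ⁻¹ᵁ X.basicOpen a)).commRingCatIsoToRingEquiv (AddEquiv.refl _)
    (fun s n => by
      show s • n = ((j.appIso (j ⁻¹ᵁ X.basicOpen a)).inv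
        ((j.appIso (j ⁻¹ᵁ X.basicOpen a)).hom s)) • n
      rw [Iso.hom_inv_id_apply])

end Groth.Agent.H77.FPExt_P1
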