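import Groth.Agent.H77.GrSyzLib

set_option linter.style.longLine false
set_option linter.unusedSectionVars false
set_option linter.unusedVariables false
set_option linter.style.haveILetI false

universe u

namespace Groth.Agent.H77.GrSyzPd

open GrSyz CategoryTheory Groth.Agent.H77.GrSyzLib

section SES
variable {R : Type u} [CommRing R] {P N : Type u} [AddCommGroup P] [AddCommGroup N]
  [Module R P] [Module R N]

theorem pdLT_of_ker [Module.Projective R P] (f : P →ₗ[R] N) (hf : Function.Surjective f) (m : ℕ)
    (h : HasProjectiveDimensionLT (ModuleCat.of R (LinearMap.ker f)) m) :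
    HasProjectiveDimensionLT (ModuleCat.of R N) (m + 1) := by
  have hS := LinearMap.shortExact_shortComplexKer hf
  haveI : Projective (ModuleCat.of R P) := (IsProjective.iff_projective P).1 inferInstance
  have hP : HasProjectiveDimensionLT (ModuleCat.of R P) (m + 1) :=
    hasProjectiveDimensionLT_of_ge (ModuleCat.of R P) 1 (m + 1) (by omega)
  exact hS.hasProjectiveDimensionLT_X₃ m h hP

theorem pdLT_ker [Module.Projective R P] (f : P →ₗ[R] N) (hf : Function.Surjective f) (m : ℕ)
    (h : HasProjectiveDimensionLT (ModuleCat.of R N) (m + 2)) :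
    HasProjectiveDimensionLT (ModuleCat.of R (LinearMap.ker f)) (m + 1) := by
  have hS := LinearMap.shortExact_shortComplexKer hf
  haveI : Projective (ModuleCat.of R P) := (IsProjective.iff_projective P).1 inferInstance
  have hP : HasProjectiveDimensionLT (ModuleCat.of R P) (m + 1) :=
    hasProjectiveDimensionLT_of_ge (ModuleCat.of R P) 1 (m + 1) (by omega)
  exact hS.hasProjectiveDimensionLT_X₁ (m + 1) hP h

theorem ker_eq_bot_of_projective [IsNoetherianRing R] [IsDomain R] (I : Ideal R) (hI : I ≠ ⊤)
    {p : ℕ} [Module.Projective R N]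
    (f : (Fin p → R) →ₗ[R] N) (hf : Function.Surjective f)
    (hker : ∀ v ∈ LinearMap.ker f, ∀ b, v b ∈ I) : LinearMap.ker f = ⊥ := by
  obtain ⟨s, hs⟩ := Module.projective_lifting_property f LinearMap.id hf
  obtain ⟨e, he⟩ : ∃ e : (Fin p → R) →ₗ[R] (Fin p → R), e = LinearMap.id - s ∘ₗ f := ⟨_, rfl⟩
  have hfs : ∀ x, f (s x) = x := fun x => by
    have := LinearMap.congr_fun hs x
    simpa using this
  have hfe : ∀ v, e v ∈ LinearMap.ker f := by
    intro v
    rw [LinearMap.mem_ker, he, LinearMap.sub_apply, map_sub, LinearMap.id_apply,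
      LinearMap.comp_apply, hfs, sub_self]
  have hek : ∀ v ∈ LinearMap.ker f, e v = v := by
    intro v hv
    rw [LinearMap.mem_ker] at hv
    rw [he, LinearMap.sub_apply, LinearMap.id_apply, LinearMap.comp_apply, hv, map_zero, sub_zero]
  have hpow : ∀ t : ℕ, ∀ v b, (e v) b ∈ I ^ t := by
    intro t
    induction t with
    | zero => intro v b; simp
    | succ t ih =>
      intro v b
      have h1 : e v = e (e v) := (hek _ (hfe v)).symm
      rw [h1, LinearMap.pi_apply_eq_sum_univ e (e v)]
      simp only [Finset.sum_apply, Pi.smul_apply, smul_eq_mul]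
      refine Ideal.sum_mem _ (fun a _ => ?_)
      rw [pow_succ]
      exact Ideal.mul_mem_mul (ih v a) (hker _ (hfe _) b)
  have hzero : ∀ v, e v = 0 := by
    intro v
    funext b
    have : (e v) b ∈ ⨅ t : ℕ, I ^ t := by
      rw [Ideal.mem_iInf]; exact fun t => hpow t v b
    rw [Ideal.iInf_pow_eq_bot_of_isDomain I hI] at this
    simpa using this
  rw [eq_bot_iff]
  intro v hv
  rw [Submodule.mem_bot, ← hek v hv, hzero]

end SES

section Res
variable {R : Type u} [CommRing R] {σ' : Type u} [SetLike σ' R] [AddSubgroupClass σ' R]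
  {𝒜 : ℤ → σ'} [GradedRing 𝒜]
variable {M : Type u} [AddCommGroup M] [Module R M] {τ : Type u} [SetLike τ M]
  [AddSubgroupClass τ M] {ℳ : ℤ → τ} [DirectSum.Decomposition ℳ] [SetLike.GradedSMul 𝒜 ℳ]
  (F : FreeRes 𝒜 ℳ)

/-- the kernel of the map out of the `i`-th term -/
def W : (i : ℕ) → Submodule R (Fin (F.rk i) → R)
  | 0 => LinearMap.ker F.augLin
  | (i + 1) => LinearMap.ker (F.dLin i)

theorem range_dLin (i : ℕ) : LinearMap.range (F.dLin i) = W F i := by
  cases i with
  | zero => exact F.exact_zero.symm
  | succ j => exact (F.exact_succ j).symm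

/-- the surjection from the `(i+1)`-st term onto the `i`-th syzygy -/
def q (i : ℕ) : (Fin (F.rk (i + 1)) → R) →ₗ[R] W F i :=
  (F.dLin i).codRestrict (W F i) (fun v => by rw [← range_dLin]; exact ⟨v, rfl⟩)

theorem q_surjective (i : ℕ) : Function.Surjective (q F i) := by
  rintro ⟨x, hx⟩
  rw [← range_dLin] at hx
  obtain ⟨v, rfl⟩ := hx
  exact ⟨v, rfl⟩

theorem ker_q (i : ℕ) : LinearMap.ker (q F i) = W F (i + 1) :=
  (LinearMap.ker_codRestrict _ _ _).trans rfl

theorem pdLE_of_hasLengthLE (n : ℕ) (hF : F.HasLengthLE n) :
    HasProjectiveDimensionLT (ModuleCat.of R M) (n + 1) := by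
  have hW : ∀ t j, j + t = n → HasProjectiveDimensionLT (ModuleCat.of R (W F j)) t := by
    intro t
    induction t with
    | zero =>
      intro j hj
      have hjn : j = n := by omega
      subst hjn
      have hsub : Subsingleton (W F j) := by
        have h0 : ∀ z : W F j, z = 0 := by
          rintro ⟨z, hz⟩
          rw [← range_dLin] at hz
          obtain ⟨v, rfl⟩ := hz
          have : IsEmpty (Fin (F.rk (j + 1))) := by
            rw [hF (j + 1) (by omega)]; infer_instance
          have hv : v = 0 := Subsingleton.elim _ _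
          apply Subtype.ext
          simp [hv]
        exact ⟨fun x y => (h0 x).trans (h0 y).symm⟩
      exact (ModuleCat.isZero_of_subsingleton _).hasProjectiveDimensionLT_zero
    | succ t ih =>
      intro j hj
      have h1 := ih (j + 1) (by omega)
      refine pdLT_of_ker (q F j) (q_surjective F j) t ?_
      rw [ker_q]
      exact h1
  exact pdLT_of_ker F.augLin F.aug_surjective n (hW n 0 (by omega))

theorem hasLengthLE_of_pdLE [IsNoetherianRing R] [IsDomain R] {I : Ideal R} (hI : I ≠ ⊤)
    (hF : F.IsMinimal I) (n : ℕ)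
    (h : HasProjectiveDimensionLT (ModuleCat.of R M) (n + 1)) : F.HasLengthLE n := by
  have hC : ∀ j t, j + t + 1 = n →
      HasProjectiveDimensionLT (ModuleCat.of R (W F j)) (t + 1) := by
    intro j
    induction j with
    | zero =>
      intro t ht
      have hn : n = t + 1 := by omega
      subst hn
      exact pdLT_ker F.augLin F.aug_surjective t h
    | succ j ih =>
      intro t ht
      have h' := ih (t + 1) (by omega)
      have := pdLT_ker (q F j) (q_surjective F j) t h'
      rw [ker_q] at this
      exact this
  have hWn : W F n = ⊥ := by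
    cases n with
    | zero =>
      haveI : Projective (ModuleCat.of R M) := projective_iff_hasProjectiveDimensionLT_one.2 h
      haveI : Module.Projective R M := (IsProjective.iff_projective M).2 inferInstance
      exact ker_eq_bot_of_projective I hI F.augLin F.aug_surjective
        (fun v hv b => mem_of_mem_ker_augLin F hF hv b)
    | succ n' =>
      have h1 := hC n' 0 (by omega)
      haveI : Projective (ModuleCat.of R (W F n')) :=
        projective_iff_hasProjectiveDimensionLT_one.2 h1
      haveI : Module.Projective R (W F n') := (IsProjective.iff_projective _).2 inferInstance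
      have := ker_eq_bot_of_projective I hI (q F n') (q_surjective F n') (fun v hv b => by
        rw [ker_q] at hv; exact mem_of_mem_ker_dLin F hF n' hv b)
      rw [ker_q] at this
      exact this
  have hZ : ∀ i, (∀ v, F.dLin i v = 0) → F.rk (i + 1) = 0 := by
    intro i hz
    by_contra hne
    let b : Fin (F.rk (i + 1)) := ⟨0, Nat.pos_of_ne_zero hne⟩
    have hker : (Pi.single b 1 : Fin (F.rk (i + 1)) → R) ∈ LinearMap.ker (F.dLin i) := hz _
    have h1 := mem_of_mem_ker_dLin F hF i hker b
    rw [Pi.single_eq_same] at h1
    exact hI ((Ideal.eq_top_iff_one I).2 h1)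
  have hrk : ∀ t, F.rk (n + 1 + t) = 0 := by
    intro t
    induction t with
    | zero =>
      apply hZ n
      intro v
      have : F.dLin n v ∈ W F n := by rw [← range_dLin]; exact ⟨v, rfl⟩
      rw [hWn] at this
      exact this
    | succ t ih =>
      apply hZ (n + 1 + t)
      intro v
      funext a
      have := a.2
      omega
  intro i hi
  obtain ⟨t, rfl⟩ : ∃ t, i = n + 1 + t := ⟨i - (n + 1), by omega⟩
  exact hrk t

end Res

end Groth.Agent.H77.GrSyzPd
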