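import Mathlib
import Groth.Prelude.Def_EtModW
import Groth.Prelude.Def_ARSys
import Groth.Prelude.Def_EtModD2
import Groth.Prelude.Def_SixF2
import Groth.Agent.H38.CM_Defs
import Groth.Agent.H38.Adic_B

/-!
# (AR) for helper38's S13614 squad: pullback of `Λ`-module sheaves preserves "constructible
adic up to translation" systems (helper77)
-/
set_option autoImplicit false
set_option linter.style.haveILetI false
universe u
open CategoryTheory CategoryTheory.Limits AlgebraicGeometry Opposite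
attribute [local instance] HasDerivedCategory.standard
open Groth.Agent.H38.CMDefs

namespace Groth.Agent.H77.CM_AR

section general

universe v₁ v₂ u₁ u₂

variable {C : Type u₁} {D : Type u₂} [Category.{v₁} C] [Category.{v₂} D] [Abelian C] [Abelian D]

theorem isARNull_of_iso {A B : ARSys.PS D} (e : A ≅ B) (h : ARSys.IsARNull A) :
    ARSys.IsARNull B := by
  obtain ⟨r, hr⟩ := h
  refine ⟨r, fun n => ?_⟩
  have hnat := e.hom.naturality (homOfLE (Nat.le_add_right n r)).op
  have h1 : A.map (homOfLE (Nat.le_add_right n r)).op = 0 := hr n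
  rw [h1, zero_comp] at hnat
  show B.map (homOfLE (Nat.le_add_right n r)).op = 0
  exact (cancel_epi (e.hom.app (op (n + r)))).1 (hnat.symm.trans comp_zero.symm)

theorem isARNull_comp (L : C ⥤ D) [L.PreservesZeroMorphisms] {K : ARSys.PS C}
    (h : ARSys.IsARNull K) : ARSys.IsARNull (K ⋙ L) := by
  obtain ⟨r, hr⟩ := h
  refine ⟨r, fun n => ?_⟩
  have h1 : K.map (homOfLE (Nat.le_add_right n r)).op = 0 := hr n
  show L.map (K.map (homOfLE (Nat.le_add_right n r)).op) = 0
  rw [h1, L.map_zero]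

theorem isARIso_whiskerRight (L : C ⥤ D) [L.PreservesZeroMorphisms] [PreservesFiniteLimits L]
    [PreservesFiniteColimits L] {Y F : ARSys.PS C} (v : Y ⟶ F) (hv : ARSys.IsARIso v) :
    ARSys.IsARIso (Functor.whiskerRight v L) := by
  let W : ARSys.PS C ⥤ ARSys.PS D := (Functor.whiskeringRight ℕᵒᵖ C D).obj L
  haveI : W.PreservesZeroMorphisms := ⟨fun P Q => by
    ext n
    exact L.map_zero _ _⟩
  haveI : PreservesLimit (parallelPair v 0) W := inferInstance
  haveI : PreservesColimit (parallelPair v 0) W := inferInstance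
  exact ⟨isARNull_of_iso (PreservesKernel.iso W v) (isARNull_comp L hv.1),
    isARNull_of_iso (PreservesCokernel.iso W v) (isARNull_comp L hv.2)⟩

end general

/-- **(AR)** -/
theorem s13614_of (Λ : Type (u + 1)) [CommRing Λ] [IsNoetherianRing Λ] (I : Ideal Λ)
    {X X' : Scheme.{u}} (f : X' ⟶ X)
    (hpc : ∀ E : EtModW.Mod Λ X, EtModW.IsConstructible Λ E →
      EtModW.IsConstructible Λ ((EtModW.pull Λ f).obj E))
    (hex : PreservesFiniteLimits (EtModW.pull Λ f)) (F : ARSys.PS (EtModW.Mod Λ X))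
    (hF : (ARSys.TermKilled I F ∧ ∃ (Y : ARSys.PS (EtModW.Mod Λ X)) (v : Y ⟶ F),
      ARSys.IsAdic I Y ∧ (∀ n : ℕ, EtModW.IsConstructible Λ (Y.obj (op n))) ∧ ARSys.IsARIso v)) :
    (ARSys.TermKilled I (F ⋙ EtModW.pull Λ f) ∧
      ∃ (Y : ARSys.PS (EtModW.Mod Λ X')) (v : Y ⟶ (F ⋙ EtModW.pull Λ f)),
        ARSys.IsAdic I Y ∧ (∀ n : ℕ, EtModW.IsConstructible Λ (Y.obj (op n))) ∧
          ARSys.IsARIso v) := by
  obtain ⟨hFk, Y, v, hY, hYc, hv⟩ := hF
  let adj := (EtCoh.bc f).sheafAdjunctionContinuous (ModuleCat.{u + 1} Λ)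
    X.smallEtaleTopology X'.smallEtaleTopology
  have hR : ∀ {P Q : EtModW.Mod Λ X'} (a : Λ) (g : P ⟶ Q),
      (EtModW.push Λ f).map (a • g) = a • (EtModW.push Λ f).map g := by
    intro P Q a g
    rfl
  haveI : (EtModW.pull Λ f).PreservesZeroMorphisms :=
    ⟨fun _ _ => Groth.Agent.H38.Adic_B.L_map_zero adj hR⟩
  haveI := hex
  haveI : PreservesFiniteColimits (EtModW.pull Λ f) := by
    haveI : PreservesColimitsOfSize.{0, 0} (EtModW.pull Λ f) := adj.leftAdjoint_preservesColimits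
    exact PreservesColimitsOfSize.preservesFiniteColimits _
  refine ⟨fun n => Groth.Agent.H38.Adic_B.killedBy_L adj hR _ (hFk n), Y ⋙ EtModW.pull Λ f,
    Functor.whiskerRight v (EtModW.pull Λ f), ⟨fun n => ?_, fun n m h => ?_⟩, fun n => hpc _ (hYc n),
    isARIso_whiskerRight (EtModW.pull Λ f) v hv⟩
  · exact Groth.Agent.H38.Adic_B.killedBy_L adj hR _ (hY.1 n)
  · exact Groth.Agent.H38.Adic_B.isQuot_L adj hR _ _ (hY.2 n m h)

end Groth.Agent.H77.CM_AR
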