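import Groth.Prelude.Def_GrSyz
import Mathlib

set_option linter.style.longLine false
set_option linter.unusedSectionVars false
set_option linter.unusedVariables false

universe u v

namespace Groth.Agent.H77.GrSyzLib

open GrSyz MvPolynomial

section Irrel
variable {k : Type u} [Field k] {σ : Type v}

theorem weight_one_nonneg (m : σ →₀ ℕ) : 0 ≤ Finsupp.weight (fun _ : σ => (1 : ℤ)) m := by
  rw [Finsupp.weight_apply, Finsupp.sum]
  exact Finset.sum_nonneg (fun i _ => by simp)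

theorem weight_one_eq_zero {m : σ →₀ ℕ} (h : Finsupp.weight (fun _ : σ => (1 : ℤ)) m = 0) :
    m = 0 := by
  rw [Finsupp.weight_apply, Finsupp.sum] at h
  ext i
  by_contra hi
  have hi' : m i ≠ 0 := by simpa using hi
  have hmem : i ∈ m.support := Finsupp.mem_support_iff.2 hi'
  have h1 := (Finset.sum_eq_zero_iff_of_nonneg (fun j _ => by simp)).1 h i hmem
  simp at h1
  exact hi' h1

theorem irrel_toIdeal_eq : (irrel (stdGr k σ)).toIdeal =
    Ideal.span {p : MvPolynomial σ k | ∃ n : ℤ, 0 < n ∧ p ∈ stdGr k σ n} := rfl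

theorem constantCoeff_eq_zero_of_mem_irrel {p : MvPolynomial σ k}
    (hp : p ∈ (irrel (stdGr k σ)).toIdeal) : constantCoeff p = 0 := by
  have hle : (irrel (stdGr k σ)).toIdeal ≤
      RingHom.ker (constantCoeff : MvPolynomial σ k →+* k) := by
    rw [irrel_toIdeal_eq, Ideal.span_le]
    rintro q ⟨n, hn, hq⟩
    show q ∈ RingHom.ker _
    rw [RingHom.mem_ker, constantCoeff_eq]
    by_contra hne
    have := (mem_stdGr_iff k σ n q).1 hq hne
    simp at this
    omega
  exact hle hp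

theorem one_notMem_irrel : (1 : MvPolynomial σ k) ∉ (irrel (stdGr k σ)).toIdeal := fun h => by
  have := constantCoeff_eq_zero_of_mem_irrel h
  simp at this

theorem pos_of_mem_irrel {p : MvPolynomial σ k} {n : ℤ} (hn : p ∈ stdGr k σ n)
    (hp : p ∈ (irrel (stdGr k σ)).toIdeal) (h0 : p ≠ 0) : 0 < n := by
  by_contra hle
  push Not at hle
  obtain ⟨m, hm⟩ := MvPolynomial.ne_zero_iff.1 h0
  have hw := (mem_stdGr_iff k σ n p).1 hn hm
  have h1 := weight_one_nonneg (σ := σ) m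
  have hn0 : n = 0 := by omega
  have hm0 : m = 0 := weight_one_eq_zero (by rw [hw, hn0])
  have := constantCoeff_eq_zero_of_mem_irrel hp
  rw [constantCoeff_eq] at this
  exact hm (hm0 ▸ this)

theorem eq_C_of_notMem_irrel {p : MvPolynomial σ k} {n : ℤ} (hn : p ∈ stdGr k σ n)
    (hp : p ∉ (irrel (stdGr k σ)).toIdeal) : n = 0 ∧ ∃ c : k, c ≠ 0 ∧ p = C c := by
  have hn' : ¬ 0 < n := fun h => hp (Ideal.subset_span ⟨n, h, hn⟩)
  have h0 : p ≠ 0 := fun h => hp (h ▸ Ideal.zero_mem _)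
  have key : ∀ m, coeff m p ≠ 0 → n = 0 ∧ m = 0 := by
    intro m hm
    have hw := (mem_stdGr_iff k σ n p).1 hn hm
    have h1 := weight_one_nonneg (σ := σ) m
    have hn0 : n = 0 := by omega
    exact ⟨hn0, weight_one_eq_zero (by rw [hw, hn0])⟩
  obtain ⟨m, hm⟩ := MvPolynomial.ne_zero_iff.1 h0
  obtain ⟨hn0, hm0⟩ := key m hm
  refine ⟨hn0, coeff 0 p, hm0 ▸ hm, ?_⟩
  classical
  ext m'
  rw [coeff_C]
  split_ifs with h
  · rw [← h]
  · by_contra hne
    exact h (key m' hne).2.symm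

theorem isUnit_of_notMem_irrel {p : MvPolynomial σ k} {n : ℤ} (hn : p ∈ stdGr k σ n)
    (hp : p ∉ (irrel (stdGr k σ)).toIdeal) : IsUnit p := by
  obtain ⟨_, c, hc, rfl⟩ := eq_C_of_notMem_irrel hn hp
  exact (isUnit_iff_ne_zero.2 hc).map C

end Irrel

section Res
variable {R : Type u} [CommRing R] {σ' : Type u} [SetLike σ' R] [AddSubgroupClass σ' R]
  {𝒜 : ℤ → σ'} [GradedRing 𝒜]
variable {M : Type u} [AddCommGroup M] [Module R M] {τ : Type u} [SetLike τ M]
  [AddSubgroupClass τ M] {ℳ : ℤ → τ} [DirectSum.Decomposition ℳ] [SetLike.GradedSMul 𝒜 ℳ]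
  (F : FreeRes 𝒜 ℳ)

theorem dLin_apply_mem {I : Ideal R} (hF : F.IsMinimal I) (i : ℕ)
    (w : Fin (F.rk (i + 1)) → R) (a : Fin (F.rk i)) : F.dLin i w a ∈ I := by
  rw [Matrix.mulVecLin_apply]
  simp only [Matrix.mulVec, dotProduct]
  exact Ideal.sum_mem _ (fun b _ => Ideal.mul_mem_right _ _ (hF i a b))

theorem mem_of_mem_ker_dLin {I : Ideal R} (hF : F.IsMinimal I) (i : ℕ)
    {v : Fin (F.rk (i + 1)) → R} (hv : v ∈ LinearMap.ker (F.dLin i)) (b : Fin (F.rk (i + 1))) :
    v b ∈ I := by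
  rw [F.exact_succ i] at hv
  obtain ⟨w, rfl⟩ := hv
  exact dLin_apply_mem F hF (i + 1) w b

theorem mem_of_mem_ker_augLin {I : Ideal R} (hF : F.IsMinimal I)
    {v : Fin (F.rk 0) → R} (hv : v ∈ LinearMap.ker F.augLin) (b : Fin (F.rk 0)) :
    v b ∈ I := by
  rw [F.exact_zero] at hv
  obtain ⟨w, rfl⟩ := hv
  exact dLin_apply_mem F hF 0 w b

theorem dLin_single (i : ℕ) (b : Fin (F.rk (i + 1))) :
    F.dLin i (Pi.single b 1) = fun a => F.d i a b := by
  rw [Matrix.mulVecLin_apply, Matrix.mulVec_single_one]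
  rfl

theorem sum_smul_col (i : ℕ) (v : Fin (F.rk (i + 1)) → R) :
    ∑ b, v b • (fun a => F.d i a b) = F.dLin i v := by
  funext a
  rw [Matrix.mulVecLin_apply]
  simp only [Matrix.mulVec, dotProduct, Finset.sum_apply, Pi.smul_apply, smul_eq_mul]
  exact Finset.sum_congr rfl (fun b _ => mul_comm _ _)

theorem mem_span_image_of_isUnit {N : Type*} [AddCommGroup N] [Module R N] {n : ℕ}
    (g : Fin n → N) (v : Fin n → R) (hv : ∑ b, v b • g b = 0) (b : Fin n)
    (hu : IsUnit (v b)) : g b ∈ Submodule.span R (g '' {b' | b' ≠ b}) := by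
  obtain ⟨u, hu⟩ := hu
  have h1 : v b • g b + ∑ b' ∈ Finset.univ.erase b, v b' • g b' = 0 := by
    rw [Finset.add_sum_erase Finset.univ (fun b' => v b' • g b') (Finset.mem_univ b)]; exact hv
  have h3 : v b • g b = - ∑ b' ∈ Finset.univ.erase b, v b' • g b' :=
    eq_neg_of_add_eq_zero_left h1
  have h2 : g b = (-(↑u⁻¹ : R)) • ∑ b' ∈ Finset.univ.erase b, v b' • g b' := by
    calc g b = (↑u⁻¹ : R) • (v b • g b) := by
          rw [← hu, smul_smul, Units.inv_mul, one_smul]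
      _ = _ := by rw [h3, smul_neg, neg_smul]
  rw [h2]
  exact Submodule.smul_mem _ _ (Submodule.sum_mem _ (fun b' hb' =>
    Submodule.smul_mem _ _ (Submodule.subset_span ⟨b', Finset.ne_of_mem_erase hb', rfl⟩)))

theorem notMem_span_image_of {I : Ideal R} (hI : (1 : R) ∉ I) {N : Type*} [AddCommGroup N]
    [Module R N] {n : ℕ} (g : Fin n → N)
    (hker : ∀ v : Fin n → R, ∑ b, v b • g b = 0 → ∀ b, v b ∈ I) (b : Fin n) :
    g b ∉ Submodule.span R (g '' {b' | b' ≠ b}) := by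
  intro hmem
  rw [Finsupp.mem_span_image_iff_linearCombination] at hmem
  obtain ⟨l, hl, hlb⟩ := hmem
  have hlb0 : l b = 0 := by
    by_contra h
    exact (hl (Finset.mem_coe.2 (Finsupp.mem_support_iff.2 h))) rfl
  have hsum : ∑ b', ((Pi.single b 1 : Fin n → R) b' - l b') • g b' = 0 := by
    simp only [sub_smul, Finset.sum_sub_distrib]
    rw [Finsupp.linearCombination_apply, Finsupp.sum_fintype _ _ (by simp)] at hlb
    rw [hlb]
    simp [Pi.single_apply]
  have := hker (fun b' => (Pi.single b 1 : Fin n → R) b' - l b') hsum b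
  simp [hlb0] at this
  exact hI this

end Res

end Groth.Agent.H77.GrSyzLib
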