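import Groth.Agent.H77.GrSyzPd

set_option linter.style.longLine false
set_option linter.unusedSectionVars false
set_option linter.unusedVariables false
set_option linter.style.haveILetI false

universe u v

namespace Groth.Agent.H77.GrSyzTor

open GrSyz CategoryTheory MonoidalCategory Groth.Agent.H77.GrSyzLib

section
variable {R : Type u} [CommRing R] {σ' : Type u} [SetLike σ' R] [AddSubgroupClass σ' R]
  {𝒜 : ℤ → σ'} [GradedRing 𝒜]
variable {M : Type u} [AddCommGroup M] [Module R M] {τ : Type u} [SetLike τ M]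
  [AddSubgroupClass τ M] {ℳ : ℤ → τ} [DirectSum.Decomposition ℳ] [SetLike.GradedSMul 𝒜 ℳ]
  (F : FreeRes 𝒜 ℳ)

theorem dLin_comp (i : ℕ) (w : Fin (F.rk (i + 1 + 1)) → R) :
    F.dLin i (F.dLin (i + 1) w) = 0 := by
  have : F.dLin (i + 1) w ∈ LinearMap.ker (F.dLin i) := by
    rw [F.exact_succ i]; exact ⟨w, rfl⟩
  exact this

theorem augLin_comp (w : Fin (F.rk (0 + 1)) → R) : F.augLin (F.dLin 0 w) = 0 := by
  have : F.dLin 0 w ∈ LinearMap.ker F.augLin := by
    rw [F.exact_zero]; exact ⟨w, rfl⟩
  exact this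

/-- the chain complex of the resolution -/
noncomputable def cx : ChainComplex (ModuleCat.{u} R) ℕ :=
  ChainComplex.of (fun i => ModuleCat.of R (Fin (F.rk i) → R))
    (fun i => ModuleCat.ofHom (F.dLin i))
    (fun i => by
      apply ModuleCat.hom_ext
      apply LinearMap.ext
      intro v
      exact dLin_comp F i v)

theorem cx_d (i : ℕ) : (cx F).d (i + 1) i = ModuleCat.ofHom (F.dLin i) := by
  exact ChainComplex.of_d (fun i => ModuleCat.of R (Fin (F.rk i) → R))
    (fun i => ModuleCat.ofHom (F.dLin i)) i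

theorem cx_d_one_zero : (cx F).d 1 0 = ModuleCat.ofHom (F.dLin 0) := cx_d F 0

/-- the augmentation as a chain map -/
noncomputable def piHom : cx F ⟶ (ChainComplex.single₀ (ModuleCat.{u} R)).obj (ModuleCat.of R M) :=
  (ChainComplex.toSingle₀Equiv _ _).symm ⟨ModuleCat.ofHom F.augLin, by
    rw [cx_d_one_zero]
    apply ModuleCat.hom_ext
    apply LinearMap.ext
    intro v
    exact augLin_comp F v⟩

theorem piHom_f_zero : (piHom F).f 0 = ModuleCat.ofHom F.augLin := by
  simp [piHom]

theorem cx_exactAt_succ (n : ℕ) : (cx F).ExactAt (n + 1) := by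
  rw [HomologicalComplex.exactAt_iff' _ (n + 1 + 1) (n + 1) n (by simp) (by simp),
    ShortComplex.moduleCat_exact_iff_range_eq_ker]
  show LinearMap.range ((cx F).d (n + 1 + 1) (n + 1)).hom = LinearMap.ker ((cx F).d (n + 1) n).hom
  rw [cx_d, cx_d]
  exact (F.exact_succ n).symm

instance : QuasiIso (piHom F) := ⟨fun n => by
  cases n with
  | zero =>
    rw [ChainComplex.quasiIsoAt₀_iff, ShortComplex.quasiIso_iff_of_zeros']
    · constructor
      · rw [ShortComplex.moduleCat_exact_iff_range_eq_ker]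
        show LinearMap.range ((cx F).d 1 0).hom = LinearMap.ker ((piHom F).f 0).hom
        rw [cx_d_one_zero, piHom_f_zero]
        exact F.exact_zero.symm
      · show Epi ((piHom F).f 0)
        rw [piHom_f_zero, ModuleCat.epi_iff_surjective]
        exact F.aug_surjective
    all_goals rfl
  | succ n =>
    rw [quasiIsoAt_iff_exactAt']
    · exact cx_exactAt_succ F n
    · exact ChainComplex.exactAt_succ_single_obj _ _⟩

/-- the projective resolution of `M` given by `F` -/
noncomputable def projRes : ProjectiveResolution (ModuleCat.of R M) where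
  complex := cx F
  projective := fun n => by
    show Projective (ModuleCat.of R (Fin (F.rk n) → R))
    exact (IsProjective.iff_projective _).1 inferInstance
  π := piHom F

theorem tmul_eq_zero_of_mem {I : Ideal R} {p : ℕ} (x : R ⧸ I) (w : Fin p → R)
    (hw : ∀ a, w a ∈ I) : x ⊗ₜ[R] w = 0 := by
  rw [pi_eq_sum_univ w, TensorProduct.tmul_sum]
  refine Finset.sum_eq_zero (fun a _ => ?_)
  rw [TensorProduct.tmul_smul, TensorProduct.smul_tmul']
  obtain ⟨y, rfl⟩ := Ideal.Quotient.mk_surjective x
  have : w a • (Ideal.Quotient.mk I y) = 0 := by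
    rw [Algebra.smul_def]
    have h0 : (algebraMap R (R ⧸ I)) (w a) = 0 := Ideal.Quotient.eq_zero_iff_mem.2 (hw a)
    rw [h0, zero_mul]
  rw [this, TensorProduct.zero_tmul]

/-- the complex `R ⧸ I ⊗ F` -/
noncomputable def tcx (I : Ideal R) : ChainComplex (ModuleCat.{u} R) ℕ :=
  (((tensoringLeft (ModuleCat.{u} R)).obj (ModuleCat.of R (R ⧸ I))).mapHomologicalComplex _).obj
    (cx F)

theorem tcx_d_eq_zero {I : Ideal R} (hF : F.IsMinimal I) (a b : ℕ) : (tcx F I).d a b = 0 := by
  by_cases h : (ComplexShape.down ℕ).Rel a b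
  · have hab : b + 1 = a := by simpa using h
    subst hab
    show (ModuleCat.of R (R ⧸ I)) ◁ ((cx F).d (b + 1) b) = 0
    rw [cx_d]
    apply ModuleCat.MonoidalCategory.tensor_ext
    intro x v
    show x ⊗ₜ[R] (F.dLin b v) = 0
    exact tmul_eq_zero_of_mem x _ (fun a => dLin_apply_mem F hF b v a)
  · exact (tcx F I).shape a b h

/-- homology of a complex with zero differentials -/
noncomputable def homologyIsoOfZero (K : ChainComplex (ModuleCat.{u} R) ℕ)
    (hK : ∀ a b, K.d a b = 0) (i : ℕ) : K.homology i ≅ K.X i :=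
  (ShortComplex.HomologyData.ofZeros (K.sc i) (hK _ _) (hK _ _)).left.homologyIso

/-- `Tor_i (R ⧸ I, M)` is `(R ⧸ I) ⊗ F_i` for a minimal resolution -/
noncomputable def torIso {I : Ideal R} (hF : F.IsMinimal I) (i : ℕ) :
    ((Tor (ModuleCat.{u} R) i).obj (ModuleCat.of R (R ⧸ I))).obj (ModuleCat.of R M) ≅
      (tcx F I).X i :=
  ((projRes F).isoLeftDerivedObj
    ((tensoringLeft (ModuleCat.{u} R)).obj (ModuleCat.of R (R ⧸ I))) i).trans
    (homologyIsoOfZero (tcx F I) (tcx_d_eq_zero F hF) i)

theorem length_tor {I : Ideal R} [I.IsMaximal] (hF : F.IsMinimal I) (i : ℕ) :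
    Module.length R (((Tor (ModuleCat.{u} R) i).obj (ModuleCat.of R (R ⧸ I))).obj
      (ModuleCat.of R M)) = (F.rk i : ℕ∞) := by
  have e1 := (torIso F hF i).toLinearEquiv
  have e2 : ((tcx F I).X i) ≃ₗ[R] (Fin (F.rk i) → R ⧸ I) :=
    TensorProduct.piScalarRight R R (R ⧸ I) (Fin (F.rk i))
  haveI : IsSimpleModule R (R ⧸ I) :=
    isSimpleModule_iff_quot_maximal.2 ⟨I, inferInstance, ⟨LinearEquiv.refl _ _⟩⟩
  rw [(e1.trans e2).length_eq, Module.length_pi, Module.length_eq_one]
  simp

end

section Std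
variable {k : Type u} [Field k] {σ : Type v}

open MvPolynomial in
theorem irrel_eq_ker : (irrel (stdGr k σ)).toIdeal =
    RingHom.ker (constantCoeff : MvPolynomial σ k →+* k) := by
  apply le_antisymm
  · intro p hp
    exact constantCoeff_eq_zero_of_mem_irrel hp
  · intro p hp
    rw [RingHom.mem_ker, constantCoeff_eq] at hp
    rw [← support_sum_monomial_coeff p]
    refine Ideal.sum_mem _ (fun m hm => ?_)
    have hm0 : m ≠ 0 := by
      rintro rfl
      exact (mem_support_iff.1 hm) hp
    have hpos : 0 < Finsupp.weight (fun _ : σ => (1 : ℤ)) m := by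
      rcases (weight_one_nonneg m).lt_or_eq with h | h
      · exact h
      · exact absurd (weight_one_eq_zero h.symm) hm0
    exact Ideal.subset_span ⟨_, hpos, isWeightedHomogeneous_monomial _ _ _ rfl⟩

instance irrel_isMaximal : ((irrel (stdGr k σ)).toIdeal).IsMaximal := by
  rw [irrel_eq_ker]
  exact RingHom.ker_isMaximal_of_surjective _ (fun c => ⟨MvPolynomial.C c, by simp⟩)

end Std

end Groth.Agent.H77.GrSyzTor
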