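import Groth.Agent.H77.GrSyzStrand
import Groth.Agent.H77.GrSyzTor

set_option linter.style.longLine false
set_option linter.unusedSectionVars false
set_option linter.unusedVariables false

universe u v

namespace Groth.Agent.H77.GrSyzUniq

open GrSyz DirectSum Module Matrix Groth.Agent.H77.GrSyzLib Groth.Agent.H77.GrSyzStrand

/-- dependent choice along `ℕ` with a prescribed start -/
theorem exists_seq {X : ℕ → Type*} (P : ∀ i, X i → Prop) (R : ∀ i, X i → X (i + 1) → Prop)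
    (x0 : X 0) (h0 : P 0 x0) (hs : ∀ i x, P i x → ∃ y, P (i + 1) y ∧ R i x y) :
    ∃ x : ∀ i, X i, x 0 = x0 ∧ (∀ i, P i (x i)) ∧ ∀ i, R i (x i) (x (i + 1)) := by
  classical
  let f : ∀ i, {x : X i // P i x} := fun i => Nat.rec (motive := fun i => {x : X i // P i x})
    ⟨x0, h0⟩ (fun i x => ⟨(hs i x.1 x.2).choose, (hs i x.1 x.2).choose_spec.1⟩) i
  exact ⟨fun i => (f i).1, rfl, fun i => (f i).2, fun i => (hs i (f i).1 (f i).2).choose_spec.2⟩

section Ungraded
variable {R : Type u} [CommRing R]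

theorem col_eq {m n : ℕ} (T : Matrix (Fin m) (Fin n) R) (b : Fin n) :
    T *ᵥ Pi.single b 1 = fun a => T a b := by
  rw [Matrix.mulVec_single_one]; rfl

theorem linMap_ext_single {n : ℕ} {N : Type*} [AddCommGroup N] [Module R N]
    (f g : (Fin n → R) →ₗ[R] N)
    (h : ∀ b, f (Pi.single b 1) = g (Pi.single b 1)) : f = g := by
  apply LinearMap.pi_ext
  intro i x
  have : (Pi.single i x : Fin n → R) = x • Pi.single i 1 := by
    ext j; simp [Pi.single_apply]
  rw [this, map_smul, map_smul, h]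

variable {σ' : Type u} [SetLike σ' R] [AddSubgroupClass σ' R]
  {𝒜 : ℤ → σ'} [GradedRing 𝒜]
variable {M : Type u} [AddCommGroup M] [Module R M] {τ : Type u} [SetLike τ M]
  [AddSubgroupClass τ M] {ℳ : ℤ → τ} [DirectSum.Decomposition ℳ] [SetLike.GradedSMul 𝒜 ℳ]
  (F : FreeRes 𝒜 ℳ)

theorem d_mul_d (i : ℕ) : F.d i * F.d (i + 1) = 0 := by
  ext a b
  have h := GrSyzTor.dLin_comp F i (Pi.single b 1)
  have h2 : (F.d i * F.d (i + 1)) *ᵥ Pi.single b 1 = 0 := by
    rw [← Matrix.mulVec_mulVec]; exact h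
  rw [col_eq] at h2
  exact congrFun h2 a

theorem lift_range (i : ℕ) {n : ℕ} (T : Matrix (Fin (F.rk i)) (Fin n) R)
    (h : ∀ b, (T *ᵥ Pi.single b 1) ∈ LinearMap.range (F.dLin i)) :
    ∃ U : Matrix (Fin (F.rk (i + 1))) (Fin n) R, F.d i * U = T := by
  have h' : ∀ b, ∃ w, F.dLin i w = T *ᵥ Pi.single b 1 := fun b => LinearMap.mem_range.1 (h b)
  choose w hw using h'
  refine ⟨Matrix.of (fun a b => w b a), ?_⟩
  ext a b
  have : F.dLin i (w b) a = T a b := by rw [hw b, col_eq]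
  rw [← this, Matrix.mulVecLin_apply]
  simp [Matrix.mul_apply, Matrix.mulVec, dotProduct]

/-- a chain endomorphism of a minimal resolution lifting the identity is the identity modulo the ideal -/
theorem endo_sub_one_mem {I : Ideal R} (hF : F.IsMinimal I)
    (θ : ∀ i, Matrix (Fin (F.rk i)) (Fin (F.rk i)) R)
    (haug : ∀ v, F.augLin (θ 0 *ᵥ v) = F.augLin v)
    (hcomm : ∀ i, F.d i * θ (i + 1) = θ i * F.d i) (i : ℕ) (a b : Fin (F.rk i)) :
    (θ i - 1) a b ∈ I := by
  obtain ⟨h0, hh0⟩ : ∃ U : Matrix (Fin (F.rk (0 + 1))) (Fin (F.rk 0)) R, F.d 0 * U = θ 0 - 1 := by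
    apply lift_range F 0
    intro b
    rw [← F.exact_zero, LinearMap.mem_ker, Matrix.sub_mulVec, map_sub, haug, Matrix.one_mulVec,
      sub_self]
  obtain ⟨h, hz, hP, hR⟩ := exists_seq
    (X := fun i => Matrix (Fin (F.rk (i + 1))) (Fin (F.rk i)) R)
    (fun i x => (θ i - 1 - F.d i * x) * F.d i = 0)
    (fun i x y => θ (i + 1) - 1 = F.d (i + 1) * y + x * F.d i) h0
    (by rw [hh0, sub_self, Matrix.zero_mul])
    (by
      intro i x hx
      obtain ⟨y, hy⟩ : ∃ U : Matrix (Fin (F.rk (i + 1 + 1))) (Fin (F.rk (i + 1))) R,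
          F.d (i + 1) * U = θ (i + 1) - 1 - x * F.d i := by
        apply lift_range F (i + 1)
        intro b
        rw [← F.exact_succ i, LinearMap.mem_ker, Matrix.mulVecLin_apply, Matrix.mulVec_mulVec]
        have : F.d i * (θ (i + 1) - 1 - x * F.d i) = 0 := by
          rw [Matrix.mul_sub, Matrix.mul_sub, hcomm i, Matrix.mul_one, ← Matrix.mul_assoc]
          have := hx
          rw [Matrix.sub_mul, Matrix.sub_mul, Matrix.one_mul] at this
          exact this
        rw [this, Matrix.zero_mulVec]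
      refine ⟨y, ?_, ?_⟩
      · rw [hy]
        have : θ (i + 1) - 1 - (θ (i + 1) - 1 - x * F.d i) = x * F.d i := by abel
        rw [this, Matrix.mul_assoc, d_mul_d, Matrix.mul_zero]
      · rw [hy]; abel)
  cases i with
  | zero =>
    rw [← hz] at hh0
    rw [← hh0, Matrix.mul_apply]
    exact Ideal.sum_mem _ (fun c _ => Ideal.mul_mem_right _ _ (hF 0 a c))
  | succ i =>
    rw [hR i, Matrix.add_apply, Matrix.mul_apply, Matrix.mul_apply]
    exact Ideal.add_mem _ (Ideal.sum_mem _ (fun c _ => Ideal.mul_mem_right _ _ (hF (i + 1) a c)))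
      (Ideal.sum_mem _ (fun c _ => Ideal.mul_mem_left _ _ (hF i c b)))

end Ungraded

section Graded
variable {k : Type u} [Field k] {A : Type u} [CommRing A] [Algebra k A]
  {𝒜 : ℤ → Submodule k A} [GradedAlgebra 𝒜]
variable {M : Type u} [AddCommGroup M] [Module k M] [Module A M] [IsScalarTower k A M]
  {ℳ : ℤ → Submodule k M} [DirectSum.Decomposition ℳ] [SetLike.GradedSMul 𝒜 ℳ]

/-- a matrix is graded of degree zero w.r.t. degree vectors `s` (source) and `s'` (target) -/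
def IsGr (𝒜 : ℤ → Submodule k A) {n n' : ℕ} (s : Fin n → ℤ) (s' : Fin n' → ℤ)
    (P : Matrix (Fin n') (Fin n) A) : Prop :=
  ∀ a b, P a b ∈ 𝒜 (s b - s' a)

theorem IsGr.mul {n n' n'' : ℕ} {s : Fin n → ℤ} {s' : Fin n' → ℤ} {s'' : Fin n'' → ℤ}
    {P : Matrix (Fin n') (Fin n) A} {Q : Matrix (Fin n'') (Fin n') A}
    (hP : IsGr 𝒜 s s' P) (hQ : IsGr 𝒜 s' s'' Q) : IsGr 𝒜 s s'' (Q * P) := by
  intro a b
  rw [Matrix.mul_apply]
  refine Submodule.sum_mem _ (fun c _ => ?_)
  have := SetLike.mul_mem_graded (hQ a c) (hP c b)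
  have e : s' c - s'' a + (s b - s' c) = s b - s'' a := by ring
  rwa [e] at this

theorem grLift_range (F' : FreeRes 𝒜 ℳ) (i : ℕ) {n : ℕ} (s : Fin n → ℤ)
    (T : Matrix (Fin (F'.rk i)) (Fin n) A) (hT : IsGr 𝒜 s (F'.deg i) T)
    (h : ∀ b, (T *ᵥ Pi.single b 1) ∈ LinearMap.range (F'.dLin i)) :
    ∃ U : Matrix (Fin (F'.rk (i + 1))) (Fin n) A,
      IsGr 𝒜 s (F'.deg (i + 1)) U ∧ F'.d i * U = T := by
  have h' : ∀ b, ∃ w, F'.dLin i w = T *ᵥ Pi.single b 1 := fun b => LinearMap.mem_range.1 (h b)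
  choose w hw using h'
  refine ⟨Matrix.of (fun a b => proj F' (i + 1) (s b) (w b) a), ?_, ?_⟩
  · intro a b
    exact (mem_strand F').1 (proj_mem F' (i + 1) (s b) (w b)) a
  · ext a b
    have hv : (fun a => T a b) ∈ strand F' i (s b) := (mem_strand F').2 (fun a => hT a b)
    have h1 : F'.dLin i (proj F' (i + 1) (s b) (w b)) = fun a => T a b := by
      rw [dLin_proj, hw b, col_eq, proj_eq_self F' hv]
    have : F'.dLin i (proj F' (i + 1) (s b) (w b)) a = T a b := by rw [h1]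
    rw [← this, Matrix.mulVecLin_apply]
    simp [Matrix.mul_apply, Matrix.mulVec, dotProduct]

theorem grLift_aug (F' : FreeRes 𝒜 ℳ) {n : ℕ} (s : Fin n → ℤ) (x : Fin n → M)
    (hx : ∀ b, x b ∈ ℳ (s b)) :
    ∃ U : Matrix (Fin (F'.rk 0)) (Fin n) A, IsGr 𝒜 s (F'.deg 0) U ∧
      ∀ b, F'.augLin (U *ᵥ Pi.single b 1) = x b := by
  have h' : ∀ b, ∃ v ∈ strand F' 0 (s b), F'.augLin v = x b :=
    fun b => strand_aug_surj F' (s b) (hx b)
  choose v hv hvx using h'
  refine ⟨Matrix.of (fun a b => v b a), fun a b => (mem_strand F').1 (hv b) a, fun b => ?_⟩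
  rw [col_eq]
  exact hvx b

/-- existence of a graded chain map between two resolutions of the same graded module -/
theorem exists_chainMap (F F' : FreeRes 𝒜 ℳ) :
    ∃ φ : ∀ i, Matrix (Fin (F'.rk i)) (Fin (F.rk i)) A,
      (∀ i, IsGr 𝒜 (F.deg i) (F'.deg i) (φ i)) ∧
      (∀ v, F'.augLin (φ 0 *ᵥ v) = F.augLin v) ∧
      ∀ i, F'.d i * φ (i + 1) = φ i * F.d i := by
  obtain ⟨φ0, hφ0, hφ0a⟩ := grLift_aug F' (F.deg 0) F.aug F.aug_mem
  have haug : ∀ v, F'.augLin (φ0 *ᵥ v) = F.augLin v := by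
    have : F'.augLin ∘ₗ φ0.mulVecLin = F.augLin := by
      apply linMap_ext_single
      intro b
      rw [LinearMap.comp_apply, Matrix.mulVecLin_apply, hφ0a b,
        Fintype.linearCombination_apply_single, one_smul]
    intro v
    exact LinearMap.congr_fun this v
  obtain ⟨φ, hz, hP, hR⟩ := exists_seq
    (X := fun i => Matrix (Fin (F'.rk i)) (Fin (F.rk i)) A)
    (fun i x => IsGr 𝒜 (F.deg i) (F'.deg i) x ∧
      ∀ b, ((x * F.d i) *ᵥ Pi.single b 1) ∈ LinearMap.range (F'.dLin i))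
    (fun i x y => F'.d i * y = x * F.d i) φ0
    ⟨hφ0, fun b => by
      rw [← F'.exact_zero, LinearMap.mem_ker, ← Matrix.mulVec_mulVec, haug]
      exact GrSyzTor.augLin_comp F (Pi.single b 1)⟩
    (by
      intro i x hx
      obtain ⟨y, hy, hyx⟩ := grLift_range F' i (F.deg (i + 1)) (x * F.d i)
        (IsGr.mul (F.d_mem i) hx.1) hx.2
      refine ⟨y, ⟨hy, fun b => ?_⟩, hyx⟩
      rw [← F'.exact_succ i, LinearMap.mem_ker, Matrix.mulVecLin_apply, Matrix.mulVec_mulVec,
        ← Matrix.mul_assoc, hyx, Matrix.mul_assoc, d_mul_d, Matrix.mul_zero, Matrix.zero_mulVec])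
  refine ⟨φ, fun i => (hP i).1, ?_, hR⟩
  rw [hz]; exact haug

end Graded

section KL
variable {A : Type u} [CommRing A] {σ' : Type*} [SetLike σ' A]

/-- key counting lemma: a graded matrix with a left inverse modulo `I` forces an inequality of
the numbers of basis vectors in each degree -/
theorem card_le_of_mul_sub_one_mem (𝒜 : ℤ → σ') (I : Ideal A) (hI : I ≠ ⊤)
    (hdeg : ∀ n : ℤ, n ≠ 0 → ∀ x ∈ 𝒜 n, x ∈ I)
    {n n' : ℕ} (s : Fin n → ℤ) (s' : Fin n' → ℤ)
    (P : Matrix (Fin n') (Fin n) A) (Q : Matrix (Fin n) (Fin n') A)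
    (hP : ∀ a b, P a b ∈ 𝒜 (s b - s' a))
    (hQP : ∀ b b', (Q * P - 1 : Matrix (Fin n) (Fin n) A) b b' ∈ I) (j : ℤ) :
    (Finset.univ.filter fun b : Fin n => s b = j).card ≤
      (Finset.univ.filter fun a : Fin n' => s' a = j).card := by
  classical
  have hnt : Nontrivial (A ⧸ I) := Ideal.Quotient.nontrivial_iff.2 hI
  let π := Ideal.Quotient.mk I
  let P' : Matrix {a : Fin n' // s' a = j} {b : Fin n // s b = j} (A ⧸ I) :=
    fun a b => π (P a.1 b.1)
  let Q' : Matrix {b : Fin n // s b = j} {a : Fin n' // s' a = j} (A ⧸ I) :=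
    fun b a => π (Q b.1 a.1)
  have hQP' : Q' * P' = 1 := by
    ext b b'
    rw [Matrix.mul_apply]
    have h1 : ∑ a : {a : Fin n' // s' a = j}, Q' b a * P' a b' =
        ∑ a : Fin n', π (Q b.1 a * P a b'.1) := by
      have e1 : ∑ a : {a : Fin n' // s' a = j}, Q' b a * P' a b' =
          ∑ a ∈ Finset.univ.filter (fun a : Fin n' => s' a = j), π (Q b.1 a * P a b'.1) := by
        rw [Finset.sum_subtype (p := fun a : Fin n' => s' a = j)
          (Finset.univ.filter (fun a : Fin n' => s' a = j))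
          (fun x => by simp) (fun a => π (Q b.1 a * P a b'.1))]
        refine Finset.sum_congr rfl (fun a _ => ?_)
        simp only [P', Q', map_mul]
      rw [e1, Finset.sum_filter]
      refine Finset.sum_congr rfl (fun a _ => ?_)
      split_ifs with ha
      · rfl
      · have : P a b'.1 ∈ I := hdeg _ (by rw [b'.2]; intro h; apply ha; omega) _ (hP a b'.1)
        rw [map_mul, (Ideal.Quotient.eq_zero_iff_mem).2 this, mul_zero]
    rw [h1, ← map_sum, ← Matrix.mul_apply]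
    have h2 : π ((Q * P) b.1 b'.1) = π ((1 : Matrix (Fin n) (Fin n) A) b.1 b'.1) := by
      rw [Ideal.Quotient.eq, ← Matrix.sub_apply]
      exact hQP b.1 b'.1
    rw [h2, Matrix.one_apply, Matrix.one_apply]
    by_cases hb : b = b'
    · rw [if_pos hb, if_pos (congrArg Subtype.val hb), map_one]
    · rw [if_neg hb, if_neg (fun h => hb (Subtype.ext h)), map_zero]
  have hinj : Function.Injective P'.mulVecLin := by
    apply Function.LeftInverse.injective (g := Q'.mulVecLin)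
    intro v
    simp only [Matrix.mulVecLin_apply, Matrix.mulVec_mulVec, hQP', Matrix.one_mulVec]
  have := card_le_of_injective (A ⧸ I) P'.mulVecLin hinj
  rwa [Fintype.card_subtype, Fintype.card_subtype] at this

end KL

section Main
variable {k : Type u} [Field k] {A : Type u} [CommRing A] [Algebra k A]
  {𝒜 : ℤ → Submodule k A} [GradedAlgebra 𝒜]
variable {M : Type u} [AddCommGroup M] [Module k M] [Module A M] [IsScalarTower k A M]
  {ℳ : ℤ → Submodule k M} [DirectSum.Decomposition ℳ] [SetLike.GradedSMul 𝒜 ℳ]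

/-- the minimal resolution is a direct summand of any resolution, numerically -/
theorem betti_le_of_isMinimal (F F' : FreeRes 𝒜 ℳ) {I : Ideal A} (hI : I ≠ ⊤)
    (hdeg : ∀ n : ℤ, n ≠ 0 → ∀ x ∈ 𝒜 n, x ∈ I) (hF : F.IsMinimal I) (i : ℕ) (j : ℤ) :
    F.betti i j ≤ F'.betti i j := by
  obtain ⟨φ, hφ, hφa, hφc⟩ := exists_chainMap F F'
  obtain ⟨ψ, hψ, hψa, hψc⟩ := exists_chainMap F' F
  have key := endo_sub_one_mem F hF (fun i => ψ i * φ i)
    (fun v => by rw [← Matrix.mulVec_mulVec, hψa, hφa])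
    (fun i => by
      show F.d i * (ψ (i + 1) * φ (i + 1)) = ψ i * φ i * F.d i
      rw [← Matrix.mul_assoc, hψc, Matrix.mul_assoc, hφc, Matrix.mul_assoc]) i
  exact card_le_of_mul_sub_one_mem 𝒜 I hI hdeg (F.deg i) (F'.deg i) (φ i) (ψ i) (hφ i) key j

theorem betti_eq_of_isMinimal (F F' : FreeRes 𝒜 ℳ) {I : Ideal A} (hI : I ≠ ⊤)
    (hdeg : ∀ n : ℤ, n ≠ 0 → ∀ x ∈ 𝒜 n, x ∈ I) (hF : F.IsMinimal I) (hF' : F'.IsMinimal I)
    (i : ℕ) (j : ℤ) : F.betti i j = F'.betti i j :=
  le_antisymm (betti_le_of_isMinimal F F' hI hdeg hF i j)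
    (betti_le_of_isMinimal F' F hI hdeg hF' i j)

end Main

section Std
variable {k : Type u} [Field k] {σ : Type v}

theorem eq_zero_of_mem_stdGr_neg {p : MvPolynomial σ k} {n : ℤ} (hn : p ∈ stdGr k σ n)
    (h : n < 0) : p = 0 := by
  by_contra h0
  obtain ⟨m, hm⟩ := MvPolynomial.ne_zero_iff.1 h0
  have hw := (mem_stdGr_iff k σ n p).1 hn hm
  have h1 := weight_one_nonneg (σ := σ) m
  omega

theorem mem_irrel_of_mem_stdGr {p : MvPolynomial σ k} {n : ℤ} (h : n ≠ 0)
    (hn : p ∈ stdGr k σ n) : p ∈ (irrel (stdGr k σ)).toIdeal := by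
  rcases lt_or_gt_of_ne h with h | h
  · rw [eq_zero_of_mem_stdGr_neg hn h]; exact Ideal.zero_mem _
  · exact Ideal.subset_span ⟨n, h, hn⟩

theorem irrel_ne_top : (irrel (stdGr k σ)).toIdeal ≠ ⊤ := fun h =>
  one_notMem_irrel (k := k) (σ := σ) (h ▸ Submodule.mem_top)

end Std

end Groth.Agent.H77.GrSyzUniq
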