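import Mathlib
import Groth.Agent.H68.SpreadDefs
import Groth.Agent.H24.LimIso

/-!
# helper77: (F) a cartesian square at the limit spreads out to a stage (for helper68, S5124-6)
-/

set_option autoImplicit false
set_option backward.isDefEq.respectTransparency false
set_option backward.isDefEq.respectTransparency.types false
universe u
open CategoryTheory CategoryTheory.Limits AlgebraicGeometry Opposite Desc
open Groth.Agent.H51.DescCrit Groth.Agent.H49 Groth.Agent.H24 Groth.Agent.H68.SubmFpqc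
  Groth.Agent.H68.Spread

namespace Groth.Agent.H77.Spread_F

section Abstract

variable {C : Type*} [Category C]
  {T T' UD UD' S₁ S₁' V V' P P' : C}
  {m : T' ⟶ T} {pU : UD ⟶ T} {pU' : UD' ⟶ T'} {u : UD' ⟶ UD}
  {pS : S₁ ⟶ T} {pS' : S₁' ⟶ T'} {σ : S₁' ⟶ S₁}
  {pV : V ⟶ S₁} {pV' : V' ⟶ S₁'} {v : V' ⟶ V}
  {p1 : P ⟶ UD} {p2 : P ⟶ S₁} {p1' : P' ⟶ UD'} {p2' : P' ⟶ S₁'}
  {pm : P' ⟶ P} {θ : V ⟶ P} {θ' : V' ⟶ P'}

theorem isPullback_pm_snd (hU : IsPullback u pU' pU m) (hP : IsPullback p1 p2 pU pS)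
    (hP' : IsPullback p1' p2' pU' pS')
    (h1 : pm ≫ p1 = p1' ≫ u) (h2 : pm ≫ p2 = p2' ≫ σ) (hσ : σ ≫ pS = pS' ≫ m) :
    IsPullback pm p2' p2 σ := by
  have big : IsPullback (p1' ≫ u) p2' pU (pS' ≫ m) := hP'.paste_horiz hU
  rw [← h1, ← hσ] at big
  exact IsPullback.of_right big h2 hP

theorem isPullback_theta (hA3 : IsPullback pm p2' p2 σ) (hV : IsPullback v pV' pV σ)
    (hθ2 : θ ≫ p2 = pV) (hθ2' : θ' ≫ p2' = pV') (hw : v ≫ θ = θ' ≫ pm) :
    IsPullback v θ' θ pm := by
  have big : IsPullback v (θ' ≫ p2') (θ ≫ p2) σ := by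
    rw [hθ2, hθ2']
    exact hV
  exact IsPullback.of_bot big hw hA3

end Abstract

section Main

variable {J : Type u} [SmallCategory J] [IsCofiltered J] (D : J ⥤ Scheme.{u})
  [∀ {i j : J} (f : i ⟶ j), IsAffineHom (D.map f)] [∀ i, CompactSpace (D.obj i)]
  [∀ i, QuasiSeparatedSpace (D.obj i)] {B S' : Scheme.{u}}
  (s : ∀ j, D.obj j ⟶ B) (hs : ∀ {j k : J} (a : j ⟶ k), D.map a ≫ s k = s j)
  (g : S' ⟶ B) (𝒟 : SchDDFam (fun _ : PUnit.{1} => g))
  (c : Cone D) (hc : IsLimit c) (sInf : c.pt ⟶ B) (hsInf : ∀ j, c.π.app j ≫ s j = sInf)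
  (U : Over B)

/-- transition map of the `P_j = (U ×_B D j) ×_{D j} (S' ×_B D j)` -/
noncomputable def pm {j j' : J} (a : j' ⟶ j) :
    pullback (pullback.snd U.hom (s j')) (pullback.snd g (s j')) ⟶
      pullback (pullback.snd U.hom (s j)) (pullback.snd g (s j)) :=
  pullback.lift (pullback.fst _ _ ≫ bcMap D s hs U.hom a)
      (pullback.snd _ _ ≫ bcMap D s hs g a) (by
    rw [Category.assoc, Category.assoc, bcMap_snd, bcMap_snd, ← Category.assoc, ← Category.assoc,
      pullback.condition])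

theorem pm_fst {j j' : J} (a : j' ⟶ j) :
    pm D s hs g U a ≫ pullback.fst _ _ = pullback.fst _ _ ≫ bcMap D s hs U.hom a :=
  pullback.lift_fst _ _ _

theorem pm_snd {j j' : J} (a : j' ⟶ j) :
    pm D s hs g U a ≫ pullback.snd _ _ = pullback.snd _ _ ≫ bcMap D s hs g a :=
  pullback.lift_snd _ _ _

/-- the map from the limit `P_∞` to `P_j` -/
noncomputable def pmInf (j : J) :
    pullback (pullback.snd U.hom sInf) (pullback.snd g sInf) ⟶
      pullback (pullback.snd U.hom (s j)) (pullback.snd g (s j)) :=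
  pullback.lift
    (pullback.fst _ _ ≫ bcLift D s U.hom c sInf hsInf (pullback.fst U.hom sInf)
      (pullback.snd U.hom sInf) pullback.condition j)
    (pullback.snd _ _ ≫ bcLift D s g c sInf hsInf (pullback.fst g sInf)
      (pullback.snd g sInf) pullback.condition j) (by
    rw [Category.assoc, Category.assoc, bcLift_snd, bcLift_snd, ← Category.assoc,
      ← Category.assoc, pullback.condition])

theorem pmInf_fst (j : J) :
    pmInf D s g c sInf hsInf U j ≫ pullback.fst _ _ =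
      pullback.fst _ _ ≫ bcLift D s U.hom c sInf hsInf (pullback.fst U.hom sInf)
        (pullback.snd U.hom sInf) pullback.condition j :=
  pullback.lift_fst _ _ _

theorem pmInf_snd (j : J) :
    pmInf D s g c sInf hsInf U j ≫ pullback.snd _ _ =
      pullback.snd _ _ ≫ bcLift D s g c sInf hsInf (pullback.fst g sInf)
        (pullback.snd g sInf) pullback.condition j :=
  pullback.lift_snd _ _ _

/-- `θ_a : V_{j'} ⟶ P_{j'}` -/
noncomputable def th {j : J} (b : (dV D s hs g 𝒟).obj j ⟶ U.left)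
    (hb : b ≫ U.hom = tV D s hs g 𝒟 j) {j' : J} (a : j' ⟶ j) :
    (dV D s hs g 𝒟).obj j' ⟶ pullback (pullback.snd U.hom (s j')) (pullback.snd g (s j')) :=
  pullback.lift (kst D s hs g 𝒟 U b hb a)
    (pullback.snd (𝒟.obj PUnit.unit).hom (pullback.fst g (s j')))
    (kst_snd D s hs g 𝒟 U b hb a)

theorem th_fst {j : J} (b : (dV D s hs g 𝒟).obj j ⟶ U.left)
    (hb : b ≫ U.hom = tV D s hs g 𝒟 j) {j' : J} (a : j' ⟶ j) :
    th D s hs g 𝒟 U b hb a ≫ pullback.fst _ _ = kst D s hs g 𝒟 U b hb a :=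
  pullback.lift_fst _ _ _

theorem th_snd {j : J} (b : (dV D s hs g 𝒟).obj j ⟶ U.left)
    (hb : b ≫ U.hom = tV D s hs g 𝒟 j) {j' : J} (a : j' ⟶ j) :
    th D s hs g 𝒟 U b hb a ≫ pullback.snd _ _ =
      pullback.snd (𝒟.obj PUnit.unit).hom (pullback.fst g (s j')) :=
  pullback.lift_snd _ _ _

theorem isPullback_pm_stage {j j' : J} (a : j' ⟶ j) :
    IsPullback (pm D s hs g U a)
      (pullback.snd (pullback.snd U.hom (s j')) (pullback.snd g (s j')))
      (pullback.snd (pullback.snd U.hom (s j)) (pullback.snd g (s j))) (bcMap D s hs g a) :=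
  isPullback_pm_snd (isPullback_bcMap D s hs U.hom a) (IsPullback.of_hasPullback _ _)
    (IsPullback.of_hasPullback _ _) (pm_fst D s hs g U a) (pm_snd D s hs g U a)
    (bcMap_snd D s hs g a)

theorem isPullback_pmInf (j : J) :
    IsPullback (pmInf D s g c sInf hsInf U j)
      (pullback.snd (pullback.snd U.hom sInf) (pullback.snd g sInf))
      (pullback.snd (pullback.snd U.hom (s j)) (pullback.snd g (s j)))
      (bcLift D s g c sInf hsInf (pullback.fst g sInf) (pullback.snd g sInf)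
        pullback.condition j) :=
  isPullback_pm_snd
    (isPullback_bcLift D s U.hom c sInf hsInf _ _ (IsPullback.of_hasPullback U.hom sInf) j)
    (IsPullback.of_hasPullback _ _)
    (IsPullback.of_hasPullback _ _) (pmInf_fst D s g c sInf hsInf U j)
    (pmInf_snd D s g c sInf hsInf U j)
    (bcLift_snd D s g c sInf hsInf _ _ pullback.condition j)

theorem map_kst {j : J} (b : (dV D s hs g 𝒟).obj j ⟶ U.left)
    (hb : b ≫ U.hom = tV D s hs g 𝒟 j) {j' : J} (a : j' ⟶ j) :
    (dV D s hs g 𝒟).map a ≫ kst D s hs g 𝒟 U b hb (𝟙 j) =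
      kst D s hs g 𝒟 U b hb a ≫ bcMap D s hs U.hom a := by
  apply pullback.hom_ext
  · rw [Category.assoc, Category.assoc, kst_fst, bcMap_fst, kst_fst, (dV D s hs g 𝒟).map_id,
      Category.id_comp]
  · rw [Category.assoc, Category.assoc, kst_snd, bcMap_snd, ← Category.assoc, dV_snd,
      Category.assoc, dS_snd, ← Category.assoc (kst D s hs g 𝒟 U b hb a), kst_snd,
      Category.assoc]

theorem map_th {j : J} (b : (dV D s hs g 𝒟).obj j ⟶ U.left)
    (hb : b ≫ U.hom = tV D s hs g 𝒟 j) {j' : J} (a : j' ⟶ j) :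
    (dV D s hs g 𝒟).map a ≫ th D s hs g 𝒟 U b hb (𝟙 j) =
      th D s hs g 𝒟 U b hb a ≫ pm D s hs g U a := by
  apply pullback.hom_ext
  · rw [Category.assoc, Category.assoc, th_fst, pm_fst, ← Category.assoc (th D s hs g 𝒟 U b hb a),
      th_fst, map_kst]
  · rw [Category.assoc, Category.assoc, th_snd, pm_snd, ← Category.assoc (th D s hs g 𝒟 U b hb a),
      th_snd]
    exact dV_snd D s hs g 𝒟 a

theorem isPullback_th_stage {j : J} (b : (dV D s hs g 𝒟).obj j ⟶ U.left)
    (hb : b ≫ U.hom = tV D s hs g 𝒟 j) {j' : J} (a : j' ⟶ j) :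
    IsPullback ((dV D s hs g 𝒟).map a) (th D s hs g 𝒟 U b hb a) (th D s hs g 𝒟 U b hb (𝟙 j))
      (pm D s hs g U a) :=
  isPullback_theta (isPullback_pm_stage D s hs g U a)
    (isPullback_bcMap (dS D s hs g) (fun j => pullback.fst g (s j))
      (fun {_ _} a => dS_fst D s hs g a) (𝒟.obj PUnit.unit).hom a)
    (th_snd D s hs g 𝒟 U b hb (𝟙 j)) (th_snd D s hs g 𝒟 U b hb a) (map_th D s hs g 𝒟 U b hb a)

theorem cV_kst {j : J} (b : (dV D s hs g 𝒟).obj j ⟶ U.left)
    (hb : b ≫ U.hom = tV D s hs g 𝒟 j) :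
    (cV D s hs g 𝒟 c sInf hsInf).π.app j ≫ kst D s hs g 𝒟 U b hb (𝟙 j) =
      kinf D s hs g 𝒟 c sInf hsInf U b hb ≫
        bcLift D s U.hom c sInf hsInf (pullback.fst U.hom sInf) (pullback.snd U.hom sInf)
          pullback.condition j := by
  apply pullback.hom_ext
  · rw [Category.assoc, Category.assoc, kst_fst, bcLift_fst, kinf_fst, (dV D s hs g 𝒟).map_id,
      Category.id_comp]
  · rw [Category.assoc, Category.assoc, kst_snd, bcLift_snd, ← Category.assoc, cV_snd,
      Category.assoc, cS_snd, ← Category.assoc (kinf D s hs g 𝒟 c sInf hsInf U b hb), kinf_snd,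
      Category.assoc]

theorem isPullback_of_isIso_pbRel {j : J} (b : (dV D s hs g 𝒟).obj j ⟶ U.left)
    (hb : b ≫ U.hom = tV D s hs g 𝒟 j) (j' : Over j)
    (h : IsIso (pbRel D (𝟙 j) (th D s hs g 𝒟 U b hb (𝟙 j))
      (pullback.snd (pullback.snd U.hom (s j)) (pullback.snd g (s j)) ≫ pullback.snd g (s j))
      j')) :
    IsPullback (kst D s hs g 𝒟 U b hb (j'.hom ≫ 𝟙 j))
      (pullback.snd (𝒟.obj PUnit.unit).hom (pullback.fst g (s j'.left)))
      (pullback.snd U.hom (s j'.left)) (pullback.snd g (s j'.left)) := by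
  have cx : (dV D s hs g 𝒟).map (j'.hom ≫ 𝟙 j) ≫ th D s hs g 𝒟 U b hb (𝟙 j) ≫
      pullback.snd (pullback.snd U.hom (s j)) (pullback.snd g (s j)) ≫ pullback.snd g (s j) =
      (pullback.snd (𝒟.obj PUnit.unit).hom (pullback.fst g (s j'.left)) ≫
        pullback.snd g (s j'.left)) ≫ D.map (j'.hom ≫ 𝟙 j) := by
    rw [← Category.assoc (th D s hs g 𝒟 U b hb (𝟙 j)), th_snd, ← Category.assoc, dV_snd,
      Category.assoc, dS_snd, Category.assoc]
  have cy : pm D s hs g U (j'.hom ≫ 𝟙 j) ≫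
      pullback.snd (pullback.snd U.hom (s j)) (pullback.snd g (s j)) ≫ pullback.snd g (s j) =
      (pullback.snd (pullback.snd U.hom (s j'.left)) (pullback.snd g (s j'.left)) ≫
        pullback.snd g (s j'.left)) ≫ D.map (j'.hom ≫ 𝟙 j) := by
    rw [← Category.assoc, pm_snd, Category.assoc, bcMap_snd, Category.assoc]
  have hxy : pullback.lift ((dV D s hs g 𝒟).map (j'.hom ≫ 𝟙 j))
      (pullback.snd (𝒟.obj PUnit.unit).hom (pullback.fst g (s j'.left)) ≫
        pullback.snd g (s j'.left)) cx ≫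
      pbRel D (𝟙 j) (th D s hs g 𝒟 U b hb (𝟙 j))
        (pullback.snd (pullback.snd U.hom (s j)) (pullback.snd g (s j)) ≫ pullback.snd g (s j))
        j' =
      th D s hs g 𝒟 U b hb (j'.hom ≫ 𝟙 j) ≫
        pullback.lift (pm D s hs g U (j'.hom ≫ 𝟙 j))
          (pullback.snd (pullback.snd U.hom (s j'.left)) (pullback.snd g (s j'.left)) ≫
            pullback.snd g (s j'.left)) cy := by
    apply pullback.hom_ext
    · rw [Category.assoc, pbRel_fst, ← Category.assoc, pullback.lift_fst, Category.assoc,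
        pullback.lift_fst, map_th]
    · rw [Category.assoc, pbRel_snd, pullback.lift_snd, Category.assoc, pullback.lift_snd,
        ← Category.assoc, th_snd]
  have hbig : IsPullback
      (pullback.lift ((dV D s hs g 𝒟).map (j'.hom ≫ 𝟙 j))
        (pullback.snd (𝒟.obj PUnit.unit).hom (pullback.fst g (s j'.left)) ≫
          pullback.snd g (s j'.left)) cx ≫ pullback.fst _ _)
      (th D s hs g 𝒟 U b hb (j'.hom ≫ 𝟙 j)) (th D s hs g 𝒟 U b hb (𝟙 j))
      (pullback.lift (pm D s hs g U (j'.hom ≫ 𝟙 j))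
          (pullback.snd (pullback.snd U.hom (s j'.left)) (pullback.snd g (s j'.left)) ≫
            pullback.snd g (s j'.left)) cy ≫ pullback.fst _ _) := by
    rw [pullback.lift_fst, pullback.lift_fst]
    exact isPullback_th_stage D s hs g 𝒟 U b hb (j'.hom ≫ 𝟙 j)
  have hpb := IsPullback.of_right hbig hxy
    (isPullback_pbRel D (𝟙 j) (th D s hs g 𝒟 U b hb (𝟙 j))
      (pullback.snd (pullback.snd U.hom (s j)) (pullback.snd g (s j)) ≫ pullback.snd g (s j)) j')
  haveI : IsIso (th D s hs g 𝒟 U b hb (j'.hom ≫ 𝟙 j)) := hpb.isIso_snd_of_isIso h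
  exact IsPullback.of_iso_pullback ⟨kst_snd D s hs g 𝒟 U b hb (j'.hom ≫ 𝟙 j)⟩
    (asIso (th D s hs g 𝒟 U b hb (j'.hom ≫ 𝟙 j))) (th_fst D s hs g 𝒟 U b hb (j'.hom ≫ 𝟙 j))
    (th_snd D s hs g 𝒟 U b hb (j'.hom ≫ 𝟙 j))

include hc in
/-- (F) -/
theorem exists_stage_sq [LocallyOfFinitePresentation g] [QuasiCompact g] [QuasiSeparated g]
    [LocallyOfFinitePresentation (𝒟.obj PUnit.unit).hom]
    [QuasiCompact (𝒟.obj PUnit.unit).hom] [QuasiSeparated (𝒟.obj PUnit.unit).hom]
    [LocallyOfFinitePresentation U.hom] [QuasiCompact U.hom] [QuasiSeparated U.hom]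
    {j : J} (b : (dV D s hs g 𝒟).obj j ⟶ U.left) (hb : b ≫ U.hom = tV D s hs g 𝒟 j)
    (hsq : IsPullback (kinf D s hs g 𝒟 c sInf hsInf U b hb)
      (pullback.snd (𝒟.obj PUnit.unit).hom (pullback.fst g sInf))
      (pullback.snd U.hom sInf) (pullback.snd g sInf)) :
    ∃ (j' : J) (a : j' ⟶ j), IsPullback (kst D s hs g 𝒟 U b hb a)
      (pullback.snd (𝒟.obj PUnit.unit).hom (pullback.fst g (s j')))
      (pullback.snd U.hom (s j')) (pullback.snd g (s j')) := by
  have hfg : th D s hs g 𝒟 U b hb (𝟙 j) ≫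
      pullback.snd (pullback.snd U.hom (s j)) (pullback.snd g (s j)) ≫ pullback.snd g (s j) =
      pullback.snd (𝒟.obj PUnit.unit).hom (pullback.fst g (s j)) ≫ pullback.snd g (s j) := by
    rw [← Category.assoc, th_snd]
  haveI h1 : LocallyOfFinitePresentation (th D s hs g 𝒟 U b hb (𝟙 j) ≫
      pullback.snd (pullback.snd U.hom (s j)) (pullback.snd g (s j)) ≫ pullback.snd g (s j)) := by
    rw [hfg]; infer_instance
  haveI h2 : QuasiCompact (th D s hs g 𝒟 U b hb (𝟙 j) ≫
      pullback.snd (pullback.snd U.hom (s j)) (pullback.snd g (s j)) ≫ pullback.snd g (s j)) := by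
    rw [hfg]; infer_instance
  haveI h3 : LocallyOfFiniteType
      (pullback.snd (pullback.snd U.hom (s j)) (pullback.snd g (s j)) ≫ pullback.snd g (s j)) :=
    inferInstance
  haveI h4 : QuasiCompact
      (pullback.snd (pullback.snd U.hom (s j)) (pullback.snd g (s j)) ≫ pullback.snd g (s j)) :=
    inferInstance
  haveI h5 : QuasiSeparated
      (pullback.snd (pullback.snd U.hom (s j)) (pullback.snd g (s j)) ≫ pullback.snd g (s j)) :=
    inferInstance
  have hf2 : hsq.isoPullback.hom ≫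
      pullback.snd (pullback.snd U.hom sInf) (pullback.snd g sInf) =
      pullback.snd (𝒟.obj PUnit.unit).hom (pullback.fst g sInf) := hsq.isoPullback_hom_snd
  have hf1 : hsq.isoPullback.hom ≫
      pullback.fst (pullback.snd U.hom sInf) (pullback.snd g sInf) =
      kinf D s hs g 𝒟 c sInf hsInf U b hb := hsq.isoPullback_hom_fst
  have hw : (cV D s hs g 𝒟 c sInf hsInf).π.app j ≫ th D s hs g 𝒟 U b hb (𝟙 j) =
      hsq.isoPullback.hom ≫ pmInf D s g c sInf hsInf U j := by
    apply pullback.hom_ext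
    · rw [Category.assoc, Category.assoc, th_fst, pmInf_fst, ← Category.assoc hsq.isoPullback.hom,
        hf1, cV_kst]
    · rw [Category.assoc, Category.assoc, th_snd, pmInf_snd, ← Category.assoc hsq.isoPullback.hom,
        hf2]
      exact cV_snd D s hs g 𝒟 c sInf hsInf j
  have hY : IsPullback (pmInf D s g c sInf hsInf U j)
      (pullback.snd (pullback.snd U.hom sInf) (pullback.snd g sInf) ≫ pullback.snd g sInf)
      (pullback.snd (pullback.snd U.hom (s j)) (pullback.snd g (s j)) ≫ pullback.snd g (s j))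
      (c.π.app j) :=
    (isPullback_pmInf D s g c sInf hsInf U j).paste_vert
      (isPullback_bcLift D s g c sInf hsInf _ _ (IsPullback.of_hasPullback g sInf) j)
  have hX : IsPullback ((cV D s hs g 𝒟 c sInf hsInf).π.app j) hsq.isoPullback.hom
      (th D s hs g 𝒟 U b hb (𝟙 j)) (pmInf D s g c sInf hsInf U j) :=
    isPullback_theta (isPullback_pmInf D s g c sInf hsInf U j)
      (isPullback_bcLift (dS D s hs g) (fun j => pullback.fst g (s j)) (𝒟.obj PUnit.unit).hom
        (cS D s hs g c sInf hsInf) (pullback.fst g sInf)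
        (fun j => cS_fst D s hs g c sInf hsInf j) _ _
        (IsPullback.of_hasPullback (𝒟.obj PUnit.unit).hom (pullback.fst g sInf)) j)
      (th_snd D s hs g 𝒟 U b hb (𝟙 j)) hf2 hw
  obtain ⟨j', hj'⟩ := exists_isIso_pbRel D c hc j (th D s hs g 𝒟 U b hb (𝟙 j))
    (pullback.snd (pullback.snd U.hom (s j)) (pullback.snd g (s j)) ≫ pullback.snd g (s j))
    hsq.isoPullback.hom _ _ _ hY hX
  exact ⟨j'.left, j'.hom ≫ 𝟙 j, isPullback_of_isIso_pbRel D s hs g 𝒟 U b hb j' hj'⟩

end Main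

end Groth.Agent.H77.Spread_F
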