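import Mathlib
import Groth.Agent.H77.Spread_F

/-!
# helper77: (F), amended version with quasi-compactness of `U ×_B D j ⟶ D j` as explicit hypothesis
-/

set_option autoImplicit false
set_option backward.isDefEq.respectTransparency false
set_option backward.isDefEq.respectTransparency.types false
universe u
open CategoryTheory CategoryTheory.Limits AlgebraicGeometry Opposite Desc
open Groth.Agent.H51.DescCrit Groth.Agent.H49 Groth.Agent.H24 Groth.Agent.H68.SubmFpqc
  Groth.Agent.H68.Spread Groth.Agent.H77.Spread_F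

namespace Groth.Agent.H77.Spread_F2

variable {J : Type u} [SmallCategory J] [IsCofiltered J] (D : J ⥤ Scheme.{u})
  [∀ {i j : J} (f : i ⟶ j), IsAffineHom (D.map f)] [∀ i, CompactSpace (D.obj i)]
  [∀ i, QuasiSeparatedSpace (D.obj i)] {B S' : Scheme.{u}}
  (s : ∀ j, D.obj j ⟶ B) (hs : ∀ {j k : J} (a : j ⟶ k), D.map a ≫ s k = s j)
  (g : S' ⟶ B) (𝒟 : SchDDFam (fun _ : PUnit.{1} => g))
  (c : Cone D) (hc : IsLimit c) (sInf : c.pt ⟶ B) (hsInf : ∀ j, c.π.app j ≫ s j = sInf)
  (U : Over B)

include hc in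
/-- (F) -/
theorem exists_stage_sq' [LocallyOfFinitePresentation g] [QuasiCompact g] [QuasiSeparated g]
    [LocallyOfFinitePresentation (𝒟.obj PUnit.unit).hom]
    [QuasiCompact (𝒟.obj PUnit.unit).hom] [QuasiSeparated (𝒟.obj PUnit.unit).hom]
    [LocallyOfFinitePresentation U.hom] [QuasiSeparated U.hom]
    {j : J} (b : (dV D s hs g 𝒟).obj j ⟶ U.left) (hb : b ≫ U.hom = tV D s hs g 𝒟 j)
    (hUqc : ∀ j : J, QuasiCompact (pullback.snd U.hom (s j)))
    (hsq : IsPullback (kinf D s hs g 𝒟 c sInf hsInf U b hb)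
      (pullback.snd (𝒟.obj PUnit.unit).hom (pullback.fst g sInf))
      (pullback.snd U.hom sInf) (pullback.snd g sInf)) :
    ∃ (j' : J) (a : j' ⟶ j), IsPullback (kst D s hs g 𝒟 U b hb a)
      (pullback.snd (𝒟.obj PUnit.unit).hom (pullback.fst g (s j')))
      (pullback.snd U.hom (s j')) (pullback.snd g (s j')) := by
  haveI := hUqc j
  have hfg : th D s hs g 𝒟 U b hb (𝟙 j) ≫
      pullback.snd (pullback.snd U.hom (s j)) (pullback.snd g (s j)) ≫ pullback.snd g (s j) =
      pullback.snd (𝒟.obj PUnit.unit).hom (pullback.fst g (s j)) ≫ pullback.snd g (s j) := by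
    rw [← Category.assoc, th_snd]
  haveI h1 : LocallyOfFinitePresentation (th D s hs g 𝒟 U b hb (𝟙 j) ≫
      pullback.snd (pullback.snd U.hom (s j)) (pullback.snd g (s j)) ≫ pullback.snd g (s j)) := by
    rw [hfg]; infer_instance
  haveI h2 : QuasiCompact (th D s hs g 𝒟 U b hb (𝟙 j) ≫
      pullback.snd (pullback.snd U.hom (s j)) (pullback.snd g (s j)) ≫ pullback.snd g (s j)) := by
    rw [hfg]; infer_instance
  haveI h3 : LocallyOfFiniteType
      (pullback.snd (pullback.snd U.hom (s j)) (pullback.snd g (s j)) ≫ pullback.snd g (s j)) :=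
    inferInstance
  haveI h4 : QuasiCompact
      (pullback.snd (pullback.snd U.hom (s j)) (pullback.snd g (s j)) ≫ pullback.snd g (s j)) :=
    inferInstance
  haveI h5 : QuasiSeparated
      (pullback.snd (pullback.snd U.hom (s j)) (pullback.snd g (s j)) ≫ pullback.snd g (s j)) :=
    inferInstance
  have hf2 : hsq.isoPullback.hom ≫
      pullback.snd (pullback.snd U.hom sInf) (pullback.snd g sInf) =
      pullback.snd (𝒟.obj PUnit.unit).hom (pullback.fst g sInf) := hsq.isoPullback_hom_snd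
  have hf1 : hsq.isoPullback.hom ≫
      pullback.fst (pullback.snd U.hom sInf) (pullback.snd g sInf) =
      kinf D s hs g 𝒟 c sInf hsInf U b hb := hsq.isoPullback_hom_fst
  have hw : (cV D s hs g 𝒟 c sInf hsInf).π.app j ≫ th D s hs g 𝒟 U b hb (𝟙 j) =
      hsq.isoPullback.hom ≫ pmInf D s g c sInf hsInf U j := by
    apply pullback.hom_ext
    · rw [Category.assoc, Category.assoc, th_fst, pmInf_fst, ← Category.assoc hsq.isoPullback.hom,
        hf1, cV_kst]
    · rw [Category.assoc, Category.assoc, th_snd, pmInf_snd, ← Category.assoc hsq.isoPullback.hom,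
        hf2]
      exact cV_snd D s hs g 𝒟 c sInf hsInf j
  have hY : IsPullback (pmInf D s g c sInf hsInf U j)
      (pullback.snd (pullback.snd U.hom sInf) (pullback.snd g sInf) ≫ pullback.snd g sInf)
      (pullback.snd (pullback.snd U.hom (s j)) (pullback.snd g (s j)) ≫ pullback.snd g (s j))
      (c.π.app j) :=
    (isPullback_pmInf D s g c sInf hsInf U j).paste_vert
      (isPullback_bcLift D s g c sInf hsInf _ _ (IsPullback.of_hasPullback g sInf) j)
  have hX : IsPullback ((cV D s hs g 𝒟 c sInf hsInf).π.app j) hsq.isoPullback.hom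
      (th D s hs g 𝒟 U b hb (𝟙 j)) (pmInf D s g c sInf hsInf U j) :=
    isPullback_theta (isPullback_pmInf D s g c sInf hsInf U j)
      (isPullback_bcLift (dS D s hs g) (fun j => pullback.fst g (s j)) (𝒟.obj PUnit.unit).hom
        (cS D s hs g c sInf hsInf) (pullback.fst g sInf)
        (fun j => cS_fst D s hs g c sInf hsInf j) _ _
        (IsPullback.of_hasPullback (𝒟.obj PUnit.unit).hom (pullback.fst g sInf)) j)
      (th_snd D s hs g 𝒟 U b hb (𝟙 j)) hf2 hw
  obtain ⟨j', hj'⟩ := exists_isIso_pbRel D c hc j (th D s hs g 𝒟 U b hb (𝟙 j))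
    (pullback.snd (pullback.snd U.hom (s j)) (pullback.snd g (s j)) ≫ pullback.snd g (s j))
    hsq.isoPullback.hom _ _ _ hY hX
  exact ⟨j'.left, j'.hom ≫ 𝟙 j, isPullback_of_isIso_pbRel D s hs g 𝒟 U b hb j' hj'⟩

end Groth.Agent.H77.Spread_F2
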