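import Mathlib

/-!
# helper77: ring-level / topological helpers for (CS2) (helper38, S0420)
-/

set_option autoImplicit false
universe u
open TensorProduct CategoryTheory Limits

namespace Groth.Agent.H77.ConnCS2a

/-- quotient by an extended ideal is a pushout -/
theorem isPushout_quotient {P R : CommRingCat.{u}} (μ : P ⟶ R) (J : Ideal P) :
    IsPushout μ (CommRingCat.ofHom (Ideal.Quotient.mk J))
      (CommRingCat.ofHom (Ideal.Quotient.mk (J.map μ.hom)))
      (CommRingCat.ofHom (Ideal.quotientMap (J.map μ.hom) μ.hom Ideal.le_comap_map)) := by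
  have hw : μ ≫ CommRingCat.ofHom (Ideal.Quotient.mk (J.map μ.hom)) =
      CommRingCat.ofHom (Ideal.Quotient.mk J) ≫
        CommRingCat.ofHom (Ideal.quotientMap (J.map μ.hom) μ.hom Ideal.le_comap_map) := by
    ext x
    simp
  have hkill : ∀ (s : PushoutCocone μ (CommRingCat.ofHom (Ideal.Quotient.mk J))),
      ∀ a ∈ J.map μ.hom, s.inl.hom a = 0 := by
    intro s
    have h1 : J.map μ.hom ≤ RingHom.ker s.inl.hom := by
      rw [Ideal.map_le_iff_le_comap]
      intro j hj
      show s.inl.hom (μ.hom j) = 0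
      have h2 := congrArg (fun φ => φ.hom j) s.condition
      simp only [CommRingCat.hom_comp, RingHom.coe_comp, Function.comp_apply,
        CommRingCat.hom_ofHom] at h2
      rw [h2, Ideal.Quotient.eq_zero_iff_mem.mpr hj, map_zero]
    exact fun a ha => h1 ha
  refine ⟨⟨hw⟩, ⟨PushoutCocone.IsColimit.mk _
    (fun s => CommRingCat.ofHom (Ideal.Quotient.lift (J.map μ.hom) s.inl.hom (hkill s)))
    ?_ ?_ ?_⟩⟩
  · intro s
    ext x
    simp
  · intro s
    ext x
    have h2 := congrArg (fun φ => φ.hom x) s.condition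
    simp only [CommRingCat.hom_comp, RingHom.coe_comp, Function.comp_apply,
      CommRingCat.hom_ofHom] at h2
    simp [h2]
  · intro s m hm1 hm2
    ext x
    have h2 := congrArg (fun φ => φ.hom x) hm1
    simpa using h2

section Tensor

variable {A : Type u} [CommRing A] {Ω : Type u} [CommRing Ω] [Algebra A Ω]
  (A₁ : Subalgebra A Ω) (B : Type u) [CommRing B] [Algebra A B]

/-- the comparison map `A₁ ⊗ B → Ω ⊗ B` -/
noncomputable abbrev muHom : (A₁ ⊗[A] B) →+* (Ω ⊗[A] B) :=
  (Algebra.TensorProduct.map A₁.val (AlgHom.id A B)).toRingHom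

theorem isPushout_mu :
    IsPushout (CommRingCat.ofHom A₁.val.toRingHom)
      (CommRingCat.ofHom (S := A₁ ⊗[A] B) Algebra.TensorProduct.includeLeftRingHom)
      (CommRingCat.ofHom (S := Ω ⊗[A] B) Algebra.TensorProduct.includeLeftRingHom)
      (CommRingCat.ofHom (muHom A₁ B)) := by
  have t := CommRingCat.isPushout_tensorProduct A A₁ B
  have s0 := CommRingCat.isPushout_tensorProduct A Ω B
  have e1 : CommRingCat.ofHom (algebraMap A Ω) =
      CommRingCat.ofHom (algebraMap A A₁) ≫ CommRingCat.ofHom A₁.val.toRingHom := by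
    ext a
    rfl
  have e2 : CommRingCat.ofHom (S := Ω ⊗[A] B)
      (Algebra.TensorProduct.includeRight : B →ₐ[A] Ω ⊗[A] B).toRingHom =
      CommRingCat.ofHom (S := A₁ ⊗[A] B)
        (Algebra.TensorProduct.includeRight : B →ₐ[A] A₁ ⊗[A] B).toRingHom ≫
      CommRingCat.ofHom (muHom A₁ B) := by
    ext b
    simp [muHom]
  rw [e1, e2] at s0
  refine IsPushout.of_left s0 ?_ t
  ext a
  simp [muHom]

/-- the key pushout square: `Ω ⊗_{A₁} ((A₁ ⊗ B)/J) = (Ω ⊗ B)/J^e`. -/
theorem isPushout_quot_tensor (J : Ideal (A₁ ⊗[A] B)) :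
    IsPushout
      (CommRingCat.ofHom (S := A₁ ⊗[A] B) Algebra.TensorProduct.includeLeftRingHom ≫
        CommRingCat.ofHom (Ideal.Quotient.mk J))
      (CommRingCat.ofHom A₁.val.toRingHom)
      (CommRingCat.ofHom (R := (A₁ ⊗[A] B) ⧸ J) (S := (Ω ⊗[A] B) ⧸ J.map (muHom A₁ B))
        (Ideal.quotientMap (J.map (muHom A₁ B)) (muHom A₁ B) Ideal.le_comap_map))
      (CommRingCat.ofHom (S := Ω ⊗[A] B) Algebra.TensorProduct.includeLeftRingHom ≫
        CommRingCat.ofHom (Ideal.Quotient.mk (J.map (muHom A₁ B)))) :=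
  ((isPushout_mu A₁ B).paste_vert (isPushout_quotient (CommRingCat.ofHom (muHom A₁ B)) J)).flip

end Tensor

/-- spectrum of a quotient is irreducible when the zero locus is. -/
theorem irreducibleSpace_quotient {R : Type u} [CommRing R] (I : Ideal R)
    (h : IsIrreducible (PrimeSpectrum.zeroLocus (I : Set R))) :
    IrreducibleSpace (PrimeSpectrum (R ⧸ I)) := by
  have hemb := PrimeSpectrum.isClosedEmbedding_comap_of_surjective (R ⧸ I)
    (Ideal.Quotient.mk I) Ideal.Quotient.mk_surjective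
  have hr : Set.range (PrimeSpectrum.comap (Ideal.Quotient.mk I)) =
      PrimeSpectrum.zeroLocus (I : Set R) := by
    rw [_root_.range_comap_of_surjective _ _ Ideal.Quotient.mk_surjective, Ideal.mk_ker]
  rw [← hr] at h
  have e := hemb.isEmbedding.toHomeomorph
  rw [e.irreducibleSpace_iff]
  exact isIrreducible_iff_irreducibleSpace.mp h

/-- image of a closed set under an open embedding is relatively closed. -/
theorem exists_closed_inter_range {S Z : Type*} [TopologicalSpace S] [TopologicalSpace Z]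
    (e : S → Z) (he : Topology.IsOpenEmbedding e) (C : Set S) (hC : IsClosed C) :
    IsClosed ((e '' Cᶜ)ᶜ) ∧ e '' C = (e '' Cᶜ)ᶜ ∩ Set.range e := by
  refine ⟨(he.isOpenMap _ hC.isOpen_compl).isClosed_compl, ?_⟩
  ext z
  constructor
  · rintro ⟨y, hy, rfl⟩
    refine ⟨?_, y, rfl⟩
    rintro ⟨y', hy', hyy'⟩
    rw [he.injective hyy'] at hy'
    exact hy' hy
  · rintro ⟨hz, y, rfl⟩
    refine ⟨y, ?_, rfl⟩
    by_contra hy
    exact hz ⟨y, hy, rfl⟩

end Groth.Agent.H77.ConnCS2a
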