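import Mathlib
import Groth.Agent.H38.GeomIrrSpread
import Groth.Agent.H7.GeomRedFibre
import Groth.Agent.H77.ConnCS2a
import Groth.Agent.H2.ConnCALG
import Groth.Agent.H66.ConnGICRIT

/-!
# helper77: (CS2) for helper38 (S0420 / S1463)
-/

set_option autoImplicit false
universe u
open TensorProduct AlgebraicGeometry CategoryTheory Limits TopologicalSpace

namespace Groth.Agent.H77.ConnCS2

open Groth.Agent.H77.ConnCS2a

theorem chart {X Y : Scheme.{u}} (f : X ⟶ Y) [LocallyOfFiniteType f] {W : Y.Opens}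
    (hW : IsAffineOpen W) {U : X.Opens} (hU : IsAffineOpen U) (hUW : U ≤ f ⁻¹ᵁ W)
    {Ω : Type u} [Field Ω] [IsAlgClosed Ω] [Algebra Γ(Y, W) Ω] [Algebra Γ(Y, W) Γ(X, U)]
    (hB : algebraMap Γ(Y, W) Γ(X, U) = (f.appLE W U hUW).hom)
    (A₁ : Subalgebra Γ(Y, W) Ω) (m : ℕ) (J : Fin m → Ideal (A₁ ⊗[Γ(Y, W)] Γ(X, U)))
    (hprod : ∏ k, J k ≤ nilradical (A₁ ⊗[Γ(Y, W)] Γ(X, U)))
    (hirr : ∀ k, IsIrreducible (PrimeSpectrum.zeroLocus
        (((J k).map (Algebra.TensorProduct.map A₁.val (AlgHom.id Γ(Y, W) Γ(X, U))).toRingHom :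
          Ideal (Ω ⊗[Γ(Y, W)] Γ(X, U))) : Set (Ω ⊗[Γ(Y, W)] Γ(X, U))))) :
    ∃ (T : Fin m → Scheme.{u})
      (t : ∀ k, T k ⟶ pullback f
        (Spec.map (CommRingCat.ofHom (algebraMap Γ(Y, W) A₁)) ≫ hW.fromSpec))
      (F : Fin m → Set ↥(pullback f
        (Spec.map (CommRingCat.ofHom (algebraMap Γ(Y, W) A₁)) ≫ hW.fromSpec))),
      (∀ k, IsClosed (F k)) ∧
      (∀ k, Set.range (t k) = F k ∩
        ((pullback.fst f (Spec.map (CommRingCat.ofHom (algebraMap Γ(Y, W) A₁)) ≫ hW.fromSpec)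
            ⁻¹ᵁ U ⊓
          pullback.snd f (Spec.map (CommRingCat.ofHom (algebraMap Γ(Y, W) A₁)) ≫ hW.fromSpec)
            ⁻¹ᵁ ⊤ : Opens _) : Set _)) ∧
      (((pullback.fst f (Spec.map (CommRingCat.ofHom (algebraMap Γ(Y, W) A₁)) ≫ hW.fromSpec)
            ⁻¹ᵁ U ⊓
          pullback.snd f (Spec.map (CommRingCat.ofHom (algebraMap Γ(Y, W) A₁)) ≫ hW.fromSpec)
            ⁻¹ᵁ ⊤ : Opens _) : Set _) ⊆ ⋃ k, Set.range (t k)) ∧
      ∀ k, LocallyOfFiniteType (t k ≫ pullback.snd f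
          (Spec.map (CommRingCat.ofHom (algebraMap Γ(Y, W) A₁)) ≫ hW.fromSpec)) ∧
        QuasiCompact (t k ≫ pullback.snd f
          (Spec.map (CommRingCat.ofHom (algebraMap Γ(Y, W) A₁)) ≫ hW.fromSpec)) ∧
        GeometricallyIrreducible ((t k ≫ pullback.snd f
          (Spec.map (CommRingCat.ofHom (algebraMap Γ(Y, W) A₁)) ≫
            hW.fromSpec)).fiberToSpecResidueField
          (genericPoint ↑(Spec (CommRingCat.of A₁)))) := by
  classical
  set φ : Γ(Y, W) ⟶ CommRingCat.of A₁ := CommRingCat.ofHom (algebraMap Γ(Y, W) A₁) with hφ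
  set q : Spec (CommRingCat.of A₁) ⟶ Y := Spec.map φ ≫ hW.fromSpec with hq
  have hqW : (⊤ : (Spec (CommRingCat.of A₁)).Opens) ≤ q ⁻¹ᵁ W := by
    intro t _
    show q t ∈ W
    have h1 : q t ∈ Set.range hW.fromSpec := by
      rw [hq]
      simp only [Scheme.Hom.comp_apply]
      exact ⟨_, rfl⟩
    rwa [hW.range_fromSpec] at h1
  obtain ⟨hO, hPO⟩ := H7.isPushout_sections_of_isPullback_Spec
    (IsPullback.of_hasPullback f q) hW hU hUW hqW
  have hleg : q.appLE W ⊤ hqW ≫ (Scheme.ΓSpecIso (CommRingCat.of A₁)).hom = φ := by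
    apply Spec.map_injective
    rw [← cancel_mono hW.fromSpec, H7.SpecMap_appLE_top_fromSpec q hW hqW]
  rw [hleg] at hPO
  have hT := CommRingCat.isPushout_tensorProduct Γ(Y, W) A₁ Γ(X, U)
  rw [hB, CommRingCat.ofHom_hom] at hT
  set p₁ := pullback.fst f q with hp₁
  set p₂ := pullback.snd f q with hp₂
  set O : (pullback f q).Opens := p₁ ⁻¹ᵁ U ⊓ p₂ ⁻¹ᵁ ⊤ with hOdef
  set e : CommRingCat.of (A₁ ⊗[Γ(Y, W)] Γ(X, U)) ≅ Γ(pullback f q, O) :=
    hT.isoIsPushout _ _ hPO.flip with he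
  have he_inl' : ((Scheme.ΓSpecIso (CommRingCat.of A₁)).inv ≫ p₂.appLE ⊤ O inf_le_right) ≫
      e.inv = CommRingCat.ofHom (S := A₁ ⊗[Γ(Y, W)] Γ(X, U))
        Algebra.TensorProduct.includeLeftRingHom := hT.inl_isoIsPushout_inv _ _ hPO.flip
  -- the quotient maps
  let mkJ : ∀ k, CommRingCat.of (A₁ ⊗[Γ(Y, W)] Γ(X, U)) ⟶
      CommRingCat.of ((A₁ ⊗[Γ(Y, W)] Γ(X, U)) ⧸ J k) :=
    fun k => CommRingCat.ofHom (Ideal.Quotient.mk (J k))
  let ρ : ∀ k, Γ(pullback f q, O) ⟶ CommRingCat.of ((A₁ ⊗[Γ(Y, W)] Γ(X, U)) ⧸ J k) :=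
    fun k => e.inv ≫ mkJ k
  have hρsurj : ∀ k, Function.Surjective (ρ k).hom := by
    intro k
    have h1 : Function.Surjective e.inv.hom :=
      (ConcreteCategory.bijective_of_isIso e.inv).2
    exact Ideal.Quotient.mk_surjective.comp h1
  haveI hci : ∀ k, IsClosedImmersion (Spec.map (ρ k)) :=
    fun k => IsClosedImmersion.spec_of_surjective (ρ k) (hρsurj k)
  have hfe : Topology.IsOpenEmbedding (hO.fromSpec : _ → ↥(pullback f q)) :=
    hO.fromSpec.isOpenEmbedding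
  have hCcl : ∀ k, IsClosed (Set.range (Spec.map (ρ k))) :=
    fun k => (Spec.map (ρ k)).isClosedEmbedding.isClosed_range
  have hrange : ∀ k, Set.range (Spec.map (ρ k) ≫ hO.fromSpec) =
      (hO.fromSpec : _ → ↥(pullback f q)) '' Set.range (Spec.map (ρ k)) := by
    intro k
    ext z
    constructor
    · rintro ⟨y, rfl⟩
      exact ⟨Spec.map (ρ k) y, ⟨y, rfl⟩, (Scheme.Hom.comp_apply _ _ _).symm⟩
    · rintro ⟨_, ⟨y, rfl⟩, rfl⟩
      exact ⟨y, Scheme.Hom.comp_apply _ _ _⟩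
  refine ⟨fun k => Spec (CommRingCat.of ((A₁ ⊗[Γ(Y, W)] Γ(X, U)) ⧸ J k)),
    fun k => Spec.map (ρ k) ≫ hO.fromSpec,
    fun k => ((hO.fromSpec : _ → ↥(pullback f q)) '' (Set.range (Spec.map (ρ k)))ᶜ)ᶜ,
    fun k => (exists_closed_inter_range _ hfe _ (hCcl k)).1, ?_, ?_, ?_⟩
  · intro k
    rw [hrange k, (exists_closed_inter_range _ hfe _ (hCcl k)).2, hO.range_fromSpec]
  · intro x hx
    have hx' : x ∈ Set.range hO.fromSpec := by rw [hO.range_fromSpec]; exact hx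
    obtain ⟨y, rfl⟩ := hx'
    set 𝔮 : PrimeSpectrum (A₁ ⊗[Γ(Y, W)] Γ(X, U)) := Spec.map e.hom y with h𝔮
    have h1 : ∏ k, J k ≤ 𝔮.asIdeal := hprod.trans (nilradical_le_prime _)
    obtain ⟨k, -, hk⟩ := (Ideal.IsPrime.prod_le 𝔮.isPrime).mp h1
    have h2 : 𝔮 ∈ Set.range (Spec.map (mkJ k)) := by
      show 𝔮 ∈ Set.range (PrimeSpectrum.comap (mkJ k).hom)
      rw [_root_.range_comap_of_surjective _ _
        (show Function.Surjective (mkJ k).hom from Ideal.Quotient.mk_surjective)]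
      show 𝔮 ∈ PrimeSpectrum.zeroLocus (RingHom.ker (Ideal.Quotient.mk (J k)) : Set _)
      rw [Ideal.mk_ker]
      exact hk
    obtain ⟨𝔮', h𝔮'⟩ := h2
    refine Set.mem_iUnion.mpr ⟨k, 𝔮', ?_⟩
    rw [Scheme.Hom.comp_apply]
    congr 1
    have h3 : Spec.map (ρ k) = Spec.map (mkJ k) ≫ Spec.map e.inv := Spec.map_comp _ _
    rw [h3, Scheme.Hom.comp_apply]
    have h4 : Spec.map (mkJ k) 𝔮' = 𝔮 := h𝔮'
    rw [h4, h𝔮, ← Scheme.Hom.comp_apply, ← Spec.map_comp, e.inv_hom_id, Spec.map_id]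
    rfl
  · intro k
    have hd : (Spec.map (ρ k) ≫ hO.fromSpec) ≫ p₂ =
        Spec.map (CommRingCat.ofHom (S := A₁ ⊗[Γ(Y, W)] Γ(X, U))
          Algebra.TensorProduct.includeLeftRingHom ≫
          mkJ k) := by
      rw [Category.assoc,
        ← IsAffineOpen.SpecMap_appLE_fromSpec p₂ (isAffineOpen_top _) hO inf_le_right,
        IsAffineOpen.fromSpec_top, Scheme.isoSpec_Spec_inv, ← Spec.map_comp, ← Spec.map_comp,
        ← he_inl']
      simp only [Category.assoc]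
      rfl
    refine ⟨?_, ?_, ?_⟩
    · haveI h1 : LocallyOfFiniteType (Spec.map (ρ k)) :=
        (HasRingHomProperty.Spec_iff (P := @LocallyOfFiniteType)).mpr
          (RingHom.FiniteType.of_surjective _ (hρsurj k))
      infer_instance
    · haveI : IsAffineHom ((Spec.map (ρ k) ≫ hO.fromSpec) ≫ p₂) := isAffineHom_of_isAffine _
      infer_instance
    · have hpo := isPushout_quot_tensor A₁ Γ(X, U) (J k)
      have hpb := isPullback_SpecMap_of_isPushout _ _ _ _ hpo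
      rw [← hd] at hpb
      haveI : IrreducibleSpace
          ↥(Spec (CommRingCat.of ((Ω ⊗[Γ(Y, W)] Γ(X, U)) ⧸
            (J k).map (muHom A₁ Γ(X, U))))) :=
        irreducibleSpace_quotient _ (hirr k)
      refine Groth.Agent.H66.ConnGICRIT.geometricallyIrreducible_fiber_of_irreducibleSpace_pullback
        ((Spec.map (ρ k) ≫ hO.fromSpec) ≫ p₂) (L := Ω)
        (Spec.map (CommRingCat.ofHom A₁.val.toRingHom)) ?_ _ _ _ hpb
      intro t
      rw [genericPoint_eq_bot_of_affine (CommRingCat.of A₁)]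
      apply PrimeSpectrum.ext
      show Ideal.comap A₁.val.toRingHom t.asIdeal = ⊥
      have ht : t.asIdeal = ⊥ := by
        rcases Ideal.eq_bot_or_top t.asIdeal with h | h
        · exact h
        · exact absurd h t.isPrime.ne_top
      rw [ht]
      exact (RingHom.injective_iff_ker_eq_bot _).mp Subtype.val_injective

/-- (CS2) base change to `Spec A₁` after which the fibres are covered by finitely many relatively
closed pieces with geometrically irreducible generic fibres. -/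
theorem exists_component_cover {X Y : Scheme.{u}} (f : X ⟶ Y) [IrreducibleSpace ↑Y]
    [LocallyOfFiniteType f] [QuasiCompact f] :
    ∃ (W : Y.Opens) (hW : IsAffineOpen W) (A₁ : CommRingCat.{u}) (_ : IsDomain A₁)
      (φ : Γ(Y, W) ⟶ A₁), genericPoint ↑Y ∈ W ∧ φ.hom.FiniteType ∧
      (∀ P : Ideal Γ(Y, W), P.IsPrime → RingHom.ker φ.hom ≤ P) ∧
      ∃ (s N : Type) (_ : Finite s) (_ : Finite N) (ι : N → s)
        (O : s → (pullback f (Spec.map φ ≫ hW.fromSpec)).Opens) (T : N → Scheme.{u})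
        (t : ∀ n, T n ⟶ pullback f (Spec.map φ ≫ hW.fromSpec))
        (F : N → Set ↥(pullback f (Spec.map φ ≫ hW.fromSpec))),
        (⋃ i, (O i : Set ↥(pullback f (Spec.map φ ≫ hW.fromSpec)))) = Set.univ ∧
        (∀ n, IsClosed (F n)) ∧
        (∀ n, Set.range (t n) = F n ∩ (O (ι n) : Set ↥(pullback f (Spec.map φ ≫ hW.fromSpec)))) ∧
        (∀ i, (O i : Set ↥(pullback f (Spec.map φ ≫ hW.fromSpec))) ⊆
          ⋃ n ∈ {n | ι n = i}, Set.range (t n)) ∧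
        ∀ n, LocallyOfFiniteType (t n ≫ pullback.snd f (Spec.map φ ≫ hW.fromSpec)) ∧
          QuasiCompact (t n ≫ pullback.snd f (Spec.map φ ≫ hW.fromSpec)) ∧
          GeometricallyIrreducible
            ((t n ≫ pullback.snd f (Spec.map φ ≫ hW.fromSpec)).fiberToSpecResidueField
              (genericPoint ↑(Spec A₁))) := by
  classical
  set η := genericPoint ↑Y with hη
  obtain ⟨W, hW', hηW, -⟩ := Opens.isBasis_iff_nbhd.mp Y.isBasis_affineOpens (Opens.mem_top η)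
  have hW : IsAffineOpen W := hW'
  have hcomp : IsCompact (f ⁻¹ᵁ W : Set X) :=
    QuasiCompact.isCompact_preimage (f := f) _ W.2 hW.isCompact
  obtain ⟨s, hsfin, hs⟩ :=
    (isCompact_and_isOpen_iff_finite_and_eq_biUnion_affineOpens).mp ⟨hcomp, (f ⁻¹ᵁ W).2⟩
  have hle : ∀ i ∈ s, (i : X.Opens) ≤ f ⁻¹ᵁ W := by
    intro i hi x hx
    have : x ∈ (f ⁻¹ᵁ W : Set X) := by
      rw [hs]
      exact Set.mem_biUnion hi hx
    exact this
  haveI : Finite s := hsfin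
  obtain ⟨k, ⟨eqv⟩⟩ := Finite.exists_equiv_fin s
  let Xo : Fin k → X.affineOpens := fun i => (eqv.symm i).1
  have hXo : ∀ i, ((Xo i).1 : X.Opens) ≤ f ⁻¹ᵁ W := fun i => hle _ (eqv.symm i).2
  -- the geometric generic point
  let Ω := AlgebraicClosure (Y.residueField η)
  let ιΩ : Y.residueField η ⟶ CommRingCat.of Ω :=
    CommRingCat.ofHom (algebraMap (Y.residueField η) Ω)
  let qΩ : Spec (CommRingCat.of Ω) ⟶ Y := Spec.map ιΩ ≫ Y.fromSpecResidueField η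
  have hqΩpt : ∀ t : Spec (CommRingCat.of Ω), qΩ t = η := by
    intro t
    show (Spec.map ιΩ ≫ Y.fromSpecResidueField η) t = η
    rw [Scheme.Hom.comp_apply, Scheme.fromSpecResidueField_apply]
  have hqΩ : (⊤ : (Spec (CommRingCat.of Ω)).Opens) ≤ qΩ ⁻¹ᵁ W := by
    intro t _
    show qΩ t ∈ W
    rw [hqΩpt]
    exact hηW
  let t₀ : Spec (CommRingCat.of Ω) := IsLocalRing.closedPoint Ω
  let ψΩ : Γ(Y, W) ⟶ CommRingCat.of Ω :=
    qΩ.appLE W ⊤ hqΩ ≫ (Scheme.ΓSpecIso (CommRingCat.of Ω)).hom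
  have hker : ∀ P : Ideal Γ(Y, W), P.IsPrime → RingHom.ker ψΩ.hom ≤ P := by
    intro P hP a ha
    by_contra haP
    have h1 : (⟨P, hP⟩ : PrimeSpectrum Γ(Y, W)) ∈ PrimeSpectrum.basicOpen a := haP
    rw [← hW.fromSpec_preimage_basicOpen] at h1
    have h2 : hW.fromSpec (⟨P, hP⟩ : PrimeSpectrum Γ(Y, W)) ∈ Y.basicOpen a := h1
    have h3 : η ∈ Y.basicOpen a :=
      ((genericPoint_spec ↑Y).mem_open_set_iff (Y.basicOpen a).2).mpr ⟨_, Set.mem_univ _, h2⟩
    have h4 : qΩ t₀ ∈ Y.basicOpen a := by rw [hqΩpt]; exact h3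
    exact (Groth.Agent.H38.GeomRedSpread.psi_ne_zero_iff' qΩ hqΩ a t₀).mpr h4 ha
  letI algΩ : Algebra Γ(Y, W) Ω := ψΩ.hom.toAlgebra
  letI algB : ∀ i : Fin k, Algebra Γ(Y, W) Γ(X, (Xo i).1) :=
    fun i => (f.appLE W (Xo i).1 (hXo i)).hom.toAlgebra
  haveI ftB : ∀ i : Fin k, Algebra.FiniteType Γ(Y, W) Γ(X, (Xo i).1) := fun i =>
    HasRingHomProperty.appLE (P := @LocallyOfFiniteType) f inferInstance ⟨W, hW⟩
      ⟨(Xo i).1, (Xo i).2⟩ (hXo i)
  obtain ⟨A₁, hA₁fg, hJ⟩ := Groth.Agent.H2.ConnCALG.exists_fg_subalgebra_components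
    (A := Γ(Y, W)) (Ω := Ω) (s := Fin k) (fun i => Γ(X, (Xo i).1))
  choose m J hprod hirr using hJ
  have hch := fun i => chart f hW (Xo i).2 (hXo i) rfl A₁ (m i) (J i) (hprod i) (hirr i)
  choose T t F hF hrange hcov hprops using hch
  refine ⟨W, hW, CommRingCat.of A₁, inferInstanceAs (IsDomain A₁),
    CommRingCat.ofHom (algebraMap Γ(Y, W) A₁), hηW, ?_, ?_, Fin k, Σ i : Fin k, Fin (m i),
    inferInstance, inferInstance, Sigma.fst,
    fun i => pullback.fst f _ ⁻¹ᵁ (Xo i).1 ⊓ pullback.snd f _ ⁻¹ᵁ ⊤,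
    fun n => T n.1 n.2, fun n => t n.1 n.2, fun n => F n.1 n.2, ?_, fun n => hF n.1 n.2,
    fun n => hrange n.1 n.2, ?_, fun n => hprops n.1 n.2⟩
  · exact RingHom.finiteType_algebraMap.mpr ((Subalgebra.fg_iff_finiteType A₁).mp hA₁fg)
  · intro P hP a ha
    apply hker P hP
    have h1 : algebraMap Γ(Y, W) A₁ a = 0 := ha
    have h2 : ((algebraMap Γ(Y, W) A₁ a : A₁) : Ω) = algebraMap Γ(Y, W) Ω a := rfl
    show algebraMap Γ(Y, W) Ω a = 0
    rw [← h2, h1]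
    rfl
  · rw [Set.eq_univ_iff_forall]
    intro z
    have hz : pullback.fst f (Spec.map (CommRingCat.ofHom (algebraMap Γ(Y, W) A₁)) ≫
        hW.fromSpec) z ∈ (f ⁻¹ᵁ W : Set X) := by
      show f (pullback.fst f _ z) ∈ W
      have h1 := congrArg (fun φ : pullback f (Spec.map (CommRingCat.ofHom
        (algebraMap Γ(Y, W) A₁)) ≫ hW.fromSpec) ⟶ Y => φ z) pullback.condition
      simp only [Scheme.Hom.comp_apply] at h1
      rw [h1]
      have h2 : hW.fromSpec (Spec.map (CommRingCat.ofHom (algebraMap Γ(Y, W) A₁))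
          (pullback.snd f (Spec.map (CommRingCat.ofHom (algebraMap Γ(Y, W) A₁)) ≫
            hW.fromSpec) z)) ∈ Set.range hW.fromSpec := ⟨_, rfl⟩
      rwa [hW.range_fromSpec] at h2
    rw [hs] at hz
    obtain ⟨i, hi, hzi⟩ := Set.mem_iUnion₂.mp hz
    refine Set.mem_iUnion.mpr ⟨eqv ⟨i, hi⟩, ?_, trivial⟩
    show pullback.fst f _ z ∈ ((Xo (eqv ⟨i, hi⟩)).1 : X.Opens)
    have h3 : Xo (eqv ⟨i, hi⟩) = i := by simp [Xo]
    rw [h3]
    exact hzi
  · intro i x hx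
    obtain ⟨k', hk'⟩ := Set.mem_iUnion.mp (hcov i hx)
    exact Set.mem_iUnion₂.mpr ⟨⟨i, k'⟩, rfl, hk'⟩

end Groth.Agent.H77.ConnCS2
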