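import Groth.Agent.H6.TensorQCoh
import Groth.Agent.H28.LpullLoc2
import Groth.Agent.H31.StupidTower
import Groth.Agent.H31.KFlatCycles
import Groth.Agent.H31.KFlatSite
import Groth.Agent.H31.FinFree
import Groth.Agent.H40.FlatBridge
import Groth.Agent.H8.CohKerCoker
import Groth.Agent.H8.TensorQCoh
import Groth.Agent.H22.QCohH1
import Groth.Agent.H22.QCohLimits
import Groth.Agent.H90.QCohHom

/-!
# (Q1) for helper56's S1116 squad: `- ⊗^L D` preserves `D_Coh` for `D` bounded finite free (helper77)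

* `H77.PCQ1.isCoh_of_exact` : `A → B → C` exact, `A`, `C` coherent, `B` quasi-coherent ⇒ `B` coherent
  (locally Noetherian).
* `H77.PCQ1.nonempty_homology_iso` : for `S` concentrated in degree `j` with `F(-, S^j)` exact,
  `H^{p+j}(Tot F(K, S)) ≅ F(H^p K, S^j)`.
* `PC.isCohD_LTensorCx_of_free` : the statement (dévissage along the tower of stupid truncations).
-/

set_option autoImplicit false
set_option backward.isDefEq.respectTransparency false
universe u
open CategoryTheory CategoryTheory.Limits AlgebraicGeometry HomologicalComplex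
  CategoryTheory.Pretriangulated
attribute [local instance] HasDerivedCategory.standard

namespace Groth.Agent.H77.PCQ1

section Conc

variable {C₁ C₂ D : Type*} [Category C₁] [Category C₂] [Category D]
  [Abelian C₁] [Abelian C₂] [Abelian D]
  (F : C₁ ⥤ C₂ ⥤ D) [F.Additive] [∀ X, (F.obj X).Additive]
  [∀ (K₁ : CochainComplex C₁ ℤ) (K₂ : CochainComplex C₂ ℤ),
    HasMapBifunctor K₁ K₂ F (ComplexShape.up ℤ)]

open Groth.Agent.H31.KFlat

theorem isIso_ιMapBifunctor_of_isZero_right (K : CochainComplex C₁ ℤ) (S : CochainComplex C₂ ℤ)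
    (j : ℤ) (hS : ∀ q, q ≠ j → IsZero (S.X q)) (p n : ℤ)
    (h : ComplexShape.π (ComplexShape.up ℤ) (ComplexShape.up ℤ) (ComplexShape.up ℤ) (p, j) = n) :
    IsIso (ιMapBifunctor K S F (ComplexShape.up ℤ) p j n h) := by
  refine isIso_inj_of_isZero ((gr F K S).cofanMapObj pp n)
    ((gr F K S).isColimitCofanMapObj pp n) ⟨(p, j), h⟩ ?_
  rintro ⟨⟨p', q'⟩, hpq'⟩ hne
  have hq : q' ≠ j := by
    rintro rfl
    apply hne
    have h1 : p' + q' = n := hpq'
    have h2 : p + q' = n := h
    have h3 : p' = p := by omega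
    subst h3
    rfl
  exact (F.obj (K.X p')).map_isZero (hS q' hq)

theorem ι_d_of_isZero_right (K : CochainComplex C₁ ℤ) (S : CochainComplex C₂ ℤ)
    (j : ℤ) (hS : ∀ q, q ≠ j → IsZero (S.X q)) (p p' n n' : ℤ) (hp : p + 1 = p')
    (h : ComplexShape.π (ComplexShape.up ℤ) (ComplexShape.up ℤ) (ComplexShape.up ℤ) (p, j) = n)
    (h' : ComplexShape.π (ComplexShape.up ℤ) (ComplexShape.up ℤ) (ComplexShape.up ℤ) (p', j) = n') :
    ιMapBifunctor K S F (ComplexShape.up ℤ) p j n h ≫
        (mapBifunctor K S F (ComplexShape.up ℤ)).d n n' =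
      (F.map (K.d p p')).app (S.X j) ≫ ιMapBifunctor K S F (ComplexShape.up ℤ) p' j n' h' := by
  subst hp
  have h2 : ComplexShape.π (ComplexShape.up ℤ) (ComplexShape.up ℤ) (ComplexShape.up ℤ)
      (p, j + 1) = n' := by
    have h1 : p + 1 + j = n' := h'
    show p + (j + 1) = n'
    omega
  rw [ι_d F K S p j n n' h h' h2]
  have hε : ComplexShape.ε₁ (ComplexShape.up ℤ) (ComplexShape.up ℤ) (ComplexShape.up ℤ)
      (p, j) = 1 := rfl
  have hd : S.d j (j + 1) = 0 := (hS (j + 1) (by omega)).eq_of_tgt _ _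
  rw [hε, one_smul, hd, Functor.map_zero, zero_comp, smul_zero, add_zero]

/-- For `S` concentrated in degree `j` with `F(-, S^j)` exact,
`H^{p+j}(Tot F(K, S)) ≅ F(H^p K, S^j)`. -/
theorem nonempty_homology_iso (K : CochainComplex C₁ ℤ) (S : CochainComplex C₂ ℤ)
    (j : ℤ) (hS : ∀ q, q ≠ j → IsZero (S.X q))
    [PreservesFiniteLimits (F.flip.obj (S.X j))] [PreservesFiniteColimits (F.flip.obj (S.X j))]
    (p n : ℤ) (h : p + j = n) :
    Nonempty ((mapBifunctor K S F (ComplexShape.up ℤ)).homology n ≅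
      (F.flip.obj (S.X j)).obj (K.homology p)) := by
  haveI : (F.flip.obj (S.X j)).Additive := additive_flip_obj F _
  have h1 : ComplexShape.π (ComplexShape.up ℤ) (ComplexShape.up ℤ) (ComplexShape.up ℤ)
      (p - 1, j) = n - 1 := by
    show p - 1 + j = n - 1
    omega
  have h3 : ComplexShape.π (ComplexShape.up ℤ) (ComplexShape.up ℤ) (ComplexShape.up ℤ)
      (p + 1, j) = n + 1 := by
    show p + 1 + j = n + 1
    omega
  have i1 := isIso_ιMapBifunctor_of_isZero_right F K S j hS (p - 1) (n - 1) h1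
  have i2 := isIso_ιMapBifunctor_of_isZero_right F K S j hS p n h
  have i3 := isIso_ιMapBifunctor_of_isZero_right F K S j hS (p + 1) (n + 1) h3
  let e : (K.sc' (p - 1) p (p + 1)).map (F.flip.obj (S.X j)) ≅
      (mapBifunctor K S F (ComplexShape.up ℤ)).sc' (n - 1) n (n + 1) :=
    ShortComplex.isoMk (asIso (ιMapBifunctor K S F (ComplexShape.up ℤ) (p - 1) j (n - 1) h1))
      (asIso (ιMapBifunctor K S F (ComplexShape.up ℤ) p j n h))
      (asIso (ιMapBifunctor K S F (ComplexShape.up ℤ) (p + 1) j (n + 1) h3))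
      (ι_d_of_isZero_right F K S j hS (p - 1) p (n - 1) n (by omega) h1 h)
      (ι_d_of_isZero_right F K S j hS p (p + 1) n (n + 1) rfl h h3)
  exact ⟨(mapBifunctor K S F (ComplexShape.up ℤ)).homologyIsoSc' (n - 1) n (n + 1)
      (by simp) (by simp) ≪≫ (ShortComplex.homologyMapIso e).symm ≪≫
    ShortComplex.mapHomologyIso _ (F.flip.obj (S.X j)) ≪≫
    (F.flip.obj (S.X j)).mapIso (K.homologyIsoSc' (p - 1) p (p + 1) (by simp) (by simp)).symm⟩

end Conc

section Coh

open Groth.Agent.H31 Groth.Agent.H31.Stalk Groth.Agent.H31.KFlat Groth.Agent.H31.PullTensor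
  Groth.Agent.H31.FinFree Groth.Agent.H31.Tower Groth.Agent.H28.LpullLoc

variable {Z : Scheme.{u}}

/-- `A → B → C` exact with `A`, `C` coherent and `B` quasi-coherent: `B` is coherent. -/
theorem isCoh_of_exact [IsLocallyNoetherian Z] (S : ShortComplex Z.Modules) (hS : S.Exact)
    (h1 : Coh.IsCoh S.X₁) (h3 : Coh.IsCoh S.X₃) (h2 : S.X₂.IsQuasicoherent) :
    Coh.IsCoh S.X₂ := by
  haveI : S.X₁.IsQuasicoherent := h1.1
  haveI : S.X₃.IsQuasicoherent := h3.1
  haveI := h2
  haveI : SheafOfModules.IsFiniteType (R := Z.ringCatSheaf) S.X₁ := h1.2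
  haveI hKq : (kernel S.g).IsQuasicoherent :=
    Groth.Agent.H22.QCohLimits.isQuasicoherent_kernel S.g
  haveI hl : Epi (kernel.lift S.g S.f S.zero) := (ShortComplex.exact_iff_epi_kernel_lift S).1 hS
  have hKft : SheafOfModules.IsFiniteType (R := Z.ringCatSheaf) (kernel S.g) :=
    Groth.Agent.H8.isFiniteType_of_epi (kernel.lift S.g S.f S.zero)
  have hK : Coh.IsCoh (kernel S.g) := ⟨hKq, hKft⟩
  refine ⟨h2, ?_⟩
  apply Groth.Agent.H8.isFiniteType_of_forall_affine_finite
  intro U
  haveI : IsNoetherianRing Γ(Z, (U : Z.Opens)) := IsLocallyNoetherian.component_noetherian U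
  haveI : Module.Finite Γ(Z, (U : Z.Opens)) Γ(kernel S.g, (U : Z.Opens)) :=
    Groth.Agent.H8.finite_sections_of_isCoh _ hK U.2
  haveI : Module.Finite Γ(Z, (U : Z.Opens)) Γ(S.X₃, (U : Z.Opens)) :=
    Groth.Agent.H8.finite_sections_of_isCoh _ h3 U.2
  haveI : IsNoetherian Γ(Z, (U : Z.Opens)) Γ(kernel S.g, (U : Z.Opens)) :=
    isNoetherian_of_isNoetherianRing_of_finite _ _
  haveI : IsNoetherian Γ(Z, (U : Z.Opens)) Γ(S.X₃, (U : Z.Opens)) :=
    isNoetherian_of_isNoetherianRing_of_finite _ _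
  let T : ShortComplex Z.Modules := ShortComplex.mk (kernel.ι S.g) S.g (kernel.condition S.g)
  have hT : T.Exact := ShortComplex.exact_of_f_is_kernel _ (kernelIsKernel S.g)
  haveI : Mono T.f := inferInstanceAs (Mono (kernel.ι S.g))
  have hex := Groth.Agent.H8.appₗ_exact T hT (U : Z.Opens)
  haveI : IsNoetherian Γ(Z, (U : Z.Opens)) Γ(S.X₂, (U : Z.Opens)) :=
    isNoetherian_of_range_eq_ker _ _ (LinearMap.exact_iff.1 hex).symm
  infer_instance

theorem ff_of_isZero {M : Z.Modules} (h : IsZero M) : FF M :=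
  ⟨PEmpty, inferInstance, ⟨h.iso (isZero_sigma _ (fun j => j.elim))⟩⟩

/-- `Tot(P ⊗ E)` has coherent cohomology. -/
def Good (P E : CochainComplex Z.Modules ℤ) : Prop :=
  ∀ n : ℤ, Coh.IsCoh (((DCoh.tensorCx.obj P).obj E).homology n)

theorem good_of_iso {P E E' : CochainComplex Z.Modules ℤ} (e : E ≅ E') (h : Good P E) :
    Good P E' := fun n =>
  Groth.Agent.H90.QH.isCoh_of_iso
    ((HomologicalComplex.homologyFunctor _ _ n).mapIso ((DCoh.tensorCx.obj P).mapIso e)) (h n)

theorem isFlat_of_ff {M : Z.Modules} (h : FF M) : ModSite.IsFlat (O := Z.sheaf) M :=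
  Groth.Agent.H40.FlatBridge.isFlat_of_stalkFlat (X := Z) M
    (isFlat_of_isFinLocFree h.isFinLocFree)

theorem isCoh_of_ff {M : Z.Modules} (h : FF M) : Coh.IsCoh M :=
  Groth.Agent.H90.QH.isCoh_of_isFinLocFree h.isFinLocFree

theorem good_of_conc [IsLocallyNoetherian Z] (P : CochainComplex Z.Modules ℤ)
    (hP : ∀ i, Coh.IsCoh (P.homology i)) (E : CochainComplex Z.Modules ℤ) (j : ℤ)
    (hz : ∀ q, q ≠ j → IsZero (E.X q)) (hf : FF (E.X j)) : Good P E := by
  intro n
  have hfl := isFlat_of_ff hf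
  haveI : PreservesFiniteLimits ((DCoh.tensorBi (X := Z)).flip.obj (E.X j)) := hfl.1
  haveI : PreservesFiniteColimits ((DCoh.tensorBi (X := Z)).flip.obj (E.X j)) := hfl.2
  obtain ⟨e⟩ := nonempty_homology_iso (DCoh.tensorBi (X := Z)) P E j hz (n - j) n (by omega)
  refine Groth.Agent.H90.QH.isCoh_of_iso e.symm ?_
  have h1 := hP (n - j)
  have h2 : Coh.IsCoh (E.X j) := isCoh_of_ff hf
  haveI := h1.1
  haveI := h2.1
  haveI : SheafOfModules.IsFiniteType (R := Z.ringCatSheaf) (P.homology (n - j)) := h1.2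
  haveI : SheafOfModules.IsFiniteType (R := Z.ringCatSheaf) (E.X j) := h2.2
  show Coh.IsCoh (CohB1.tensorMod (P.homology (n - j)) (E.X j))
  exact ⟨inferInstance, Groth.Agent.H8.isFiniteType_tensorMod _ _⟩

theorem good_of_ses [IsLocallyNoetherian Z] (P : CochainComplex Z.Modules ℤ)
    (S : ShortComplex (CochainComplex Z.Modules ℤ)) (hS : S.ShortExact)
    (h3f : ∀ n : ℤ, FF (S.X₃.X n)) (h1 : Good P S.X₁) (h3 : Good P S.X₃)
    (hq : ∀ n, (((DCoh.tensorCx.obj P).obj S.X₂).homology n).IsQuasicoherent) :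
    Good P S.X₂ := by
  intro n
  have hT : (S.map ((DCoh.tensorCx (X := Z)).obj P)).ShortExact :=
    shortExact_tensor_of_flat (O := Z.sheaf) S hS (fun n => isFlat_of_ff (h3f n)) P
  exact isCoh_of_exact _ (hT.homology_exact₂ n) (h1 n) (h3 n) (hq n)

theorem qc_tot (P : CochainComplex Z.Modules ℤ) (hP : ∀ i, Coh.IsCoh (P.homology i))
    (F : CochainComplex Z.Modules ℤ) (b : ℤ) (hb : ∀ q, b < q → IsZero (F.X q))
    (hF : ∀ q, FF (F.X q)) (n : ℤ) :
    (((DCoh.tensorCx.obj P).obj F).homology n).IsQuasicoherent :=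
  Groth.Agent.H6.TensorQCoh.qc_tensorCx P F
    (Groth.Agent.H40.TorAmp.isKFlat_of_bounded_above_stalkFlat F b hb
      (fun q => isFlat_of_isFinLocFree (hF q).isFinLocFree))
    (fun i => (hP i).1)
    (fun i => Groth.Agent.H90.QH.isQCoh_homology F i
      (fun q => Groth.Agent.H8.isQuasicoherent_of_isFinLocFree _ (hF q).isFinLocFree)) n

theorem good_of_bounded [IsLocallyNoetherian Z] (P : CochainComplex Z.Modules ℤ)
    (hP : ∀ i, Coh.IsCoh (P.homology i)) (K : CochainComplex Z.Modules ℤ) (a b : ℤ)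
    (hK : DCoh.VanishesOutside K a b) (hff : ∀ q, FF (K.X q)) : Good P K := by
  have hb : ∀ q, b < q → IsZero (K.X q) := fun q hq => hK q (Or.inr hq)
  have hterm : ∀ (m : ℕ) (q : ℤ), FF (((tower K b).obj m).X q) := by
    intro m q
    by_cases h : Pm b m q
    · exact FF.of_iso (towerXIso K b m q h).symm (hff q)
    · exact ff_of_isZero (isZero_tower_X K b m q h)
  have hbm : ∀ (m : ℕ) (q : ℤ), b < q → IsZero (((tower K b).obj m).X q) := by
    intro m q hq
    by_cases h : Pm b m q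
    · exact IsZero.of_iso (hb q hq) (towerXIso K b m q h)
    · exact isZero_tower_X K b m q h
  have hall : ∀ m : ℕ, Good P ((tower K b).obj m) := by
    intro m
    induction m with
    | zero => exact good_of_conc P hP _ b (isZero_tower_zero_X K b hb) (hterm 0 b)
    | succ m ih =>
      have hQz := isZero_towerSC_X₃_X K b m
      have hQff : ∀ q, FF ((towerSC K b m).X₃.X q) := by
        intro q
        by_cases hq : q = b - m - 1
        · subst hq
          exact FF.of_iso (towerSCX₃Iso K b m).symm (hff _)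
        · exact ff_of_isZero (hQz q hq)
      have hQ : Good P (towerSC K b m).X₃ := good_of_conc P hP _ (b - m - 1) hQz (hQff _)
      exact good_of_ses P (towerSC K b m) (towerSC_shortExact K b m) hQff ih hQ
        (qc_tot P hP _ b (hbm (m + 1)) (hterm (m + 1)))
  obtain ⟨N, hN⟩ : ∃ N : ℕ, b - N ≤ a := ⟨(b - a).toNat, by omega⟩
  have hiso : IsIso (σι K (Pm_up b N)) := by
    haveI : ∀ q, IsIso ((σι K (Pm_up b N)).f q) := by
      intro q
      by_cases h : Pm b N q
      · exact isIso_ι K h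
      · have hq : q < a := by
          unfold Pm at h
          omega
        have h1 : IsZero (kernel (e K (Pm b N) q)) := isZero_kernel K h
        have h2 : IsZero (K.X q) := hK q (Or.inl hq)
        exact ⟨⟨0, h1.eq_of_src _ _, h2.eq_of_src _ _⟩⟩
    exact HomologicalComplex.Hom.isIso_of_components _
  exact good_of_iso (asIso (σι K (Pm_up b N))) (hall N)

end Coh

end Groth.Agent.H77.PCQ1

namespace Groth.Agent.PC

open Groth.Agent.H31.FinFree Groth.Agent.H31.PullTensor

/-- **(Q1)** `- ⊗^L D` preserves `D_Coh` when `D` is a bounded complex of finite free modules. -/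
theorem isCohD_LTensorCx_of_free {Z : Scheme.{u}} [IsLocallyNoetherian Z]
    (D : CochainComplex Z.Modules ℤ) (a b : ℤ) (hD : DCoh.VanishesOutside D a b)
    (hfree : ∀ i : ℤ, ∃ n : ℕ, Nonempty (D.X i ≅ FlatMod.freeMod Z n)) [DCoh.HasLTensorCx D]
    (G : DCoh.D Z) (hG : DCoh.IsCohD G) : DCoh.IsCohD ((DCoh.LTensorCx D).obj G) := by
  have hff : ∀ q, FF (D.X q) := fun q => by
    obtain ⟨n, ⟨e⟩⟩ := hfree q
    exact FF.of_freeMod e
  have hKF : DCoh.IsKFlat D :=
    Groth.Agent.H40.TorAmp.isKFlat_of_bounded_above_stalkFlat D b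
      (fun q hq => hD q (Or.inr hq))
      (fun q => Groth.Agent.H28.LpullLoc.isFlat_of_isFinLocFree (hff q).isFinLocFree)
  let P := DerivedCategory.Q.objPreimage G
  let eP : DerivedCategory.Q.obj P ≅ G := DerivedCategory.Q.objObjPreimageIso G
  have hP : ∀ i, Coh.IsCoh (P.homology i) := fun i =>
    Groth.Agent.H90.QH.isCoh_of_iso ((DerivedCategory.homologyFunctor _ i).mapIso eP.symm ≪≫
      (DerivedCategory.homologyFunctorFactors _ i).app P) (hG i)
  have e : DerivedCategory.Q.obj ((DCoh.tensorCx.obj P).obj D) ≅ (DCoh.LTensorCx D).obj G :=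
    (LTensorCxObjIso D hKF P).symm ≪≫ (DCoh.LTensorCx D).mapIso eP
  have h := Groth.Agent.H77.PCQ1.good_of_bounded P hP D a b hD hff
  intro i
  exact Groth.Agent.H90.QH.isCoh_of_iso
    (((DerivedCategory.homologyFunctorFactors _ i).app _).symm ≪≫
      (DerivedCategory.homologyFunctor _ i).mapIso e) (h i)

end Groth.Agent.PC
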