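import Mathlib
import Groth.Prelude
/-! (GL2) for helper63's S13951 squad: morphisms to a separated `S`-scheme from a reduced scheme
agreeing on all residue field points are equal (Mathlib's `ext_of_fromSpecResidueField_eq`). -/
set_option autoImplicit false
universe u
open CategoryTheory CategoryTheory.Limits MonoidalCategory CartesianMonoidalCategory MonObj GrpObj AlgebraicGeometry

namespace Groth.Agent.H77.InfGrp_GL2

theorem eq_of_forall_residueField {X Y S : Scheme.{u}} (f g : X ⟶ Y) (p : Y ⟶ S) [IsSeparated p]
    [IsReduced X] (hfg : f ≫ p = g ≫ p)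
    (h : ∀ x : X, X.fromSpecResidueField x ≫ f = X.fromSpecResidueField x ≫ g) : f = g :=
  ext_of_fromSpecResidueField_eq f g p Set.univ dense_univ (fun x _ => h x) hfg

end Groth.Agent.H77.InfGrp_GL2
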