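import Mathlib
set_option autoImplicit false
universe u
open AlgebraicGeometry CategoryTheory CategoryTheory.Limits TensorProduct

namespace Groth.Agent.H77.PerfDescR3

/-- The `p^N`-power ring endomorphism of a commutative ring in which `p = 0`
(no `CharP`/`ExpChar` instance needed, so the zero ring is allowed). -/
def ppow (R : Type u) [CommRing R] (p : ℕ) (hp : p.Prime) (h : (p : R) = 0) (N : ℕ) : R →+* R where
  toFun x := x ^ p ^ N
  map_one' := one_pow _
  map_mul' x y := mul_pow _ _ _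
  map_zero' := zero_pow (pow_pos hp.pos N).ne'
  map_add' x y := by
    obtain ⟨r, hr⟩ := exists_add_pow_prime_pow_eq hp x y N
    rw [hr, h]; ring

@[simp] lemma ppow_apply (R : Type u) [CommRing R] (p : ℕ) (hp : p.Prime) (h : (p : R) = 0)
    (N : ℕ) (x : R) : ppow R p hp h N x = x ^ p ^ N := rfl

/-- The statement (R2) of helper69's request, as a `Prop` (so that this file does not depend
on the file proving it). -/
def R2Statement : Prop :=
  ∀ (p : ℕ) [Fact p.Prime] {A C : CommRingCat.{u}} (χ : A ⟶ C)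
    (_ : χ.hom.Etale) (_ : (p : A) = 0) (N : ℕ) (FA : A ⟶ A) (FC : C ⟶ C)
    (_ : ∀ x, FA.hom x = x ^ p ^ N) (_ : ∀ x, FC.hom x = x ^ p ^ N),
    IsPushout FA χ χ FC

theorem exists_descent_ring_of (hR2 : R2Statement.{u}) (p : ℕ) [Fact p.Prime]
    {B A' C : CommRingCat.{u}} (φ : B ⟶ A')
    (χ : A' ⟶ C) (hB : (p : B) = 0) (hff : φ.hom.FaithfullyFlat)
    (hφ : ∀ a : A', ∃ (n : ℕ) (b : B), φ.hom b = a ^ p ^ n)
    (hχ : χ.hom.Etale) (hfin : χ.hom.Finite) :
    ∃ (D : CommRingCat.{u}) (δ : B ⟶ D) (γ : D ⟶ C),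
      IsPushout φ δ χ γ ∧ δ.hom.Etale ∧ δ.hom.Finite := by
  have hp : p.Prime := Fact.out
  have hA' : (p : A') = 0 := by
    have := congrArg φ.hom hB
    simpa using this
  have hinj : Function.Injective φ.hom := hff.injective
  algebraize [φ.hom, χ.hom, (χ.hom.comp φ.hom)]
  obtain ⟨A₀, C₀, _, _, hfg, hEt, ⟨e⟩⟩ := Algebra.Etale.exists_subalgebra_fg B A' C
  -- uniform exponent
  obtain ⟨s, hs⟩ := hfg
  choose n b hb using hφ
  let N := s.sup n
  have hgen : ∀ a ∈ s, ∃ b' : B, φ.hom b' = a ^ p ^ N := by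
    intro a ha
    have hle : n a ≤ N := Finset.le_sup ha
    refine ⟨(b a) ^ p ^ (N - n a), ?_⟩
    rw [map_pow, hb, ← pow_mul, ← pow_add, Nat.add_sub_cancel' hle]
  have hall : ∀ x ∈ A₀, ∃ b' : B, φ.hom b' = x ^ p ^ N := by
    intro x hx
    rw [← hs] at hx
    induction hx using Algebra.adjoin_induction with
    | mem x hx => exact hgen x hx
    | algebraMap r => exact ⟨r ^ p ^ N, by rw [map_pow]; rfl⟩
    | add x y _ _ hx hy =>
      obtain ⟨bx, hbx⟩ := hx
      obtain ⟨by', hby⟩ := hy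
      exact ⟨bx + by', by
        rw [map_add, hbx, hby]; exact ((ppow A' p hp hA' N).map_add x y).symm⟩
    | mul x y _ _ hx hy =>
      obtain ⟨bx, hbx⟩ := hx
      obtain ⟨by', hby⟩ := hy
      exact ⟨bx * by', by rw [map_mul, hbx, hby, mul_pow]⟩
  choose g hg using (fun x : A₀ => hall x x.2)
  let ψ : A₀ →+* B :=
    { toFun := g
      map_one' := hinj (by rw [hg, map_one]; simp)
      map_mul' := fun x y => hinj (by rw [hg, map_mul, hg, hg]; simp [mul_pow])
      map_zero' := hinj (by rw [hg, map_zero]; simp [hp.pos.ne'])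
      map_add' := fun x y => hinj (by
        rw [hg, map_add, hg, hg]; exact (ppow A' p hp hA' N).map_add x y) }
  have hψ : ∀ x : A₀, φ.hom (ψ x) = (x : A') ^ p ^ N := hg
  -- the categorical squares
  let A₀c : CommRingCat.{u} := CommRingCat.of A₀
  let C₀c : CommRingCat.{u} := CommRingCat.of C₀
  let ι₀ : A₀c ⟶ A' := CommRingCat.ofHom (algebraMap A₀ A')
  let σ : A₀c ⟶ C₀c := CommRingCat.ofHom (algebraMap A₀ C₀)
  let ρ : C₀c ⟶ C := CommRingCat.ofHom
    ((e.symm : A' ⊗[A₀] C₀ →+* C).comp Algebra.TensorProduct.includeRight.toRingHom)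
  let ψc : A₀c ⟶ B := CommRingCat.ofHom ψ
  let FA : A' ⟶ A' := CommRingCat.ofHom (ppow A' p hp hA' N)
  have hC : (p : C) = 0 := by
    have := congrArg χ.hom hA'
    simpa using this
  let FC : C ⟶ C := CommRingCat.ofHom (ppow C p hp hC N)
  have S1 : IsPushout ι₀ σ χ ρ := by
    have h0 := CommRingCat.isPushout_tensorProduct A₀ A' C₀
    refine h0.of_iso (Iso.refl _) (Iso.refl _) (Iso.refl _)
      (e.symm.toRingEquiv.toCommRingCatIso) ?_ ?_ ?_ ?_
    · rfl
    · rfl
    · ext x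
      have h1 := e.symm.commutes x
      rw [Algebra.TensorProduct.algebraMap_apply] at h1
      exact h1
    · ext x
      simp [ρ]
  have S2 : IsPushout FA χ χ FC := hR2 p χ hχ hA' N FA FC (fun _ => rfl) (fun _ => rfl)
  have S12 : IsPushout (ι₀ ≫ FA) σ χ (ρ ≫ FC) := S1.paste_horiz S2
  have hψφ : ι₀ ≫ FA = ψc ≫ φ := by
    ext x
    exact (hψ x).symm
  rw [hψφ] at S12
  have w : ψc ≫ φ ≫ χ = σ ≫ ρ ≫ FC := by
    have := S12.w
    simpa [Category.assoc] using this
  let D : CommRingCat.{u} := pushout ψc σ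
  let δ : B ⟶ D := pushout.inl ψc σ
  let γ : D ⟶ C := pushout.desc (φ ≫ χ) (ρ ≫ FC) w
  have hγ : pushout.inr ψc σ ≫ γ = ρ ≫ FC := pushout.inr_desc _ _ _
  have hδγ : φ ≫ χ = δ ≫ γ := (pushout.inl_desc _ _ _).symm
  rw [← hγ] at S12
  have hPO : IsPushout φ δ χ γ := IsPushout.of_left S12 hδγ (IsPushout.of_hasPushout ψc σ)
  refine ⟨D, δ, γ, hPO, ?_, ?_⟩
  · exact RingHom.Etale.isStableUnderBaseChange.pushout_inl RingHom.Etale.respectsIso ψc σ
      (RingHom.etale_algebraMap.mpr hEt)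
  · letI : Algebra B D := δ.hom.toAlgebra
    letI : Algebra D C := γ.hom.toAlgebra
    haveI : IsScalarTower B D C :=
      .of_algebraMap_eq fun x => congr($(hPO.w).hom x)
    have hAP : Algebra.IsPushout B A' D C :=
      CommRingCat.isPushout_iff_isPushout.mp hPO
    haveI := hAP.symm
    exact RingHom.Finite.codescendsAlong_faithfullyFlat hff hfin

end Groth.Agent.H77.PerfDescR3
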