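-- helper77: basic API for the Prelude structure WeilCoh.TheoryOn
import Groth.Prelude.Def_WeilCoh

set_option autoImplicit false
universe u v w

namespace Groth.Agent.H77

open AlgebraicGeometry CategoryTheory TensorProduct WeilCoh

variable {k : Type u} [Field k] {P : ObjectProperty (Over (Spec (CommRingCat.of k)))}
variable {K : Type v} [Field K] (T : TheoryOn.{u, v, w} k P K)

theorem pairing_apply {A : Type w} [Ring A] [Algebra K A] (S S' : Submodule K A) (t : A →ₗ[K] K)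
    (a : S) (b : S') : pairing K S S' t a b = t ((a : A) * (b : A)) := rfl

/-- Nondegeneracy of the Poincaré pairing on the left. -/
theorem eq_of_forall_tr_mul_eq (X : P.FullSubcategory) (i j : ℤ)
    (hij : i + j = 2 * (dim X.obj.left : ℤ)) (x y : T.gr X i)
    (h : ∀ b : T.gr X j, T.tr X ((x : T.H X) * (b : T.H X)) = T.tr X ((y : T.H X) * (b : T.H X))) :
    x = y := by
  have hp := T.duality X i j hij
  apply hp.bijective_left.1
  ext b
  exact h b

/-- The defining property of the push-forward. -/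
theorem tr_push_mul {X Y : P.FullSubcategory} (f : X ⟶ Y) (i : ℤ) (a : T.gr X i)
    (b : T.gr Y (2 * (dim X.obj.left : ℤ) - i)) :
    T.tr Y ((T.push f i a : T.H Y) * (b : T.H Y)) = T.tr X ((a : T.H X) * T.pull f (b : T.H Y)) := by
  haveI := T.duality Y (i + 2 * (dim Y.obj.left : ℤ) - 2 * (dim X.obj.left : ℤ))
    (2 * (dim X.obj.left : ℤ) - i) (by omega)
  have h1 : (pairing K (T.gr Y (i + 2 * (dim Y.obj.left : ℤ) - 2 * (dim X.obj.left : ℤ)))
      (T.gr Y (2 * (dim X.obj.left : ℤ) - i)) (T.tr Y)) (T.push f i a) = T.pushFunctional f i a := by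
    unfold TheoryOn.push
    simp only [LinearMap.comp_apply, LinearEquiv.coe_coe]
    exact LinearMap.apply_symm_toPerfPair_self _ _
  have h2 := congrArg (fun φ => φ b) h1
  exact h2

theorem eq_of_forall_tr_mul_eq' (X : P.FullSubcategory) (i j : ℤ)
    (hij : i + j = 2 * (dim X.obj.left : ℤ)) (x y : T.H X) (hx : x ∈ T.gr X i) (hy : y ∈ T.gr X i)
    (h : ∀ b ∈ T.gr X j, T.tr X (x * b) = T.tr X (y * b)) : x = y :=
  congrArg Subtype.val
    (eq_of_forall_tr_mul_eq T X i j hij ⟨x, hx⟩ ⟨y, hy⟩ (fun b => h b.1 b.2))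

theorem tr_push_mul' {X Y : P.FullSubcategory} (f : X ⟶ Y) (i : ℤ) (a : T.gr X i)
    (b : T.H Y) (j : ℤ) (hj : j = 2 * (dim X.obj.left : ℤ) - i) (hb : b ∈ T.gr Y j) :
    T.tr Y ((T.push f i a : T.H Y) * b) = T.tr X ((a : T.H X) * T.pull f b) := by
  subst hj
  exact tr_push_mul T f i a ⟨b, hb⟩

theorem mem_gr_of_eq (X : P.FullSubcategory) {i j : ℤ} (h : i = j) {x : T.H X}
    (hx : x ∈ T.gr X i) : x ∈ T.gr X j := h ▸ hx

theorem exists_tr_eq_one (X : P.FullSubcategory) :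
    ∃ a : T.H X, a ∈ T.gr X (2 * (dim X.obj.left : ℤ)) ∧ T.tr X a = 1 := by
  obtain ⟨a, ha⟩ := (T.tr_bijective X).2 1
  exact ⟨a.1, a.2, ha⟩

include T in
theorem dim_eq_add_of_isProd {X Y Q : P.FullSubcategory} (p : Q ⟶ X) (q : Q ⟶ Y)
    (h : IsProd p q) : dim Q.obj.left = dim X.obj.left + dim Y.obj.left := by
  obtain ⟨a, ha, ha1⟩ := exists_tr_eq_one T X
  obtain ⟨b, hb, hb1⟩ := exists_tr_eq_one T Y
  have h1 := T.tr_prod p q h a b ha hb
  rw [ha1, hb1, mul_one] at h1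
  have hmem : T.pull p a * T.pull q b ∈
      T.gr Q (2 * (dim X.obj.left : ℤ) + 2 * (dim Y.obj.left : ℤ)) :=
    SetLike.mul_mem_graded (T.pull_mem p _ a ha) (T.pull_mem q _ b hb)
  by_contra hne
  have h2 := T.tr_vanish Q _ _ hmem (by omega)
  rw [h1] at h2
  exact one_ne_zero h2

theorem eq_zero_of_mem_gr (X : P.FullSubcategory) (i : ℤ)
    (hi : i < 0 ∨ 2 * (dim X.obj.left : ℤ) < i) (x : T.H X) (hx : x ∈ T.gr X i) : x = 0 := by
  have h := T.vanish X i hi
  rw [h] at hx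
  exact (Submodule.mem_bot K).1 hx

end Groth.Agent.H77
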