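-- helper77: geometric input for the Prelude structure WeilCoh.TheoryOn on `WeilCoh.Var k`
import Groth.Prelude.Def_WeilCoh
import Groth.Agent.H77.Weil
import Mathlib.AlgebraicGeometry.AlgClosed.Basic
import Mathlib.AlgebraicGeometry.ProjectiveSpectrum.Proper
import Mathlib.AlgebraicGeometry.Morphisms.UnderlyingMap
import Mathlib.AlgebraicGeometry.PullbackCarrier

set_option autoImplicit false
set_option linter.style.haveILetI false
universe u v w

namespace Groth.Agent.H77

open AlgebraicGeometry CategoryTheory CategoryTheory.Limits WeilCoh HomogeneousLocalization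

/-! ### A section of projective space (after helper18's `ProjSpaceSection`) -/
section ProjSection
variable (n : ℕ) (R : Type u) [CommRing R]

/-- Evaluation of polynomials at the point `(1 : 0 : ⋯ : 0)`. -/
noncomputable def evalPt : MvPolynomial (Fin (n + 1)) R →+* R :=
  MvPolynomial.eval (fun i => if i = 0 then 1 else 0)

theorem evalPt_X0 : evalPt n R (MvPolynomial.X 0) = 1 := by
  simp [evalPt]

theorem evalPt_C (r : R) : evalPt n R (MvPolynomial.C r) = r := by
  simp [evalPt]

/-- The ring map from the degree-zero localization away from `X 0` to `R`. -/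
noncomputable def awayEval :
    Away (CohB1.polyGrading n R) (MvPolynomial.X 0 : MvPolynomial (Fin (n + 1)) R) →+* R :=
  (IsLocalization.Away.lift (MvPolynomial.X 0 : MvPolynomial (Fin (n + 1)) R)
    (g := evalPt n R) (by rw [evalPt_X0]; exact isUnit_one)).comp
    (algebraMap (Away (CohB1.polyGrading n R) (MvPolynomial.X 0 : MvPolynomial (Fin (n + 1)) R))
      (Localization.Away (MvPolynomial.X 0 : MvPolynomial (Fin (n + 1)) R)))

theorem X0_mem : (MvPolynomial.X 0 : MvPolynomial (Fin (n + 1)) R) ∈ CohB1.polyGrading n R 1 :=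
  MvPolynomial.isHomogeneous_X R 0

theorem awayEval_comp :
    (awayEval n R).comp ((fromZeroRingHom (CohB1.polyGrading n R) _).comp
      (algebraMap R (CohB1.polyGrading n R 0))) = RingHom.id R := by
  ext r
  simp only [awayEval, RingHom.comp_apply, RingHom.id_apply]
  have h1 : (algebraMap (Away (CohB1.polyGrading n R) (MvPolynomial.X 0 : MvPolynomial (Fin (n + 1)) R))
      (Localization.Away (MvPolynomial.X 0 : MvPolynomial (Fin (n + 1)) R)))
      (fromZeroRingHom (CohB1.polyGrading n R) _ (algebraMap R (CohB1.polyGrading n R 0) r)) =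
      algebraMap (MvPolynomial (Fin (n + 1)) R) _ (MvPolynomial.C r) := by
    rw [HomogeneousLocalization.algebraMap_apply]
    rfl
  rw [h1, IsLocalization.Away.lift_eq, evalPt_C]

theorem exists_section_aux :
    ∃ s : Spec (CommRingCat.of R) ⟶ Proj (CohB1.polyGrading n R),
      s ≫ (Proj.toSpecZero (CohB1.polyGrading n R) ≫
        Spec.map (CommRingCat.ofHom (algebraMap R (CohB1.polyGrading n R 0)))) = 𝟙 _ := by
  refine ⟨Spec.map (CommRingCat.ofHom (awayEval n R)) ≫
    Proj.awayι (CohB1.polyGrading n R) _ (X0_mem n R) Nat.one_pos, ?_⟩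
  rw [Category.assoc, Proj.awayι_toSpecZero_assoc, ← Spec.map_comp,
    ← Spec.map_comp, ← CommRingCat.ofHom_comp, ← CommRingCat.ofHom_comp]
  rw [show (awayEval n R).comp ((fromZeroRingHom (CohB1.polyGrading n R) _).comp
      (algebraMap R (CohB1.polyGrading n R 0))) = RingHom.id R from awayEval_comp n R]
  exact Spec.map_id _

/-- The structure morphism of projective space has a section. -/
theorem exists_section_projSpace_toSpec :
    ∃ s : Spec (CommRingCat.of R) ⟶ CohB1.ProjSpace n R, s ≫ CohB1.ProjSpace.toSpec n R = 𝟙 _ :=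
  exists_section_aux n R

instance isScalarTower_polyGrading :
    IsScalarTower R (CohB1.polyGrading n R 0) (MvPolynomial (Fin (n + 1)) R) :=
  IsScalarTower.of_algebraMap_eq (R := R) (S := ↥(CohB1.polyGrading n R 0))
    (A := MvPolynomial (Fin (n + 1)) R) (fun _ => rfl)

instance finiteType_polyGrading :
    Algebra.FiniteType (CohB1.polyGrading n R 0) (MvPolynomial (Fin (n + 1)) R) :=
  Algebra.FiniteType.of_restrictScalars_finiteType R _ _

instance isSeparated_projSpace_toSpec : IsSeparated (CohB1.ProjSpace.toSpec n R) :=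
  inferInstanceAs (IsSeparated (Proj.toSpecZero (CohB1.polyGrading n R) ≫
    Spec.map (CommRingCat.ofHom (algebraMap R (CohB1.polyGrading n R 0)))))

instance quasiCompact_projSpace_toSpec : QuasiCompact (CohB1.ProjSpace.toSpec n R) :=
  inferInstanceAs (QuasiCompact (Proj.toSpecZero (CohB1.polyGrading n R) ≫
    Spec.map (CommRingCat.ofHom (algebraMap R (CohB1.polyGrading n R 0)))))

instance isSeparated_toBase (S : Scheme.{u}) : IsSeparated (CohB1.ProjSpaceOver.toBase n S) :=
  inferInstanceAs (IsSeparated (pullback.snd (CohB1.ProjSpace.toSpec n (ULift.{u} ℤ))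
    (specULiftZIsTerminal.from S)))

instance quasiCompact_toBase (S : Scheme.{u}) : QuasiCompact (CohB1.ProjSpaceOver.toBase n S) :=
  inferInstanceAs (QuasiCompact (pullback.snd (CohB1.ProjSpace.toSpec n (ULift.{u} ℤ))
    (specULiftZIsTerminal.from S)))

theorem exists_section_toBase (S : Scheme.{u}) :
    ∃ s : S ⟶ CohB1.ProjSpaceOver n S, s ≫ CohB1.ProjSpaceOver.toBase n S = 𝟙 _ := by
  obtain ⟨s, hs⟩ := exists_section_projSpace_toSpec n (ULift.{u} ℤ)
  refine ⟨pullback.lift (specULiftZIsTerminal.from S ≫ s) (𝟙 _) ?_, ?_⟩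
  · rw [Category.assoc, hs, Category.comp_id, Category.id_comp]
  · unfold CohB1.ProjSpaceOver.toBase
    exact pullback.lift_snd _ _ _

end ProjSection

/-! ### Dimensions -/
section Dim

theorem natDim_eq_of_homeomorph {S T : Type u} [TopologicalSpace S] [TopologicalSpace T]
    (e : S ≃ₜ T) : natDim S = natDim T := by
  unfold natDim
  rw [IsHomeomorph.topologicalKrullDim_eq e e.isHomeomorph]

theorem natDim_eq_zero_of_subsingleton (S : Type u) [TopologicalSpace S] [Subsingleton S] :
    natDim S = 0 := by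
  have h : topologicalKrullDim S ≤ 0 := topologicalKrullDim_zero_of_discreteTopology S
  unfold natDim
  generalize topologicalKrullDim S = x at h
  induction x using WithBot.recBotCoe with
  | bot => simp
  | coe n =>
    have h' : n ≤ 0 := WithBot.coe_le_coe.mp h
    have : n = 0 := nonpos_iff_eq_zero.mp h'
    simp [this]

theorem pdim_eq_zero_of_isClosed {X : Scheme.{u}} (x : X) (hx : IsClosed ({x} : Set X)) :
    pdim X x = 0 := by
  unfold pdim
  rw [hx.closure_eq]
  exact natDim_eq_zero_of_subsingleton _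

theorem pdim_genericPoint (X : Scheme.{u}) [IrreducibleSpace X] :
    pdim X (genericPoint X) = dim X := by
  unfold pdim dim
  have h : closure ({genericPoint X} : Set X) = Set.univ := (genericPoint_spec X).def
  rw [h]
  exact natDim_eq_of_homeomorph (Homeomorph.Set.univ X)

theorem pdim_image_genericPoint {X Y : Scheme.{u}} (f : X ⟶ Y) (hf : Topology.IsClosedEmbedding f)
    [IrreducibleSpace X] : pdim Y (f (genericPoint X)) = dim X := by
  unfold pdim dim
  have h : closure ({f (genericPoint X)} : Set Y) = Set.range f := by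
    rw [← Set.image_singleton, hf.closure_image_eq, (genericPoint_spec X).def, Set.image_univ]
  rw [h]
  exact (natDim_eq_of_homeomorph hf.isEmbedding.toHomeomorph).symm

theorem codim_genericPoint (X : Scheme.{u}) [IrreducibleSpace X] :
    codim X (genericPoint X) = 0 := by
  unfold codim; rw [pdim_genericPoint]; exact Nat.sub_self _

end Dim

/-! ### Residue degrees -/
section Res

theorem residueDegree_eq_one_of_surjective {X Y : Scheme.{u}} (f : X ⟶ Y) (x : X)
    (h : Function.Surjective (f.residueFieldMap x)) : f.residueDegree x = 1 := by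
  unfold Scheme.Hom.residueDegree
  let _ := (f.residueFieldMap x).hom.toAlgebra
  refine finrank_eq_one (1 : X.residueField x) one_ne_zero (fun w => ?_)
  obtain ⟨c, hc⟩ := h w
  exact ⟨c, by rw [Algebra.smul_def, mul_one]; exact hc⟩

theorem residueFieldMap_bijective_of_eq_id {Y : Scheme.{u}} (g : Y ⟶ Y) (hg : g = 𝟙 Y) (y : Y) :
    Function.Bijective (g.residueFieldMap y) := by
  subst hg
  rw [Scheme.residueFieldMap_id]
  exact ⟨fun a b h => h, fun b => ⟨b, rfl⟩⟩

theorem residueFieldMap_bijective_of_comp_eq_id {X Y : Scheme.{u}} (s : Y ⟶ X) (f : X ⟶ Y)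
    (h : s ≫ f = 𝟙 Y) (y : Y) :
    Function.Bijective (f.residueFieldMap (s y)) ∧ Function.Bijective (s.residueFieldMap y) := by
  have h0 := residueFieldMap_bijective_of_eq_id (s ≫ f) h y
  rw [Scheme.residueFieldMap_comp] at h0
  have hcomp : Function.Bijective ((s.residueFieldMap y).hom ∘ (f.residueFieldMap (s y)).hom) := h0
  have hb : Function.Bijective (s.residueFieldMap y).hom :=
    ⟨RingHom.injective _, Function.Surjective.of_comp hcomp.2⟩
  exact ⟨(Function.Bijective.of_comp_iff' hb _).mp hcomp, hb⟩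

theorem residueDegree_section {X Y : Scheme.{u}} (s : Y ⟶ X) (f : X ⟶ Y)
    (h : s ≫ f = 𝟙 Y) (y : Y) : s.residueDegree y = 1 :=
  residueDegree_eq_one_of_surjective s y (residueFieldMap_bijective_of_comp_eq_id s f h y).2.2

theorem residueDegree_retraction {X Y : Scheme.{u}} (s : Y ⟶ X) (f : X ⟶ Y)
    (h : s ≫ f = 𝟙 Y) (y : Y) : f.residueDegree (s y) = 1 :=
  residueDegree_eq_one_of_surjective f (s y) (residueFieldMap_bijective_of_comp_eq_id s f h y).1.2

end Res

/-! ### The category `Var k` -/
section Var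
variable {k : Type u} [Field k]

instance smooth_hom (X : Var k) : Smooth X.obj.hom := X.property.1

theorem isSeparated_hom (X : Var k) : IsSeparated X.obj.hom := by
  obtain ⟨n, i, hi, hcomp⟩ := X.property.2.1
  rw [← hcomp]; infer_instance

theorem quasiCompact_hom (X : Var k) : QuasiCompact X.obj.hom := by
  obtain ⟨n, i, hi, hcomp⟩ := X.property.2.1
  rw [← hcomp]; infer_instance

instance irreducibleSpace_left (X : Var k) : IrreducibleSpace ↥X.obj.left := X.property.2.2

instance compactSpace_left (X : Var k) : CompactSpace ↥X.obj.left :=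
  haveI := quasiCompact_hom X
  QuasiCompact.compactSpace_of_compactSpace X.obj.hom

theorem sm_w {X Y : Var k} (f : X ⟶ Y) : sm f ≫ Y.obj.hom = X.obj.hom := Over.w f.hom

theorem isSeparated_sm {X Y : Var k} (f : X ⟶ Y) : IsSeparated (sm f) := by
  haveI : IsSeparated (sm f ≫ Y.obj.hom) := by rw [sm_w]; exact isSeparated_hom X
  exact IsSeparated.of_comp (sm f) Y.obj.hom

theorem sm_comp {X Y Z : Var k} (f : X ⟶ Y) (g : Y ⟶ Z) : sm (f ≫ g) = sm f ≫ sm g := rfl

theorem sm_id (X : Var k) : sm (𝟙 X) = 𝟙 X.obj.left := rfl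

theorem isClosedEmbedding_of_section {X Y : Var k} (j : X ⟶ Y) (p : Y ⟶ X) (h : j ≫ p = 𝟙 X) :
    Topology.IsClosedEmbedding (sm j) := by
  have h' : sm j ≫ sm p = 𝟙 X.obj.left := by rw [← sm_comp, h, sm_id]
  haveI := isSeparated_sm p
  haveI : IsClosedImmersion (sm j ≫ sm p) := by rw [h']; infer_instance
  haveI : IsClosedImmersion (sm j) := IsClosedImmersion.of_comp (sm j) (sm p)
  exact (sm j).isClosedEmbedding

theorem exists_isClosed_singleton (X : Var k) : ∃ x : X.obj.left, IsClosed ({x} : Set X.obj.left) := by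
  obtain ⟨x, -, hx⟩ := IsClosed.exists_closed_singleton (X := ↥X.obj.left) isClosed_univ
    Set.univ_nonempty
  exact ⟨x, hx⟩

variable (k) in
theorem isVar_pt : IsVar k (Over.mk (𝟙 (Spec (CommRingCat.of k)))) := by
  refine ⟨?_, ?_, ?_⟩
  · show Smooth (𝟙 (Spec (CommRingCat.of k))); infer_instance
  · obtain ⟨s, hs⟩ := exists_section_toBase 0 (Spec (CommRingCat.of k))
    refine ⟨0, s, ?_, hs⟩
    haveI : IsClosedImmersion (s ≫ CohB1.ProjSpaceOver.toBase 0 (Spec (CommRingCat.of k))) := by
      rw [hs]; infer_instance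
    exact IsClosedImmersion.of_comp s (CohB1.ProjSpaceOver.toBase 0 (Spec (CommRingCat.of k)))
  · show IrreducibleSpace ↥(Spec (CommRingCat.of k)); infer_instance

variable (k) in
/-- The point `Spec k` as an object of `Var k`. -/
noncomputable def ptObj : Var k := ⟨Over.mk (𝟙 (Spec (CommRingCat.of k))), isVar_pt k⟩

instance : Subsingleton ↥(ptObj k).obj.left :=
  inferInstanceAs (Subsingleton (PrimeSpectrum k))

instance : Nonempty ↥(ptObj k).obj.left :=
  inferInstanceAs (Nonempty (PrimeSpectrum k))

theorem dim_pt : dim (ptObj k).obj.left = 0 := natDim_eq_zero_of_subsingleton _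

theorem pdim_pt (w : (ptObj k).obj.left) : pdim (ptObj k).obj.left w = 0 :=
  natDim_eq_zero_of_subsingleton _

/-- The structure morphism as a morphism to the point. -/
noncomputable def toPt (X : Var k) : X ⟶ ptObj k :=
  ObjectProperty.homMk (Over.homMk X.obj.hom (by simp [ptObj]))

theorem sm_toPt (X : Var k) : sm (toPt X) = X.obj.hom := rfl

variable [IsAlgClosed k]

/-- The `k`-point of a closed point. -/
noncomputable def ofPt (X : Var k) (x : X.obj.left) (hx : IsClosed ({x} : Set X.obj.left)) :
    ptObj k ⟶ X :=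
  ObjectProperty.homMk (Over.homMk (pointOfClosedPoint X.obj.hom x hx)
    (pointOfClosedPoint_comp X.obj.hom x hx))

theorem sm_ofPt (X : Var k) (x : X.obj.left) (hx : IsClosed ({x} : Set X.obj.left)) :
    sm (ofPt X x hx) = pointOfClosedPoint X.obj.hom x hx := rfl

theorem sm_ofPt_apply (X : Var k) (x : X.obj.left) (hx : IsClosed ({x} : Set X.obj.left))
    (w : (ptObj k).obj.left) : sm (ofPt X x hx) w = x :=
  pointOfClosedPoint_apply X.obj.hom x hx w

theorem ofPt_toPt (X : Var k) (x : X.obj.left) (hx : IsClosed ({x} : Set X.obj.left)) :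
    ofPt X x hx ≫ toPt X = 𝟙 (ptObj k) := by
  apply ObjectProperty.hom_ext
  apply Over.OverMorphism.ext
  exact pointOfClosedPoint_comp X.obj.hom x hx

theorem residueDegree_toPt (X : Var k) (x : X.obj.left) (hx : IsClosed ({x} : Set X.obj.left)) :
    (sm (toPt X)).residueDegree x = 1 := by
  have h : sm (ofPt X x hx) ≫ sm (toPt X) = 𝟙 _ := pointOfClosedPoint_comp X.obj.hom x hx
  obtain ⟨w⟩ : Nonempty ↥(ptObj k).obj.left := inferInstance
  have := residueDegree_retraction (sm (ofPt X x hx)) (sm (toPt X)) h w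
  rwa [sm_ofPt_apply] at this

end Var

/-! ### Multiplicities -/
section Mult

theorem isField_stalk_spec (k : Type u) [Field k] (w : Spec (CommRingCat.of k)) :
    IsField ((Spec (CommRingCat.of k)).presheaf.stalk w) := by
  let K' := (Spec.structureSheaf k).presheaf.stalk w
  let e : k ≃ₐ[k] K' := IsLocalization.atUnits _ w.asIdeal.primeCompl
      (fun x hx ↦ by aesop (add simp IsUnit.mem_submonoid_iff))
  exact e.toRingEquiv.symm.isField (Field.toIsField k)

theorem preimMult_eq_one_of_isField {X Y : Scheme.{u}} (f : X ⟶ Y) (ξ : Y) (w : X)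
    (h : f w ∈ closure ({ξ} : Set Y)) (hF : IsField (X.presheaf.stalk w)) :
    preimMult f ξ w h = 1 := by
  unfold preimMult
  set J := Ideal.map (f.stalkMap w).hom
    (RingHom.ker (Cyc.specMap (f w) ξ (specializes_iff_mem_closure.mpr h))) with hJ
  have hne : J ≠ ⊤ := by
    have hker : RingHom.ker (Cyc.specMap (f w) ξ (specializes_iff_mem_closure.mpr h)) ≤
        IsLocalRing.maximalIdeal _ := IsLocalRing.le_maximalIdeal (RingHom.ker_ne_top _)
    have hle : J ≤ IsLocalRing.maximalIdeal (X.presheaf.stalk w) := by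
      rw [hJ]
      refine (Ideal.map_mono hker).trans ?_
      have hloc : IsLocalHom (f.stalkMap w).hom := inferInstance
      exact ((IsLocalRing.local_hom_TFAE (f.stalkMap w).hom).out 0 2).mp hloc
    intro htop
    rw [htop] at hle
    exact (IsLocalRing.maximalIdeal.isMaximal _).ne_top (top_le_iff.mp hle)
  have hbot : J = ⊥ := by
    rw [eq_bot_iff]
    intro x hx
    by_contra hx0
    obtain ⟨y, hy⟩ := hF.mul_inv_cancel hx0
    exact hne (Ideal.eq_top_of_isUnit_mem _ hx (IsUnit.of_mul_eq_one y hy))
  haveI : IsSimpleModule (X.presheaf.stalk w) (X.presheaf.stalk w ⧸ J) := by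
    rw [isSimpleModule_iff_isCoatom, hbot]
    refine ⟨bot_ne_top, fun I hI => ?_⟩
    obtain ⟨x, hxI, hx0⟩ := Submodule.exists_mem_ne_zero_of_ne_bot hI.ne'
    obtain ⟨y, hy⟩ := hF.mul_inv_cancel hx0
    exact Ideal.eq_top_of_isUnit_mem _ hxI (IsUnit.of_mul_eq_one y hy)
  rw [Module.length_eq_one]
  rfl

end Mult

end Groth.Agent.H77
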