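-- helper77: consequences of the axioms of a Weil cohomology theory on `WeilCoh.Var k`
import Groth.Agent.H77.WeilGeom

set_option autoImplicit false
set_option linter.style.haveILetI false
universe u v w

namespace Groth.Agent.H77

open AlgebraicGeometry CategoryTheory CategoryTheory.Limits WeilCoh

section Gen
variable {k : Type u} [Field k] {P : ObjectProperty (Over (Spec (CommRingCat.of k)))}
variable {K : Type v} [Field K] (T : TheoryOn.{u, v, w} k P K)

theorem one_mem_gr (X : P.FullSubcategory) : (1 : T.H X) ∈ T.gr X 0 :=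
  SetLike.one_mem_graded (T.gr X)

/-- a top-degree class is determined by its trace -/
theorem eq_tr_smul_of_mem_top (X : P.FullSubcategory) (u b : T.H X)
    (hu : u ∈ T.gr X (2 * (dim X.obj.left : ℤ))) (hu1 : T.tr X u = 1)
    (hb : b ∈ T.gr X (2 * (dim X.obj.left : ℤ))) : b = T.tr X b • u := by
  have hmem : T.tr X b • u ∈ T.gr X (2 * (dim X.obj.left : ℤ)) := Submodule.smul_mem _ _ hu
  have := (T.tr_bijective X).1 (a₁ := ⟨b, hb⟩) (a₂ := ⟨T.tr X b • u, hmem⟩) (by
    simp only [LinearMap.domRestrict_apply]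
    rw [map_smul, hu1, smul_eq_mul, mul_one])
  exact congrArg Subtype.val this

/-- `H^0` is spanned by `1`. -/
theorem exists_eq_smul_one_of_mem_gr_zero (X : P.FullSubcategory) (a : T.H X)
    (ha : a ∈ T.gr X 0) : ∃ c : K, a = c • (1 : T.H X) := by
  obtain ⟨u, hu, hu1⟩ := exists_tr_eq_one T X
  refine ⟨T.tr X (a * u), ?_⟩
  refine eq_of_forall_tr_mul_eq' T X 0 (2 * (dim X.obj.left : ℤ)) (by omega) a _ ha
    (Submodule.smul_mem _ _ (one_mem_gr T X)) (fun b hb => ?_)
  rw [eq_tr_smul_of_mem_top T X u b hu hu1 hb]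
  simp only [mul_smul_comm, smul_mul_assoc, one_mul, map_smul, smul_eq_mul, hu1, mul_one]

/-- The total cohomology is spanned by homogeneous elements: induction principle. -/
theorem induction_homogeneous (X : P.FullSubcategory) (motive : T.H X → Prop)
    (mem : ∀ (i : ℤ) (x : T.H X), x ∈ T.gr X i → motive x) (zero : motive 0)
    (add : ∀ x y, motive x → motive y → motive (x + y)) (z : T.H X) : motive z := by
  have hz : z ∈ ⨆ i, T.gr X i := by
    rw [(T.decomp X).submodule_iSup_eq_top]; trivial
  exact Submodule.iSup_induction (T.gr X) (motive := motive) hz mem zero add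

end Gen

section Var
variable {k : Type u} [Field k]
variable {K : Type v} [Field K] (T : TheoryOn.{u, v, w} k (IsVar k) K)

theorem tr_pt_one : T.tr (ptObj k) 1 = 1 := (T.point (ptObj k) dim_pt).2

theorem cl_pt (w : (ptObj k).obj.left) : T.cl (ptObj k) w = 1 := (T.point (ptObj k) dim_pt).1 w

variable [IsAlgClosed k]

/-- The class of the generic point is `1`. -/
theorem cl_genericPoint (X : Var k) : T.cl X (genericPoint ↥X.obj.left) = 1 := by
  obtain ⟨x, hx⟩ := exists_isClosed_singleton X
  set η := genericPoint ↥X.obj.left with hη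
  have hcl_univ : closure ({η} : Set ↥X.obj.left) = Set.univ := (genericPoint_spec _).def
  have hyp1 : ∀ w : (ptObj k).obj.left,
      IsCompPt ((sm (ofPt X x hx)) ⁻¹' closure ({η} : Set X.obj.left)) w →
      (pdim (ptObj k).obj.left w : ℤ) =
        pdim X.obj.left η + dim (ptObj k).obj.left - dim X.obj.left := by
    intro w _
    rw [pdim_pt, hη, pdim_genericPoint, dim_pt]
    push_cast; ring
  have hyp2 : ∀ (w : (ptObj k).obj.left)
      (hw : IsCompPt ((sm (ofPt X x hx)) ⁻¹' closure ({η} : Set X.obj.left)) w),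
      preimMult (sm (ofPt X x hx)) η w hw.1 = 1 :=
    fun w hw => preimMult_eq_one_of_isField _ _ _ _ (isField_stalk_spec k w)
  have hcl := T.cl_pull (ofPt X x hx) η hyp1 (Or.inr hyp2)
  obtain ⟨w0⟩ : Nonempty ↥(ptObj k).obj.left := inferInstance
  have hw0 : IsCompPt ((sm (ofPt X x hx)) ⁻¹' closure ({η} : Set X.obj.left)) w0 := by
    refine ⟨?_, fun w' _ _ => Subsingleton.elim _ _⟩
    rw [hcl_univ]; trivial
  haveI : Unique {w : (ptObj k).obj.left //
      IsCompPt ((sm (ofPt X x hx)) ⁻¹' closure ({η} : Set X.obj.left)) w} :=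
    ⟨⟨⟨w0, hw0⟩⟩, fun a => Subtype.ext (Subsingleton.elim _ _)⟩
  rw [finsum_unique] at hcl
  rw [hyp2 _ (default : {w : (ptObj k).obj.left //
      IsCompPt ((sm (ofPt X x hx)) ⁻¹' closure ({η} : Set X.obj.left)) w}).2, cl_pt] at hcl
  simp only [Nat.cast_one, one_smul] at hcl
  have hmem : T.cl X η ∈ T.gr X 0 := by
    have := T.cl_mem X η
    rw [hη, codim_genericPoint] at this
    simpa using this
  obtain ⟨c, hc⟩ := exists_eq_smul_one_of_mem_gr_zero T X _ hmem
  rw [hc, map_smul, map_one] at hcl
  have h2 := congrArg (T.tr (ptObj k)) hcl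
  rw [map_smul, tr_pt_one, smul_eq_mul, mul_one] at h2
  rw [hc, h2, one_smul]

/-- The class of a closed point has trace `1`. -/
theorem tr_cl_of_isClosed (X : Var k) (x : X.obj.left) (hx : IsClosed ({x} : Set X.obj.left)) :
    T.tr X (T.cl X x) = 1 := by
  have h1 : (1 : T.H (ptObj k)) ∈ T.gr (ptObj k) (2 * (pdim X.obj.left x : ℤ)) := by
    rw [pdim_eq_zero_of_isClosed x hx]
    simpa using one_mem_gr T (ptObj k)
  have := T.cl_push (toPt X) x 1 h1
  rw [map_one, mul_one, residueDegree_toPt X x hx, cl_pt, mul_one, tr_pt_one] at this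
  simpa using this

/-- `Tr_X(j^* z) = Tr_P(cl(j(X)) z)` for a section `j` of `p : P → X`. -/
theorem tr_pull_section {X Q : Var k} (j : X ⟶ Q) (p : Q ⟶ X) (h : j ≫ p = 𝟙 X)
    (hdim : dim X.obj.left ≤ dim Q.obj.left) (z : T.H Q) :
    T.tr X (T.pull j z) = T.tr Q (T.cl Q (sm j (genericPoint ↥X.obj.left)) * z) := by
  have h' : sm j ≫ sm p = 𝟙 X.obj.left := by rw [← sm_comp, h, sm_id]
  have hpd : pdim Q.obj.left (sm j (genericPoint ↥X.obj.left)) = dim X.obj.left :=
    pdim_image_genericPoint (sm j) (isClosedEmbedding_of_section j p h)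
  induction z using induction_homogeneous T Q with
  | zero => simp
  | add x y hx hy => rw [map_add, map_add, mul_add, map_add, hx, hy]
  | mem i z hz =>
    by_cases hi : i = 2 * (dim X.obj.left : ℤ)
    · subst hi
      have hz' : z ∈ T.gr Q (2 * (pdim X.obj.left (genericPoint ↥X.obj.left) : ℤ)) := by
        rw [pdim_genericPoint]; exact hz
      have := T.cl_push j (genericPoint ↥X.obj.left) z hz'
      rw [cl_genericPoint, one_mul, residueDegree_section (sm j) (sm p) h'] at this
      simpa using this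
    · rw [T.tr_vanish X i _ (T.pull_mem j i z hz) hi]
      have hmem := SetLike.mul_mem_graded (T.cl_mem Q (sm j (genericPoint ↥X.obj.left))) hz
      rw [T.tr_vanish Q _ _ hmem]
      unfold codim
      rw [hpd]
      push_cast [Nat.cast_sub hdim]
      intro h0
      apply hi
      linarith

end Var

end Groth.Agent.H77
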