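-- helper77: the class of a graph in a Weil cohomology theory (Künneth components) and the trace formula
import Groth.Agent.H77.WeilThy

set_option autoImplicit false
set_option linter.style.haveILetI false
universe u v w

namespace Groth.Agent.H77

open AlgebraicGeometry CategoryTheory CategoryTheory.Limits WeilCoh

section Gen
variable {k : Type u} [Field k] {P : ObjectProperty (Over (Spec (CommRingCat.of k)))}
variable {K : Type v} [Field K] (T : TheoryOn.{u, v, w} k P K)

/-- The trace of a product of pull-backs is the product of traces, for all classes. -/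
theorem tr_prod_all {X Y Q : P.FullSubcategory} (p : Q ⟶ X) (q : Q ⟶ Y) (hP : IsProd p q)
    (x : T.H X) (y : T.H Y) : T.tr Q (T.pull p x * T.pull q y) = T.tr X x * T.tr Y y := by
  have hN := dim_eq_add_of_isProd T p q hP
  induction x using induction_homogeneous T X with
  | zero => simp
  | add x x' hx hx' => rw [map_add, add_mul, map_add, map_add, hx, hx', add_mul]
  | mem a x hx =>
    induction y using induction_homogeneous T Y with
    | zero => simp
    | add y y' hy hy' => rw [map_add, mul_add, map_add, map_add, hy, hy', mul_add]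
    | mem b y hy =>
      by_cases hab : a + b = 2 * (dim Q.obj.left : ℤ)
      · by_cases ha : a = 2 * (dim X.obj.left : ℤ)
        · have hb : b = 2 * (dim Y.obj.left : ℤ) := by omega
          subst ha; subst hb
          exact T.tr_prod p q hP x y hx hy
        · rcases lt_or_gt_of_ne ha with h | h
          · have : y = 0 := eq_zero_of_mem_gr T Y b (Or.inr (by omega)) y hy
            subst this; simp
          · have : x = 0 := eq_zero_of_mem_gr T X a (Or.inr h) x hx
            subst this; simp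
      · rw [T.tr_vanish Q (a + b) _
          (SetLike.mul_mem_graded (T.pull_mem p a x hx) (T.pull_mem q b y hy)) hab]
        by_cases ha : a = 2 * (dim X.obj.left : ℤ)
        · rw [T.tr_vanish Y b y hy (by omega), mul_zero]
        · rw [T.tr_vanish X a x hx ha, zero_mul]

/-- Künneth: induction principle for classes on a product. -/
theorem induction_kunneth {X Y Q : P.FullSubcategory} (p : Q ⟶ X) (q : Q ⟶ Y) (hP : IsProd p q)
    (motive : T.H Q → Prop)
    (mem : ∀ (s t : ℤ) (a : T.H X) (b : T.H Y), a ∈ T.gr X s → b ∈ T.gr Y t →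
      motive (T.pull p a * T.pull q b))
    (zero : motive 0) (add : ∀ x y, motive x → motive y → motive (x + y)) (z : T.H Q) :
    motive z := by
  obtain ⟨t, rfl⟩ := (T.kunneth p q hP).2 z
  induction t using TensorProduct.induction_on with
  | zero => rw [map_zero]; exact zero
  | add x y hx hy => rw [map_add]; exact add _ _ hx hy
  | tmul a b =>
    have h0 : kunnethMap K (T.pull p) (T.pull q) (a ⊗ₜ[K] b) = T.pull p a * T.pull q b := rfl
    rw [h0]
    clear h0
    induction a using induction_homogeneous T X with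
    | zero => rw [map_zero, zero_mul]; exact zero
    | add x x' hx hx' => rw [map_add, add_mul]; exact add _ _ hx hx'
    | mem s a ha =>
      induction b using induction_homogeneous T Y with
      | zero => rw [map_zero, mul_zero]; exact zero
      | add y y' hy hy' => rw [map_add, mul_add]; exact add _ _ hy hy'
      | mem t b hb => exact mem s t a b ha hb

/-- Trace of a product of four pull-backs. -/
theorem tr_four {X Y Q : P.FullSubcategory} (p : Q ⟶ X) (q : Q ⟶ Y) (hP : IsProd p q)
    (u a : T.H X) (v c : T.H Y) (m s : ℤ) (hv : v ∈ T.gr Y m) (ha : a ∈ T.gr X s) :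
    T.tr Q (T.pull p u * T.pull q v * (T.pull p a * T.pull q c)) =
      (-1 : K) ^ (m.natAbs * s.natAbs) * (T.tr X (u * a) * T.tr Y (v * c)) := by
  have h1 : T.pull p u * T.pull q v * (T.pull p a * T.pull q c) =
      T.pull p u * (T.pull q v * T.pull p a) * T.pull q c := by
    simp only [mul_assoc]
  rw [h1, T.gradedComm Q m s _ _ (T.pull_mem q m v hv) (T.pull_mem p s a ha)]
  have h2 : T.pull p u * ((-1 : K) ^ (m.natAbs * s.natAbs) • (T.pull p a * T.pull q v)) *
      T.pull q c = (-1 : K) ^ (m.natAbs * s.natAbs) • (T.pull p (u * a) * T.pull q (v * c)) := by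
    simp only [map_mul, mul_smul_comm, smul_mul_assoc, mul_assoc]
  rw [h2, map_smul, smul_eq_mul, tr_prod_all T p q hP]

/-- Coordinates with respect to a basis via a dual family. -/
theorem tr_mul_eq_repr {X : P.FullSubcategory} {ιr : Type*} [Fintype ιr] [DecidableEq ιr]
    {r m : ℤ} (e : Module.Basis ιr K (T.gr X r)) (f : ιr → T.gr X m)
    (hef : ∀ i l, T.tr X ((f l : T.H X) * (e i : T.H X)) = if i = l then 1 else 0)
    (c : T.gr X r) (l : ιr) : T.tr X ((f l : T.H X) * (c : T.H X)) = e.repr c l := by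
  conv_lhs => rw [← e.sum_repr c]
  rw [Submodule.coe_sum, Finset.mul_sum, map_sum]
  simp only [Submodule.coe_smul, mul_smul_comm, map_smul, smul_eq_mul, hef, mul_ite, mul_one,
    mul_zero]
  simp

theorem sum_tr_mul_tr {X X' : P.FullSubcategory} (g : X' ⟶ X) {ιr : Type*} [Fintype ιr]
    [DecidableEq ιr] {r m : ℤ} (e : Module.Basis ιr K (T.gr X r)) (f : ιr → T.gr X m)
    (hef : ∀ i l, T.tr X ((f l : T.H X) * (e i : T.H X)) = if i = l then 1 else 0)
    (a : T.H X') (c : T.gr X r) :
    ∑ i, T.tr X' (T.pull g (e i : T.H X) * a) * T.tr X ((f i : T.H X) * (c : T.H X)) =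
      T.tr X' (T.pull g (c : T.H X) * a) := by
  simp_rw [tr_mul_eq_repr T e f hef c]
  conv_rhs => rw [← e.sum_repr c]
  rw [Submodule.coe_sum, map_sum, Finset.sum_mul, map_sum]
  refine Finset.sum_congr rfl (fun i _ => ?_)
  rw [Submodule.coe_smul, map_smul, smul_mul_assoc, map_smul, smul_eq_mul, mul_comm]

theorem neg_one_pow_sign (n r₀ S : ℕ) (hr₀ : r₀ ≤ 2 * n) :
    (-1 : K) ^ ((2 * n - r₀) * S) * (-1 : K) ^ (r₀ * S) = 1 := by
  rw [← pow_add, ← Nat.add_mul, Nat.sub_add_cancel hr₀, Nat.mul_assoc, pow_mul,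
    neg_one_sq, one_pow]

end Gen

section Var
variable {k : Type u} [Field k] [IsAlgClosed k]
variable {K : Type v} [Field K] (T : TheoryOn.{u, v, w} k (IsVar k) K)

variable {X Q : Var k} (φ : X ⟶ X) (p q : Q ⟶ X) (hP : IsProd p q)
  (ι : ℕ → Type) [∀ r, Fintype (ι r)] [∀ r, DecidableEq (ι r)]
  (e : (r : ℕ) → Module.Basis (ι r) K ↥(T.gr X (r : ℤ)))
  (f : (r : ℕ) → ι r → ↥(T.gr X (2 * (dim X.obj.left : ℤ) - r)))
  (hef : ∀ r, r ≤ 2 * dim X.obj.left → ∀ i l : ι r,
      T.tr X ((f r l : T.H X) * (e r i : T.H X)) = if i = l then 1 else 0)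

omit [IsAlgClosed k] in
include hP hef in
theorem graph_core (r₀ : ℕ) (hr₀ : r₀ ≤ 2 * dim X.obj.left) (s : ℤ) (a c : T.H X)
    (ha : a ∈ T.gr X s) (hc : c ∈ T.gr X (r₀ : ℤ)) :
    T.tr Q ((∑ r ∈ Finset.range (2 * dim X.obj.left + 1), ∑ i : ι r,
        T.pull p (T.pull φ (e r i : T.H X)) * T.pull q (f r i : T.H X)) *
        (T.pull p a * T.pull q c)) = T.tr X (a * T.pull φ c) := by
  rw [Finset.sum_mul, map_sum]
  rw [Finset.sum_eq_single r₀]
  · rw [Finset.sum_mul, map_sum]
    rw [Finset.sum_congr rfl (fun i _ => tr_four T p q hP (T.pull φ (e r₀ i : T.H X)) a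
      (f r₀ i : T.H X) c _ s (f r₀ i).2 ha)]
    rw [← Finset.mul_sum]
    have h3 := sum_tr_mul_tr T φ (e r₀) (f r₀) (hef r₀ hr₀) a ⟨c, hc⟩
    simp only [] at h3
    rw [h3, T.gradedComm X (r₀ : ℤ) s _ _ (T.pull_mem φ _ c hc) ha, map_smul, smul_eq_mul,
      ← mul_assoc]
    have e1 : (2 * (dim X.obj.left : ℤ) - r₀).natAbs = 2 * dim X.obj.left - r₀ := by omega
    rw [e1, Int.natAbs_natCast, neg_one_pow_sign _ _ _ hr₀, one_mul]
  · intro r _ hr
    rw [Finset.sum_mul, map_sum]
    apply Finset.sum_eq_zero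
    intro i _
    rw [tr_four T p q hP _ a _ c _ s (f r i).2 ha]
    have : T.tr X ((f r i : T.H X) * c) = 0 :=
      T.tr_vanish X _ _ (SetLike.mul_mem_graded (f r i).2 hc) (by omega)
    rw [this, mul_zero, mul_zero]
  · intro h
    exact absurd (Finset.mem_range.mpr (by omega)) h

variable [IrreducibleSpace ↥X.obj.left] (j : X ⟶ Q) (hjp : j ≫ p = 𝟙 X) (hjq : j ≫ q = φ)

include hP hef hjp hjq in
/-- The Künneth components of the class of the graph. -/
theorem cl_graph :
    T.cl Q (sm j (genericPoint ↥X.obj.left)) =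
      ∑ r ∈ Finset.range (2 * dim X.obj.left + 1), ∑ i : ι r,
        T.pull p (T.pull φ (e r i : T.H X)) * T.pull q (f r i : T.H X) := by
  have hN := dim_eq_add_of_isProd T p q hP
  have hdim : dim X.obj.left ≤ dim Q.obj.left := by omega
  have hpd : pdim Q.obj.left (sm j (genericPoint ↥X.obj.left)) = dim X.obj.left :=
    pdim_image_genericPoint (sm j) (isClosedEmbedding_of_section j p hjp)
  have hγ : T.cl Q (sm j (genericPoint ↥X.obj.left)) ∈ T.gr Q (2 * (dim X.obj.left : ℤ)) := by
    refine mem_gr_of_eq T Q ?_ (T.cl_mem Q _)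
    unfold codim
    rw [hpd]
    push_cast [Nat.cast_sub hdim]
    omega
  have hδ : (∑ r ∈ Finset.range (2 * dim X.obj.left + 1), ∑ i : ι r,
        T.pull p (T.pull φ (e r i : T.H X)) * T.pull q (f r i : T.H X)) ∈
      T.gr Q (2 * (dim X.obj.left : ℤ)) := by
    refine Submodule.sum_mem _ (fun r _ => Submodule.sum_mem _ (fun i _ => ?_))
    refine mem_gr_of_eq T Q ?_ (SetLike.mul_mem_graded
      (T.pull_mem p _ _ (T.pull_mem φ _ _ (e r i).2)) (T.pull_mem q _ _ (f r i).2))
    ring
  refine eq_of_forall_tr_mul_eq' T Q _ (2 * (dim X.obj.left : ℤ)) (by omega) _ _ hγ hδ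
    (fun b hb => ?_)
  rw [← tr_pull_section T j p hjp hdim b]
  clear hb
  induction b using induction_kunneth T p q hP with
  | zero => simp
  | add x y hx hy => rw [map_add, map_add, mul_add, map_add, hx, hy]
  | mem s t a c ha hc =>
    have hL : T.pull j (T.pull p a * T.pull q c) = a * T.pull φ c := by
      rw [map_mul, ← AlgHom.comp_apply, ← AlgHom.comp_apply, ← T.pull_comp, ← T.pull_comp, hjq,
        hjp, T.pull_id]
      rfl
    rw [hL]
    by_cases ht : 0 ≤ t ∧ t ≤ 2 * (dim X.obj.left : ℤ)
    · obtain ⟨ht0, ht1⟩ := ht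
      lift t to ℕ using ht0
      exact (graph_core T φ p q hP ι e f hef t (by omega) s a c ha hc).symm
    · have : c = 0 := eq_zero_of_mem_gr T X t (by omega) c hc
      subst this
      simp

end Var

end Groth.Agent.H77
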