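-- helper77: correspondences acting on the cohomology of a Weil cohomology theory
import Groth.Agent.H77.WeilGraph
import Mathlib.LinearAlgebra.Trace

set_option autoImplicit false
set_option linter.style.haveILetI false
universe u v w

namespace Groth.Agent.H77

open AlgebraicGeometry CategoryTheory CategoryTheory.Limits WeilCoh

section Gen
variable {k : Type u} [Field k] {P : ObjectProperty (Over (Spec (CommRingCat.of k)))}
variable {K : Type v} [Field K] (T : TheoryOn.{u, v, w} k P K)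

/-- The action of a class `φ ∈ H^d(Q)` as a correspondence `x ↦ q_*(p^* x · φ)`. -/
noncomputable def corr {X Y Q : P.FullSubcategory} (p : Q ⟶ X) (q : Q ⟶ Y) (d : ℤ)
    (φ : T.gr Q d) (i : ℤ) :
    T.gr X i →ₗ[K] T.gr Y (i + d + 2 * (dim Y.obj.left : ℤ) - 2 * (dim Q.obj.left : ℤ)) :=
  (T.push q (i + d)) ∘ₗ
    ((LinearMap.mulRight K (φ : T.H Q)).restrict (p := T.gr Q i) (q := T.gr Q (i + d))
      (fun x hx => SetLike.mul_mem_graded hx φ.2)) ∘ₗ (T.pullDeg p i)

theorem corr_apply {X Y Q : P.FullSubcategory} (p : Q ⟶ X) (q : Q ⟶ Y) (d : ℤ)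
    (φ : T.gr Q d) (i : ℤ) (x : T.gr X i) :
    corr T p q d φ i x = T.push q (i + d) ⟨T.pull p (x : T.H X) * (φ : T.H Q),
      SetLike.mul_mem_graded (T.pull_mem p i x x.2) φ.2⟩ := rfl

theorem tr_corr_mul {X Y Q : P.FullSubcategory} (p : Q ⟶ X) (q : Q ⟶ Y) (d : ℤ)
    (φ : T.gr Q d) (i : ℤ) (x : T.gr X i) (b : T.H Y) (j : ℤ)
    (hj : j = 2 * (dim Q.obj.left : ℤ) - (i + d)) (hb : b ∈ T.gr Y j) :
    T.tr Y ((corr T p q d φ i x : T.H Y) * b) =
      T.tr Q (T.pull p (x : T.H X) * (φ : T.H Q) * T.pull q b) := by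
  rw [corr_apply, tr_push_mul' T q (i + d) _ b j hj hb]

theorem tr_mul_kunneth {X Y Q : P.FullSubcategory} (p : Q ⟶ X) (q : Q ⟶ Y) (d : ℤ)
    (φ : T.gr Q d) (s t : ℤ) (a : T.H X) (c : T.H Y) (ha : a ∈ T.gr X s) (hc : c ∈ T.gr Y t) :
    T.tr Q ((φ : T.H Q) * (T.pull p a * T.pull q c)) =
      (-1 : K) ^ (d.natAbs * s.natAbs) *
        (if t = 2 * (dim Q.obj.left : ℤ) - (s + d) then
          T.tr Y ((corr T p q d φ s ⟨a, ha⟩ : T.H Y) * c) else 0) := by
  rw [← mul_assoc, T.gradedComm Q d s _ _ φ.2 (T.pull_mem p s a ha), smul_mul_assoc, map_smul,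
    smul_eq_mul]
  congr 1
  split_ifs with h
  · rw [tr_corr_mul T p q d φ s ⟨a, ha⟩ c t h hc]
  · refine T.tr_vanish Q (s + d + t) _ (SetLike.mul_mem_graded
      (SetLike.mul_mem_graded (T.pull_mem p s a ha) φ.2) (T.pull_mem q t c hc)) ?_
    intro h'
    apply h
    linarith

/-- A class on a product is determined by its action as a correspondence. -/
theorem corr_injective {X Y Q : P.FullSubcategory} (p : Q ⟶ X) (q : Q ⟶ Y) (hP : IsProd p q)
    (d : ℤ) (φ φ' : T.gr Q d) (h : ∀ i, corr T p q d φ i = corr T p q d φ' i) : φ = φ' := by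
  refine eq_of_forall_tr_mul_eq T Q d (2 * (dim Q.obj.left : ℤ) - d) (by ring) φ φ' (fun b => ?_)
  have key : ∀ z : T.H Q, T.tr Q ((φ : T.H Q) * z) = T.tr Q ((φ' : T.H Q) * z) := by
    intro z
    induction z using induction_kunneth T p q hP with
    | zero => simp
    | add x y hx hy => rw [mul_add, mul_add, map_add, map_add, hx, hy]
    | mem s t a c ha hc =>
      rw [tr_mul_kunneth T p q d φ s t a c ha hc, tr_mul_kunneth T p q d φ' s t a c ha hc, h s]
  exact key b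

theorem exists_dual_family (X : P.FullSubcategory) (r₀ : ℤ) {ι : Type*} [Fintype ι] [DecidableEq ι]
    (e : Module.Basis ι K (T.gr X r₀)) :
    ∃ f : ι → T.gr X (2 * (dim X.obj.left : ℤ) - r₀), ∀ i l,
      T.tr X ((f l : T.H X) * (e i : T.H X)) = if i = l then 1 else 0 := by
  have hp := T.duality X (2 * (dim X.obj.left : ℤ) - r₀) r₀ (by ring)
  have hs := hp.bijective_left.2
  choose f hf using fun l => hs (e.coord l)
  refine ⟨f, fun i l => ?_⟩
  have h1 : pairing K (T.gr X (2 * (dim X.obj.left : ℤ) - r₀)) (T.gr X r₀) (T.tr X) (f l) (e i) =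
      e.coord l (e i) := by rw [hf l]
  rw [pairing_apply] at h1
  rw [h1, Module.Basis.coord_apply, Module.Basis.repr_self, Finsupp.single_apply]

theorem neg_one_pow_sign2 (n r₁ : ℕ) (h : r₁ ≤ 2 * n) :
    (-1 : K) ^ r₁ * (-1 : K) ^ (r₁ * (2 * n - r₁)) = 1 := by
  rw [← pow_add]
  apply Even.neg_one_pow
  rcases Nat.even_or_odd r₁ with ⟨a, ha⟩ | ⟨a, ha⟩
  · subst ha
    exact ⟨a + a * (2 * n - (a + a)), by ring⟩
  · obtain ⟨b, hb⟩ : ∃ b, 2 * n - r₁ = 2 * b + 1 := ⟨n - a - 1, by omega⟩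
    rw [hb]
    exact ⟨r₁ * (b + 1), by ring⟩

section Surj
variable {X Y Q : P.FullSubcategory} (p : Q ⟶ X) (q : Q ⟶ Y) (hP : IsProd p q) (d : ℤ)
  (ι : ℕ → Type) [∀ r, Fintype (ι r)] [∀ r, DecidableEq (ι r)]
  (e : (r : ℕ) → Module.Basis (ι r) K ↥(T.gr X (r : ℤ)))
  (f : (r : ℕ) → ι r → ↥(T.gr X (2 * (dim X.obj.left : ℤ) - r)))
  (hef : ∀ r, ∀ i l : ι r, T.tr X ((f r l : T.H X) * (e r i : T.H X)) = if i = l then 1 else 0)
  (G : ∀ i : ℤ, T.gr X i →ₗ[K]
    T.gr Y (i + d + 2 * (dim Y.obj.left : ℤ) - 2 * (dim Q.obj.left : ℤ)))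

/-- The class on the product with prescribed action as a correspondence. -/
noncomputable def corrClass : T.H Q :=
  ∑ r ∈ Finset.range (2 * dim X.obj.left + 1), ∑ l : ι r,
    (-1 : K) ^ r • (T.pull p (f r l : T.H X) * T.pull q (G (r : ℤ) (e r l) : T.H Y))

include hP in
theorem corrClass_mem : corrClass T p q d ι e f G ∈ T.gr Q d := by
  have hN := dim_eq_add_of_isProd T p q hP
  refine Submodule.sum_mem _ (fun r _ => Submodule.sum_mem _
    (fun l _ => Submodule.smul_mem _ _ ?_))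
  refine mem_gr_of_eq T Q ?_ (SetLike.mul_mem_graded (T.pull_mem p _ _ (f r l).2)
    (T.pull_mem q _ _ (G r (e r l)).2))
  rw [hN]; push_cast; ring

include hP hef in
theorem tr_corrClass (r₁ : ℕ) (hr₁ : r₁ ≤ 2 * dim X.obj.left) (x : T.gr X (r₁ : ℤ)) (b : T.H Y) :
    T.tr Q (T.pull p (x : T.H X) * corrClass T p q d ι e f G * T.pull q b) =
      T.tr Y ((G (r₁ : ℤ) x : T.H Y) * b) := by
  have h1 : ∀ (r : ℕ) (l : ι r), T.pull p (x : T.H X) * ((-1 : K) ^ r •
      (T.pull p (f r l : T.H X) * T.pull q (G (r : ℤ) (e r l) : T.H Y))) * T.pull q b =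
      (-1 : K) ^ r • (T.pull p ((x : T.H X) * (f r l : T.H X)) *
        T.pull q ((G (r : ℤ) (e r l) : T.H Y) * b)) := by
    intro r l
    simp only [map_mul, mul_smul_comm, smul_mul_assoc, mul_assoc]
  unfold corrClass
  rw [Finset.mul_sum, Finset.sum_mul, map_sum, Finset.sum_eq_single r₁]
  · rw [Finset.mul_sum, Finset.sum_mul, map_sum]
    have hterm : ∀ l : ι r₁, T.tr Q (T.pull p (x : T.H X) * ((-1 : K) ^ r₁ •
        (T.pull p (f r₁ l : T.H X) * T.pull q (G (r₁ : ℤ) (e r₁ l) : T.H Y))) * T.pull q b) =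
        (e r₁).repr x l * T.tr Y ((G (r₁ : ℤ) (e r₁ l) : T.H Y) * b) := by
      intro l
      rw [h1, map_smul, smul_eq_mul, tr_prod_all T p q hP,
        T.gradedComm X (r₁ : ℤ) (2 * (dim X.obj.left : ℤ) - r₁) _ _ x.2 (f r₁ l).2, map_smul,
        smul_eq_mul, tr_mul_eq_repr T (e r₁) (f r₁) (hef r₁) x l]
      have e1 : (2 * (dim X.obj.left : ℤ) - r₁).natAbs = 2 * dim X.obj.left - r₁ := by omega
      rw [e1, Int.natAbs_natCast, ← mul_assoc, ← mul_assoc, neg_one_pow_sign2 _ _ hr₁, one_mul]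
    rw [Finset.sum_congr rfl (fun l _ => hterm l)]
    conv_rhs => rw [← (e r₁).sum_repr x]
    rw [map_sum, Submodule.coe_sum, Finset.sum_mul, map_sum]
    refine Finset.sum_congr rfl (fun l _ => ?_)
    rw [map_smul, Submodule.coe_smul, smul_mul_assoc, map_smul, smul_eq_mul]
  · intro r _ hr
    rw [Finset.mul_sum, Finset.sum_mul, map_sum]
    refine Finset.sum_eq_zero (fun l _ => ?_)
    rw [h1, map_smul, tr_prod_all T p q hP,
      T.tr_vanish X _ _ (SetLike.mul_mem_graded x.2 (f r l).2) (by omega), zero_mul, smul_zero]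
  · intro h
    exact absurd (Finset.mem_range.mpr (by omega)) h

include hef in
theorem corr_corrClass (i : ℤ) :
    corr T p q d ⟨corrClass T p q d ι e f G, corrClass_mem T p q hP d ι e f G⟩ i = G i := by
  by_cases hi : 0 ≤ i ∧ i ≤ 2 * (dim X.obj.left : ℤ)
  · obtain ⟨h0, h1⟩ := hi
    lift i to ℕ using h0
    apply LinearMap.ext
    intro x
    refine eq_of_forall_tr_mul_eq T Y _ (2 * (dim Q.obj.left : ℤ) - ((i : ℤ) + d)) (by ring) _ _
      (fun b => ?_)
    rw [tr_corr_mul T p q d _ (i : ℤ) x b _ rfl b.2]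
    exact tr_corrClass T p q hP d ι e f hef G i (by omega) x b
  · apply LinearMap.ext
    intro x
    have : x = 0 := Subtype.ext (eq_zero_of_mem_gr T X i (by omega) x x.2)
    rw [this, map_zero, map_zero]

end Surj

/-- Every family of linear maps of degree `d - 2 dim X` is the action of a class. -/
theorem corr_surjective {X Y Q : P.FullSubcategory} (p : Q ⟶ X) (q : Q ⟶ Y) (hP : IsProd p q)
    (d : ℤ) (G : ∀ i : ℤ, T.gr X i →ₗ[K]
      T.gr Y (i + d + 2 * (dim Y.obj.left : ℤ) - 2 * (dim Q.obj.left : ℤ))) :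
    ∃ φ : T.gr Q d, ∀ i, corr T p q d φ i = G i := by
  classical
  have hex : ∀ r : ℕ, ∃ f : Fin (Module.finrank K (T.gr X (r : ℤ))) →
      T.gr X (2 * (dim X.obj.left : ℤ) - r), ∀ i l,
      T.tr X ((f l : T.H X) * (Module.finBasis K (T.gr X (r : ℤ)) i : T.H X)) =
        if i = l then 1 else 0 :=
    fun r => exists_dual_family T X (r : ℤ) (Module.finBasis K (T.gr X (r : ℤ)))
  choose f hf using hex
  exact ⟨⟨_, corrClass_mem T p q hP d (fun r => Fin (Module.finrank K (T.gr X (r : ℤ))))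
      (fun r => Module.finBasis K (T.gr X (r : ℤ))) f G⟩,
    corr_corrClass T p q hP d _ _ f hf G⟩

/-- Reconstruction of a class from its action as a correspondence. -/
theorem eq_corrClass {X Y Q : P.FullSubcategory} (p : Q ⟶ X) (q : Q ⟶ Y) (hP : IsProd p q) (d : ℤ)
    (ι : ℕ → Type) [∀ r, Fintype (ι r)] [∀ r, DecidableEq (ι r)]
    (e : (r : ℕ) → Module.Basis (ι r) K ↥(T.gr X (r : ℤ)))
    (f : (r : ℕ) → ι r → ↥(T.gr X (2 * (dim X.obj.left : ℤ) - r)))
    (hef : ∀ r, ∀ i l : ι r, T.tr X ((f r l : T.H X) * (e r i : T.H X)) = if i = l then 1 else 0)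
    (φ : T.gr Q d) :
    (φ : T.H Q) = corrClass T p q d ι e f (fun i => corr T p q d φ i) := by
  have h := corr_injective T p q hP d
    ⟨corrClass T p q d ι e f (fun i => corr T p q d φ i),
      corrClass_mem T p q hP d ι e f (fun i => corr T p q d φ i)⟩ φ
    (fun i => corr_corrClass T p q hP d ι e f hef (fun i => corr T p q d φ i) i)
  exact (congrArg Subtype.val h).symm

/-- The trace is invariant under the swap of the factors of a product. -/
theorem tr_pull_swap {X Y Q Q' : P.FullSubcategory} (p : Q ⟶ X) (q : Q ⟶ Y) (hP : IsProd p q)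
    (p' : Q' ⟶ Y) (q' : Q' ⟶ X) (hP' : IsProd p' q') (σ : Q ⟶ Q') (hσ₁ : σ ≫ p' = q)
    (hσ₂ : σ ≫ q' = p) (w : T.H Q') : T.tr Q (T.pull σ w) = T.tr Q' w := by
  induction w using induction_kunneth T p' q' hP' with
  | zero => simp
  | add x y hx hy => rw [map_add, map_add, map_add, hx, hy]
  | mem s t c d' hc hd' =>
    have h1 : T.pull σ (T.pull p' c * T.pull q' d') = T.pull q c * T.pull p d' := by
      rw [map_mul, ← AlgHom.comp_apply, ← AlgHom.comp_apply, ← T.pull_comp, ← T.pull_comp, hσ₁,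
        hσ₂]
    rw [h1, tr_prod_all T p' q' hP', T.gradedComm Q s t _ _ (T.pull_mem q s c hc)
      (T.pull_mem p t d' hd'), map_smul, smul_eq_mul, tr_prod_all T p q hP]
    by_cases hs : s = 2 * (dim Y.obj.left : ℤ)
    · have hsign : (-1 : K) ^ (s.natAbs * t.natAbs) = 1 := by
        apply Even.neg_one_pow
        apply Even.mul_right
        rw [hs, Int.natAbs_mul]
        exact Even.mul_right (by decide) _
      rw [hsign, one_mul, mul_comm]
    · rw [T.tr_vanish Y s c hc hs, mul_zero, mul_zero, zero_mul]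

theorem tr_swap_term {X Y Q Q' : P.FullSubcategory} (p : Q ⟶ X) (q : Q ⟶ Y) (hP : IsProd p q)
    (p' : Q' ⟶ Y) (q' : Q' ⟶ X) (hP' : IsProd p' q') (d d' : ℤ)
    (hdd : d + d' = 2 * (dim X.obj.left : ℤ) + 2 * (dim Y.obj.left : ℤ))
    (ψ : T.gr Q' d') (r₀ : ℕ) (hr₀ : r₀ ≤ 2 * dim X.obj.left) (fl : T.H X)
    (hfl : fl ∈ T.gr X (2 * (dim X.obj.left : ℤ) - r₀))
    (y : T.gr Y ((r₀ : ℤ) + d + 2 * (dim Y.obj.left : ℤ) - 2 * (dim Q.obj.left : ℤ))) :
    T.tr Q' (T.pull q' fl * T.pull p' (y : T.H Y) * (ψ : T.H Q')) =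
      T.tr X (fl * (corr T p' q' d' ψ _ y : T.H X)) := by
  have hN := dim_eq_add_of_isProd T p q hP
  have hN' := dim_eq_add_of_isProd T p' q' hP'
  have hNz : (dim Q.obj.left : ℤ) = (dim X.obj.left : ℤ) + (dim Y.obj.left : ℤ) := by
    rw [hN]; push_cast; ring
  have hNz' : (dim Q'.obj.left : ℤ) = (dim Y.obj.left : ℤ) + (dim X.obj.left : ℤ) := by
    rw [hN']; push_cast; ring
  have hw : T.pull p' (y : T.H Y) * (ψ : T.H Q') ∈
      T.gr Q' (((r₀ : ℤ) + d + 2 * (dim Y.obj.left : ℤ) - 2 * (dim Q.obj.left : ℤ)) + d') :=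
    SetLike.mul_mem_graded (T.pull_mem p' _ _ y.2) ψ.2
  rw [mul_assoc, T.gradedComm Q' _ _ _ _ (T.pull_mem q' _ fl hfl) hw, map_smul, smul_eq_mul,
    ← tr_corr_mul T p' q' d' ψ _ y fl (2 * (dim X.obj.left : ℤ) - r₀)
      (by rw [hNz, hNz']; linarith) hfl,
    T.gradedComm X _ _ fl _ hfl (Subtype.property _), map_smul, smul_eq_mul]
  congr 1
  have ha : (((r₀ : ℤ) + d + 2 * (dim Y.obj.left : ℤ) - 2 * (dim Q.obj.left : ℤ)) + d').natAbs =
      (((r₀ : ℤ) + d + 2 * (dim Y.obj.left : ℤ) - 2 * (dim Q.obj.left : ℤ)) + d' +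
        2 * (dim X.obj.left : ℤ) - 2 * (dim Q'.obj.left : ℤ)).natAbs + 2 * dim Y.obj.left := by
    omega
  rw [ha, mul_add, pow_add]
  have h2 : (-1 : K) ^ ((2 * (dim X.obj.left : ℤ) - r₀).natAbs * (2 * dim Y.obj.left)) = 1 :=
    Even.neg_one_pow ⟨(2 * (dim X.obj.left : ℤ) - r₀).natAbs * dim Y.obj.left, by ring⟩
  rw [h2, mul_one]

/-- Trace formula for a composite of correspondences. -/
theorem tr_mul_pull_swap_eq {X Y Q Q' : P.FullSubcategory} (p : Q ⟶ X) (q : Q ⟶ Y)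
    (hP : IsProd p q) (p' : Q' ⟶ Y) (q' : Q' ⟶ X) (hP' : IsProd p' q') (σ : Q ⟶ Q')
    (hσ₁ : σ ≫ p' = q) (hσ₂ : σ ≫ q' = p) (d d' : ℤ)
    (hdd : d + d' = 2 * (dim X.obj.left : ℤ) + 2 * (dim Y.obj.left : ℤ))
    (φ : T.gr Q d) (ψ : T.gr Q' d')
    (hD : ∀ i : ℤ, T.gr X (i + d + 2 * (dim Y.obj.left : ℤ) - 2 * (dim Q.obj.left : ℤ) + d' +
      2 * (dim X.obj.left : ℤ) - 2 * (dim Q'.obj.left : ℤ)) = T.gr X i) :
    T.tr Q ((φ : T.H Q) * T.pull σ (ψ : T.H Q')) =
      ∑ i ∈ Finset.range (2 * dim X.obj.left + 1), (-1 : K) ^ i *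
        LinearMap.trace K (T.gr X (i : ℤ))
          ((LinearEquiv.ofEq _ _ (hD (i : ℤ))).toLinearMap ∘ₗ
            (corr T p' q' d' ψ _) ∘ₗ (corr T p q d φ (i : ℤ))) := by
  classical
  have hex : ∀ r : ℕ, ∃ f : Fin (Module.finrank K (T.gr X (r : ℤ))) →
      T.gr X (2 * (dim X.obj.left : ℤ) - r), ∀ i l,
      T.tr X ((f l : T.H X) * (Module.finBasis K (T.gr X (r : ℤ)) i : T.H X)) =
        if i = l then 1 else 0 :=
    fun r => exists_dual_family T X (r : ℤ) (Module.finBasis K (T.gr X (r : ℤ)))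
  choose f hf using hex
  have hφ := eq_corrClass T p q hP d _ (fun r => Module.finBasis K (T.gr X (r : ℤ))) f hf φ
  conv_lhs => rw [hφ]
  unfold corrClass
  rw [Finset.sum_mul, map_sum]
  refine Finset.sum_congr rfl (fun r hr => ?_)
  have hr' : r ≤ 2 * dim X.obj.left := by have := Finset.mem_range.1 hr; omega
  rw [Finset.sum_mul, map_sum]
  simp_rw [smul_mul_assoc, map_smul, smul_eq_mul]
  rw [← Finset.mul_sum]
  congr 1
  rw [LinearMap.trace_eq_matrix_trace K (Module.finBasis K (T.gr X (r : ℤ))), Matrix.trace]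
  refine Finset.sum_congr rfl (fun l _ => ?_)
  rw [Matrix.diag_apply, LinearMap.toMatrix_apply,
    ← tr_mul_eq_repr T (Module.finBasis K (T.gr X (r : ℤ))) (f r) (hf r) _ l]
  simp only [LinearMap.comp_apply, LinearEquiv.coe_coe, LinearEquiv.coe_ofEq_apply]
  rw [← tr_swap_term T p q hP p' q' hP' d d' hdd ψ r hr' (f r l) (f r l).2,
    ← tr_pull_swap T p q hP p' q' hP' σ hσ₁ hσ₂]
  congr 1
  rw [map_mul, map_mul, ← AlgHom.comp_apply, ← AlgHom.comp_apply (T.pull σ), ← T.pull_comp,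
    ← T.pull_comp, hσ₁, hσ₂]

end Gen

section Var
variable {k : Type u} [Field k]
variable {K : Type v} [Field K] (T : TheoryOn.{u, v, w} k (IsVar k) K)

/-- Morphisms into a product. -/
theorem exists_lift_of_isProd {X Y Q Z : Var k} (p : Q ⟶ X) (q : Q ⟶ Y) (hP : IsProd p q)
    (a : Z ⟶ X) (b : Z ⟶ Y) : ∃ g : Z ⟶ Q, g ≫ p = a ∧ g ≫ q = b := by
  have hw : sm a ≫ X.obj.hom = sm b ≫ Y.obj.hom := by rw [sm_w, sm_w]
  have hl : hP.lift (sm a) (sm b) hw ≫ Q.obj.hom = Z.obj.hom := by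
    rw [← sm_w p, ← Category.assoc, hP.lift_fst, sm_w]
  refine ⟨ObjectProperty.homMk (Over.homMk (hP.lift (sm a) (sm b) hw) hl), ?_, ?_⟩
  · apply ObjectProperty.hom_ext
    apply Over.OverMorphism.ext
    exact hP.lift_fst _ _ _
  · apply ObjectProperty.hom_ext
    apply Over.OverMorphism.ext
    exact hP.lift_snd _ _ _

/-- Iterates of an endomorphism. -/
noncomputable def Fpow {X : Var k} (F : X ⟶ X) : ℕ → (X ⟶ X)
  | 0 => 𝟙 X
  | (m + 1) => F ≫ Fpow F m

theorem pull_Fpow {X : Var k} (F : X ⟶ X) (m : ℕ) (b : T.H X) :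
    T.pull (Fpow F m) b = ((T.pull F).toLinearMap ^ m) b := by
  induction m with
  | zero => simp [Fpow, T.pull_id]
  | succ m ih =>
    rw [Fpow, T.pull_comp, AlgHom.comp_apply, ih, pow_succ', Module.End.mul_apply]
    rfl

theorem coe_pullDeg_pow {X : Var k} (F : X ⟶ X) (j : ℤ) (m : ℕ) (b : T.gr X j) :
    (((T.pullDeg F j) ^ m) b : T.H X) = ((T.pull F).toLinearMap ^ m) (b : T.H X) := by
  induction m with
  | zero => simp
  | succ m ih =>
    rw [pow_succ', Module.End.mul_apply, pow_succ', Module.End.mul_apply, ← ih]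
    rfl

theorem coe_aeval_pullDeg {X : Var k} (F : X ⟶ X) (j : ℤ) (Q : Polynomial K) (b : T.gr X j) :
    ((Polynomial.aeval (T.pullDeg F j) Q) b : T.H X) =
      ∑ m ∈ Finset.range (Q.natDegree + 1), Q.coeff m • T.pull (Fpow F m) (b : T.H X) := by
  rw [Polynomial.aeval_eq_sum_range, LinearMap.sum_apply, Submodule.coe_sum]
  refine Finset.sum_congr rfl (fun m _ => ?_)
  rw [LinearMap.smul_apply, Submodule.coe_smul, coe_pullDeg_pow, pull_Fpow]

variable [IsAlgClosed k]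

/-- The class of the image of a section `g` of `p` acts as pull-back along `g ≫ q`. -/
theorem tr_mul_cl_section {X Y Q : Var k} (f : X ⟶ Y) (p : Q ⟶ X) (q : Q ⟶ Y) (hP : IsProd p q)
    (g : X ⟶ Q) (hgp : g ≫ p = 𝟙 X) (hgq : g ≫ q = f) (β : T.H Y) (b : T.H X) :
    T.tr Q (T.pull q β * T.cl Q (sm g (genericPoint ↥X.obj.left)) * T.pull p b) =
      T.tr X (T.pull f β * b) := by
  have hN := dim_eq_add_of_isProd T p q hP
  have hdim : dim X.obj.left ≤ dim Q.obj.left := by omega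
  induction β using induction_homogeneous T Y with
  | zero => simp
  | add x y hx hy => rw [map_add, add_mul, add_mul, map_add, hx, hy, map_add, add_mul, map_add]
  | mem s β hβ =>
    have hc := T.gradedComm Q s _ _ _ (T.pull_mem q s β hβ)
      (T.cl_mem Q (sm g (genericPoint ↥X.obj.left)))
    have hsign : (-1 : K) ^ (s.natAbs *
        (2 * (codim Q.obj.left (sm g (genericPoint ↥X.obj.left)) : ℤ)).natAbs) = 1 := by
      apply Even.neg_one_pow
      apply Even.mul_left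
      rw [Int.natAbs_mul]
      exact Even.mul_right (by decide) _
    rw [hsign, one_smul] at hc
    rw [hc, mul_assoc, ← tr_pull_section T g p hgp hdim, map_mul, ← AlgHom.comp_apply,
      ← AlgHom.comp_apply, ← T.pull_comp, ← T.pull_comp, hgq, hgp, T.pull_id]
    rfl

theorem cl_section_mem {X Y Q : Var k} (p : Q ⟶ X) (q : Q ⟶ Y) (hP : IsProd p q)
    (g : X ⟶ Q) (hgp : g ≫ p = 𝟙 X) :
    T.cl Q (sm g (genericPoint ↥X.obj.left)) ∈ T.gr Q (2 * (dim Y.obj.left : ℤ)) := by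
  have hN := dim_eq_add_of_isProd T p q hP
  have hdim : dim X.obj.left ≤ dim Q.obj.left := by omega
  have hpd : pdim Q.obj.left (sm g (genericPoint ↥X.obj.left)) = dim X.obj.left :=
    pdim_image_genericPoint (sm g) (isClosedEmbedding_of_section g p hgp)
  refine mem_gr_of_eq T Q ?_ (T.cl_mem Q _)
  unfold codim
  rw [hpd]
  push_cast [Nat.cast_sub hdim]
  omega

/-- Algebraic Künneth projectors from coprimality of the characteristic polynomials. -/
theorem exists_kunneth_projector {X Pr : Var k} (p q : Pr ⟶ X) (hP : IsProd p q) (F : X ⟶ X)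
    (hF : ∀ i j : ℤ, i ≠ j → IsCoprime (T.pullDeg F i).charpoly (T.pullDeg F j).charpoly)
    (i : ℤ) :
    ∃ u : T.gr Pr (2 * (dim X.obj.left : ℤ)),
      (u : T.H Pr) ∈ Submodule.span K (Set.range (T.cl Pr)) ∧
      ∀ (j : ℤ) (b : T.gr X j),
        (T.push q (j + 2 * (dim X.obj.left : ℤ)) ⟨T.pull p (b : T.H X) * (u : T.H Pr),
            SetLike.mul_mem_graded (T.pull_mem p j b b.2) u.2⟩ : T.H X) =
          if j = i then (b : T.H X) else 0 := by
  classical
  have hN := dim_eq_add_of_isProd T p q hP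
  have hg : ∀ m : ℕ, ∃ g : X ⟶ Pr, g ≫ q = 𝟙 X ∧ g ≫ p = Fpow F m := by
    intro m
    obtain ⟨g, h1, h2⟩ := exists_lift_of_isProd p q hP (Fpow F m) (𝟙 X)
    exact ⟨g, h2, h1⟩
  choose g hgq hgp using hg
  have hPf : IsProd q p := hP.flip
  have hu : ∀ Q : Polynomial K, (∑ m ∈ Finset.range (Q.natDegree + 1),
      Q.coeff m • T.cl Pr (sm (g m) (genericPoint ↥X.obj.left))) ∈
        T.gr Pr (2 * (dim X.obj.left : ℤ)) := fun Q =>
    Submodule.sum_mem _ (fun m _ => Submodule.smul_mem _ _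
      (cl_section_mem T q p hPf (g m) (hgq m)))
  have hspan : ∀ Q : Polynomial K, (∑ m ∈ Finset.range (Q.natDegree + 1),
      Q.coeff m • T.cl Pr (sm (g m) (genericPoint ↥X.obj.left))) ∈
        Submodule.span K (Set.range (T.cl Pr)) := fun Q =>
    Submodule.sum_mem _ (fun m _ => Submodule.smul_mem _ _ (Submodule.subset_span ⟨_, rfl⟩))
  have hact : ∀ (Q : Polynomial K) (j : ℤ) (b : T.gr X j),
      (T.push q (j + 2 * (dim X.obj.left : ℤ)) ⟨T.pull p (b : T.H X) *
          (∑ m ∈ Finset.range (Q.natDegree + 1),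
            Q.coeff m • T.cl Pr (sm (g m) (genericPoint ↥X.obj.left))),
          SetLike.mul_mem_graded (T.pull_mem p j b b.2) (hu Q)⟩ : T.H X) =
        ((Polynomial.aeval (T.pullDeg F j) Q) b : T.H X) := by
    intro Q j b
    refine eq_of_forall_tr_mul_eq' T X j (2 * (dim X.obj.left : ℤ) - j) (by ring) _ _
      (mem_gr_of_eq T X (by rw [hN]; push_cast; ring) (Subtype.property _))
      (Subtype.property _) (fun b' hb' => ?_)
    rw [tr_push_mul' T q _ _ b' (2 * (dim X.obj.left : ℤ) - j) (by rw [hN]; push_cast; ring) hb']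
    simp only []
    rw [coe_aeval_pullDeg, Finset.mul_sum, Finset.sum_mul, map_sum, Finset.sum_mul, map_sum]
    refine Finset.sum_congr rfl (fun m _ => ?_)
    rw [mul_smul_comm, smul_mul_assoc, map_smul, smul_mul_assoc, map_smul]
    congr 1
    exact tr_mul_cl_section T (Fpow F m) q p hPf (g m) (hgq m) (hgp m) b b'
  by_cases hi : 0 ≤ i ∧ i ≤ 2 * (dim X.obj.left : ℤ)
  · obtain ⟨hi0, hi1⟩ := hi
    lift i to ℕ using hi0
    obtain ⟨a, c, hac⟩ : IsCoprime (T.pullDeg F (i : ℤ)).charpoly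
        (∏ r ∈ (Finset.range (2 * dim X.obj.left + 1)).erase i,
          (T.pullDeg F (r : ℤ)).charpoly) :=
      IsCoprime.prod_right (fun r hr => hF _ _ (by
        intro h
        exact (Finset.ne_of_mem_erase hr) (by exact_mod_cast h.symm)))
    refine ⟨⟨_, hu (c * ∏ r ∈ (Finset.range (2 * dim X.obj.left + 1)).erase i,
      (T.pullDeg F (r : ℤ)).charpoly)⟩, hspan _, fun j b => ?_⟩
    rw [hact]
    by_cases hj : j = (i : ℤ)
    · subst hj
      rw [if_pos rfl]
      have h1 : c * ∏ r ∈ (Finset.range (2 * dim X.obj.left + 1)).erase i,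
          (T.pullDeg F (r : ℤ)).charpoly = 1 - a * (T.pullDeg F (i : ℤ)).charpoly := by
        rw [← hac]; ring
      rw [h1, map_sub, map_one, map_mul, LinearMap.aeval_self_charpoly, mul_zero]
      simp
    · rw [if_neg hj]
      by_cases hj' : 0 ≤ j ∧ j ≤ 2 * (dim X.obj.left : ℤ)
      · obtain ⟨hj0, hj1⟩ := hj'
        lift j to ℕ using hj0
        have hjS : j ∈ (Finset.range (2 * dim X.obj.left + 1)).erase i :=
          Finset.mem_erase.2 ⟨by intro h; exact hj (by rw [h]), Finset.mem_range.2 (by omega)⟩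
        obtain ⟨w, hw⟩ := Finset.dvd_prod_of_mem
          (fun r : ℕ => (T.pullDeg F (r : ℤ)).charpoly) hjS
        rw [hw, map_mul, map_mul, LinearMap.aeval_self_charpoly, zero_mul, mul_zero]
        rfl
      · have hb : b = 0 := Subtype.ext (eq_zero_of_mem_gr T X j (by omega) b b.2)
        rw [hb, map_zero]
        rfl
  · refine ⟨⟨_, hu 0⟩, hspan _, fun j b => ?_⟩
    rw [hact, map_zero]
    split_ifs with hj
    · subst hj
      have hb : b = 0 := Subtype.ext (eq_zero_of_mem_gr T X j (by omega) b b.2)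
      rw [hb]
      rfl
    · rfl

end Var

end Groth.Agent.H77
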