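-- helper77: swap involution of a self-product and algebraic classes (towards S19418)
import Groth.Agent.H77.WeilCorr

set_option autoImplicit false
set_option linter.style.haveILetI false
universe u v w

namespace Groth.Agent.H77

open AlgebraicGeometry CategoryTheory CategoryTheory.Limits WeilCoh

section Gen
variable {k : Type u} [Field k] {P : ObjectProperty (Over (Spec (CommRingCat.of k)))}
variable {K : Type v} [Field K] (T : TheoryOn.{u, v, w} k P K)

theorem coe_corr_congr {X Y Q : P.FullSubcategory} (p : Q ⟶ X) (q : Q ⟶ Y) (d : ℤ)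
    (φ : T.gr Q d) {i i' : ℤ} (h : i = i') (x : T.gr X i) (x' : T.gr X i')
    (hx : (x : T.H X) = (x' : T.H X)) :
    (corr T p q d φ i x : T.H Y) = (corr T p q d φ i' x' : T.H Y) := by
  subst h
  have : x = x' := Subtype.ext hx
  rw [this]

end Gen

section Dim

theorem pdim_iso {X Y : Scheme.{u}} (g : X ⟶ Y) [IsIso g] (ξ : X) :
    pdim Y (g ξ) = pdim X ξ := by
  unfold pdim
  have h : closure ({g ξ} : Set Y) = g.homeomorph '' closure ({ξ} : Set X) := by
    rw [Homeomorph.image_closure, Set.image_singleton]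
    rfl
  rw [h]
  exact (natDim_eq_of_homeomorph (g.homeomorph.image (closure {ξ}))).symm

end Dim

section Var
variable {k : Type u} [Field k]
variable {K : Type v} [Field K] (T : TheoryOn.{u, v, w} k (IsVar k) K)

theorem swap_comp_swap {X Pr : Var k} (p q : Pr ⟶ X) (hP : IsProd p q) (σ : Pr ⟶ Pr)
    (hσp : σ ≫ p = q) (hσq : σ ≫ q = p) : σ ≫ σ = 𝟙 Pr := by
  apply ObjectProperty.hom_ext
  apply Over.OverMorphism.ext
  apply hP.hom_ext
  · have : (σ ≫ σ) ≫ p = 𝟙 Pr ≫ p := by rw [Category.assoc, hσp, hσq, Category.id_comp]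
    exact congrArg (fun g => sm g) this
  · have : (σ ≫ σ) ≫ q = 𝟙 Pr ≫ q := by rw [Category.assoc, hσq, hσp, Category.id_comp]
    exact congrArg (fun g => sm g) this

theorem pull_cl_mem_span_of_involution {Q : Var k} (σ : Q ⟶ Q) (hσ : σ ≫ σ = 𝟙 Q)
    (ξ : Q.obj.left) :
    T.pull σ (T.cl Q ξ) ∈ Submodule.span K (Set.range (T.cl Q)) := by
  have hss : sm σ ≫ sm σ = 𝟙 Q.obj.left := congrArg (fun g => sm g) hσ
  haveI : IsIso (sm σ) := ⟨⟨sm σ, hss, hss⟩⟩
  have hpt : ∀ x : Q.obj.left, (sm σ) ((sm σ) x) = x := by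
    intro x
    have := congrArg (fun g : Q.obj.left ⟶ Q.obj.left => g x) hss
    simpa using this
  have h1 : ∀ w : Q.obj.left, IsCompPt ((sm σ) ⁻¹' closure ({ξ} : Set Q.obj.left)) w →
      (pdim Q.obj.left w : ℤ) = pdim Q.obj.left ξ + dim Q.obj.left - dim Q.obj.left := by
    intro w hw
    have hmem : (sm σ) ξ ∈ (sm σ) ⁻¹' closure ({ξ} : Set Q.obj.left) := by
      rw [Set.mem_preimage, hpt]
      exact subset_closure rfl
    have hsp : (sm σ) ξ ⤳ w := by
      have h0 : ξ ⤳ (sm σ) w := specializes_iff_mem_closure.2 hw.1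
      have := h0.map (sm σ).continuous
      rwa [hpt] at this
    have hw' : (sm σ) ξ = w := hw.2 _ hmem hsp
    rw [← hw', pdim_iso (sm σ) ξ]
    ring
  have h2 : ∃ U : Q.obj.left.Opens, closure ({ξ} : Set Q.obj.left) ⊆ (U : Set Q.obj.left) ∧
      Flat ((sm σ) ∣_ U) := ⟨⊤, fun _ _ => trivial, inferInstance⟩
  rw [T.cl_pull σ ξ h1 (Or.inl h2)]
  refine finsum_induction _ (Submodule.zero_mem _) (fun a b ha hb => Submodule.add_mem _ ha hb)
    (fun w => Submodule.smul_mem _ _ (Submodule.subset_span ⟨w.1, rfl⟩))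

theorem pull_mem_span_of_involution {Q : Var k} (σ : Q ⟶ Q) (hσ : σ ≫ σ = 𝟙 Q)
    (z : T.H Q) (hz : z ∈ Submodule.span K (Set.range (T.cl Q))) :
    T.pull σ z ∈ Submodule.span K (Set.range (T.cl Q)) := by
  induction hz using Submodule.span_induction with
  | mem z hz =>
    obtain ⟨ξ, rfl⟩ := hz
    exact pull_cl_mem_span_of_involution T σ hσ ξ
  | zero => rw [map_zero]; exact Submodule.zero_mem _
  | add a b _ _ ha hb => rw [map_add]; exact Submodule.add_mem _ ha hb
  | smul c a _ ha => rw [map_smul]; exact Submodule.smul_mem _ _ ha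

end Var

end Groth.Agent.H77
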