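-- helper77: dimensions of closures of points on varieties (via helper54's H54.DimClosure)
import Groth.Agent.H77.WeilJac
import Groth.Agent.H54.DimClosure

set_option autoImplicit false
set_option linter.style.haveILetI false
universe u v w

namespace Groth.Agent.H77

open AlgebraicGeometry CategoryTheory CategoryTheory.Limits WeilCoh

section Var
variable {k : Type u} [Field k]

instance locallyOfFiniteType_hom (X : Var k) : LocallyOfFiniteType X.obj.hom := inferInstance

theorem pdim_eq_tdeg (X : Var k) (ξ : X.obj.left) :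
    pdim X.obj.left ξ = Groth.Agent.H54.tdeg X.obj.hom ξ := by
  unfold pdim natDim
  rw [Groth.Agent.H54.topologicalKrullDim_closure_singleton X.obj.hom ξ]
  simp

theorem pdim_le_dim (X : Var k) (ξ : X.obj.left) : pdim X.obj.left ξ ≤ dim X.obj.left := by
  rw [← pdim_genericPoint X.obj.left, pdim_eq_tdeg, pdim_eq_tdeg]
  have h1 := Groth.Agent.H54.topologicalKrullDim_closure_singleton X.obj.hom ξ
  have h2 := Groth.Agent.H54.topologicalKrullDim_closure_singleton X.obj.hom
    (genericPoint X.obj.left)
  have h3 : topologicalKrullDim ↥(closure ({ξ} : Set X.obj.left)) ≤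
      topologicalKrullDim ↥(closure ({genericPoint X.obj.left} : Set X.obj.left)) := by
    have hcl : closure ({genericPoint X.obj.left} : Set X.obj.left) = Set.univ :=
      (genericPoint_spec X.obj.left).def
    rw [hcl, IsHomeomorph.topologicalKrullDim_eq (Homeomorph.Set.univ X.obj.left)
      (Homeomorph.Set.univ X.obj.left).isHomeomorph]
    exact topologicalKrullDim_subspace_le _ _
  rw [h1, h2] at h3
  exact_mod_cast h3

theorem codim_cast (X : Var k) (ξ : X.obj.left) :
    (codim X.obj.left ξ : ℤ) = (dim X.obj.left : ℤ) - (pdim X.obj.left ξ : ℤ) := by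
  unfold codim
  rw [Nat.cast_sub (pdim_le_dim X ξ)]

theorem pdim_map_eq_of_residueDegree_ne_zero {X Y : Var k} (f : X ⟶ Y) (ξ : X.obj.left)
    (h : (sm f).residueDegree ξ ≠ 0) :
    pdim Y.obj.left (sm f ξ) = pdim X.obj.left ξ := by
  rw [pdim_eq_tdeg, pdim_eq_tdeg]
  symm
  refine Groth.Agent.H54.tdeg_eq_of_trdeg_zero X.obj.hom Y.obj.hom (sm f) (sm_w f) ξ ?_
  letI := ((sm f).residueFieldMap ξ).hom.toAlgebra
  have hpos : 0 < Module.finrank (Y.obj.left.residueField ((sm f) ξ))
      (X.obj.left.residueField ξ) := Nat.pos_of_ne_zero h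
  haveI : Module.Finite (Y.obj.left.residueField ((sm f) ξ)) (X.obj.left.residueField ξ) :=
    Module.finite_of_finrank_pos hpos
  haveI : Algebra.IsAlgebraic (Y.obj.left.residueField ((sm f) ξ))
      (X.obj.left.residueField ξ) := Algebra.IsAlgebraic.of_finite _ _
  exact trdeg_eq_zero

end Var

end Groth.Agent.H77
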