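-- helper77: zero-cycles and their classes in a Weil cohomology theory
import Groth.Agent.H77.WeilThy
import Groth.Prelude.Def_ChowOps

set_option autoImplicit false
set_option linter.style.haveILetI false
universe u v w

namespace Groth.Agent.H77

open AlgebraicGeometry CategoryTheory CategoryTheory.Limits WeilCoh

section Closed
variable {k : Type u} [Field k]

/-- A point of a scheme locally of finite type over a field with algebraic residue field is closed. -/
theorem isClosed_singleton_of_isAlgebraic {X : Scheme.{u}} (f : X ⟶ Spec (CommRingCat.of k))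
    [LocallyOfFiniteType f] (x : X)
    (halg : letI := (f.residueFieldMap x).hom.toAlgebra
      Algebra.IsAlgebraic ((Spec (CommRingCat.of k)).residueField (f x)) (X.residueField x)) :
    IsClosed ({x} : Set X) := by
  haveI : JacobsonSpace X := LocallyOfFiniteType.jacobsonSpace f
  rw [isClosed_singleton_iff_locallyOfFiniteType]
  have h1 : X.fromSpecResidueField x ≫ f =
      Spec.map (f.residueFieldMap x) ≫ (Spec (CommRingCat.of k)).fromSpecResidueField (f x) :=
    (Scheme.Hom.SpecMap_residueFieldMap_fromSpecResidueField f x).symm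
  haveI h2 : LocallyOfFiniteType (Spec.map (f.residueFieldMap x)) := by
    rw [HasRingHomProperty.Spec_iff (P := @LocallyOfFiniteType)]
    letI := (f.residueFieldMap x).hom.toAlgebra
    haveI : Algebra.EssFiniteType ((Spec (CommRingCat.of k)).residueField (f x))
        (X.residueField x) :=
      RingHom.EssFiniteType.residueFieldMap (LocallyOfFiniteType.stalkMap f x)
    haveI : Module.Finite ((Spec (CommRingCat.of k)).residueField (f x)) (X.residueField x) :=
      Algebra.finite_of_essFiniteType_of_isAlgebraic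
    have hfin : (f.residueFieldMap x).hom.Finite := this
    exact hfin.finiteType
  haveI h3 : LocallyOfFiniteType ((Spec (CommRingCat.of k)).fromSpecResidueField (f x)) := by
    haveI : Subsingleton ↥(Spec (CommRingCat.of k)) :=
      inferInstanceAs (Subsingleton (PrimeSpectrum k))
    have hcl : IsClosed ({f x} : Set ↥(Spec (CommRingCat.of k))) := isClosed_discrete _
    have := isClosed_singleton_iff_isClosedImmersion.mp hcl
    infer_instance
  haveI : LocallyOfFiniteType (X.fromSpecResidueField x ≫ f) := by rw [h1]; infer_instance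
  exact locallyOfFiniteType_of_comp (X.fromSpecResidueField x) f

end Closed

section Var
variable {k : Type u} [Field k] [IsAlgClosed k]
variable {K : Type v} [Field K] (T : TheoryOn.{u, v, w} k (IsVar k) K)

theorem isClosed_iff_delta_eq_zero (X : Var k) (δ : ↥X.obj.left → ℤ)
    (hδ : Cyc.DeltaCompat X.obj.hom δ (fun _ => 0)) (x : X.obj.left) :
    δ x = 0 ↔ IsClosed ({x} : Set X.obj.left) := by
  obtain ⟨n, hn, hδx⟩ := hδ x
  have hδx' : δ x = 0 + n := hδx
  constructor
  · intro h0
    have hn0 : n = 0 := by omega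
    subst hn0
    refine isClosed_singleton_of_isAlgebraic X.obj.hom x ?_
    letI := (X.obj.hom.residueFieldMap x).hom.toAlgebra
    exact _root_.trdeg_eq_zero_iff.mp (by simpa using hn)
  · intro hx
    have hsurj : Function.Surjective ((sm (toPt X)).residueFieldMap x) := by
      have h : sm (ofPt X x hx) ≫ sm (toPt X) = 𝟙 _ := pointOfClosedPoint_comp X.obj.hom x hx
      obtain ⟨w⟩ : Nonempty ↥(ptObj k).obj.left := inferInstance
      have := (residueFieldMap_bijective_of_comp_eq_id (sm (ofPt X x hx)) (sm (toPt X)) h w).1.2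
      rwa [sm_ofPt_apply] at this
    letI := (X.obj.hom.residueFieldMap x).hom.toAlgebra
    haveI : Module.Finite ((Spec (CommRingCat.of k)).residueField (X.obj.hom x))
        (X.obj.left.residueField x) :=
      Module.Finite.of_surjective (Algebra.linearMap _ _) hsurj
    have h0 : Algebra.trdeg ((Spec (CommRingCat.of k)).residueField (X.obj.hom x))
        (X.obj.left.residueField x) = 0 := _root_.trdeg_eq_zero
    rw [h0] at hn
    have : n = 0 := by exact_mod_cast hn.symm
    omega

omit [IsAlgClosed k] in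
theorem finite_support (X : Var k) (α : AlgebraicCycle X.obj.left ℤ) :
    (Function.support (α : X.obj.left → ℤ)).Finite := by
  have := α.locallyFiniteSupport.finite_inter_support_of_isCompact (isCompact_univ)
  simpa using this

/-- The trace of the class of a zero-cycle is the sum of its coefficients. -/
theorem tr_clCyc_zero (X : Var k) (δ : ↥X.obj.left → ℤ)
    (hδ : Cyc.DeltaCompat X.obj.hom δ (fun _ => 0)) (α : AlgebraicCycle X.obj.left ℤ)
    (hα : α ∈ Cyc.Zk X.obj.left δ 0) :
    T.tr X (T.clCyc X α) = ((∑ᶠ x : X.obj.left, α x : ℤ) : K) := by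
  have hfin := finite_support X α
  unfold TheoryOn.clCyc
  have hfin' : (Function.support fun ξ : X.obj.left => ((α ξ : ℤ) : K) • T.cl X ξ).Finite := by
    refine hfin.subset (fun ξ hξ => ?_)
    simp only [Function.mem_support, ne_eq] at hξ ⊢
    intro h0; apply hξ; rw [h0]; simp
  rw [map_finsum _ hfin']
  have h1 : ∀ ξ : X.obj.left, T.tr X (((α ξ : ℤ) : K) • T.cl X ξ) = ((α ξ : ℤ) : K) := by
    intro ξ
    by_cases h0 : α ξ = 0
    · rw [h0]; simp
    · have hδ0 : δ ξ = 0 := by
        by_contra hne; exact h0 (hα ξ hne)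
      have hcl := (isClosed_iff_delta_eq_zero X δ hδ ξ).mp hδ0
      rw [map_smul, tr_cl_of_isClosed T X ξ hcl, smul_eq_mul, mul_one]
  simp_rw [h1]
  exact (map_finsum (Int.castRingHom K) hfin).symm

/-- The degree of a zero-cycle is the sum of its coefficients. -/
theorem deg_eq_finsum (X : Var k) [QuasiCompact X.obj.hom] (δ : ↥X.obj.left → ℤ)
    (hδ : Cyc.DeltaCompat X.obj.hom δ (fun _ => 0)) (α : AlgebraicCycle X.obj.left ℤ)
    (hα : α ∈ Cyc.Zk X.obj.left δ 0) :
    ChowOps.deg X.obj.hom δ α = ∑ᶠ x : X.obj.left, α x := by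
  unfold ChowOps.deg AlgebraicCycle.map
  rw [Function.locallyFinsupp.map_apply]
  have h1 : ∀ x : X.obj.left, x ∈ (X.obj.hom : X.obj.left → _) ⁻¹' {IsLocalRing.closedPoint k} := by
    intro x
    haveI : Subsingleton ↥(Spec (CommRingCat.of k)) :=
      inferInstanceAs (Subsingleton (PrimeSpectrum k))
    exact Subsingleton.elim _ _
  have h2 : ∀ x : X.obj.left,
      α x * ((AlgebraicCycle.mapCoeff X.obj.hom δ (fun _ => (0 : ℤ)) x : ℕ) : ℤ) = α x := by
    intro x
    by_cases h0 : α x = 0
    · rw [h0]; simp
    · have hδ0 : δ x = 0 := by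
        by_contra hne; exact h0 (hα x hne)
      have hcl := (isClosed_iff_delta_eq_zero X δ hδ x).mp hδ0
      unfold AlgebraicCycle.mapCoeff
      rw [if_pos hδ0]
      have : Scheme.Hom.residueDegree X.obj.hom x = 1 := residueDegree_toPt X x hcl
      rw [this]; simp
  exact (finsum_mem_congr (t := Set.univ) (g := fun x => α x) (Set.eq_univ_of_forall h1)
    (fun x _ => h2 x)).trans (finsum_mem_univ _)

/-- The class of a zero-cycle lives in top degree. -/
theorem clCyc_zero_mem_top (X : Var k) (δ : ↥X.obj.left → ℤ)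
    (hδ : Cyc.DeltaCompat X.obj.hom δ (fun _ => 0)) (α : AlgebraicCycle X.obj.left ℤ)
    (hα : α ∈ Cyc.Zk X.obj.left δ 0) :
    T.clCyc X α ∈ T.gr X (2 * (dim X.obj.left : ℤ)) := by
  unfold TheoryOn.clCyc
  refine finsum_induction (fun z => z ∈ T.gr X (2 * (dim X.obj.left : ℤ))) (Submodule.zero_mem _)
    (fun _ _ => Submodule.add_mem _) (fun ξ => ?_)
  by_cases h0 : α ξ = 0
  · rw [h0]; simp
  · have hδ0 : δ ξ = 0 := by
      by_contra hne; exact h0 (hα ξ hne)
    have hcl := (isClosed_iff_delta_eq_zero X δ hδ ξ).mp hδ0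
    refine Submodule.smul_mem _ _ (mem_gr_of_eq T X ?_ (T.cl_mem X ξ))
    unfold codim
    rw [pdim_eq_zero_of_isClosed ξ hcl]
    simp

theorem isHomEquivZero_iff (X : Var k) [QuasiCompact X.obj.hom] [CharZero K] (δ : ↥X.obj.left → ℤ)
    (hδ : Cyc.DeltaCompat X.obj.hom δ (fun _ => 0)) (α : AlgebraicCycle X.obj.left ℤ)
    (hα : α ∈ Cyc.Zk X.obj.left δ 0) :
    T.IsHomEquivZero X α ↔ ChowOps.deg X.obj.hom δ α = 0 := by
  unfold TheoryOn.IsHomEquivZero
  have htr := tr_clCyc_zero T X δ hδ α hα
  rw [← deg_eq_finsum X δ hδ α hα] at htr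
  constructor
  · intro h
    rw [h, map_zero] at htr
    exact_mod_cast htr.symm
  · intro h
    rw [h, Int.cast_zero] at htr
    have hmem := clCyc_zero_mem_top T X δ hδ α hα
    have := (T.tr_bijective X).1 (a₁ := ⟨T.clCyc X α, hmem⟩) (a₂ := 0) (by
      simp only [LinearMap.domRestrict_apply, map_zero]
      exact htr)
    exact congrArg Subtype.val this

end Var

end Groth.Agent.H77
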