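-- helper77: push-forward of cycle classes in a Weil cohomology theory
import Groth.Agent.H77.WeilDim
import Groth.Agent.H77.WeilZero

set_option autoImplicit false
set_option linter.style.haveILetI false
universe u v w

namespace Groth.Agent.H77

open AlgebraicGeometry CategoryTheory CategoryTheory.Limits WeilCoh

section Field
variable {k : Type u} [Field k]

theorem resMapOf_id_bijective (pt : ↥(Spec (CommRingCat.of k))) :
    Function.Bijective (Groth.Agent.H54.resMapOf (𝟙 (Spec (CommRingCat.of k))) pt) := by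
  have h0 := Scheme.Spec.algebraMap_residueFieldIso_inv (CommRingCat.of k) pt
  have h : CommRingCat.ofHom (Groth.Agent.H54.resMapOf (𝟙 (Spec (CommRingCat.of k))) pt) =
      (Scheme.ΓSpecIso (CommRingCat.of k)).inv ≫
        (Spec (CommRingCat.of k)).presheaf.germ ⊤ pt trivial ≫
          (Spec (CommRingCat.of k)).residue pt := by
    ext c
    simp [Groth.Agent.H54.resMapOf]
  rw [← h0] at h
  have h2 := congrArg CommRingCat.Hom.hom h
  have h3 : (Groth.Agent.H54.resMapOf (𝟙 (Spec (CommRingCat.of k))) pt) =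
      ((Scheme.Spec.residueFieldIso (CommRingCat.of k) pt).inv.hom).comp
        (algebraMap k _) := h2
  rw [h3]
  exact (ConcreteCategory.bijective_of_isIso
    (Scheme.Spec.residueFieldIso (CommRingCat.of k) pt).inv).comp
      ((PrimeSpectrum.asIdeal pt).algEquivResidueFieldOfField).bijective

theorem trdeg_residueField_eq_tdeg {X : Scheme.{u}} (s : X ⟶ Spec (CommRingCat.of k))
    [LocallyOfFiniteType s] (x : X) :
    (letI := (s.residueFieldMap x).hom.toAlgebra
     Algebra.trdeg ((Spec (CommRingCat.of k)).residueField (s x)) (X.residueField x)) =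
      (Groth.Agent.H54.tdeg s x : Cardinal.{u}) := by
  rw [← Groth.Agent.H54.tdeg_spec s x]
  symm
  refine Groth.Agent.H54.trdeg_eq_of_comm_sq (Groth.Agent.H54.resMapOf s x) (RingHom.id _)
    (Groth.Agent.H54.resMapOf (𝟙 _) (s x)) (s.residueFieldMap x).hom Function.bijective_id
    (resMapOf_id_bijective (s x)) ?_
  have := Groth.Agent.H54.resMapOf_comp_residueFieldMap (𝟙 _) s s (Category.comp_id s) x
  have h2 := congrArg CommRingCat.Hom.hom this
  rw [RingHom.id_comp]
  exact h2.symm

theorem delta_eq_pdim (X : Var k) (δ : ↥X.obj.left → ℤ)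
    (hδ : Cyc.DeltaCompat X.obj.hom δ (fun _ => 0)) (x : X.obj.left) :
    δ x = (pdim X.obj.left x : ℤ) := by
  obtain ⟨n, hn, hδx⟩ := hδ x
  rw [trdeg_residueField_eq_tdeg] at hn
  have h : Groth.Agent.H54.tdeg X.obj.hom x = n := by exact_mod_cast hn
  rw [pdim_eq_tdeg, hδx, h]; simp

end Field

section Thy
variable {k : Type u} [Field k]
variable {K : Type v} [Field K] (T : TheoryOn.{u, v, w} k (IsVar k) K)

/-- The push-forward identity for classes against an arbitrary (not necessarily homogeneous)
class. -/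
theorem tr_cl_mul_pull {X Y : Var k} (f : X ⟶ Y) (ξ : X.obj.left) (b : T.H Y) :
    T.tr X (T.cl X ξ * T.pull f b) =
      ((sm f).residueDegree ξ : K) * T.tr Y (T.cl Y (sm f ξ) * b) := by
  have hcod := codim_cast X ξ
  have hb : b ∈ iSup (T.gr Y) := by
    rw [(T.decomp Y).submodule_iSup_eq_top]; trivial
  refine Submodule.iSup_induction (T.gr Y) (motive := fun b =>
    T.tr X (T.cl X ξ * T.pull f b) =
      ((sm f).residueDegree ξ : K) * T.tr Y (T.cl Y (sm f ξ) * b)) hb ?_ ?_ ?_
  · intro i b hbi
    by_cases hi : i = 2 * (pdim X.obj.left ξ : ℤ)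
    · subst hi
      exact T.cl_push f ξ b hbi
    · have hL : T.tr X (T.cl X ξ * T.pull f b) = 0 := by
        refine T.tr_vanish X _ _ (SetLike.mul_mem_graded (T.cl_mem X ξ) (T.pull_mem f i b hbi)) ?_
        rw [hcod]; omega
      rw [hL]
      by_cases h0 : (sm f).residueDegree ξ = 0
      · rw [h0]; simp
      · have hp := pdim_map_eq_of_residueDegree_ne_zero f ξ h0
        have hR : T.tr Y (T.cl Y (sm f ξ) * b) = 0 := by
          refine T.tr_vanish Y _ _ (SetLike.mul_mem_graded (T.cl_mem Y (sm f ξ)) hbi) ?_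
          rw [codim_cast Y, hp]; omega
        rw [hR, mul_zero]
  · simp
  · intro x y hx hy
    rw [map_add, mul_add, map_add, hx, mul_add, map_add, hy, mul_add]

theorem clCyc_eq_sum (X : Var k) (α : AlgebraicCycle X.obj.left ℤ) :
    T.clCyc X α = ∑ x ∈ (finite_support X α).toFinset, ((α x : ℤ) : K) • T.cl X x := by
  unfold TheoryOn.clCyc
  refine finsum_eq_sum_of_support_subset _ ?_
  intro x hx
  simp only [Function.mem_support, ne_eq] at hx
  simp only [Set.Finite.coe_toFinset, Function.mem_support, ne_eq]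
  intro h0; apply hx; rw [h0]; simp

theorem clCyc_map {X Y : Var k} (f : X ⟶ Y) [QuasiCompact (sm f)]
    (δX : ↥X.obj.left → ℤ) (δY : ↥Y.obj.left → ℤ) (α : AlgebraicCycle X.obj.left ℤ) :
    T.clCyc Y (AlgebraicCycle.map (sm f) δX δY α) =
      ∑ x ∈ (finite_support X α).toFinset,
        (((α x * (AlgebraicCycle.mapCoeff (sm f) δX δY x : ℤ) : ℤ)) : K) • T.cl Y (sm f x) := by
  classical
  set S := (finite_support X α).toFinset with hS
  have hmap : ∀ y : Y.obj.left, AlgebraicCycle.map (sm f) δX δY α y =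
      ∑ x ∈ S.filter (fun x => sm f x = y),
        α x * (AlgebraicCycle.mapCoeff (sm f) δX δY x : ℤ) := by
    intro y
    unfold AlgebraicCycle.map
    rw [Function.locallyFinsupp.map_apply]
    refine finsum_mem_eq_sum_of_inter_support_eq _ ?_
    ext x
    simp only [Set.mem_inter_iff, Set.mem_preimage, Set.mem_singleton_iff, Function.mem_support,
      ne_eq, Finset.coe_filter, Set.mem_setOf_eq, hS, Set.Finite.mem_toFinset]
    constructor
    · rintro ⟨h1, h2⟩
      refine ⟨⟨?_, h1⟩, h2⟩
      intro h0; apply h2; rw [h0, zero_mul]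
    · rintro ⟨⟨_, h1⟩, h2⟩
      exact ⟨h1, h2⟩
  unfold TheoryOn.clCyc
  have hsupp : (Function.support fun y : Y.obj.left =>
      ((AlgebraicCycle.map (sm f) δX δY α y : ℤ) : K) • T.cl Y y) ⊆ ↑(S.image (sm f)) := by
    intro y hy
    simp only [Function.mem_support, ne_eq] at hy
    by_contra hny
    apply hy
    rw [hmap y, Finset.sum_eq_zero, Int.cast_zero, zero_smul]
    intro x hx
    exfalso
    apply hny
    rw [Finset.mem_filter] at hx
    simp only [Finset.coe_image, Set.mem_image, Finset.mem_coe]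
    exact ⟨x, hx.1, hx.2⟩
  rw [finsum_eq_sum_of_support_subset _ hsupp]
  rw [← Finset.sum_fiberwise_of_maps_to (s := S) (t := S.image (sm f)) (g := fun x => sm f x)
    (fun x hx => Finset.mem_image_of_mem _ hx)]
  refine Finset.sum_congr rfl (fun y _ => ?_)
  rw [hmap y, Int.cast_sum, Finset.sum_smul]
  refine Finset.sum_congr rfl (fun x hx => ?_)
  rw [Finset.mem_filter] at hx
  rw [hx.2]

end Thy

theorem mul_comm_of_mem_even {k : Type u} [Field k]
    {P : ObjectProperty (Over (Spec (CommRingCat.of k)))}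
    {K : Type v} [Field K] (T : TheoryOn.{u, v, w} k P K) (X : P.FullSubcategory) (i j : ℤ)
    (a b : T.H X) (ha : a ∈ T.gr X i) (hb : b ∈ T.gr X (2 * j)) : a * b = b * a := by
  rw [T.gradedComm X i (2 * j) a b ha hb]
  have h : Even (i.natAbs * (2 * j).natAbs) := by
    rw [Int.natAbs_mul]
    exact ((even_two.mul_right _)).mul_left _
  rw [h.neg_one_pow, one_smul]

end Groth.Agent.H77
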