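import Mathlib
import Groth.Prelude.Def_WeilCoh
import Groth.Prelude.Def_W4c1zetahwZeta
import Groth.Prelude.Def_SgaExt

/-!
# helper77: (PC3b) for helper74 (S15452 / S15453): `k`-points fixed by the `N`-Frobenius are the
`L`-points, `L = {x ∈ k | x ^ N = x}`.
-/

set_option autoImplicit false
universe u v w
open CategoryTheory CategoryTheory.Limits AlgebraicGeometry

namespace Groth.Agent.H77.ZF_PC3b

/-- a morphism from the spectrum of a field factors through any affine open containing the image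
point -/
theorem exists_SpecMap_fromSpec {K : Type u} [Field K] {X : Scheme.{u}}
    (h : Spec (CommRingCat.of K) ⟶ X) {U : X.Opens} (hU : IsAffineOpen U)
    (hx : h (IsLocalRing.closedPoint K) ∈ U) :
    ∃ ψ : Γ(X, U) ⟶ CommRingCat.of K, Spec.map ψ ≫ hU.fromSpec = h := by
  have hle : (⊤ : (Spec (CommRingCat.of K)).Opens) ≤ h ⁻¹ᵁ U := by
    intro t _
    have ht : t = IsLocalRing.closedPoint K :=
      @Subsingleton.elim (PrimeSpectrum K) inferInstance _ _
    show h t ∈ U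
    rw [ht]
    exact hx
  refine ⟨h.appLE U ⊤ hle ≫ (Scheme.ΓSpecIso (CommRingCat.of K)).hom, ?_⟩
  rw [Spec.map_comp, Category.assoc,
    IsAffineOpen.SpecMap_appLE_fromSpec h hU (isAffineOpen_top _) hle,
    IsAffineOpen.fromSpec_top, Scheme.isoSpec_Spec_inv, ← Spec.map_comp_assoc, Iso.inv_hom_id,
    Spec.map_id, Category.id_comp]

theorem comp_FXm {X : Scheme.{u}} (FXm : X ⟶ X) (hle : ∀ U : X.Opens, U ≤ FXm ⁻¹ᵁ U)
    {U : X.Opens} (hU : IsAffineOpen U) {K : CommRingCat.{u}} (ψ : Γ(X, U) ⟶ K) :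
    (Spec.map ψ ≫ hU.fromSpec) ≫ FXm =
      Spec.map (FXm.appLE U U (hle U) ≫ ψ) ≫ hU.fromSpec := by
  rw [Category.assoc, ← IsAffineOpen.SpecMap_appLE_fromSpec FXm hU hU (hle U), ← Category.assoc,
    ← Spec.map_comp]

theorem SpecMap_fromSpec_inj {X : Scheme.{u}} {U : X.Opens} (hU : IsAffineOpen U)
    {K : CommRingCat.{u}} (ψ₁ ψ₂ : Γ(X, U) ⟶ K)
    (h : Spec.map ψ₁ ≫ hU.fromSpec = Spec.map ψ₂ ≫ hU.fromSpec) : ψ₁ = ψ₂ :=
  Spec.map_injective ((cancel_mono hU.fromSpec).mp h)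

/-- (PC3b) -/
theorem card_fixed_eq_pointCount {k₀ : Type u} [Field k₀] {k : Type u} [Field k] [Algebra k₀ k]
    {X : Scheme.{u}} (f : X ⟶ Spec (CommRingCat.of k₀))
    (N : ℕ) (FXm : X ⟶ X) (hFb : FXm.base = 𝟙 _) (hle : ∀ U : X.Opens, U ≤ FXm ⁻¹ᵁ U)
    (hFapp : ∀ (U : X.Opens) (s : Γ(X, U)), (FXm.appLE U U (hle U)).hom s = s ^ N)
    (L : Type u) [Field L] [Algebra k₀ L] [Algebra L k] [IsScalarTower k₀ L k]
    (hL : ∀ x : k, x ^ N = x ↔ x ∈ Set.range (algebraMap L k)) :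
    Nat.card {g : Spec (CommRingCat.of k) ⟶ X //
        g ≫ f = Spec.map (CommRingCat.ofHom (algebraMap k₀ k)) ∧ g ≫ FXm = g} =
      SgaExt.pointCount f L := by
  classical
  unfold SgaExt.pointCount
  set ι : CommRingCat.of L ⟶ CommRingCat.of k := CommRingCat.ofHom (algebraMap L k) with hι
  have hιinj : Function.Injective (algebraMap L k) := (algebraMap L k).injective
  haveI hιmono : Mono ι := ConcreteCategory.mono_of_injective ι hιinj
  have htower : CommRingCat.ofHom (algebraMap k₀ L) ≫ ι = CommRingCat.ofHom (algebraMap k₀ k) := by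
    ext a
    exact (IsScalarTower.algebraMap_apply k₀ L k a).symm
  -- the closed point of `Spec k` goes to the closed point of `Spec L`
  have hpt : ∀ (g' : Spec (CommRingCat.of L) ⟶ X),
      (Spec.map ι ≫ g') (IsLocalRing.closedPoint k) = g' (IsLocalRing.closedPoint L) := by
    intro g'
    rw [Scheme.Hom.comp_apply]
    congr 1
    exact @Subsingleton.elim (PrimeSpectrum L) inferInstance _ _
  -- fixedness of points coming from `L`
  have hfix : ∀ (g' : Spec (CommRingCat.of L) ⟶ X), (Spec.map ι ≫ g') ≫ FXm = Spec.map ι ≫ g' := by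
    intro g'
    obtain ⟨U, hU', hxU, -⟩ := TopologicalSpace.Opens.isBasis_iff_nbhd.mp X.isBasis_affineOpens
      (TopologicalSpace.Opens.mem_top (g' (IsLocalRing.closedPoint L)))
    have hU : IsAffineOpen U := hU'
    obtain ⟨ψ', hψ'⟩ := exists_SpecMap_fromSpec g' hU hxU
    have h1 : Spec.map ι ≫ g' = Spec.map (ψ' ≫ ι) ≫ hU.fromSpec := by
      rw [← hψ', ← Category.assoc, ← Spec.map_comp]
    rw [h1, comp_FXm FXm hle hU]
    congr 2
    ext s
    show ι.hom (ψ'.hom ((FXm.appLE U U (hle U)).hom s)) = ι.hom (ψ'.hom s)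
    rw [hFapp U s, map_pow, map_pow]
    exact (hL _).mpr ⟨ψ'.hom s, rfl⟩
  let Φ : {g' : Spec (CommRingCat.of L) ⟶ X //
        g' ≫ f = Spec.map (CommRingCat.ofHom (algebraMap k₀ L))} →
      {g : Spec (CommRingCat.of k) ⟶ X //
        g ≫ f = Spec.map (CommRingCat.ofHom (algebraMap k₀ k)) ∧ g ≫ FXm = g} :=
    fun g' => ⟨Spec.map ι ≫ g'.1, by
      rw [Category.assoc, g'.2, ← Spec.map_comp, htower], hfix g'.1⟩
  have hinj : Function.Injective Φ := by
    rintro ⟨g₁, hg₁⟩ ⟨g₂, hg₂⟩ h12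
    have h12' : Spec.map ι ≫ g₁ = Spec.map ι ≫ g₂ := congrArg Subtype.val h12
    apply Subtype.ext
    show g₁ = g₂
    obtain ⟨U, hU', hxU, -⟩ := TopologicalSpace.Opens.isBasis_iff_nbhd.mp X.isBasis_affineOpens
      (TopologicalSpace.Opens.mem_top (g₁ (IsLocalRing.closedPoint L)))
    have hU : IsAffineOpen U := hU'
    have hxU₂ : g₂ (IsLocalRing.closedPoint L) ∈ U := by
      rw [← hpt g₂, ← h12', hpt g₁]
      exact hxU
    obtain ⟨ψ₁, hψ₁⟩ := exists_SpecMap_fromSpec g₁ hU hxU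
    obtain ⟨ψ₂, hψ₂⟩ := exists_SpecMap_fromSpec g₂ hU hxU₂
    have h3 : Spec.map (ψ₁ ≫ ι) ≫ hU.fromSpec = Spec.map (ψ₂ ≫ ι) ≫ hU.fromSpec := by
      rw [Spec.map_comp, Spec.map_comp, Category.assoc, Category.assoc, hψ₁, hψ₂]
      exact h12'
    have h4 : ψ₁ ≫ ι = ψ₂ ≫ ι := SpecMap_fromSpec_inj hU _ _ h3
    have h5 : ψ₁ = ψ₂ := (cancel_mono ι).mp h4
    rw [← hψ₁, ← hψ₂, h5]
  have hsurj : Function.Surjective Φ := by
    rintro ⟨g, hgf, hgF⟩
    obtain ⟨U, hU', hxU, -⟩ := TopologicalSpace.Opens.isBasis_iff_nbhd.mp X.isBasis_affineOpens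
      (TopologicalSpace.Opens.mem_top (g (IsLocalRing.closedPoint k)))
    have hU : IsAffineOpen U := hU'
    obtain ⟨ψ, hψ⟩ := exists_SpecMap_fromSpec g hU hxU
    -- `ψ` has values in the fixed field
    have hψfix : FXm.appLE U U (hle U) ≫ ψ = ψ := by
      apply SpecMap_fromSpec_inj hU
      rw [← comp_FXm FXm hle hU, hψ, hgF]
    have hmem : ∀ s : Γ(X, U), ψ.hom s ∈ (algebraMap L k).range := by
      intro s
      have h1 := congrArg (fun θ => θ.hom s) hψfix
      simp only [CommRingCat.hom_comp, RingHom.coe_comp, Function.comp_apply] at h1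
      rw [hFapp U s, map_pow] at h1
      obtain ⟨y, hy⟩ := (hL _).mp h1
      exact ⟨y, hy⟩
    let e : L ≃+* (algebraMap L k).range :=
      RingEquiv.ofBijective (algebraMap L k).rangeRestrict
        ⟨fun a b hab => hιinj (congrArg Subtype.val hab),
          (algebraMap L k).rangeRestrict_surjective⟩
    let ψ'₀ : Γ(X, U) →+* L :=
      e.symm.toRingHom.comp (ψ.hom.codRestrict (algebraMap L k).range hmem)
    have hψ'₀ : ∀ s, algebraMap L k (ψ'₀ s) = ψ.hom s := by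
      intro s
      have h1 : e (ψ'₀ s) = ψ.hom.codRestrict (algebraMap L k).range hmem s :=
        e.apply_symm_apply _
      exact congrArg Subtype.val h1
    set ψ' : Γ(X, U) ⟶ CommRingCat.of L := CommRingCat.ofHom ψ'₀ with hψ'
    have hψι : ψ' ≫ ι = ψ := by
      ext s
      exact hψ'₀ s
    have hg' : Spec.map ι ≫ (Spec.map ψ' ≫ hU.fromSpec) = g := by
      rw [← Category.assoc, ← Spec.map_comp, hψι, hψ]
    obtain ⟨θ, hθ⟩ := Spec.map_surjective ((Spec.map ψ' ≫ hU.fromSpec) ≫ f)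
    have hθ' : θ = CommRingCat.ofHom (algebraMap k₀ L) := by
      apply (cancel_mono ι).mp
      apply Spec.map_injective
      rw [htower, Spec.map_comp, hθ, ← Category.assoc, hg', hgf]
    refine ⟨⟨Spec.map ψ' ≫ hU.fromSpec, by rw [← hθ, hθ']⟩, ?_⟩
    apply Subtype.ext
    exact hg'
  exact (Nat.card_congr (Equiv.ofBijective Φ ⟨hinj, hsurj⟩)).symm

end Groth.Agent.H77.ZF_PC3b
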