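import Mathlib

/-!
# helper77: (D4) for helper15 (S9298): an ideal of a flat "approximable" extension killed by
`τ_i ^ M_i - y_i` is extended from below.
-/

set_option autoImplicit false
universe u

namespace Groth.Agent.H77.ALG_D4

/-- flat colon lemma, in equational form -/
theorem exists_colon_decomposition {B' S : Type u} [CommRing B'] [CommRing S] [Algebra B' S]
    [Module.Flat B' S] {g r : ℕ} (a : Fin g → B') (y : Fin r → B') (x : S)
    (h : ∀ μ, algebraMap B' S (a μ) * x ∈
      Ideal.span (Set.range (fun i => algebraMap B' S (y i)))) :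
    ∃ (k : ℕ) (q : Fin k → B') (z : Fin k → S), x = ∑ j, algebraMap B' S (q j) * z j ∧
      ∀ μ j, a μ * q j ∈ Ideal.span (Set.range y) := by
  classical
  choose s hs using fun μ => (Ideal.mem_span_range_iff_exists_fun).mp (h μ)
  let v : Option (Fin g × Fin r) → S := fun o => o.elim x (fun p => s p.1 p.2)
  let xl : (Option (Fin g × Fin r) →₀ B') →ₗ[B'] S := Finsupp.linearCombination B' v
  let w : Fin g → (Option (Fin g × Fin r) →₀ B') := fun μ =>
    Finsupp.single none (a μ) - ∑ i, Finsupp.single (some (μ, i)) (y i)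
  let f : (Fin g →₀ B') →ₗ[B'] (Option (Fin g × Fin r) →₀ B') := Finsupp.linearCombination B' w
  have hxw : ∀ μ, xl (w μ) = 0 := by
    intro μ
    simp only [xl, w, map_sub, map_sum, Finsupp.linearCombination_single, v, Option.elim]
    rw [Algebra.smul_def, ← hs μ, sub_eq_zero]
    refine Finset.sum_congr rfl fun i _ => ?_
    rw [Algebra.smul_def, mul_comm]
  have hxf : xl ∘ₗ f = 0 := by
    apply Finsupp.lhom_ext
    intro μ b
    simp only [LinearMap.comp_apply, f, Finsupp.linearCombination_single, map_smul, hxw μ,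
      smul_zero, LinearMap.zero_apply]
  obtain ⟨k, A, Yl, hYA, hAf⟩ := Module.Flat.exists_factorization_of_comp_eq_zero_of_free hxf
  have hYl : ∀ c : Fin k →₀ B', Yl c = ∑ j, algebraMap B' S (c j) * Yl (Finsupp.single j 1) := by
    intro c
    conv_lhs => rw [← Finsupp.univ_sum_single c]
    rw [map_sum]
    refine Finset.sum_congr rfl fun j _ => ?_
    rw [← Finsupp.smul_single_one, map_smul, Algebra.smul_def]
  refine ⟨k, fun j => A (Finsupp.single none 1) j, fun j => Yl (Finsupp.single j 1), ?_, ?_⟩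
  · have h1 : x = xl (Finsupp.single none 1) := by
      simp only [xl, Finsupp.linearCombination_single, one_smul, v, Option.elim]
    rw [h1, hYA, LinearMap.comp_apply, hYl]
  · intro μ j
    have h1 : A (w μ) = 0 := by
      have := LinearMap.congr_fun hAf (Finsupp.single μ 1)
      simpa [f, Finsupp.linearCombination_single] using this
    have h2 : A (Finsupp.single none (a μ)) =
        ∑ i, A (Finsupp.single (some (μ, i)) (y i)) := by
      simp only [w, map_sub, map_sum, sub_eq_zero] at h1
      exact h1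
    have h3 : a μ * A (Finsupp.single none 1) j =
        ∑ i, y i * A (Finsupp.single (some (μ, i)) 1) j := by
      have h4 := DFunLike.congr_fun h2 j
      rw [← Finsupp.smul_single_one, map_smul, Finsupp.smul_apply, smul_eq_mul,
        Finsupp.finset_sum_apply] at h4
      rw [h4]
      refine Finset.sum_congr rfl fun i _ => ?_
      rw [← Finsupp.smul_single_one, map_smul, Finsupp.smul_apply, smul_eq_mul]
    rw [h3]
    exact Ideal.sum_mem _ fun i _ => Ideal.mul_mem_right _ _ (Ideal.subset_span ⟨i, rfl⟩)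

/-- (D4) -/
theorem algebraic_ideal {B' S : Type u} [CommRing B'] [CommRing S] (ι : B' →+* S)
    (hflat : ι.Flat) {r : ℕ} (τ : Fin r → B')
    (happ : ∀ (N : ℕ) (s : S), ∃ b : B', s - ι b ∈ ((Ideal.span (Set.range τ)) ^ N).map ι)
    (J : Ideal S) (M : Fin r → ℕ) (y : Fin r → B') (hy : ∀ i, ι (y i) ∈ J)
    (hkill : ∀ i, ∀ x ∈ J, (ι (τ i) ^ M i - ι (y i)) * x = 0) :
    J ≤ (J.comap ι).map ι := by
  classical
  letI := ι.toAlgebra
  haveI : Module.Flat B' S := hflat
  have halg : ∀ b, algebraMap B' S b = ι b := fun _ => rfl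
  have hYJ : Ideal.span (Set.range y) ≤ J.comap ι :=
    Ideal.span_le.mpr (by rintro _ ⟨i, rfl⟩; exact hy i)
  obtain ⟨N, hN⟩ : ∃ N, Ideal.span (Set.range τ) ^ N ≤
      Ideal.span (Set.range fun i => τ i ^ M i) := by
    apply Ideal.exists_pow_le_of_le_radical_of_fg
    · rw [Ideal.span_le]
      rintro _ ⟨i, rfl⟩
      exact ⟨M i, Ideal.subset_span ⟨i, rfl⟩⟩
    · exact Submodule.fg_span (Set.finite_range τ)
  have hfg : (Ideal.span (Set.range τ) ^ N).FG :=
    Ideal.FG.pow (Submodule.fg_span (Set.finite_range τ))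
  obtain ⟨g, a, ha⟩ := Submodule.fg_iff_exists_fin_generating_family.mp hfg
  intro x hx
  have h1 : ∀ b ∈ Ideal.span (Set.range τ) ^ N, ι b * x ∈ (Ideal.span (Set.range y)).map ι := by
    intro b hb
    obtain ⟨c, rfl⟩ := (Ideal.mem_span_range_iff_exists_fun).mp (hN hb)
    rw [map_sum, Finset.sum_mul]
    refine Ideal.sum_mem _ fun i _ => ?_
    have h2 := hkill i x hx
    have h3 : ι (τ i) ^ M i * x = ι (y i) * x := by linear_combination h2
    rw [map_mul, map_pow, mul_assoc, h3]
    exact Ideal.mul_mem_left _ _ (Ideal.mul_mem_right _ _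
      (Ideal.mem_map_of_mem ι (Ideal.subset_span ⟨i, rfl⟩)))
  have hmapY : (Ideal.span (Set.range y)).map ι =
      Ideal.span (Set.range (fun i => algebraMap B' S (y i))) := by
    rw [Ideal.map_span, ← Set.range_comp]
    rfl
  obtain ⟨k, q, z, hxz, hq⟩ := exists_colon_decomposition a y x (fun μ => by
    rw [← hmapY, halg]
    exact h1 (a μ) (by
      have : a μ ∈ Submodule.span B' (Set.range a) := Submodule.subset_span ⟨μ, rfl⟩
      rw [ha] at this
      exact this))
  have hqK : ∀ j, ∀ b ∈ Ideal.span (Set.range τ) ^ N, b * q j ∈ Ideal.span (Set.range y) := by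
    intro j b hb
    have hb' : b ∈ Submodule.span B' (Set.range a) := by rw [ha]; exact hb
    refine Submodule.span_induction (p := fun b _ => b * q j ∈ Ideal.span (Set.range y))
      ?_ ?_ ?_ ?_ hb'
    · rintro _ ⟨μ, rfl⟩
      exact hq μ j
    · simp
    · intro u v _ _ hu hv
      rw [add_mul]
      exact Ideal.add_mem _ hu hv
    · intro c u _ hu
      rw [smul_eq_mul, mul_assoc]
      exact Ideal.mul_mem_left _ _ hu
  choose bb hbb using fun j => happ N (z j)
  have h4 : ∀ j, ι (q j) * (z j - ι (bb j)) ∈ (Ideal.span (Set.range y)).map ι := by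
    intro j
    have h40 : ∀ w ∈ (Ideal.span (Set.range τ) ^ N).map ι,
        ι (q j) * w ∈ (Ideal.span (Set.range y)).map ι := by
      intro w hw
      refine Submodule.span_induction
        (p := fun w _ => ι (q j) * w ∈ (Ideal.span (Set.range y)).map ι) ?_ ?_ ?_ ?_ hw
      · rintro _ ⟨b, hb, rfl⟩
        rw [← map_mul]
        exact Ideal.mem_map_of_mem ι (by rw [mul_comm]; exact hqK j b hb)
      · simp
      · intro u v _ _ hu hv
        rw [mul_add]
        exact Ideal.add_mem _ hu hv
      · intro c u _ hu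
        rw [smul_eq_mul, mul_left_comm]
        exact Ideal.mul_mem_left _ _ hu
    exact h40 _ (hbb j)
  have h5 : x - ι (∑ j, q j * bb j) ∈ (Ideal.span (Set.range y)).map ι := by
    have h50 : x - ι (∑ j, q j * bb j) = ∑ j, ι (q j) * (z j - ι (bb j)) := by
      rw [hxz, map_sum, ← Finset.sum_sub_distrib]
      refine Finset.sum_congr rfl fun j _ => ?_
      rw [halg, map_mul, mul_sub]
    rw [h50]
    exact Ideal.sum_mem _ fun j _ => h4 j
  have hYmapJ : (Ideal.span (Set.range y)).map ι ≤ J := Ideal.map_le_iff_le_comap.mpr hYJ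
  have h6 : ι (∑ j, q j * bb j) ∈ J := by
    have h60 := J.sub_mem hx (hYmapJ h5)
    rwa [sub_sub_cancel] at h60
  have h7 : ι (∑ j, q j * bb j) ∈ (J.comap ι).map ι := Ideal.mem_map_of_mem ι h6
  have h8 : x - ι (∑ j, q j * bb j) ∈ (J.comap ι).map ι := Ideal.map_mono hYJ h5
  have h9 := Ideal.add_mem _ h8 h7
  rwa [sub_add_cancel] at h9

end Groth.Agent.H77.ALG_D4
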