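import Mathlib
import Groth.Agent.H77.ALG_D4
import Groth.Agent.H2.ALG_D3

/-!
# helper77: (D5) for helper15 (S9298)
-/

set_option autoImplicit false
universe u

namespace Groth.Agent.H77.ALG_D5

/-- contraction of an extended ideal containing `K'^n`, via the levelwise bijection -/
theorem mem_of_map_mem {B' S : Type u} [CommRing B'] [CommRing S] (ι : B' →+* S) (L : Ideal B')
    (hL : Function.Bijective (Ideal.quotientMap (L.map ι) ι Ideal.le_comap_map))
    (𝔞 : Ideal B') (h𝔞 : L ≤ 𝔞) (b : B') (hb : ι b ∈ 𝔞.map ι) : b ∈ 𝔞 := by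
  set φ := Ideal.quotientMap (L.map ι) ι Ideal.le_comap_map with hφ
  have h1 : φ (Ideal.Quotient.mk L b) ∈ (𝔞.map (Ideal.Quotient.mk L)).map φ := by
    rw [Ideal.map_map, hφ, Ideal.quotientMap_comp_mk, ← Ideal.map_map, Ideal.quotientMap_mk]
    exact Ideal.mem_map_of_mem _ hb
  have h2 : Ideal.Quotient.mk L b ∈ ((𝔞.map (Ideal.Quotient.mk L)).map φ).comap φ := h1
  rw [Ideal.comap_map_of_surjective φ hL.2, ← RingHom.ker_eq_comap_bot,
    (RingHom.injective_iff_ker_eq_bot φ).mp hL.1, sup_bot_eq] at h2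
  have h3 := (Ideal.mem_quotient_iff_mem_sup (I := L) (J := 𝔞)).mp h2
  rwa [sup_eq_left.mpr h𝔞] at h3

/-- (D5) -/
theorem abs_algebraize {B' S : Type u} [CommRing B'] [CommRing S] [IsNoetherianRing S]
    (ι : B' →+* S) (hflat : ι.Flat) {r : ℕ} (τ : Fin r → B')
    (hlev : ∀ n : ℕ, Function.Bijective
      (Ideal.quotientMap (((Ideal.span (Set.range τ)) ^ n).map ι) ι Ideal.le_comap_map))
    (J : Ideal S)
    (hcompl : IsAdicComplete
      (((Ideal.span (Set.range τ)).map ι).map (Ideal.Quotient.mk J)) (S ⧸ J))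
    (M : Fin r → ℕ) (y : Fin r → B') (hy : ∀ i, ι (y i) ∈ J)
    (hkill : ∀ i, ∀ x ∈ J, (ι (τ i) ^ M i - ι (y i)) * x = 0)
    (KD : Ideal (B' ⧸ J.comap ι))
    (hKD : KD = (Ideal.span (Set.range τ)).map (Ideal.Quotient.mk (J.comap ι))) :
    ∃ e : AdicCompletion KD (B' ⧸ J.comap ι) ≃+* S ⧸ J,
      ∀ b : B', e (algebraMap (B' ⧸ J.comap ι) (AdicCompletion KD (B' ⧸ J.comap ι))
        (Ideal.Quotient.mk (J.comap ι) b)) = Ideal.Quotient.mk J (ι b) := by
  subst hKD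
  set K' := Ideal.span (Set.range τ) with hK'
  set 𝔡 := J.comap ι with h𝔡
  set ιD : B' ⧸ 𝔡 →+* S ⧸ J := Ideal.quotientMap J ι le_rfl with hιD
  have hcomp : ιD.comp (Ideal.Quotient.mk 𝔡) = (Ideal.Quotient.mk J).comp ι :=
    Ideal.quotientMap_comp_mk le_rfl
  have hmapmap : ∀ 𝔞 : Ideal B', (𝔞.map (Ideal.Quotient.mk 𝔡)).map ιD =
      (𝔞.map ι).map (Ideal.Quotient.mk J) := by
    intro 𝔞
    rw [Ideal.map_map, hcomp, ← Ideal.map_map]
  -- approximation
  have happ : ∀ (N : ℕ) (s : S), ∃ b : B', s - ι b ∈ (K' ^ N).map ι := by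
    intro N s
    obtain ⟨x, hx⟩ := (hlev N).2 (Ideal.Quotient.mk _ s)
    obtain ⟨b, rfl⟩ := Ideal.Quotient.mk_surjective x
    refine ⟨b, ?_⟩
    rw [Ideal.quotientMap_mk] at hx
    exact Ideal.Quotient.eq.mp hx.symm
  have hJ : J = 𝔡.map ι :=
    le_antisymm (Groth.Agent.H77.ALG_D4.algebraic_ideal ι hflat τ happ J M y hy hkill)
      Ideal.map_comap_le
  haveI : IsAdicComplete ((K'.map (Ideal.Quotient.mk 𝔡)).map ιD) (S ⧸ J) := by
    rw [hmapmap]
    exact hcompl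
  have hKfg : (K'.map (Ideal.Quotient.mk 𝔡)).FG :=
    Ideal.FG.map (Submodule.fg_span (Set.finite_range τ)) _
  have hpow : ∀ n : ℕ, ((K'.map (Ideal.Quotient.mk 𝔡)) ^ n).map ιD =
      ((K' ^ n).map ι).map (Ideal.Quotient.mk J) := by
    intro n
    rw [← Ideal.map_pow, hmapmap]
  have hlevD : ∀ n : ℕ, Function.Bijective
      (Ideal.quotientMap (((K'.map (Ideal.Quotient.mk 𝔡)) ^ n).map ιD) ιD
        Ideal.le_comap_map) := by
    intro n
    constructor
    · apply Ideal.quotientMap_injective'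
      intro t ht
      obtain ⟨b, rfl⟩ := Ideal.Quotient.mk_surjective t
      have h1 : ιD (Ideal.Quotient.mk 𝔡 b) ∈
          ((K'.map (Ideal.Quotient.mk 𝔡)) ^ n).map ιD := ht
      rw [hpow n, hιD, Ideal.quotientMap_mk] at h1
      have h2 : ι b ∈ (K' ^ n).map ι ⊔ J := Ideal.mem_quotient_iff_mem_sup.mp h1
      rw [hJ, ← Ideal.map_sup] at h2
      have h3 : b ∈ K' ^ n ⊔ 𝔡 :=
        mem_of_map_mem ι (K' ^ n) (hlev n) (K' ^ n ⊔ 𝔡) le_sup_left b h2
      rw [← Ideal.map_pow]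
      exact Ideal.mem_quotient_iff_mem_sup.mpr h3
    · intro z
      obtain ⟨t', rfl⟩ := Ideal.Quotient.mk_surjective z
      obtain ⟨s, rfl⟩ := Ideal.Quotient.mk_surjective t'
      obtain ⟨b, hb⟩ := happ n s
      refine ⟨Ideal.Quotient.mk _ (Ideal.Quotient.mk 𝔡 b), ?_⟩
      rw [Ideal.quotientMap_mk, hιD, Ideal.quotientMap_mk]
      apply Ideal.Quotient.eq.mpr
      rw [hpow n, ← map_sub]
      apply Ideal.mem_map_of_mem
      have h1 := Ideal.neg_mem_iff _ |>.mpr hb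
      rwa [neg_sub] at h1
  obtain ⟨e, he⟩ := Groth.Agent.H2.ALG.adicCompletion_equiv_of_levelwise (K'.map (Ideal.Quotient.mk 𝔡)) hKfg ιD
    hlevD
  refine ⟨e, fun b => ?_⟩
  rw [he, hιD, Ideal.quotientMap_mk]

end Groth.Agent.H77.ALG_D5
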