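import Mathlib
import Groth.Prelude.Def_EtModW
import Groth.Prelude.Def_ARSys
import Groth.Prelude.Def_EtModD2

/-!
# (L) for helper20 / S13620: if the kernel of `v : Y ⟶ F` is AR-null and `lim F = 0` then
`lim Y = 0` (helper77)
-/
set_option autoImplicit false
universe u v₁ u₁
open CategoryTheory CategoryTheory.Limits AlgebraicGeometry Opposite

namespace Groth.Agent.H77.ARNull_L

theorem isZero_limit_of_isARNull_kernel {C : Type u₁} [Category.{v₁} C] [Abelian C]
    [HasLimitsOfShape ℕᵒᵖ C] {Y F : ARSys.PS C} (v : Y ⟶ F) (hk : ARSys.IsARNull (kernel v))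
    (h0 : IsZero (limit F)) : IsZero (limit Y) := by
  obtain ⟨r, hr⟩ := hk
  rw [IsZero.iff_id_eq_zero]
  have hlim : limMap v = 0 := h0.eq_of_tgt _ _
  let c : (Functor.const ℕᵒᵖ).obj (limit Y) ⟶ Y := (limit.cone Y).π
  have hc : c ≫ v = 0 := by
    ext k
    change limit.π Y k ≫ v.app k = 0
    rw [← limMap_π, hlim, zero_comp]
  let l := kernel.lift v c hc
  have hl : l ≫ kernel.ι v = c := kernel.lift_ι v c hc
  apply limit.hom_ext
  intro j
  obtain ⟨n⟩ := j
  rw [Category.id_comp, zero_comp]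
  have h1 : (kernel v).map (homOfLE (Nat.le_add_right n r)).op = 0 := hr n
  have hw : limit.π Y (op (n + r)) ≫ Y.map (homOfLE (Nat.le_add_right n r)).op =
      limit.π Y (op n) := limit.w Y _
  have hl' : l.app (op (n + r)) ≫ (kernel.ι v).app (op (n + r)) = limit.π Y (op (n + r)) := by
    rw [← NatTrans.comp_app, hl]
    rfl
  have hnat := (kernel.ι v).naturality (homOfLE (Nat.le_add_right n r)).op
  rw [← hw, ← hl', Category.assoc, ← hnat, ← Category.assoc, h1, comp_zero, zero_comp]

end Groth.Agent.H77.ARNull_L
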