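import Mathlib
import Groth.Prelude.Def_EtModW
import Groth.Prelude.Def_ARSys
import Groth.Prelude.Def_EtModD2

/-!
# (S) for helper20 / S13620: a strict system of modules with zero limit is zero (helper77)
-/
set_option autoImplicit false
universe u v₁ u₁
open CategoryTheory CategoryTheory.Limits AlgebraicGeometry Opposite

namespace Groth.Agent.H77.ARNull_S

/-- translation `k ↦ n + k` -/
def addL (n : ℕ) : ℕ ⥤ ℕ :=
  Monotone.functor (f := fun k : ℕ => n + k) (fun _ _ h => Nat.add_le_add_left h n)

theorem isZero_obj_of_isZero_limit (Λ : Type (u + 1)) [CommRing Λ]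
    (Y : ℕᵒᵖ ⥤ ModuleCat.{u + 1} Λ) (hepi : ∀ (n m : ℕ) (h : n ≤ m), Epi (ARSys.tr Y h))
    (h0 : IsZero (limit Y)) (n : ℕ) : IsZero (Y.obj (op n)) := by
  let Z : ℕᵒᵖ ⥤ ModuleCat.{u + 1} Λ := (addL n).op ⋙ Y
  have hZ : ∀ k, Function.Surjective (Z.map (homOfLE (Nat.le_succ k)).op) := by
    intro k
    have h1 : Epi (ARSys.tr Y (Nat.add_le_add_left (Nat.le_succ k) n)) := hepi _ _ _
    exact (ModuleCat.epi_iff_surjective _).1 h1
  have hsurj : Function.Surjective ((limit.cone Z).π.app ⟨0⟩) :=
    Concrete.surjective_π_app_zero_of_surjective_map (limit.isLimit Z) hZ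
  let t : limit Z ⟶ limit Y := limit.lift Y
    { pt := limit Z
      π :=
        { app := fun m => limit.π Z m ≫ Y.map (homOfLE (Nat.le_add_left m.unop n)).op
          naturality := by
            intro a b f
            simp only [Functor.const_obj_obj, Functor.const_obj_map, Category.id_comp]
            rw [← limit.w Z f, Category.assoc, Category.assoc]
            congr 1
            exact (Y.map_comp _ _).symm.trans
              ((congrArg (fun g => Y.map g) (Subsingleton.elim _ _)).trans (Y.map_comp _ _)) } }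
  have ht : t = 0 := h0.eq_of_tgt _ _
  have h3 : t ≫ limit.π Y (op n) =
      limit.π Z (op n) ≫ Y.map (homOfLE (Nat.le_add_left n n)).op := limit.lift_π _ _
  have h5 : limit.π Z (op 0) = t ≫ limit.π Y (op n) := by
    rw [h3, ← limit.w Z (homOfLE (Nat.zero_le n)).op]
    rfl
  have h6 : limit.π Z (op 0) = 0 := by rw [h5, ht, zero_comp]; rfl
  rw [IsZero.iff_id_eq_zero]
  ext y
  obtain ⟨w, hw⟩ := hsurj y
  have h7 : (limit.cone Z).π.app ⟨0⟩ = 0 := h6
  rw [h7] at hw
  change y = 0
  rw [← hw]
  rfl

end Groth.Agent.H77.ARNull_S
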