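-- helper77: places of k(x) and Artin–Schreier normal forms in characteristic 2
import Groth.Prelude.Def_W4bk4goldsch23FF
import Mathlib

set_option autoImplicit false

namespace Groth.Agent.H77

open Polynomial

section Places
variable {k : Type*} [Field k]

local notation "φ" => algebraMap k[X] (RatFunc k)

/-- normal form: denominators with odd multiplicities, odd pole at infinity -/
def ASNormal (N D : k[X]) : Prop :=
  D ≠ 0 ∧ IsCoprime N D ∧
  (∀ q : k[X], Irreducible q → ∀ (e : ℕ) (D' : k[X]), D = q ^ e * D' → ¬ q ∣ D' → e ≠ 0 → Odd e) ∧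
  (D.natDegree < N.natDegree → Odd (N.natDegree - D.natDegree))

theorem phi_ne_zero {a : k[X]} (ha : a ≠ 0) : φ a ≠ 0 := by
  intro h
  exact ha ((map_eq_zero_iff _ (IsFractionRing.injective k[X] (RatFunc k))).mp h)

theorem val_const (P : FunFld.Place k (RatFunc k)) (c : k) (hc : c ≠ 0) :
    P.1 (φ (C c)) = 1 := by
  have e1 : ∀ c : k, φ (C c) = algebraMap k (RatFunc k) c := fun c => by
    rw [IsScalarTower.algebraMap_apply k k[X] (RatFunc k)]; rfl
  have h1 : P.1 (φ (C c)) ≤ 1 := by rw [e1]; exact P.2.1 c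
  have h2 : P.1 (φ (C c⁻¹)) ≤ 1 := by rw [e1]; exact P.2.1 c⁻¹
  have h3 : P.1 (φ (C c)) * P.1 (φ (C c⁻¹)) = 1 := by
    rw [← map_mul, ← map_mul, ← C_mul, mul_inv_cancel₀ hc, C_1, map_one, map_one]
  refine le_antisymm h1 ?_
  calc (1 : WithZero (Multiplicative ℤ)) = P.1 (φ (C c)) * P.1 (φ (C c⁻¹)) := h3.symm
    _ ≤ P.1 (φ (C c)) * 1 := by gcongr
    _ = P.1 (φ (C c)) := mul_one _

theorem val_const_le (P : FunFld.Place k (RatFunc k)) (c : k) : P.1 (φ (C c)) ≤ 1 := by
  by_cases hc : c = 0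
  · rw [hc]; simp
  · exact (val_const P c hc).le

theorem val_poly_le_one (P : FunFld.Place k (RatFunc k)) (hX : P.1 (φ X) ≤ 1) (a : k[X]) :
    P.1 (φ a) ≤ 1 := by
  induction a using Polynomial.induction_on' with
  | add p q hp hq => rw [map_add]; exact (P.1.map_add _ _).trans (max_le hp hq)
  | monomial n c =>
    rw [← C_mul_X_pow_eq_monomial, map_mul, map_pow, map_mul, map_pow]
    exact mul_le_one' (val_const_le P c) (pow_le_one' hX n)

/-- a uniformizer has valuation `exp (-1)` -/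
theorem log_uniformizer (v : Valuation (RatFunc k) (WithZero (Multiplicative ℤ)))
    (hsurj : Function.Surjective v) (π : RatFunc k) (hπ0 : π ≠ 0) (hπ : v π < 1) (n : k[X] → ℤ)
    (hn : ∀ a : k[X], a ≠ 0 → v (φ a) = v π ^ n a) : WithZero.log (v π) = -1 := by
  obtain ⟨y, hy⟩ := hsurj (WithZero.exp (-1))
  have hvπ0 : v π ≠ 0 := (Valuation.ne_zero_iff v).mpr hπ0
  have hy0 : y ≠ 0 := by
    intro h; rw [h, map_zero] at hy; exact WithZero.exp_ne_zero hy.symm
  have hnum0 : y.num ≠ 0 := RatFunc.num_ne_zero hy0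
  have hden0 : y.denom ≠ 0 := RatFunc.denom_ne_zero y
  have hy' : v y = v π ^ (n y.num) / v π ^ (n y.denom) := by
    conv_lhs => rw [← RatFunc.num_div_denom y]
    rw [map_div₀, hn _ hnum0, hn _ hden0]
  rw [hy] at hy'
  have hlog := congrArg WithZero.log hy'
  rw [WithZero.log_exp, WithZero.log_div (zpow_ne_zero _ hvπ0) (zpow_ne_zero _ hvπ0),
    WithZero.log_zpow, WithZero.log_zpow, smul_eq_mul, smul_eq_mul] at hlog
  have hneg : WithZero.log (v π) < 0 := by
    rw [WithZero.log_lt_iff_lt_exp hvπ0, WithZero.exp_zero]; exact hπ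
  have hmul : (n y.denom - n y.num) * WithZero.log (v π) = 1 := by linarith
  have hunit : IsUnit (WithZero.log (v π)) := IsUnit.of_mul_eq_one _ (by rw [mul_comm]; exact hmul)
  rcases Int.isUnit_iff.mp hunit with h | h
  · omega
  · exact h

theorem ord_of_uniformizer (P : FunFld.Place k (RatFunc k)) (π : RatFunc k) (hπ0 : π ≠ 0)
    (hπ : P.1 π < 1) (n : k[X] → ℤ)
    (hn : ∀ a : k[X], a ≠ 0 → P.1 (φ a) = P.1 π ^ n a) (N D : k[X]) (hN : N ≠ 0) (hD : D ≠ 0) :
    P.ord (φ N / φ D) = n N - n D := by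
  have hlog := log_uniformizer P.1 P.2.2 π hπ0 hπ n hn
  have hvπ0 : P.1 π ≠ 0 := (Valuation.ne_zero_iff P.1).mpr hπ0
  unfold FunFld.Place.ord
  rw [map_div₀, hn N hN, hn D hD, WithZero.log_div (zpow_ne_zero _ hvπ0) (zpow_ne_zero _ hvπ0),
    WithZero.log_zpow, WithZero.log_zpow, hlog, smul_eq_mul, smul_eq_mul]
  ring

/-- the infinite place -/
theorem val_poly_of_one_lt (P : FunFld.Place k (RatFunc k)) (hX : 1 < P.1 (φ X)) (a : k[X])
    (ha : a ≠ 0) : P.1 (φ a) = P.1 (φ X) ^ a.natDegree := by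
  classical
  have hvX0 : P.1 (φ X) ≠ 0 := (zero_lt_one.trans hX).ne'
  have hlc : a.leadingCoeff ≠ 0 := leadingCoeff_ne_zero.mpr ha
  have hsum : φ a = φ (C a.leadingCoeff) * φ X ^ a.natDegree +
      ∑ i ∈ Finset.range a.natDegree, φ (C (a.coeff i)) * φ X ^ i := by
    conv_lhs => rw [a.as_sum_range_C_mul_X_pow]
    rw [Finset.sum_range_succ, map_add, map_sum, add_comm]
    congr 1
    · rw [map_mul, map_pow]; rfl
    · refine Finset.sum_congr rfl (fun i _ => ?_)
      rw [map_mul, map_pow]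
  have hlead : P.1 (φ (C a.leadingCoeff) * φ X ^ a.natDegree) = P.1 (φ X) ^ a.natDegree := by
    rw [map_mul, map_pow, val_const P _ hlc, one_mul]
  have hlow : P.1 (∑ i ∈ Finset.range a.natDegree, φ (C (a.coeff i)) * φ X ^ i) <
      P.1 (φ X) ^ a.natDegree := by
    refine Valuation.map_sum_lt P.1 (pow_ne_zero _ hvX0) (fun i hi => ?_)
    rw [map_mul, map_pow]
    have hi' : i < a.natDegree := Finset.mem_range.mp hi
    calc P.1 (φ (C (a.coeff i))) * P.1 (φ X) ^ i ≤ 1 * P.1 (φ X) ^ i := by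
          gcongr; exact val_const_le P _
      _ = P.1 (φ X) ^ i := one_mul _
      _ < P.1 (φ X) ^ a.natDegree := pow_lt_pow_right₀ hX hi'
  rw [hsum, Valuation.map_add_eq_of_lt_left P.1 (by rw [hlead]; exact hlow), hlead]

theorem ord_infinite (P : FunFld.Place k (RatFunc k)) (hX : 1 < P.1 (φ X)) (N D : k[X])
    (hN : N ≠ 0) (hD : D ≠ 0) :
    P.ord (φ N / φ D) = -((N.natDegree : ℤ) - (D.natDegree : ℤ)) := by
  have hvX0 : P.1 (φ X) ≠ 0 := (zero_lt_one.trans hX).ne'
  have hX0 : φ X ≠ 0 := (Valuation.ne_zero_iff P.1).mp hvX0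
  have h := ord_of_uniformizer P (φ X)⁻¹ (inv_ne_zero hX0)
    (by rw [map_inv₀]; exact inv_lt_one_of_one_lt₀ hX) (fun a => -(a.natDegree : ℤ))
    (fun a ha => by
      rw [val_poly_of_one_lt P hX a ha, map_inv₀, zpow_neg, inv_zpow, inv_inv, zpow_natCast])
    N D hN hD
  rw [h]; ring

/-- the finite places -/
theorem ord_finite (P : FunFld.Place k (RatFunc k)) (hX : P.1 (φ X) ≤ 1) (N D : k[X])
    (hcop : IsCoprime N D) (hD : D ≠ 0) (hord : P.ord (φ N / φ D) < 0) :
    ∃ (q : k[X]) (e : ℕ) (D' : k[X]), Irreducible q ∧ D = q ^ e * D' ∧ ¬ q ∣ D' ∧ e ≠ 0 ∧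
      P.ord (φ N / φ D) = -(e : ℤ) := by
  classical
  have hle := val_poly_le_one P hX
  let 𝔮 : Ideal k[X] :=
    { carrier := {a | P.1 (φ a) < 1}
      add_mem' := fun {a b} ha hb => by
        show P.1 (φ (a + b)) < 1
        rw [map_add]; exact lt_of_le_of_lt (P.1.map_add _ _) (max_lt ha hb)
      zero_mem' := by show P.1 (φ 0) < 1; simp
      smul_mem' := fun c a ha => by
        show P.1 (φ (c • a)) < 1
        rw [smul_eq_mul, map_mul, map_mul]
        exact lt_of_le_of_lt (mul_le_of_le_one_left' (hle c)) ha }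
  have hmem : ∀ a, a ∈ 𝔮 ↔ P.1 (φ a) < 1 := fun a => Iff.rfl
  have hnot : ∀ a, a ∉ 𝔮 → P.1 (φ a) = 1 := fun a ha =>
    le_antisymm (hle a) (not_lt.mp (fun h => ha ((hmem a).mpr h)))
  have hN0 : N ≠ 0 := by
    intro h
    rw [h, map_zero, zero_div] at hord
    unfold FunFld.Place.ord at hord
    simp at hord
  have hf0 : φ N / φ D ≠ 0 := div_ne_zero (phi_ne_zero hN0) (phi_ne_zero hD)
  have hvf0 : P.1 (φ N / φ D) ≠ 0 := (Valuation.ne_zero_iff P.1).mpr hf0
  have hvf : 1 < P.1 (φ N / φ D) := by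
    unfold FunFld.Place.ord at hord
    have h1 : 0 < WithZero.log (P.1 (φ N / φ D)) := by linarith
    rw [WithZero.lt_log_iff_exp_lt hvf0, WithZero.exp_zero] at h1
    exact h1
  have hDq : D ∈ 𝔮 := by
    by_contra hD'
    rw [map_div₀, hnot D hD', div_one] at hvf
    exact absurd (hle N) (not_le.mpr hvf)
  have hprime : 𝔮.IsPrime := by
    refine ⟨?_, ?_⟩
    · rw [Ideal.ne_top_iff_one]
      intro h1
      have h2 := (hmem 1).mp h1
      rw [map_one, map_one] at h2
      exact lt_irrefl _ h2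
    · intro a b hab
      by_contra hcon
      push Not at hcon
      have h1 := (hmem _).mp hab
      rw [map_mul, map_mul, hnot a hcon.1, hnot b hcon.2, one_mul] at h1
      exact lt_irrefl _ h1
  have hq0 : 𝔮 ≠ ⊥ := by
    intro h
    rw [h, Ideal.mem_bot] at hDq
    exact hD hDq
  obtain ⟨q, hq⟩ : ∃ q, 𝔮 = Ideal.span {q} := (IsPrincipalIdealRing.principal 𝔮).principal
  have hqne : q ≠ 0 := by
    intro h
    apply hq0
    rw [hq, h]
    exact Ideal.span_singleton_eq_bot.mpr rfl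
  have hqprime : Prime q := (Ideal.span_singleton_prime hqne).mp (hq ▸ hprime)
  have hqdvd : ∀ a, q ∣ a ↔ P.1 (φ a) < 1 := by
    intro a
    rw [← Ideal.mem_span_singleton, ← hq]
    exact hmem a
  have hdecomp : ∀ a : k[X], a ≠ 0 → ∃ (e : ℕ) (a' : k[X]), ¬ q ∣ a' ∧ a = q ^ e * a' :=
    fun a ha => WfDvdMonoid.max_power_factor ha hqprime.irreducible
  choose! e' a' he' using hdecomp
  have hvq : P.1 (φ q) < 1 := (hqdvd q).mp dvd_rfl
  have hn : ∀ a : k[X], a ≠ 0 → P.1 (φ a) = P.1 (φ q) ^ ((e' a : ℕ) : ℤ) := by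
    intro a ha
    obtain ⟨h1, h2⟩ := he' a ha
    have h3 : P.1 (φ (a' a)) = 1 := hnot _ (fun h => h1 ((hqdvd _).mpr ((hmem _).mp h)))
    conv_lhs => rw [h2]
    rw [map_mul, map_pow, map_mul, map_pow, h3, mul_one, zpow_natCast]
  have hord' := ord_of_uniformizer P (φ q) (phi_ne_zero hqne) hvq (fun a => ((e' a : ℕ) : ℤ)) hn
    N D hN0 hD
  obtain ⟨hD1, hD2⟩ := he' D hD
  obtain ⟨hN1, hN2⟩ := he' N hN0
  have hqD : q ∣ D := (hqdvd D).mpr ((hmem D).mp hDq)
  have heD : e' D ≠ 0 := by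
    intro h0
    rw [h0, pow_zero, one_mul] at hD2
    exact hD1 (hD2 ▸ hqD)
  have heN : e' N = 0 := by
    by_contra h0
    have hqN : q ∣ N := by
      rw [hN2]
      exact Dvd.dvd.mul_right (dvd_pow_self q h0) _
    have h1 : IsUnit q := hcop.isUnit_of_dvd' hqN hqD
    exact hqprime.not_unit h1
  refine ⟨q, e' D, a' D, hqprime.irreducible, hD2, hD1, heD, ?_⟩
  rw [hord', heN]
  simp

theorem odd_ord_of_asNormal (N D : k[X]) (h : ASNormal N D) (P : FunFld.Place k (RatFunc k))
    (hP : P.ord (φ N / φ D) < 0) : Odd (P.ord (φ N / φ D)) := by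
  obtain ⟨hD, hcop, hfin, hinf⟩ := h
  rcases le_or_gt (P.1 (φ X)) 1 with hX | hX
  · obtain ⟨q, e, D', hq, hDe, hqD', he, hord⟩ := ord_finite P hX N D hcop hD hP
    rw [hord]
    have := hfin q hq e D' hDe hqD' he
    exact (Int.odd_coe_nat e |>.mpr this).neg
  · have hN0 : N ≠ 0 := by
      intro h
      rw [h, map_zero, zero_div] at hP
      unfold FunFld.Place.ord at hP
      simp at hP
    have hord := ord_infinite P hX N D hN0 hD
    rw [hord] at hP ⊢
    have hlt : D.natDegree < N.natDegree := by omega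
    have hodd := hinf hlt
    have hcast : ((N.natDegree : ℤ) - (D.natDegree : ℤ)) = ((N.natDegree - D.natDegree : ℕ) : ℤ) := by
      omega
    rw [hcast]
    exact (Int.odd_coe_nat _ |>.mpr hodd).neg

end Places

section Reduce
variable {k : Type*} [Field k]

local notation "φ" => algebraMap k[X] (RatFunc k)

/-- the size of a rational function -/
noncomputable def mu (f : RatFunc k) : ℕ := max f.num.natDegree f.denom.natDegree

theorem mu_div_le (A B : k[X]) (hB : B ≠ 0) : mu (φ A / φ B) ≤ max A.natDegree B.natDegree := by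
  unfold mu
  by_cases hA : A = 0
  · rw [hA, map_zero, zero_div, RatFunc.num_zero, RatFunc.denom_zero]; simp
  · exact max_le_max (natDegree_le_of_dvd (RatFunc.num_div_dvd A hB) hA)
      (natDegree_le_of_dvd (RatFunc.denom_div_dvd A B) hB)

theorem exists_sq_of_perfect {L : Type*} [Field L] [PerfectField L] [CharP L 2] (c : L) :
    ∃ s : L, s ^ 2 = c := by
  haveI : ExpChar L 2 := ExpChar.prime Nat.prime_two
  haveI : PerfectRing L 2 := PerfectField.toPerfectRing 2
  obtain ⟨s, hs⟩ := surjective_frobenius L 2 c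
  exact ⟨s, by rwa [frobenius_def] at hs⟩

variable [PerfectField k] [CharP k 2]

theorem step_infinite (N D : k[X]) (hD : D.Monic) (m : ℕ) (hm : m ≠ 0)
    (hdeg : N.natDegree = D.natDegree + (m + m)) :
    ∃ g : RatFunc k, mu (φ N / φ D + g ^ 2 + g) < N.natDegree := by
  have hD0 : D ≠ 0 := hD.ne_zero
  have hN0 : N ≠ 0 := by
    intro h; rw [h, natDegree_zero] at hdeg; omega
  obtain ⟨c, hc⟩ := exists_sq_of_perfect N.leadingCoeff
  have hc0 : c ≠ 0 := by
    intro h; rw [h] at hc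
    have : N.leadingCoeff = 0 := by rw [← hc]; ring
    exact hN0 (leadingCoeff_eq_zero.mp this)
  set M : k[X] := C c * X ^ m with hM
  have hM0 : M ≠ 0 := mul_ne_zero (C_ne_zero.mpr hc0) (pow_ne_zero _ X_ne_zero)
  have hMdeg : M.natDegree = m := natDegree_C_mul_X_pow m c hc0
  have hMlc : M.leadingCoeff = c := by
    rw [hM, leadingCoeff_mul, leadingCoeff_C, leadingCoeff_X_pow, mul_one]
  set A : k[X] := M ^ 2 * D with hA
  have hA0 : A ≠ 0 := mul_ne_zero (pow_ne_zero _ hM0) hD0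
  have hAdeg : A.natDegree = N.natDegree := by
    rw [hA, natDegree_mul (pow_ne_zero _ hM0) hD0, natDegree_pow, hMdeg, hdeg]; ring
  have hAlc : A.leadingCoeff = N.leadingCoeff := by
    rw [hA, leadingCoeff_mul, leadingCoeff_pow, hMlc, hD.leadingCoeff, mul_one, hc]
  have h1 : (N + A).degree < N.degree := by
    have h2 : N + A = N - A := (CharTwo.sub_eq_add N A).symm
    rw [h2]
    refine degree_sub_lt ?_ hN0 hAlc.symm
    rw [degree_eq_natDegree hN0, degree_eq_natDegree hA0, hAdeg]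
  have h2 : (M * D).degree < N.degree := by
    rw [degree_eq_natDegree hN0, degree_eq_natDegree (mul_ne_zero hM0 hD0),
      natDegree_mul hM0 hD0, hMdeg, hdeg]
    exact_mod_cast (by omega : m + D.natDegree < D.natDegree + (m + m))
  set N' : k[X] := N + A + M * D with hN'
  have h3 : N'.degree < N.degree := lt_of_le_of_lt (degree_add_le _ _) (max_lt h1 h2)
  have h4 : N'.natDegree < N.natDegree := by
    by_cases h0 : N' = 0
    · rw [h0, natDegree_zero]; omega
    · exact natDegree_lt_natDegree h0 h3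
  refine ⟨φ M, ?_⟩
  have hφD : φ D ≠ 0 := phi_ne_zero hD0
  have key : φ N / φ D + φ M ^ 2 + φ M = φ N' / φ D := by
    rw [hN', hA]
    simp only [map_add, map_mul, map_pow]
    field_simp
  rw [key]
  refine lt_of_le_of_lt (mu_div_le N' D hD0) (max_lt h4 ?_)
  omega

theorem step_finite (N D : k[X]) (q D' : k[X]) (hq : Irreducible q) (m : ℕ) (hm : m ≠ 0)
    (hDe : D = q ^ (m + m) * D') (hqD' : ¬ q ∣ D') :
    ∃ g : RatFunc k, mu (φ N / φ D + g ^ 2 + g) < max N.natDegree D.natDegree := by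
  haveI : Fact (Irreducible q) := ⟨hq⟩
  have hq0 : q ≠ 0 := hq.ne_zero
  have hD'0 : D' ≠ 0 := by
    intro h; exact hqD' (h ▸ dvd_zero q)
  haveI : Module.Finite k (AdjoinRoot q) := (AdjoinRoot.powerBasis hq0).finite
  haveI : Algebra.IsAlgebraic k (AdjoinRoot q) := Algebra.IsAlgebraic.of_finite k (AdjoinRoot q)
  haveI : PerfectField (AdjoinRoot q) := Algebra.IsAlgebraic.perfectField (K := k)
  haveI : CharP (AdjoinRoot q) 2 :=
    charP_of_injective_algebraMap (algebraMap k (AdjoinRoot q)).injective 2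
  obtain ⟨s, hs⟩ := exists_sq_of_perfect (AdjoinRoot.mk q N * (AdjoinRoot.mk q D')⁻¹)
  obtain ⟨h₀, hh₀⟩ := AdjoinRoot.mk_surjective s
  set h : k[X] := h₀ % q with hh
  have hmk : AdjoinRoot.mk q h = s := by
    rw [← hh₀]
    have h1 := EuclideanDomain.div_add_mod h₀ q
    conv_rhs => rw [← h1]
    rw [map_add, map_mul, AdjoinRoot.mk_self, zero_mul, zero_add]
  have hD'mk : AdjoinRoot.mk q D' ≠ 0 := fun h => hqD' (AdjoinRoot.mk_eq_zero.mp h)
  have hdvd : q ∣ N + h ^ 2 * D' := by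
    rw [← AdjoinRoot.mk_eq_zero, map_add, map_mul, map_pow, hmk, hs,
      inv_mul_cancel_right₀ hD'mk]
    exact CharTwo.add_self_eq_zero _
  obtain ⟨A₁, hA₁⟩ := hdvd
  obtain ⟨m', rfl⟩ : ∃ m', m = m' + 1 := Nat.exists_eq_succ_of_ne_zero hm
  set A' : k[X] := A₁ + h * q ^ m' * D' with hA'
  set B' : k[X] := q ^ (m' + 1 + m') * D' with hB'
  have hB'0 : B' ≠ 0 := mul_ne_zero (pow_ne_zero _ hq0) hD'0
  have hD0 : D ≠ 0 := by rw [hDe]; exact mul_ne_zero (pow_ne_zero _ hq0) hD'0
  refine ⟨φ h / φ (q ^ (m' + 1)), ?_⟩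
  have hφq : φ q ≠ 0 := phi_ne_zero hq0
  have hφD' : φ D' ≠ 0 := phi_ne_zero hD'0
  have hrelN : φ N = φ q * φ A₁ - (φ h) ^ 2 * φ D' := by
    have h1 := congrArg φ hA₁
    simp only [map_add, map_mul, map_pow] at h1
    linear_combination h1
  have key : φ N / φ D + (φ h / φ (q ^ (m' + 1))) ^ 2 + φ h / φ (q ^ (m' + 1)) = φ A' / φ B' := by
    rw [hDe, hA', hB']
    simp only [map_add, map_mul, map_pow]
    rw [hrelN]
    field_simp
    ring
  rw [key]
  -- degrees
  have hdq : 0 < q.natDegree := hq.natDegree_pos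
  have hhdeg : h.natDegree < q.natDegree := natDegree_mod_lt h₀ hdq.ne'
  have hDdeg : D.natDegree = (m' + 1 + (m' + 1)) * q.natDegree + D'.natDegree := by
    rw [hDe, natDegree_mul (pow_ne_zero _ hq0) hD'0, natDegree_pow]
  have hB'deg : B'.natDegree = (m' + 1 + m') * q.natDegree + D'.natDegree := by
    rw [hB', natDegree_mul (pow_ne_zero _ hq0) hD'0, natDegree_pow]
  have hT : q * A' = N + h ^ 2 * D' + h * q ^ (m' + 1) * D' := by
    rw [hA', mul_add, ← hA₁]; ring
  have hT1 : (h ^ 2 * D').natDegree ≤ 2 * h.natDegree + D'.natDegree :=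
    (natDegree_mul_le).trans (Nat.add_le_add_right (natDegree_pow_le) _)
  have hT2 : (h * q ^ (m' + 1) * D').natDegree ≤
      h.natDegree + (m' + 1) * q.natDegree + D'.natDegree :=
    (natDegree_mul_le).trans (Nat.add_le_add_right
      ((natDegree_mul_le).trans (Nat.add_le_add_left (natDegree_pow_le) _)) _)
  have hTdeg : (q * A').natDegree ≤ max N.natDegree D.natDegree := by
    rw [hT]
    refine (natDegree_add_le _ _).trans (max_le ((natDegree_add_le _ _).trans (max_le ?_ ?_)) ?_)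
    · exact le_max_left _ _
    · refine le_trans ?_ (le_max_right _ _)
      rw [hDdeg]
      have e1 : (m' + 1 + (m' + 1)) * q.natDegree = 2 * (m' * q.natDegree) + 2 * q.natDegree := by
        ring
      rw [e1]
      omega
    · refine le_trans ?_ (le_max_right _ _)
      rw [hDdeg]
      have e1 : (m' + 1 + (m' + 1)) * q.natDegree = 2 * (m' * q.natDegree) + 2 * q.natDegree := by
        ring
      have e2 : (m' + 1) * q.natDegree = m' * q.natDegree + q.natDegree := by ring
      rw [e1]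
      rw [e2] at hT2
      omega
  have hDpos : 2 ≤ D.natDegree := by
    rw [hDdeg]
    have e1 : (m' + 1 + (m' + 1)) * q.natDegree = 2 * (m' * q.natDegree) + 2 * q.natDegree := by
      ring
    rw [e1]; omega
  have hA'deg : A'.natDegree < max N.natDegree D.natDegree := by
    by_cases h0 : A' = 0
    · rw [h0, natDegree_zero]
      exact lt_of_lt_of_le (by omega) (le_max_right _ _)
    · rw [natDegree_mul hq0 h0] at hTdeg
      omega
  have hB'lt : B'.natDegree < max N.natDegree D.natDegree := by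
    refine lt_of_lt_of_le ?_ (le_max_right _ _)
    rw [hB'deg, hDdeg]
    have e1 : (m' + 1 + (m' + 1)) * q.natDegree = 2 * (m' * q.natDegree) + 2 * q.natDegree := by
      ring
    have e2 : (m' + 1 + m') * q.natDegree = 2 * (m' * q.natDegree) + q.natDegree := by ring
    rw [e1, e2]; omega
  exact lt_of_le_of_lt (mu_div_le A' B' hB'0) (max_lt hA'deg hB'lt)

theorem exists_asNormal (f : RatFunc k) :
    ∃ (g : RatFunc k) (N D : k[X]), ASNormal N D ∧ f + g ^ 2 + g = φ N / φ D := by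
  haveI : CharP (RatFunc k) 2 :=
    charP_of_injective_algebraMap (algebraMap k (RatFunc k)).injective 2
  induction' hμ : mu f using Nat.strong_induction_on with n ih generalizing f
  have hD0 : f.denom ≠ 0 := f.denom_ne_zero
  have hcop : IsCoprime f.num f.denom := f.isCoprime_num_denom
  have hf : φ f.num / φ f.denom = f := f.num_div_denom
  by_cases hNF : (∀ q : k[X], Irreducible q → ∀ (e : ℕ) (D' : k[X]), f.denom = q ^ e * D' →
      ¬ q ∣ D' → e ≠ 0 → Odd e) ∧
      (f.denom.natDegree < f.num.natDegree → Odd (f.num.natDegree - f.denom.natDegree))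
  · exact ⟨0, f.num, f.denom, ⟨hD0, hcop, hNF.1, hNF.2⟩, by rw [hf]; simp⟩
  · have hstep : ∃ g₁ : RatFunc k, mu (f + g₁ ^ 2 + g₁) < n := by
      rw [not_and_or] at hNF
      rcases hNF with h | h
      · push Not at h
        obtain ⟨q, hq, e, D', hDe, hqD', he, hodd⟩ := h
        rw [Nat.not_odd_iff_even] at hodd
        obtain ⟨m, rfl⟩ := hodd
        have hm : m ≠ 0 := by rintro rfl; exact he rfl
        obtain ⟨g, hg⟩ := step_finite f.num f.denom q D' hq m hm hDe hqD'
        refine ⟨g, ?_⟩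
        rw [hf] at hg
        rw [← hμ]
        exact hg
      · push Not at h
        obtain ⟨hlt, hodd⟩ := h
        rw [Nat.not_odd_iff_even] at hodd
        obtain ⟨m, hm⟩ := hodd
        have hm0 : m ≠ 0 := by rintro rfl; omega
        obtain ⟨g, hg⟩ := step_infinite f.num f.denom f.monic_denom m hm0 (by omega)
        refine ⟨g, ?_⟩
        rw [hf] at hg
        rw [← hμ]
        exact lt_of_lt_of_le hg (le_max_left _ _)
    obtain ⟨g₁, hg₁⟩ := hstep
    obtain ⟨g₂, N₂, D₂, hNF₂, h₂⟩ := ih _ hg₁ (f + g₁ ^ 2 + g₁) rfl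
    refine ⟨g₁ + g₂, N₂, D₂, hNF₂, ?_⟩
    rw [← h₂, CharTwo.add_sq]
    ring

end Reduce

end Groth.Agent.H77
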