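-- helper77: the submodule of tensors with two equal factors; symmetric tensors act on the exterior power
import Groth.Prelude.Def_W4c5normfunctorschNorm
import Mathlib.LinearAlgebra.PiTensorProduct.Basis
import Mathlib.RingTheory.Finiteness.Projective
import Mathlib.GroupTheory.Perm.Sign

set_option autoImplicit false
universe u

open scoped TensorProduct

namespace Groth.Agent.H77.Alt

open SymTen

section Basic

variable (R : Type u) [CommRing R] (A : Type u) [CommRing A] [Algebra R A]
  (P : Type u) [AddCommGroup P] [Module R P] [Module A P] [IsScalarTower R A P] (d : ℕ)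

theorem tpowAct_tprod (a : Fin d → A) (p : Fin d → P) :
    tpowAct R A P d (PiTensorProduct.tprod R a) (PiTensorProduct.tprod R p) =
      PiTensorProduct.tprod R (fun k => a k • p k) := by
  simp [tpowAct, PiTensorProduct.lift.tprod, PiTensorProduct.mapMultilinear_apply,
    PiTensorProduct.map_tprod]

theorem reindex_tpowAct (σ : Equiv.Perm (Fin d)) (a : ⨂[R] _ : Fin d, A) (x : ⨂[R] _ : Fin d, P) :
    PiTensorProduct.reindex R (fun _ : Fin d => P) σ (tpowAct R A P d a x) =
      tpowAct R A P d (PiTensorProduct.reindex R (fun _ : Fin d => A) σ a)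
        (PiTensorProduct.reindex R (fun _ : Fin d => P) σ x) := by
  induction a using PiTensorProduct.induction_on with
  | smul_tprod r a =>
    induction x using PiTensorProduct.induction_on with
    | smul_tprod s p =>
      simp only [map_smul, LinearMap.smul_apply, PiTensorProduct.reindex_tprod, tpowAct_tprod]
    | add x y hx hy => simp only [map_add, hx, hy]
  | add a b ha hb => simp only [map_add, LinearMap.add_apply, ha, hb]

variable {P} in
theorem tprod_mem_altSpan (p : Fin d → P) (i j : Fin d) (hij : i ≠ j) (h : p i = p j) :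
    PiTensorProduct.tprod R p ∈ altSpan R P d :=
  Submodule.subset_span ⟨p, i, j, hij, h, rfl⟩

variable {P} in
/-- Polarization: `p + (i j) p` has the form `u - u' - u''` with equal factors. -/
theorem tprod_add_swap_mem (p : Fin d → P) (i j : Fin d) (hij : i ≠ j) :
    PiTensorProduct.tprod R p + PiTensorProduct.tprod R (p ∘ Equiv.swap i j) ∈ altSpan R P d := by
  classical
  set T : P → P → ⨂[R] _ : Fin d, P := fun a b =>
    PiTensorProduct.tprod R (Function.update (Function.update p i a) j b) with hT
  have hTr : ∀ a b b', T a (b + b') = T a b + T a b' := by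
    intro a b b'
    simp only [hT]
    exact MultilinearMap.map_update_add (PiTensorProduct.tprod R (s := fun _ : Fin d => P))
      (Function.update p i a) j b b'
  have hTl : ∀ a a' b, T (a + a') b = T a b + T a' b := by
    intro a a' b
    simp only [hT]
    rw [Function.update_comm (β := fun _ : Fin d => P) hij (a + a') b p,
      Function.update_comm (β := fun _ : Fin d => P) hij a b p,
      Function.update_comm (β := fun _ : Fin d => P) hij a' b p]
    exact MultilinearMap.map_update_add (PiTensorProduct.tprod R (s := fun _ : Fin d => P))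
      (Function.update p j b) i a a'
  have hmem : ∀ a, T a a ∈ altSpan R P d := by
    intro a
    refine tprod_mem_altSpan R d _ i j hij ?_
    rw [Function.update_of_ne hij, Function.update_self, Function.update_self]
  have h1 : T (p i) (p j) = PiTensorProduct.tprod R p := by
    simp only [hT]
    rw [Function.update_eq_self, Function.update_eq_self]
  have h2 : T (p j) (p i) = PiTensorProduct.tprod R (p ∘ Equiv.swap i j) := by
    simp only [hT]
    congr 1
    funext k
    by_cases hkj : k = j
    · subst hkj
      rw [Function.update_self, Function.comp_apply, Equiv.swap_apply_right]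
    · rw [Function.update_of_ne hkj]
      by_cases hki : k = i
      · subst hki
        rw [Function.update_self, Function.comp_apply, Equiv.swap_apply_left]
      · rw [Function.update_of_ne hki, Function.comp_apply, Equiv.swap_apply_of_ne_of_ne hki hkj]
  have h3 : T (p i + p j) (p i + p j) =
      T (p i) (p i) + T (p j) (p i) + (T (p i) (p j) + T (p j) (p j)) := by
    rw [hTr, hTl, hTl]
  have h4 : PiTensorProduct.tprod R p + PiTensorProduct.tprod R (p ∘ Equiv.swap i j) =
      T (p i + p j) (p i + p j) - T (p i) (p i) - T (p j) (p j) := by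
    rw [h3, h1, h2]; abel
  rw [h4]
  exact Submodule.sub_mem _ (Submodule.sub_mem _ (hmem _) (hmem _)) (hmem _)

variable {P} in
/-- Permuting the factors changes a pure tensor by the sign, modulo `altSpan`. -/
theorem tprod_comp_perm_sub_mem (τ : Equiv.Perm (Fin d)) :
    ∀ p : Fin d → P, PiTensorProduct.tprod R (p ∘ τ) -
      ((Equiv.Perm.sign τ : ℤˣ) : ℤ) • PiTensorProduct.tprod R p ∈ altSpan R P d := by
  classical
  induction τ using Equiv.Perm.swap_induction_on with
  | one =>
    intro p
    simp
  | swap_mul f x y hxy ih =>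
    intro p
    have e : PiTensorProduct.tprod R (p ∘ ⇑(Equiv.swap x y * f)) -
        ((Equiv.Perm.sign (Equiv.swap x y * f) : ℤˣ) : ℤ) • PiTensorProduct.tprod R p =
        (PiTensorProduct.tprod R ((p ∘ Equiv.swap x y) ∘ f) -
          ((Equiv.Perm.sign f : ℤˣ) : ℤ) • PiTensorProduct.tprod R (p ∘ Equiv.swap x y)) +
        ((Equiv.Perm.sign f : ℤˣ) : ℤ) •
          (PiTensorProduct.tprod R p + PiTensorProduct.tprod R (p ∘ Equiv.swap x y)) := by
      have h0 : p ∘ ⇑(Equiv.swap x y * f) = (p ∘ Equiv.swap x y) ∘ f := rfl
      have h1 : (((-1 : ℤˣ) * Equiv.Perm.sign f : ℤˣ) : ℤ) = -((Equiv.Perm.sign f : ℤˣ) : ℤ) := by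
        simp
      rw [h0, Equiv.Perm.sign_mul, Equiv.Perm.sign_swap hxy, h1, neg_smul, zsmul_add]
      abel
    rw [e]
    exact Submodule.add_mem _ (ih _) (Submodule.smul_mem _ _ (tprod_add_swap_mem R d p x y hxy))

/-- `1 + (i j)` maps the tensor power into `altSpan`. -/
theorem add_reindex_swap_mem (i j : Fin d) (hij : i ≠ j) (v : ⨂[R] _ : Fin d, P) :
    v + PiTensorProduct.reindex R (fun _ : Fin d => P) (Equiv.swap i j) v ∈ altSpan R P d := by
  induction v using PiTensorProduct.induction_on with
  | smul_tprod r p =>
    rw [map_smul, ← smul_add, PiTensorProduct.reindex_tprod]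
    refine Submodule.smul_mem _ _ ?_
    have := tprod_add_swap_mem R d p i j hij
    rwa [Equiv.symm_swap]
  | add x y hx hy =>
    rw [map_add]
    have : x + y + (PiTensorProduct.reindex R (fun _ : Fin d => P) (Equiv.swap i j) x +
        PiTensorProduct.reindex R (fun _ : Fin d => P) (Equiv.swap i j) y) =
        (x + PiTensorProduct.reindex R (fun _ : Fin d => P) (Equiv.swap i j) x) +
        (y + PiTensorProduct.reindex R (fun _ : Fin d => P) (Equiv.swap i j) y) := by abel
    rw [this]
    exact Submodule.add_mem _ hx hy

end Basic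

section Inv

variable (R : Type u) [CommRing R] (d : ℕ)

/-- Tensors of a free module invariant under a transposition lie in `altSpan`. -/
theorem mem_altSpan_of_reindex_swap_eq_free {F : Type u} [AddCommGroup F] [Module R F] {n : ℕ}
    (b : Module.Basis (Fin n) R F) (i j : Fin d) (hij : i ≠ j) (y : ⨂[R] _ : Fin d, F)
    (hy : PiTensorProduct.reindex R (fun _ : Fin d => F) (Equiv.swap i j) y = y) :
    y ∈ altSpan R F d := by
  classical
  set B : Module.Basis (Fin d → Fin n) R (⨂[R] _ : Fin d, F) :=
    Basis.piTensorProduct (fun _ : Fin d => b) with hB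
  set s : (⨂[R] _ : Fin d, F) →ₗ[R] (⨂[R] _ : Fin d, F) :=
    (PiTensorProduct.reindex R (fun _ : Fin d => F) (Equiv.swap i j)).toLinearMap with hs
  have hBapp : ∀ β, B β = PiTensorProduct.tprod R (fun k => b (β k)) := fun β => by
    rw [hB, Basis.piTensorProduct_apply]
  have hsB : ∀ β, s (B β) = B (β ∘ Equiv.swap i j) := by
    intro β
    rw [hs, LinearEquiv.coe_coe, hBapp, hBapp, PiTensorProduct.reindex_tprod, Equiv.symm_swap]
    rfl
  set πlt : (⨂[R] _ : Fin d, F) →ₗ[R] (⨂[R] _ : Fin d, F) :=
    B.constr R (fun β => if β i < β j then B β else 0) with hlt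
  set πgt : (⨂[R] _ : Fin d, F) →ₗ[R] (⨂[R] _ : Fin d, F) :=
    B.constr R (fun β => if β j < β i then B β else 0) with hgt
  set πeq : (⨂[R] _ : Fin d, F) →ₗ[R] (⨂[R] _ : Fin d, F) :=
    B.constr R (fun β => if β i = β j then B β else 0) with heq
  have hsum : πeq + πlt + πgt = LinearMap.id := by
    apply B.ext
    intro β
    simp only [LinearMap.add_apply, hlt, hgt, heq, Module.Basis.constr_basis, LinearMap.id_apply]
    rcases lt_trichotomy (β i) (β j) with h | h | h
    · rw [if_neg (ne_of_lt h), if_pos h, if_neg (not_lt_of_gt h)]; simp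
    · rw [if_pos h, if_neg (by rw [h]; exact lt_irrefl _), if_neg (by rw [h]; exact lt_irrefl _)]
      simp
    · rw [if_neg (ne_of_gt h), if_neg (not_lt_of_gt h), if_pos h]; simp
  have hcomm : s ∘ₗ πlt = πgt ∘ₗ s := by
    apply B.ext
    intro β
    simp only [LinearMap.comp_apply, hlt, hgt, Module.Basis.constr_basis, hsB]
    have e1 : (β ∘ Equiv.swap i j) j = β i := by simp
    have e2 : (β ∘ Equiv.swap i j) i = β j := by simp
    rw [e1, e2]
    split_ifs
    · exact hsB β
    · exact map_zero _
  have heqmem : ∀ v, πeq v ∈ altSpan R F d := by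
    intro v
    have hle : (⊤ : Submodule R (⨂[R] _ : Fin d, F)) ≤ (altSpan R F d).comap πeq := by
      rw [← B.span_eq, Submodule.span_le]
      rintro _ ⟨β, rfl⟩
      simp only [SetLike.mem_coe, Submodule.mem_comap, heq, Module.Basis.constr_basis]
      split_ifs with h
      · rw [hBapp]
        exact tprod_mem_altSpan R d _ i j hij (by rw [h])
      · exact Submodule.zero_mem _
    exact hle Submodule.mem_top
  have hdec : y = πeq y + (πlt y + s (πlt y)) := by
    have h1 := congrArg (fun φ => φ y) hsum
    simp only [LinearMap.add_apply, LinearMap.id_apply] at h1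
    have h2 : s (πlt y) = πgt y := by
      have := congrArg (fun φ => φ y) hcomm
      simp only [LinearMap.comp_apply] at this
      rw [this, hs, LinearEquiv.coe_coe, hy]
    rw [h2, ← add_assoc, h1]
  rw [hdec]
  exact Submodule.add_mem _ (heqmem y) (add_reindex_swap_mem R F d i j hij _)

theorem map_mem_altSpan {P Q : Type u} [AddCommGroup P] [Module R P] [AddCommGroup Q] [Module R Q]
    (f : P →ₗ[R] Q) (x : ⨂[R] _ : Fin d, P) (hx : x ∈ altSpan R P d) :
    PiTensorProduct.map (fun _ : Fin d => f) x ∈ altSpan R Q d := by
  induction hx using Submodule.span_induction with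
  | mem x hx =>
    obtain ⟨p, i, j, hij, hp, rfl⟩ := hx
    rw [PiTensorProduct.map_tprod]
    exact tprod_mem_altSpan R d _ i j hij (by rw [hp])
  | zero => rw [map_zero]; exact Submodule.zero_mem _
  | add x y _ _ hx hy => rw [map_add]; exact Submodule.add_mem _ hx hy
  | smul r x _ hx => rw [map_smul]; exact Submodule.smul_mem _ _ hx

/-- Tensors of a finite projective module invariant under a transposition lie in `altSpan`. -/
theorem mem_altSpan_of_reindex_swap_eq {P : Type u} [AddCommGroup P] [Module R P]
    [Module.Finite R P] [Module.Projective R P] (i j : Fin d) (hij : i ≠ j)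
    (y : ⨂[R] _ : Fin d, P)
    (hy : PiTensorProduct.reindex R (fun _ : Fin d => P) (Equiv.swap i j) y = y) :
    y ∈ altSpan R P d := by
  obtain ⟨n, f, g, -, -, hfg⟩ := Module.Finite.exists_comp_eq_id_of_projective R P
  have h1 : PiTensorProduct.reindex R (fun _ : Fin d => (Fin n → R)) (Equiv.swap i j)
      (PiTensorProduct.map (fun _ : Fin d => g) y) = PiTensorProduct.map (fun _ : Fin d => g) y := by
    have := PiTensorProduct.map_reindex (fun _ : Fin d => g) (Equiv.swap i j) y
    rw [hy] at this
    exact this.symm
  have h2 := mem_altSpan_of_reindex_swap_eq_free R d (Pi.basisFun R (Fin n)) i j hij _ h1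
  have h3 := map_mem_altSpan R d f _ h2
  have h4 : PiTensorProduct.map (fun _ : Fin d => f) (PiTensorProduct.map (fun _ : Fin d => g) y) =
      y := by
    rw [← LinearMap.comp_apply, ← PiTensorProduct.map_comp]
    simp only [hfg]
    rw [PiTensorProduct.map_id]
    rfl
  rwa [h4] at h3

end Inv

section Main

variable (R : Type u) [CommRing R] (A : Type u) [CommRing A] [Algebra R A]
  (P : Type u) [AddCommGroup P] [Module R P] [Module A P] [IsScalarTower R A P]
  [Module.Finite R P] [Module.Projective R P] (d : ℕ)

/-- Symmetric tensors preserve `altSpan`. -/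
theorem tpowAct_mem_altSpan (a : ⨂[R] _ : Fin d, A) (ha : a ∈ SymTen.TS R A d)
    (x : ⨂[R] _ : Fin d, P) (hx : x ∈ altSpan R P d) :
    tpowAct R A P d a x ∈ altSpan R P d := by
  induction hx using Submodule.span_induction with
  | mem x hx =>
    obtain ⟨p, i, j, hij, hp, rfl⟩ := hx
    refine mem_altSpan_of_reindex_swap_eq R d i j hij _ ?_
    rw [reindex_tpowAct, (SymTen.mem_TS_iff R A d a).1 ha, PiTensorProduct.reindex_tprod,
      Equiv.symm_swap]
    congr 2
    funext k
    by_cases hki : k = i
    · subst hki; rw [Equiv.swap_apply_left, hp]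
    · by_cases hkj : k = j
      · subst hkj; rw [Equiv.swap_apply_right, hp]
      · rw [Equiv.swap_apply_of_ne_of_ne hki hkj]
  | zero => rw [map_zero]; exact Submodule.zero_mem _
  | add x y _ _ hx hy => rw [map_add]; exact Submodule.add_mem _ hx hy
  | smul r x _ hx => rw [map_smul]; exact Submodule.smul_mem _ _ hx

end Main

end Groth.Agent.H77.Alt
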