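-- helper77: symmetric tensors of a finite free algebra act on the top exterior power through the norm
import Groth.Agent.H77.Alt1

set_option autoImplicit false
universe u

open scoped TensorProduct

namespace Groth.Agent.H77.Alt

open SymTen

section Act

variable (R : Type u) [CommRing R] (A : Type u) [CommRing A] [Algebra R A]
  (P : Type u) [AddCommGroup P] [Module R P] [Module A P] [IsScalarTower R A P] (d : ℕ)

theorem tpowAct_one (x : ⨂[R] _ : Fin d, P) : tpowAct R A P d 1 x = x := by
  rw [PiTensorProduct.one_def]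
  induction x using PiTensorProduct.induction_on with
  | smul_tprod r p =>
    rw [map_smul, tpowAct_tprod]
    simp
  | add x y hx hy => rw [map_add, hx, hy]

theorem tpowAct_mul (w w' : ⨂[R] _ : Fin d, A) (x : ⨂[R] _ : Fin d, P) :
    tpowAct R A P d (w * w') x = tpowAct R A P d w (tpowAct R A P d w' x) := by
  induction w using PiTensorProduct.induction_on with
  | smul_tprod r a =>
    induction w' using PiTensorProduct.induction_on with
    | smul_tprod r' a' =>
      induction x using PiTensorProduct.induction_on with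
      | smul_tprod s p =>
        simp only [smul_mul_smul_comm, PiTensorProduct.tprod_mul_tprod, map_smul,
          LinearMap.smul_apply, tpowAct_tprod, Pi.mul_apply, mul_smul]
        rw [smul_comm r r']
      | add x y hx hy => simp only [map_add, hx, hy]
    | add u v hu hv => simp only [mul_add, map_add, LinearMap.add_apply, hu, hv]
  | add u v hu hv => simp only [add_mul, map_add, LinearMap.add_apply, hu, hv]

theorem tpowAct_algebraMap (r : R) (x : ⨂[R] _ : Fin d, P) :
    tpowAct R A P d (algebraMap R (⨂[R] _ : Fin d, A) r) x = r • x := by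
  rw [Algebra.algebraMap_eq_smul_one, map_smul, LinearMap.smul_apply, tpowAct_one]

/-- The ideal of tensors acting into `altSpan`. -/
def actIdeal : Ideal (⨂[R] _ : Fin d, A) where
  carrier := {w | ∀ x, tpowAct R A P d w x ∈ altSpan R P d}
  add_mem' {w w'} hw hw' x := by
    rw [map_add, LinearMap.add_apply]
    exact Submodule.add_mem _ (hw x) (hw' x)
  zero_mem' x := by
    rw [map_zero, LinearMap.zero_apply]
    exact Submodule.zero_mem _
  smul_mem' c {w} hw x := by
    rw [smul_eq_mul, mul_comm, tpowAct_mul]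
    exact hw _

theorem mem_actIdeal (w : ⨂[R] _ : Fin d, A) :
    w ∈ actIdeal R A P d ↔ ∀ x, tpowAct R A P d w x ∈ altSpan R P d := Iff.rfl

end Act

section Perm

variable (R : Type u) [CommRing R] {P : Type u} [AddCommGroup P] [Module R P] (d : ℕ)

theorem tprod_comp_mem_of_not_bijective (b : Fin d → P) (τ : Fin d → Fin d)
    (hτ : ¬ Function.Bijective τ) : PiTensorProduct.tprod R (b ∘ τ) ∈ altSpan R P d := by
  have hinj : ¬ Function.Injective τ := fun h => hτ (Finite.injective_iff_bijective.1 h)
  unfold Function.Injective at hinj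
  push Not at hinj
  obtain ⟨i, j, hij, hne⟩ := hinj
  exact tprod_mem_altSpan R d _ i j hne (by simp [hij])

/-- Expansion modulo `altSpan` of a combination of basis tensors. -/
theorem sum_smul_tprod_sub_mem (b : Fin d → P) (coef : (Fin d → Fin d) → R) :
    (∑ τ : Fin d → Fin d, coef τ • PiTensorProduct.tprod R (b ∘ τ)) -
      (∑ σ : Equiv.Perm (Fin d), (((Equiv.Perm.sign σ : ℤˣ) : ℤ) : R) * coef ⇑σ) •
        PiTensorProduct.tprod R b ∈ altSpan R P d := by
  classical
  have h1 : ∑ τ : Fin d → Fin d, coef τ • PiTensorProduct.tprod R (b ∘ τ) =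
      ∑ τ ∈ Finset.univ.filter (fun τ : Fin d → Fin d => Function.Bijective τ),
        coef τ • PiTensorProduct.tprod R (b ∘ τ) +
      ∑ τ ∈ Finset.univ.filter (fun τ : Fin d → Fin d => ¬ Function.Bijective τ),
        coef τ • PiTensorProduct.tprod R (b ∘ τ) :=
    (Finset.sum_filter_add_sum_filter_not _ _ _).symm
  have h2 : ∑ τ ∈ Finset.univ.filter (fun τ : Fin d → Fin d => Function.Bijective τ),
        coef τ • PiTensorProduct.tprod R (b ∘ τ) =
      ∑ σ : Equiv.Perm (Fin d), coef ⇑σ • PiTensorProduct.tprod R (b ∘ ⇑σ) := by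
    refine Finset.sum_bij (fun τ h => Equiv.ofBijective τ (Finset.mem_filter.1 h).2)
      (fun _ _ => Finset.mem_univ _) ?_ ?_ ?_
    · intro τ₁ h₁ τ₂ h₂ h
      have := congrArg (fun e : Equiv.Perm (Fin d) => (⇑e : Fin d → Fin d)) h
      simpa using this
    · intro σ _
      exact ⟨⇑σ, Finset.mem_filter.2 ⟨Finset.mem_univ _, σ.bijective⟩, Equiv.ext (fun _ => rfl)⟩
    · intro τ h
      rfl
  have e : ∀ σ : Equiv.Perm (Fin d),
      coef ⇑σ • (PiTensorProduct.tprod R (b ∘ ⇑σ) -
        ((Equiv.Perm.sign σ : ℤˣ) : ℤ) • PiTensorProduct.tprod R b) =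
      coef ⇑σ • PiTensorProduct.tprod R (b ∘ ⇑σ) -
        ((((Equiv.Perm.sign σ : ℤˣ) : ℤ) : R) * coef ⇑σ) • PiTensorProduct.tprod R b := by
    intro σ
    rw [smul_sub, ← Int.cast_smul_eq_zsmul R, smul_smul, mul_comm]
  have h3 : (∑ τ : Fin d → Fin d, coef τ • PiTensorProduct.tprod R (b ∘ τ)) -
      (∑ σ : Equiv.Perm (Fin d), (((Equiv.Perm.sign σ : ℤˣ) : ℤ) : R) * coef ⇑σ) •
        PiTensorProduct.tprod R b =
      ∑ σ : Equiv.Perm (Fin d), coef ⇑σ • (PiTensorProduct.tprod R (b ∘ ⇑σ) -
        ((Equiv.Perm.sign σ : ℤˣ) : ℤ) • PiTensorProduct.tprod R b) +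
      ∑ τ ∈ Finset.univ.filter (fun τ : Fin d → Fin d => ¬ Function.Bijective τ),
        coef τ • PiTensorProduct.tprod R (b ∘ τ) := by
    rw [h1, h2, Finset.sum_congr rfl (fun σ _ => e σ), Finset.sum_sub_distrib, Finset.sum_smul]
    abel
  rw [h3]
  refine Submodule.add_mem _ (Submodule.sum_mem _ (fun σ _ => Submodule.smul_mem _ _
    (tprod_comp_perm_sub_mem R d σ b))) (Submodule.sum_mem _ (fun τ hτ => Submodule.smul_mem _ _
    (tprod_comp_mem_of_not_bijective R d b τ (Finset.mem_filter.1 hτ).2)))

/-- The quotient by `altSpan` is generated by the class of the basis tensor. -/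
theorem exists_sub_smul_mem (b : Module.Basis (Fin d) R P) (x : ⨂[R] _ : Fin d, P) :
    ∃ r : R, x - r • PiTensorProduct.tprod R (fun k => b k) ∈ altSpan R P d := by
  classical
  have hx : x ∈ Submodule.span R (Set.range (Basis.piTensorProduct (fun _ : Fin d => b))) := by
    rw [Module.Basis.span_eq]; trivial
  induction hx using Submodule.span_induction with
  | mem x hx =>
    obtain ⟨β, rfl⟩ := hx
    rw [Basis.piTensorProduct_apply]
    by_cases hβ : Function.Bijective β
    · refine ⟨(((Equiv.Perm.sign (Equiv.ofBijective β hβ) : ℤˣ) : ℤ) : R), ?_⟩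
      have := tprod_comp_perm_sub_mem R d (Equiv.ofBijective β hβ) (fun k => b k)
      rw [Int.cast_smul_eq_zsmul]
      exact this
    · refine ⟨0, ?_⟩
      rw [zero_smul, sub_zero]
      exact tprod_comp_mem_of_not_bijective R d (fun k => b k) β hβ
  | zero => exact ⟨0, by simp⟩
  | add x y _ _ hx hy =>
    obtain ⟨r, hr⟩ := hx
    obtain ⟨r', hr'⟩ := hy
    refine ⟨r + r', ?_⟩
    have : x + y - (r + r') • PiTensorProduct.tprod R (fun k => b k) =
        (x - r • PiTensorProduct.tprod R (fun k => b k)) +
        (y - r' • PiTensorProduct.tprod R (fun k => b k)) := by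
      rw [add_smul]; abel
    rw [this]
    exact Submodule.add_mem _ hr hr'
  | smul c x _ hx =>
    obtain ⟨r, hr⟩ := hx
    refine ⟨c * r, ?_⟩
    have : c • x - (c * r) • PiTensorProduct.tprod R (fun k => b k) =
        c • (x - r • PiTensorProduct.tprod R (fun k => b k)) := by
      rw [smul_sub, smul_smul]
    rw [this]
    exact Submodule.smul_mem _ _ hr

end Perm

section Free

variable (R : Type u) [CommRing R] (Rp : Type u) [CommRing Rp] [Algebra R Rp] (d : ℕ)
  (b : Module.Basis (Fin d) R Rp)

/-- Products of structure constants of the basis `b`. -/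
noncomputable def coefα (α τ : Fin d → Fin d) : R := ∏ k, b.repr (b (α k) * b k) (τ k)

/-- The coefficient of the monomial `∏ s (α k)` in the norm of `∑ s a ⊗ b a`. -/
noncomputable def nu (α : Fin d → Fin d) : R :=
  ∑ σ : Equiv.Perm (Fin d), (((Equiv.Perm.sign σ : ℤˣ) : ℤ) : R) * coefα R Rp d b α ⇑σ

theorem tpowAct_basis (α : Fin d → Fin d) :
    tpowAct R Rp Rp d (PiTensorProduct.tprod R (fun k => b (α k)))
        (PiTensorProduct.tprod R (fun k => b k)) =
      ∑ τ : Fin d → Fin d, coefα R Rp d b α τ • PiTensorProduct.tprod R ((fun k => b k) ∘ τ) := by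
  classical
  rw [tpowAct_tprod]
  have h1 : (fun k => b (α k) • b k) = fun k => ∑ t, (b.repr (b (α k) * b k) t) • b t := by
    funext k
    rw [smul_eq_mul, b.sum_repr]
  rw [h1, MultilinearMap.map_sum]
  refine Finset.sum_congr rfl (fun τ _ => ?_)
  rw [MultilinearMap.map_smul_univ]
  rfl

theorem tpowAct_basis_sub_mem (α : Fin d → Fin d) :
    tpowAct R Rp Rp d (PiTensorProduct.tprod R (fun k => b (α k)))
        (PiTensorProduct.tprod R (fun k => b k)) -
      nu R Rp d b α • PiTensorProduct.tprod R (fun k => b k) ∈ altSpan R Rp d := by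
  rw [tpowAct_basis]
  exact sum_smul_tprod_sub_mem R d (fun k => b k) (coefα R Rp d b α)

/-- The content of a function: the sizes of its fibres. -/
def cont (α : Fin d → Fin d) : Fin d → ℕ :=
  fun a => (Finset.univ.filter (fun j => α j = a)).card

theorem cont_comp_perm (α : Fin d → Fin d) (σ : Equiv.Perm (Fin d)) :
    cont d (α ∘ σ) = cont d α := by
  funext a
  unfold cont
  exact Finset.card_equiv σ (by intro j; simp)

theorem classSum_mem_TS (m : Fin d → ℕ) :
    (∑ α ∈ Finset.univ.filter (fun α : Fin d → Fin d => cont d α = m),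
      PiTensorProduct.tprod R (fun k => b (α k))) ∈ SymTen.TS R Rp d := by
  classical
  rw [SymTen.mem_TS_iff]
  intro σ
  rw [map_sum]
  simp only [PiTensorProduct.reindex_tprod]
  have harr : ∀ α : Fin d → Fin d,
      (Equiv.arrowCongr σ (Equiv.refl (Fin d))) α = α ∘ ⇑σ.symm := by
    intro α; funext k; simp [Equiv.arrowCongr]
  refine Finset.sum_equiv (Equiv.arrowCongr σ (Equiv.refl (Fin d))) ?_ ?_
  · intro α
    simp only [Finset.mem_filter, Finset.mem_univ, true_and]
    rw [harr, cont_comp_perm]
  · intro α _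
    rw [harr]
    rfl

/-- Core computation: a class sum of basis tensors acts on the top exterior power by the
corresponding coefficient of the norm form. -/
theorem classSum_sub_mem_actIdeal (m : Fin d → ℕ) :
    (∑ α ∈ Finset.univ.filter (fun α : Fin d → Fin d => cont d α = m),
      (PiTensorProduct.tprod R (fun k => b (α k)) -
        algebraMap R (⨂[R] _ : Fin d, Rp) (nu R Rp d b α))) ∈ actIdeal R Rp Rp d := by
  classical
  rw [mem_actIdeal]
  intro x
  haveI : Module.Finite R Rp := Module.Finite.of_basis b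
  haveI : Module.Free R Rp := Module.Free.of_basis b
  obtain ⟨r, hr⟩ := exists_sub_smul_mem R d b x
  have hE := classSum_mem_TS R Rp d b m
  have hw : (∑ α ∈ Finset.univ.filter (fun α : Fin d → Fin d => cont d α = m),
      (PiTensorProduct.tprod R (fun k => b (α k)) -
        algebraMap R (⨂[R] _ : Fin d, Rp) (nu R Rp d b α))) =
      (∑ α ∈ Finset.univ.filter (fun α : Fin d → Fin d => cont d α = m),
        PiTensorProduct.tprod R (fun k => b (α k))) -
      algebraMap R (⨂[R] _ : Fin d, Rp)
        (∑ α ∈ Finset.univ.filter (fun α : Fin d → Fin d => cont d α = m), nu R Rp d b α) := by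
    rw [Finset.sum_sub_distrib, map_sum]
  have hS1 : ∀ y ∈ altSpan R Rp d, tpowAct R Rp Rp d
      (∑ α ∈ Finset.univ.filter (fun α : Fin d → Fin d => cont d α = m),
        (PiTensorProduct.tprod R (fun k => b (α k)) -
          algebraMap R (⨂[R] _ : Fin d, Rp) (nu R Rp d b α))) y ∈ altSpan R Rp d := by
    intro y hy
    rw [hw, map_sub, LinearMap.sub_apply, tpowAct_algebraMap]
    exact Submodule.sub_mem _ (tpowAct_mem_altSpan R Rp Rp d _ hE y hy)
      (Submodule.smul_mem _ _ hy)
  have hS2 : tpowAct R Rp Rp d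
      (∑ α ∈ Finset.univ.filter (fun α : Fin d → Fin d => cont d α = m),
        (PiTensorProduct.tprod R (fun k => b (α k)) -
          algebraMap R (⨂[R] _ : Fin d, Rp) (nu R Rp d b α)))
      (PiTensorProduct.tprod R (fun k => b k)) ∈ altSpan R Rp d := by
    rw [map_sum, LinearMap.sum_apply]
    refine Submodule.sum_mem _ (fun α _ => ?_)
    rw [map_sub, LinearMap.sub_apply, tpowAct_algebraMap]
    exact tpowAct_basis_sub_mem R Rp d b α
  have hx : x = (x - r • PiTensorProduct.tprod R (fun k => b k)) +
      r • PiTensorProduct.tprod R (fun k => b k) := by abel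
  rw [hx, map_add, map_smul]
  exact Submodule.add_mem _ (hS1 _ hr) (Submodule.smul_mem _ _ hS2)

end Free

end Groth.Agent.H77.Alt
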