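-- helper77: the divided power algebra of a finite free algebra acts on the top exterior power by the norm
import Groth.Agent.H77.Alt2
import Groth.Agent.S13174

set_option autoImplicit false
universe u

open scoped TensorProduct

namespace Groth.Agent.H77.Alt

open SymTen

section Gen

theorem prod_tmul_prod' {R : Type u} [CommRing R] {S T : Type u} [CommSemiring S] [Algebra R S]
    [CommRing T] [Algebra R T] {ι : Type} (t : Finset ι) (f : ι → S) (g : ι → T) :
    ∏ j ∈ t, (f j ⊗ₜ[R] g j) = (∏ j ∈ t, f j) ⊗ₜ[R] (∏ j ∈ t, g j) := by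
  classical
  induction t using Finset.induction_on with
  | empty => simp [Algebra.TensorProduct.one_def]
  | insert j s hj ih =>
    rw [Finset.prod_insert hj, Finset.prod_insert hj, Finset.prod_insert hj, ih,
      Algebra.TensorProduct.tmul_mul_tmul]

theorem postcomp_comp' {A : Type u} [CommRing A] {M N P Q : Type u} [AddCommGroup M] [Module A M]
    [AddCommGroup N] [Module A N] [AddCommGroup P] [Module A P] [AddCommGroup Q] [Module A Q]
    (g : P →ₗ[A] Q) (f : N →ₗ[A] P) (F : M →ₚₗ[A] N) :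
    PolLaw.postcomp (g ∘ₗ f) F = PolLaw.postcomp g (PolLaw.postcomp f F) := by
  refine PolynomialLaw.ext ?_
  funext S _ _ x
  show (g ∘ₗ f).lTensor S (F.toFun' S x) = g.lTensor S (f.lTensor S (F.toFun' S x))
  rw [LinearMap.lTensor_comp_apply]

theorem prod_comp_eq {S : Type u} [CommSemiring S] (d : ℕ) (s : Fin d → S) (α : Fin d → Fin d) :
    ∏ k, s (α k) = ∏ a, s a ^ cont d α a := by
  classical
  rw [← Finset.prod_fiberwise_of_maps_to (g := α) (t := Finset.univ)
    (fun _ _ => Finset.mem_univ _)]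
  refine Finset.prod_congr rfl (fun a _ => ?_)
  rw [Finset.prod_congr rfl (fun k hk => by rw [(Finset.mem_filter.1 hk).2]), Finset.prod_const]
  rfl

end Gen

section Key

variable (R : Type u) [CommRing R] (Rp : Type u) [CommRing Rp] [Algebra R Rp] (d : ℕ)

theorem tpowLaw_sum_basis (b : Fin d → Rp) (S : Type u) [CommSemiring S] [Algebra R S]
    (s : Fin d → S) :
    (tpowLaw R Rp d).law.toFun' S (∑ a, s a ⊗ₜ[R] b a) =
      ∑ α : Fin d → Fin d,
        (∏ j, s (α j)) ⊗ₜ[R] PiTensorProduct.tprod R (fun j => b (α j)) := by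
  classical
  rw [tpowLaw, PolLaw.MulLaw.prodMap_toFun']
  simp only [map_sum, Algebra.TensorProduct.map_tmul, AlgHom.id_apply]
  rw [Finset.prod_univ_sum, Fintype.piFinset_univ]
  refine Finset.sum_congr rfl (fun α _ => ?_)
  rw [prod_tmul_prod']
  congr 1
  simp only [PiTensorProduct.singleAlgHom_apply, MonoidHom.mulSingle_apply]
  rw [← PiTensorProduct.tprod_prod]
  exact congrArg _ (Finset.univ_prod_mulSingle (fun j => b (α j)))

variable (b : Module.Basis (Fin d) R Rp)

theorem norm_sum_basis (S : Type u) [CommRing S] [Algebra R S] (s : Fin d → S) :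
    Algebra.norm S (∑ a, s a ⊗ₜ[R] b a) =
      ∑ α : Fin d → Fin d, (∏ k, s (α k)) * algebraMap R S (nu R Rp d b α) := by
  classical
  rw [Algebra.norm_eq_matrix_det (Algebra.TensorProduct.basis S b), Matrix.det_apply']
  have hentry : ∀ i k, Algebra.leftMulMatrix (Algebra.TensorProduct.basis S b)
      (∑ a, s a ⊗ₜ[R] b a) i k = ∑ a, s a * algebraMap R S (b.repr (b a * b k) i) := by
    intro i k
    rw [Algebra.leftMulMatrix_eq_repr_mul, Algebra.TensorProduct.basis_apply, Finset.sum_mul,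
      map_sum, Finsupp.coe_finset_sum, Finset.sum_apply]
    refine Finset.sum_congr rfl (fun a _ => ?_)
    rw [Algebra.TensorProduct.tmul_mul_tmul, mul_one, Algebra.TensorProduct.basis_repr_tmul]
    simp [Finsupp.smul_apply, Finsupp.mapRange_apply]
  simp only [hentry]
  have hprod : ∀ σ : Equiv.Perm (Fin d),
      ∏ k, ∑ a, s a * algebraMap R S (b.repr (b a * b k) (σ k)) =
        ∑ α : Fin d → Fin d, (∏ k, s (α k)) * algebraMap R S (coefα R Rp d b α ⇑σ) := by
    intro σ
    rw [Finset.prod_univ_sum, Fintype.piFinset_univ]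
    refine Finset.sum_congr rfl (fun α _ => ?_)
    rw [Finset.prod_mul_distrib, coefα, map_prod]
  simp only [hprod, Finset.mul_sum]
  rw [Finset.sum_comm]
  refine Finset.sum_congr rfl (fun α _ => ?_)
  rw [nu, map_sum, Finset.mul_sum]
  refine Finset.sum_congr rfl (fun σ _ => ?_)
  rw [map_mul, map_intCast]
  ring

theorem key_sum (S : Type u) [CommRing S] [Algebra R S] (s : Fin d → S) :
    (Ideal.Quotient.mkₐ R (actIdeal R Rp Rp d)).toLinearMap.lTensor S
        ((tpowLaw R Rp d).law.toFun' S (∑ a, s a ⊗ₜ[R] b a)) =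
      (Algebra.ofId R ((⨂[R] _ : Fin d, Rp) ⧸ actIdeal R Rp Rp d)).toLinearMap.lTensor S
        ((Algebra.norm S (∑ a, s a ⊗ₜ[R] b a)) ⊗ₜ[R] (1 : R)) := by
  classical
  rw [tpowLaw_sum_basis, norm_sum_basis, map_sum, TensorProduct.sum_tmul, map_sum]
  simp only [LinearMap.lTensor_tmul, AlgHom.toLinearMap_apply]
  rw [← sub_eq_zero, ← Finset.sum_sub_distrib]
  have hterm : ∀ α : Fin d → Fin d,
      (∏ j, s (α j)) ⊗ₜ[R] (Ideal.Quotient.mkₐ R (actIdeal R Rp Rp d))
          (PiTensorProduct.tprod R fun j => b (α j)) -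
        ((∏ k, s (α k)) * algebraMap R S (nu R Rp d b α)) ⊗ₜ[R]
          (Algebra.ofId R ((⨂[R] _ : Fin d, Rp) ⧸ actIdeal R Rp Rp d) 1) =
      (∏ a, s a ^ cont d α a) ⊗ₜ[R] (Ideal.Quotient.mkₐ R (actIdeal R Rp Rp d))
          (PiTensorProduct.tprod R (fun j => b (α j)) -
            algebraMap R (⨂[R] _ : Fin d, Rp) (nu R Rp d b α)) := by
    intro α
    rw [map_sub, TensorProduct.tmul_sub, prod_comp_eq]
    congr 1
    rw [map_one, AlgHom.commutes, mul_comm, ← Algebra.smul_def, TensorProduct.smul_tmul,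
      ← Algebra.algebraMap_eq_smul_one]
  rw [Finset.sum_congr rfl (fun α _ => hterm α)]
  rw [← Finset.sum_fiberwise_of_maps_to (g := cont d) (t := Finset.univ.image (cont d))
    (fun α _ => Finset.mem_image_of_mem _ (Finset.mem_univ _))]
  refine Finset.sum_eq_zero (fun m _ => ?_)
  have hm : ∀ α ∈ Finset.univ.filter (fun α : Fin d → Fin d => cont d α = m),
      (∏ a, s a ^ cont d α a) ⊗ₜ[R] (Ideal.Quotient.mkₐ R (actIdeal R Rp Rp d))
          (PiTensorProduct.tprod R (fun j => b (α j)) -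
            algebraMap R (⨂[R] _ : Fin d, Rp) (nu R Rp d b α)) =
      (∏ a, s a ^ m a) ⊗ₜ[R] (Ideal.Quotient.mkₐ R (actIdeal R Rp Rp d))
          (PiTensorProduct.tprod R (fun j => b (α j)) -
            algebraMap R (⨂[R] _ : Fin d, Rp) (nu R Rp d b α)) := by
    intro α hα
    rw [(Finset.mem_filter.1 hα).2]
  rw [Finset.sum_congr rfl hm, ← TensorProduct.tmul_sum, ← map_sum, Ideal.Quotient.mkₐ_eq_mk,
    Ideal.Quotient.eq_zero_iff_mem.2 (classSum_sub_mem_actIdeal R Rp d b m), TensorProduct.tmul_zero]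

include b in
theorem key (S : Type u) [CommRing S] [Algebra R S] (z : S ⊗[R] Rp) :
    (Ideal.Quotient.mkₐ R (actIdeal R Rp Rp d)).toLinearMap.lTensor S
        ((tpowLaw R Rp d).law.toFun' S z) =
      (Algebra.ofId R ((⨂[R] _ : Fin d, Rp) ⧸ actIdeal R Rp Rp d)).toLinearMap.lTensor S
        ((Algebra.norm S z) ⊗ₜ[R] (1 : R)) := by
  have hz : z = ∑ a, ((Algebra.TensorProduct.basis S b).repr z a) ⊗ₜ[R] b a := by
    conv_lhs => rw [← (Algebra.TensorProduct.basis S b).sum_repr z]
    refine Finset.sum_congr rfl (fun a _ => ?_)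
    rw [Algebra.TensorProduct.basis_apply, TensorProduct.smul_tmul', smul_eq_mul, mul_one]
  rw [hz]
  exact key_sum R Rp d b S _

theorem postcomp_tpowLaw_eq_normLaw [Nontrivial R] [Module.Free R Rp] [Module.Finite R Rp]
    (hd : Module.finrank R Rp = d) :
    PolLaw.postcomp (Ideal.Quotient.mkₐ R (actIdeal R Rp Rp d)).toLinearMap (tpowLaw R Rp d).law =
      PolLaw.postcomp (Algebra.ofId R ((⨂[R] _ : Fin d, Rp) ⧸ actIdeal R Rp Rp d)).toLinearMap
        (PolLaw.normLaw R Rp d hd).law := by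
  apply Groth.Agent.S13174.result.1
  refine Subtype.ext (funext (fun n => funext (fun z => ?_)))
  show (Ideal.Quotient.mkₐ R (actIdeal R Rp Rp d)).toLinearMap.lTensor _
      ((tpowLaw R Rp d).law.toFun' (MvPolynomial (Fin n) R) z) =
    (Algebra.ofId R ((⨂[R] _ : Fin d, Rp) ⧸ actIdeal R Rp Rp d)).toLinearMap.lTensor _
      ((PolLaw.normLaw R Rp d hd).law.toFun' (MvPolynomial (Fin n) R) z)
  rw [PolLaw.normLaw_apply]
  exact key R Rp d (Module.finBasisOfFinrankEq R Rp hd) _ z

end Key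

section Main

theorem gammaD_act_sub_norm_mem (R : Type u) [CommRing R] (R' : Type u) [CommRing R']
    [Algebra R R'] [Module.Free R R'] [Module.Finite R R'] (d : ℕ) (hd : Module.finrank R R' = d)
    {C : Type u} [CommRing C] [Algebra R C] (γ : PolLaw.MulLaw R R' C d) (hγ : PolLaw.IsGammaD γ)
    (φ : C →ₐ[R] (⨂[R] _ : Fin d, R')) (hφ : PolLaw.MulLaw.postcomp φ γ = SymTen.tpowLaw R R' d)
    (π : C →ₐ[R] R) (hπ : PolLaw.MulLaw.postcomp π γ = PolLaw.normLaw R R' d hd)
    (c : C) (x : ⨂[R] _ : Fin d, R') :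
    SymTen.tpowAct R R' R' d (φ c) x - π c • x ∈ SymTen.altSpan R R' d := by
  rcases subsingleton_or_nontrivial R with hR | hR
  · haveI := Module.subsingleton R (⨂[R] _ : Fin d, R')
    rw [Subsingleton.elim (SymTen.tpowAct R R' R' d (φ c) x - π c • x) 0]
    exact Submodule.zero_mem _
  set q := Ideal.Quotient.mkₐ R (actIdeal R R' R' d) with hq
  set o := Algebra.ofId R ((⨂[R] _ : Fin d, R') ⧸ actIdeal R R' R' d) with ho
  have hφ' : PolLaw.postcomp φ.toLinearMap γ.law = (SymTen.tpowLaw R R' d).law :=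
    congrArg PolLaw.MulLaw.law hφ
  have hπ' : PolLaw.postcomp π.toLinearMap γ.law = (PolLaw.normLaw R R' d hd).law :=
    congrArg PolLaw.MulLaw.law hπ
  have h1 : PolLaw.postcomp (q.comp φ).toLinearMap γ.law =
      (PolLaw.MulLaw.postcomp (q.comp φ) γ).law := rfl
  have h2 : PolLaw.postcomp (o.comp π).toLinearMap γ.law =
      (PolLaw.MulLaw.postcomp (q.comp φ) γ).law := by
    rw [← h1, AlgHom.comp_toLinearMap, AlgHom.comp_toLinearMap, postcomp_comp', postcomp_comp',
      hφ', hπ']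
    exact (postcomp_tpowLaw_eq_normLaw R R' d hd).symm
  have heq : q.comp φ = o.comp π :=
    (hγ _ (PolLaw.MulLaw.postcomp (q.comp φ) γ)).unique h1 h2
  have hc : q (φ c) = q (algebraMap R _ (π c)) := by
    have := congrArg (fun f => f c) heq
    simp only [AlgHom.comp_apply] at this
    rw [this, AlgHom.commutes]
    rfl
  have hmem : φ c - algebraMap R _ (π c) ∈ actIdeal R R' R' d := by
    rw [hq, Ideal.Quotient.mkₐ_eq_mk] at hc
    exact Ideal.Quotient.eq.1 hc
  have := (mem_actIdeal R R' R' d _).1 hmem x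
  rwa [map_sub, LinearMap.sub_apply, tpowAct_algebraMap] at this

end Main

end Groth.Agent.H77.Alt
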