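-- helper77: the norm map of the divided power algebra commutes with base change
import Groth.Agent.H77.Alt3

set_option autoImplicit false
universe u

open scoped TensorProduct

namespace Groth.Agent.H77.Alt

open SymTen

section BcAlong

variable {R : Type u} [CommRing R] {Q : Type u} [CommRing Q] [Algebra R Q]
  {X : Type u} [AddCommGroup X] [Module R X]
  {Y : Type u} [AddCommGroup Y] [Module R Y] [Module Q Y] [IsScalarTower R Q Y]

theorem bcAlong_tmul (g : X →ₗ[R] Y) (P : Type u) [CommRing P] [Algebra R P] [Algebra Q P]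
    [IsScalarTower R Q P] (p : P) (x : X) :
    PolLaw.bcAlong g P (p ⊗ₜ[R] x) = p ⊗ₜ[Q] g x := by
  simp [PolLaw.bcAlong, TensorProduct.AlgebraTensorModule.cancelBaseChange_symm_tmul]

end BcAlong

section BaseChangeBasis

variable {R R' Q Q' : Type u} [CommRing R] [CommRing R'] [Algebra R R']
  [CommRing Q] [Algebra R Q] [CommRing Q'] [Algebra R Q'] [Algebra Q Q'] [Algebra R' Q']
  [IsScalarTower R Q Q'] [IsScalarTower R R' Q'] [Algebra.IsPushout R R' Q Q']

/-- `Q'` is the base change of `R'` along `R → Q`. -/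
theorem isBaseChange_of_isPushout :
    IsBaseChange Q (IsScalarTower.toAlgHom R R' Q').toLinearMap :=
  (Algebra.IsPushout.symm (inferInstance : Algebra.IsPushout R R' Q Q')).out

variable (Q Q') in
/-- The base change of a basis along a pushout square. -/
noncomputable def bcBasis {d : ℕ} (b : Module.Basis (Fin d) R R') : Module.Basis (Fin d) Q Q' :=
  (Algebra.TensorProduct.basis Q b).map (isBaseChange_of_isPushout (R := R) (R' := R')
    (Q := Q) (Q' := Q')).equiv

theorem bcBasis_apply {d : ℕ} (b : Module.Basis (Fin d) R R') (a : Fin d) :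
    bcBasis Q Q' b a = algebraMap R' Q' (b a) := by
  rw [bcBasis, Module.Basis.map_apply, Algebra.TensorProduct.basis_apply,
    IsBaseChange.equiv_tmul, one_smul]
  rfl

theorem bcBasis_repr_algebraMap {d : ℕ} (b : Module.Basis (Fin d) R R') (x : R') (j : Fin d) :
    (bcBasis Q Q' b).repr (algebraMap R' Q' x) j = algebraMap R Q (b.repr x j) := by
  have h : algebraMap R' Q' x = (IsScalarTower.toAlgHom R R' Q').toLinearMap x := rfl
  rw [bcBasis, Module.Basis.map_repr, LinearEquiv.trans_apply, h,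
    IsBaseChange.equiv_symm_apply, Algebra.TensorProduct.basis_repr_tmul]
  simp [Finsupp.smul_apply, Finsupp.mapRange_apply]

theorem nu_bcBasis {d : ℕ} (b : Module.Basis (Fin d) R R') (α : Fin d → Fin d) :
    nu Q Q' d (bcBasis Q Q' b) α = algebraMap R Q (nu R R' d b α) := by
  unfold nu coefα
  rw [map_sum]
  refine Finset.sum_congr rfl (fun σ _ => ?_)
  rw [map_mul, map_intCast, map_prod]
  congr 1
  refine Finset.prod_congr rfl (fun k _ => ?_)
  rw [bcBasis_apply, bcBasis_apply, ← map_mul, bcBasis_repr_algebraMap]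

end BaseChangeBasis

section NormBC

variable {R R' Q Q' : Type u} [CommRing R] [CommRing R'] [Algebra R R']
  [CommRing Q] [Algebra R Q] [CommRing Q'] [Algebra R Q'] [Algebra Q Q'] [Algebra R' Q']
  [IsScalarTower R Q Q'] [IsScalarTower R R' Q'] [Algebra.IsPushout R R' Q Q']

/-- The norm commutes with base change (sum form). -/
theorem norm_bcAlong_sum {d : ℕ} (b : Module.Basis (Fin d) R R') (S : Type u) [CommRing S]
    [Algebra R S] (P : Type u) [CommRing P] [Algebra R P] [Algebra Q P] [IsScalarTower R Q P]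
    (ι : S →ₐ[R] P) (s : Fin d → S) :
    Algebra.norm P
        (PolLaw.bcAlong (Q := Q) (IsScalarTower.toAlgHom R R' Q').toLinearMap P
          (ι.toLinearMap.rTensor R' (∑ a, s a ⊗ₜ[R] b a))) =
      ι (Algebra.norm S (∑ a, s a ⊗ₜ[R] b a)) := by
  have h1 : PolLaw.bcAlong (Q := Q) (IsScalarTower.toAlgHom R R' Q').toLinearMap P
          (ι.toLinearMap.rTensor R' (∑ a, s a ⊗ₜ[R] b a)) =
      ∑ a, (ι (s a)) ⊗ₜ[Q] bcBasis Q Q' b a := by
    rw [map_sum, map_sum]
    refine Finset.sum_congr rfl (fun a _ => ?_)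
    rw [LinearMap.rTensor_tmul, bcAlong_tmul, bcBasis_apply]
    rfl
  rw [h1, norm_sum_basis Q Q' d (bcBasis Q Q' b) P (fun a => ι (s a)),
    norm_sum_basis R R' d b S s, map_sum]
  refine Finset.sum_congr rfl (fun α _ => ?_)
  rw [nu_bcBasis, ← IsScalarTower.algebraMap_apply R Q P, map_mul, map_prod, AlgHom.commutes]

include R' Q' in
theorem norm_bcAlong [Nontrivial R] [Module.Free R R'] [Module.Finite R R'] (d : ℕ)
    (hd : Module.finrank R R' = d) (S : Type u) [CommRing S]
    [Algebra R S] (P : Type u) [CommRing P] [Algebra R P] [Algebra Q P] [IsScalarTower R Q P]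
    (ι : S →ₐ[R] P) (z : S ⊗[R] R') :
    Algebra.norm P
        (PolLaw.bcAlong (Q := Q) (IsScalarTower.toAlgHom R R' Q').toLinearMap P
          (ι.toLinearMap.rTensor R' z)) =
      ι (Algebra.norm S z) := by
  set b := Module.finBasisOfFinrankEq R R' hd with hb
  have hz : z = ∑ a, ((Algebra.TensorProduct.basis S b).repr z a) ⊗ₜ[R] b a := by
    conv_lhs => rw [← (Algebra.TensorProduct.basis S b).sum_repr z]
    refine Finset.sum_congr rfl (fun a _ => ?_)
    rw [Algebra.TensorProduct.basis_apply, TensorProduct.smul_tmul', smul_eq_mul, mul_one]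
  rw [hz]
  exact norm_bcAlong_sum b S P ι _

end NormBC

section Main

variable {R R' Q Q' : Type u} [CommRing R] [CommRing R'] [Algebra R R']
  [CommRing Q] [Algebra R Q] [CommRing Q'] [Algebra R Q'] [Algebra Q Q'] [Algebra R' Q']
  [IsScalarTower R Q Q'] [IsScalarTower R R' Q']

theorem lTensor_bcAlong_rTensor {C : Type u} [CommRing C] [Algebra R C]
    {C' : Type u} [CommRing C'] [Algebra R C'] [Algebra Q C'] [IsScalarTower R Q C']
    (π' : C' →ₐ[Q] Q) (θ : C →ₐ[R] C') (S : Type u) [CommRing S] [Algebra R S]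
    (P : Type u) [CommRing P] [Algebra R P] [Algebra Q P] [IsScalarTower R Q P]
    (ι : S →ₐ[R] P) (y : S ⊗[R] C) :
    π'.toLinearMap.lTensor P (PolLaw.bcAlong θ.toLinearMap P (ι.toLinearMap.rTensor C y)) =
      PolLaw.bcAlong (Q := Q) (LinearMap.id : Q →ₗ[R] Q) P (ι.toLinearMap.rTensor Q
        (((π'.restrictScalars R).comp θ).toLinearMap.lTensor S y)) := by
  induction y using TensorProduct.induction_on with
  | zero => simp
  | tmul s c =>
    rw [LinearMap.rTensor_tmul, bcAlong_tmul, LinearMap.lTensor_tmul, LinearMap.lTensor_tmul,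
      LinearMap.rTensor_tmul, bcAlong_tmul]
    rfl
  | add y y' hy hy' =>
    simp only [map_add, hy, hy']

theorem rid_bcAlong_includeRight (S : Type u) [CommRing S] [Algebra R S] (x : S ⊗[R] Q) :
    TensorProduct.rid Q (Q ⊗[R] S) (PolLaw.bcAlong (Q := Q) (LinearMap.id : Q →ₗ[R] Q) (Q ⊗[R] S)
      ((Algebra.TensorProduct.includeRight : S →ₐ[R] Q ⊗[R] S).toLinearMap.rTensor Q x)) =
      TensorProduct.comm R S Q x := by
  induction x using TensorProduct.induction_on with
  | zero => simp
  | tmul s q =>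
    rw [LinearMap.rTensor_tmul, bcAlong_tmul, LinearMap.id_apply, TensorProduct.rid_tmul,
      TensorProduct.comm_tmul, AlgHom.toLinearMap_apply, Algebra.TensorProduct.includeRight_apply,
      TensorProduct.smul_tmul', smul_eq_mul, mul_one]
  | add y y' hy hy' =>
    simp only [map_add, hy, hy']

theorem bcAlong_includeRight_injective (S : Type u) [CommRing S] [Algebra R S] :
    Function.Injective (fun x : S ⊗[R] Q =>
      PolLaw.bcAlong (Q := Q) (LinearMap.id : Q →ₗ[R] Q) (Q ⊗[R] S)
        ((Algebra.TensorProduct.includeRight : S →ₐ[R] Q ⊗[R] S).toLinearMap.rTensor Q x)) := by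
  intro x y hxy
  have := congrArg (TensorProduct.rid Q (Q ⊗[R] S)) hxy
  simp only [rid_bcAlong_includeRight] at this
  exact (TensorProduct.comm R S Q).injective this

variable [Algebra.IsPushout R R' Q Q'] [Module.Free R R'] [Module.Finite R R']
  [Module.Free Q Q'] [Module.Finite Q Q']

theorem normMap_law_S [Nontrivial R] (d : ℕ) (hd : Module.finrank R R' = d)
    (hd' : Module.finrank Q Q' = d)
    {C : Type u} [CommRing C] [Algebra R C] (γ : PolLaw.MulLaw R R' C d)
    {C' : Type u} [CommRing C'] [Algebra R C'] [Algebra Q C'] [IsScalarTower R Q C']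
    (γ' : PolLaw.MulLaw Q Q' C' d)
    (π' : C' →ₐ[Q] Q) (hπ' : PolLaw.MulLaw.postcomp π' γ' = PolLaw.normLaw Q Q' d hd')
    (θ : C →ₐ[R] C')
    (hθ : ∀ (P : Type u) [CommRing P] [Algebra R P] [Algebra Q P] [IsScalarTower R Q P]
      (z : P ⊗[R] R'),
      γ'.law.toFun' P (PolLaw.bcAlong (Q := Q) (IsScalarTower.toAlgHom R R' Q').toLinearMap P z) =
        PolLaw.bcAlong θ.toLinearMap P (γ.law.toFun' P z))
    (S : Type u) [CommRing S] [Algebra R S] (z : S ⊗[R] R') :
    ((π'.restrictScalars R).comp θ).toLinearMap.lTensor S (γ.law.toFun' S z) =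
      (Algebra.norm S z) ⊗ₜ[R] (1 : Q) := by
  apply bcAlong_includeRight_injective S
  show PolLaw.bcAlong (Q := Q) (LinearMap.id : Q →ₗ[R] Q) (Q ⊗[R] S)
        ((Algebra.TensorProduct.includeRight : S →ₐ[R] Q ⊗[R] S).toLinearMap.rTensor Q _) =
      PolLaw.bcAlong (Q := Q) (LinearMap.id : Q →ₗ[R] Q) (Q ⊗[R] S)
        ((Algebra.TensorProduct.includeRight : S →ₐ[R] Q ⊗[R] S).toLinearMap.rTensor Q _)
  rw [← lTensor_bcAlong_rTensor, PolynomialLaw.isCompat_apply', ← hθ (Q ⊗[R] S)]
  have hN := congrArg (fun L => L.law.toFun' (Q ⊗[R] S)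
    (PolLaw.bcAlong (Q := Q) (IsScalarTower.toAlgHom R R' Q').toLinearMap (Q ⊗[R] S)
      ((Algebra.TensorProduct.includeRight : S →ₐ[R] Q ⊗[R] S).toLinearMap.rTensor R' z))) hπ'
  change π'.toLinearMap.lTensor (Q ⊗[R] S) (γ'.law.toFun' (Q ⊗[R] S) _) =
    (PolLaw.normLaw Q Q' d hd').law.toFun' (Q ⊗[R] S) _ at hN
  rw [PolLaw.normLaw_apply, norm_bcAlong d hd] at hN
  rw [LinearMap.rTensor_tmul, bcAlong_tmul, LinearMap.id_apply]
  exact hN

end Main

end Groth.Agent.H77.Alt
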