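-- helper77: generic lemmas on polynomial laws, bcAlong and base change (towards S17909)
import Groth.Agent.H77.Alt4

set_option autoImplicit false
universe u

open scoped TensorProduct

namespace Groth.Agent.H77.Alt

section LawOfFamily

variable {A : Type u} [CommRing A] {X E : Type u} [AddCommGroup X] [Module A X]
  [AddCommGroup E] [Module A E]

/-- A compatible family of maps on ring test algebras defines a polynomial law. -/
theorem exists_law_of_family
    (T : ∀ (S : Type u) [CommRing S] [Algebra A S], S ⊗[A] X → S ⊗[A] E)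
    (hT : ∀ (S S' : Type u) [CommRing S] [Algebra A S] [CommRing S'] [Algebra A S']
      (φ : S →ₐ[A] S') (x : S ⊗[A] X),
      φ.toLinearMap.rTensor E (T S x) = T S' (φ.toLinearMap.rTensor X x)) :
    ∃ L : X →ₚₗ[A] E, ∀ (S : Type u) [CommRing S] [Algebra A S] (x : S ⊗[A] X),
      L.toFun' S x = T S x := by
  obtain ⟨L, hL⟩ := Groth.Agent.S13174.result.2
    ⟨fun n => T (MvPolynomial (Fin n) A), fun n m φ => funext (fun x => hT _ _ φ x)⟩
  have hL' : ∀ n, L.toFun' (MvPolynomial (Fin n) A) = T (MvPolynomial (Fin n) A) :=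
    fun n => congrFun (congrArg Subtype.val hL) n
  refine ⟨L, fun S _ _ x => ?_⟩
  obtain ⟨n, ψ, p, rfl⟩ := PolynomialLaw.exists_lift x
  rw [← PolynomialLaw.isCompat_apply', hL', hT]

theorem postcomp_id' (F : X →ₚₗ[A] E) : PolLaw.postcomp LinearMap.id F = F := by
  refine PolynomialLaw.ext ?_
  funext S _ _ x
  show (LinearMap.id : E →ₗ[A] E).lTensor S (F.toFun' S x) = F.toFun' S x
  rw [LinearMap.lTensor_id, LinearMap.id_apply]

theorem rTensor_smul' {S S' : Type u} [CommSemiring S] [Algebra A S] [CommSemiring S'] [Algebra A S']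
    (φ : S →ₐ[A] S') (a : S) (w : S ⊗[A] E) :
    φ.toLinearMap.rTensor E (a • w) = φ a • φ.toLinearMap.rTensor E w := by
  induction w using TensorProduct.induction_on with
  | zero => simp
  | tmul s e =>
    rw [TensorProduct.smul_tmul', LinearMap.rTensor_tmul, LinearMap.rTensor_tmul,
      TensorProduct.smul_tmul', smul_eq_mul, smul_eq_mul, AlgHom.toLinearMap_apply, map_mul,
      AlgHom.toLinearMap_apply]
  | add w w' hw hw' => rw [smul_add, map_add, hw, hw', map_add, smul_add]

theorem lTensor_smul' {E' : Type u} [AddCommGroup E'] [Module A E'] {S : Type u} [CommSemiring S]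
    [Algebra A S] (g : E →ₗ[A] E') (a : S) (w : S ⊗[A] E) :
    g.lTensor S (a • w) = a • g.lTensor S w := by
  induction w using TensorProduct.induction_on with
  | zero => simp
  | tmul s e =>
    rw [TensorProduct.smul_tmul', LinearMap.lTensor_tmul, LinearMap.lTensor_tmul,
      TensorProduct.smul_tmul']
  | add w w' hw hw' => rw [smul_add, map_add, hw, hw', map_add, smul_add]

end LawOfFamily

section NormicPoly

variable {A : Type u} [CommRing A] (B : Type u) [CommRing B] [Algebra A B]
  [Module.Free A B] [Module.Finite A B]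
  {X : Type u} [AddCommGroup X] [Module A X] [Module B X] [IsScalarTower A B X]
  {E : Type u} [AddCommGroup E] [Module A E]

/-- A law that is normic over polynomial test rings is normic. -/
theorem isNormic_of_polynomial (L : X →ₚₗ[A] E)
    (h : ∀ (n : ℕ) (x : MvPolynomial (Fin n) A ⊗[A] B) (m : MvPolynomial (Fin n) A ⊗[A] X),
      L.toFun' (MvPolynomial (Fin n) A) (PolLaw.actEnd X (MvPolynomial (Fin n) A) x m) =
        Algebra.norm (MvPolynomial (Fin n) A) x • L.toFun' (MvPolynomial (Fin n) A) m) :
    PolLaw.IsNormic B L := by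
  intro P _ _ x m
  set t : P ⊗[A] (B × X) := (LinearMap.inl A B X).lTensor P x + (LinearMap.inr A B X).lTensor P m
    with ht
  have hx : (LinearMap.fst A B X).lTensor P t = x := by
    rw [ht, map_add, ← LinearMap.lTensor_comp_apply, ← LinearMap.lTensor_comp_apply,
      LinearMap.fst_comp_inl, LinearMap.fst_comp_inr, LinearMap.lTensor_id, LinearMap.lTensor_zero]
    simp
  have hm : (LinearMap.snd A B X).lTensor P t = m := by
    rw [ht, map_add, ← LinearMap.lTensor_comp_apply, ← LinearMap.lTensor_comp_apply,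
      LinearMap.snd_comp_inl, LinearMap.snd_comp_inr, LinearMap.lTensor_id, LinearMap.lTensor_zero]
    simp
  obtain ⟨n, ψ, p, hp⟩ := PolynomialLaw.exists_lift t
  set x₀ := (LinearMap.fst A B X).lTensor (MvPolynomial (Fin n) A) p with hx₀
  set m₀ := (LinearMap.snd A B X).lTensor (MvPolynomial (Fin n) A) p with hm₀
  have hx' : ψ.toLinearMap.rTensor B x₀ = x := by
    rw [hx₀, ← LinearMap.comp_apply, LinearMap.rTensor_comp_lTensor,
      ← LinearMap.lTensor_comp_rTensor, LinearMap.comp_apply, hp, hx]
  have hm' : ψ.toLinearMap.rTensor X m₀ = m := by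
    rw [hm₀, ← LinearMap.comp_apply, LinearMap.rTensor_comp_lTensor,
      ← LinearMap.lTensor_comp_rTensor, LinearMap.comp_apply, hp, hm]
  have h1 := PolLaw.rTensor_actEnd X ψ x₀ m₀
  rw [← PolLaw.rTensor_algHom_apply, hx', hm'] at h1
  rw [← h1, ← PolynomialLaw.isCompat_apply', h n x₀ m₀, rTensor_smul',
    PolynomialLaw.isCompat_apply', hm']
  congr 1
  rw [← PolLaw.detAct_self, ← PolLaw.detAct_self, ← PolLaw.detAct_map B ψ x₀,
    ← PolLaw.rTensor_algHom_apply, hx']

end NormicPoly

section BcAlongGen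

variable {R : Type u} [CommRing R] {Q : Type u} [CommRing Q] [Algebra R Q]
  {X : Type u} [AddCommGroup X] [Module R X]
  {Y : Type u} [AddCommGroup Y] [Module R Y] [Module Q Y] [IsScalarTower R Q Y]

theorem bcAlong_smul (g : X →ₗ[R] Y) (P : Type u) [CommRing P] [Algebra R P] [Algebra Q P]
    [IsScalarTower R Q P] (a : P) (z : P ⊗[R] X) :
    PolLaw.bcAlong (Q := Q) g P (a • z) = a • PolLaw.bcAlong (Q := Q) g P z := by
  induction z using TensorProduct.induction_on with
  | zero => simp
  | tmul p x =>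
    rw [TensorProduct.smul_tmul', bcAlong_tmul, bcAlong_tmul, TensorProduct.smul_tmul']
  | add w w' hw hw' => rw [smul_add, map_add, hw, hw', map_add, smul_add]

theorem bcAlong_rTensor (g : X →ₗ[R] Y) {P P' : Type u} [CommRing P] [Algebra R P] [Algebra Q P]
    [IsScalarTower R Q P] [CommRing P'] [Algebra R P'] [Algebra Q P'] [IsScalarTower R Q P']
    (φ : P →ₐ[Q] P') (z : P ⊗[R] X) :
    PolLaw.bcAlong (Q := Q) g P' ((φ.restrictScalars R).toLinearMap.rTensor X z) =
      φ.toLinearMap.rTensor Y (PolLaw.bcAlong (Q := Q) g P z) := by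
  induction z using TensorProduct.induction_on with
  | zero => simp
  | tmul p x =>
    rw [LinearMap.rTensor_tmul, bcAlong_tmul, bcAlong_tmul, LinearMap.rTensor_tmul]
    rfl
  | add w w' hw hw' => rw [map_add, map_add, hw, hw', map_add, map_add]

theorem bcAlong_lTensor {X' : Type u} [AddCommGroup X'] [Module R X'] (h : X' →ₗ[R] X)
    (g : X →ₗ[R] Y) (P : Type u) [CommRing P] [Algebra R P] [Algebra Q P]
    [IsScalarTower R Q P] (z : P ⊗[R] X') :
    PolLaw.bcAlong (Q := Q) g P (h.lTensor P z) = PolLaw.bcAlong (Q := Q) (g ∘ₗ h) P z := by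
  induction z using TensorProduct.induction_on with
  | zero => simp
  | tmul p x =>
    rw [LinearMap.lTensor_tmul, bcAlong_tmul, bcAlong_tmul, LinearMap.comp_apply]
  | add w w' hw hw' => rw [map_add, map_add, hw, hw', map_add]

theorem lTensor_bcAlong {Y' : Type u} [AddCommGroup Y'] [Module R Y'] [Module Q Y']
    [IsScalarTower R Q Y'] (w : Y →ₗ[Q] Y')
    (g : X →ₗ[R] Y) (P : Type u) [CommRing P] [Algebra R P] [Algebra Q P]
    [IsScalarTower R Q P] (z : P ⊗[R] X) :
    w.lTensor P (PolLaw.bcAlong (Q := Q) g P z) = PolLaw.bcAlong (Q := Q) ((w.restrictScalars R) ∘ₗ g) P z := by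
  induction z using TensorProduct.induction_on with
  | zero => simp
  | tmul p x =>
    rw [bcAlong_tmul, LinearMap.lTensor_tmul, bcAlong_tmul, LinearMap.comp_apply]
    rfl
  | add z z' hz hz' => rw [map_add, map_add, hz, hz', map_add]

theorem bcAlong_bijective (g : X →ₗ[R] Y) (hg : IsBaseChange Q g) (P : Type u) [CommRing P]
    [Algebra R P] [Algebra Q P] [IsScalarTower R Q P] :
    Function.Bijective (PolLaw.bcAlong (Q := Q) g P) := by
  have h1 : g.liftBaseChange Q = hg.equiv.toLinearMap := by
    apply TensorProduct.AlgebraTensorModule.ext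
    intro q x
    rfl
  have h2 : ∀ z, PolLaw.bcAlong (Q := Q) g P z = (LinearEquiv.lTensor P hg.equiv)
      ((TensorProduct.AlgebraTensorModule.cancelBaseChange R Q P P X).symm z) := by
    intro z
    unfold PolLaw.bcAlong
    rw [h1]
    rfl
  have h3 : (PolLaw.bcAlong (Q := Q) g P : P ⊗[R] X → P ⊗[Q] Y) =
      (LinearEquiv.lTensor P hg.equiv) ∘
        (TensorProduct.AlgebraTensorModule.cancelBaseChange R Q P P X).symm := funext h2
  rw [h3]
  exact (LinearEquiv.bijective _).comp (LinearEquiv.bijective _)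

end BcAlongGen

end Groth.Agent.H77.Alt
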