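-- helper77: the comparison maps psi and the base-change family of a normic law (towards S17909)
import Groth.Agent.H77.Alt5

set_option autoImplicit false
universe u

open scoped TensorProduct

namespace Groth.Agent.H77.Alt

section Psi

variable {R : Type u} [CommRing R] {Q : Type u} [CommRing Q] [Algebra R Q]
  (S : Type u) [CommRing S] [Algebra R S]
  (Y : Type u) [AddCommGroup Y] [Module R Y] [Module Q Y] [IsScalarTower R Q Y]

/-- `(Q ⊗[R] S) ⊗[Q] Y → S ⊗[R] Y`, `(q ⊗ s) ⊗ y ↦ s ⊗ q • y`. -/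
noncomputable def psi : (Q ⊗[R] S) ⊗[Q] Y →+ S ⊗[R] Y :=
  ((TensorProduct.comm R Y S).toAddEquiv.toAddMonoidHom.comp
    (TensorProduct.AlgebraTensorModule.cancelBaseChange R Q Q Y S).toAddEquiv.toAddMonoidHom).comp
    (TensorProduct.comm Q (Q ⊗[R] S) Y).toAddEquiv.toAddMonoidHom

theorem psi_tmul (q : Q) (s : S) (y : Y) :
    psi S Y ((q ⊗ₜ[R] s) ⊗ₜ[Q] y) = s ⊗ₜ[R] (q • y) := by
  simp [psi]

variable {S Y}

theorem psi_induction {motive : (Q ⊗[R] S) ⊗[Q] Y → Prop} (h0 : motive 0)
    (htmul : ∀ q s y, motive ((q ⊗ₜ[R] s) ⊗ₜ[Q] y))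
    (hadd : ∀ a b, motive a → motive b → motive (a + b)) (w : (Q ⊗[R] S) ⊗[Q] Y) : motive w := by
  induction w using TensorProduct.induction_on with
  | zero => exact h0
  | tmul p y =>
    induction p using TensorProduct.induction_on with
    | zero => rw [TensorProduct.zero_tmul]; exact h0
    | tmul q s => exact htmul q s y
    | add p p' hp hp' => rw [TensorProduct.add_tmul]; exact hadd _ _ hp hp'
  | add a b ha hb => exact hadd _ _ ha hb

theorem psi_rTensor {S' : Type u} [CommRing S'] [Algebra R S'] (φ : S →ₐ[R] S')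
    (w : (Q ⊗[R] S) ⊗[Q] Y) :
    psi S' Y ((Algebra.TensorProduct.map (AlgHom.id Q Q) φ).toLinearMap.rTensor Y w) =
      φ.toLinearMap.rTensor Y (psi S Y w) := by
  induction w using psi_induction with
  | h0 => simp
  | htmul q s y =>
    rw [LinearMap.rTensor_tmul, AlgHom.toLinearMap_apply, Algebra.TensorProduct.map_tmul,
      AlgHom.id_apply, psi_tmul, psi_tmul, LinearMap.rTensor_tmul, AlgHom.toLinearMap_apply]
  | hadd a b ha hb => simp only [map_add, ha, hb]

theorem psi_smul (a : S) (w : (Q ⊗[R] S) ⊗[Q] Y) :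
    psi S Y (((1 : Q) ⊗ₜ[R] a : Q ⊗[R] S) • w) = a • psi S Y w := by
  induction w using psi_induction with
  | h0 => simp
  | htmul q s y =>
    rw [TensorProduct.smul_tmul', smul_eq_mul, Algebra.TensorProduct.tmul_mul_tmul, one_mul,
      psi_tmul, psi_tmul, TensorProduct.smul_tmul', smul_eq_mul]
  | hadd a b ha hb => simp only [smul_add, map_add, ha, hb]

theorem psi_lTensor {Y' : Type u} [AddCommGroup Y'] [Module R Y'] [Module Q Y']
    [IsScalarTower R Q Y'] (t : Y →ₗ[Q] Y') (w : (Q ⊗[R] S) ⊗[Q] Y) :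
    psi S Y' (t.lTensor (Q ⊗[R] S) w) = (t.restrictScalars R).lTensor S (psi S Y w) := by
  induction w using psi_induction with
  | h0 => simp
  | htmul q s y =>
    rw [LinearMap.lTensor_tmul, psi_tmul, psi_tmul, LinearMap.lTensor_tmul]
    congr 1
    show q • t y = t (q • y)
    rw [map_smul]
  | hadd a b ha hb => simp only [map_add, ha, hb]

/-- The multiplication map `Q ⊗[R] P → P` of a `Q`-algebra `P`. -/
noncomputable def multAlg (P : Type u) [CommRing P] [Algebra R P] [Algebra Q P]
    [IsScalarTower R Q P] : Q ⊗[R] P →ₐ[Q] P :=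
  Algebra.TensorProduct.lift (Algebra.ofId Q P) (AlgHom.id R P) (fun _ _ => Commute.all _ _)

theorem multAlg_tmul (P : Type u) [CommRing P] [Algebra R P] [Algebra Q P]
    [IsScalarTower R Q P] (q : Q) (p : P) : multAlg (R := R) P (q ⊗ₜ[R] p) = q • p := by
  rw [multAlg, Algebra.TensorProduct.lift_tmul, Algebra.ofId_apply, AlgHom.id_apply,
    Algebra.smul_def]

theorem bcAlong_id_psi (P : Type u) [CommRing P] [Algebra R P] [Algebra Q P]
    [IsScalarTower R Q P] (w : (Q ⊗[R] P) ⊗[Q] Y) :
    PolLaw.bcAlong (Q := Q) (LinearMap.id : Y →ₗ[R] Y) P (psi P Y w) =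
      (multAlg (R := R) P).toLinearMap.rTensor Y w := by
  induction w using psi_induction with
  | h0 => simp
  | htmul q s y =>
    rw [psi_tmul, bcAlong_tmul, LinearMap.id_apply, LinearMap.rTensor_tmul,
      AlgHom.toLinearMap_apply, multAlg_tmul, TensorProduct.smul_tmul]
  | hadd a b ha hb => simp only [map_add, ha, hb]

theorem psi_bcAlong_mk (N : Type u) [AddCommGroup N] [Module R N] (z : S ⊗[R] N) :
    psi S (Q ⊗[R] N) (PolLaw.bcAlong (Q := Q) (TensorProduct.mk R Q N 1) (Q ⊗[R] S)
      ((Algebra.TensorProduct.includeRight : S →ₐ[R] Q ⊗[R] S).toLinearMap.rTensor N z)) =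
      (TensorProduct.mk R Q N 1).lTensor S z := by
  induction z using TensorProduct.induction_on with
  | zero => simp
  | tmul s n =>
    rw [LinearMap.rTensor_tmul, bcAlong_tmul, AlgHom.toLinearMap_apply,
      Algebra.TensorProduct.includeRight_apply, psi_tmul, one_smul, LinearMap.lTensor_tmul]
  | add z z' hz hz' => simp only [map_add, hz, hz']

end Psi

section Setup

variable {R R' Q Q' : Type u} [CommRing R] [CommRing R'] [Algebra R R']
    [CommRing Q] [Algebra R Q] [CommRing Q'] [Algebra R Q'] [Algebra Q Q'] [Algebra R' Q']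
    [IsScalarTower R Q Q'] [IsScalarTower R R' Q']
    {M' : Type u} [AddCommGroup M'] [Module R M'] [Module R' M'] [IsScalarTower R R' M']
    {M'' : Type u} [AddCommGroup M''] [Module R M''] [Module R' M''] [Module Q M''] [Module Q' M'']
    [IsScalarTower R R' M''] [IsScalarTower R Q M''] [IsScalarTower R' Q' M'']
    [IsScalarTower Q Q' M'']

theorem bcAlong_actEnd (f : M' →ₗ[R'] M'') (P : Type u) [CommRing P] [Algebra R P] [Algebra Q P]
    [IsScalarTower R Q P] (x : P ⊗[R] R') (m : P ⊗[R] M') :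
    PolLaw.bcAlong (Q := Q) (f.restrictScalars R) P (PolLaw.actEnd M' P x m) =
      PolLaw.actEnd M'' P
        (PolLaw.bcAlong (Q := Q) (IsScalarTower.toAlgHom R R' Q').toLinearMap P x)
        (PolLaw.bcAlong (Q := Q) (f.restrictScalars R) P m) := by
  induction x using TensorProduct.induction_on with
  | zero => simp
  | tmul s r' =>
    induction m using TensorProduct.induction_on with
    | zero => simp
    | tmul t m' =>
      rw [PolLaw.actEnd_tmul_tmul, bcAlong_tmul, bcAlong_tmul, bcAlong_tmul,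
        PolLaw.actEnd_tmul_tmul]
      congr 1
      show f (r' • m') = (algebraMap R' Q' r') • f m'
      rw [map_smul, algebraMap_smul]
    | add m m' hm hm' => simp only [map_add, hm, hm']
  | add x x' hx hx' => simp only [map_add, LinearMap.add_apply, hx, hx']

theorem isBaseChange_restrictScalars [Algebra.IsPushout R R' Q Q'] (f : M' →ₗ[R'] M'')
    (hf : IsBaseChange Q' f) : IsBaseChange Q (f.restrictScalars R) := by
  haveI : Algebra.IsPushout R Q R' Q' := Algebra.IsPushout.symm inferInstance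
  refine IsBaseChange.of_equiv ((Algebra.IsPushout.cancelBaseChange R Q R' Q' M').symm ≪≫ₗ
    (hf.equiv.restrictScalars Q)) (fun x => ?_)
  rw [LinearEquiv.trans_apply, Algebra.IsPushout.cancelBaseChange_symm_tmul, map_one]
  show hf.equiv (1 ⊗ₜ x) = f x
  rw [IsBaseChange.equiv_tmul, one_smul]

variable {N'' : Type u} [AddCommGroup N''] [Module R N''] [Module Q N''] [IsScalarTower R Q N'']

/-- The family of maps defining the restriction to `R` of the law `ν'' ∘ (base change)`. -/
noncomputable def famT (f : M' →ₗ[R'] M'') (ν'' : M'' →ₚₗ[Q] N'') (S : Type u) [CommRing S]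
    [Algebra R S] : S ⊗[R] M' → S ⊗[R] N'' :=
  fun m => psi S N'' (ν''.toFun' (Q ⊗[R] S)
    (PolLaw.bcAlong (Q := Q) (f.restrictScalars R) (Q ⊗[R] S)
      ((Algebra.TensorProduct.includeRight : S →ₐ[R] Q ⊗[R] S).toLinearMap.rTensor M' m)))

theorem famT_compat (f : M' →ₗ[R'] M'') (ν'' : M'' →ₚₗ[Q] N'') (S S' : Type u) [CommRing S]
    [Algebra R S] [CommRing S'] [Algebra R S'] (φ : S →ₐ[R] S') (m : S ⊗[R] M') :
    φ.toLinearMap.rTensor N'' (famT f ν'' S m) = famT f ν'' S' (φ.toLinearMap.rTensor M' m) := by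
  unfold famT
  have hcomp : ((Algebra.TensorProduct.map (AlgHom.id Q Q) φ).restrictScalars R).comp
      (Algebra.TensorProduct.includeRight : S →ₐ[R] Q ⊗[R] S) =
      (Algebra.TensorProduct.includeRight : S' →ₐ[R] Q ⊗[R] S').comp φ := by
    ext s
    simp
  have h1 : (Algebra.TensorProduct.includeRight : S' →ₐ[R] Q ⊗[R] S').toLinearMap.rTensor M'
      (φ.toLinearMap.rTensor M' m) =
      ((Algebra.TensorProduct.map (AlgHom.id Q Q) φ).restrictScalars R).toLinearMap.rTensor M'
        ((Algebra.TensorProduct.includeRight : S →ₐ[R] Q ⊗[R] S).toLinearMap.rTensor M' m) := by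
    rw [← LinearMap.rTensor_comp_apply, ← LinearMap.rTensor_comp_apply,
      ← AlgHom.comp_toLinearMap, ← AlgHom.comp_toLinearMap, hcomp]
  rw [h1, bcAlong_rTensor, ← PolynomialLaw.isCompat_apply', psi_rTensor]

theorem famT_normic [Nontrivial R] [Algebra.IsPushout R R' Q Q'] [Module.Free R R']
    [Module.Finite R R'] (f : M' →ₗ[R'] M'') (ν'' : M'' →ₚₗ[Q] N'')
    (hν'' : PolLaw.IsNormic Q' ν'') (S : Type u) [CommRing S] [Algebra R S]
    (x : S ⊗[R] R') (m : S ⊗[R] M') :
    famT f ν'' S (PolLaw.actEnd M' S x m) = Algebra.norm S x • famT f ν'' S m := by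
  unfold famT
  rw [PolLaw.rTensor_actEnd M' (Algebra.TensorProduct.includeRight : S →ₐ[R] Q ⊗[R] S) x m,
    bcAlong_actEnd (Q' := Q') f (Q ⊗[R] S), hν'' (Q ⊗[R] S), ← PolLaw.rTensor_algHom_apply,
    norm_bcAlong (Module.finrank R R') rfl S (Q ⊗[R] S)
      (Algebra.TensorProduct.includeRight : S →ₐ[R] Q ⊗[R] S) x,
    Algebra.TensorProduct.includeRight_apply, psi_smul]

end Setup

end Groth.Agent.H77.Alt
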