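-- helper77: universal normic pairs commute with base change (S17909)
import Groth.Agent.H77.Alt6

set_option autoImplicit false
universe u

open scoped TensorProduct

namespace Groth.Agent.H77.Alt

section Setup2

variable {R R' Q Q' : Type u} [CommRing R] [CommRing R'] [Algebra R R']
    [CommRing Q] [Algebra R Q] [CommRing Q'] [Algebra R Q'] [Algebra Q Q'] [Algebra R' Q']
    [IsScalarTower R Q Q'] [IsScalarTower R R' Q']
    {M' : Type u} [AddCommGroup M'] [Module R M'] [Module R' M'] [IsScalarTower R R' M']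
    {M'' : Type u} [AddCommGroup M''] [Module R M''] [Module R' M''] [Module Q M''] [Module Q' M'']
    [IsScalarTower R R' M''] [IsScalarTower R Q M''] [IsScalarTower R' Q' M'']
    [IsScalarTower Q Q' M'']
    {N : Type u} [AddCommGroup N] [Module R N]

/-- The family of maps defining the base change to `Q` of the law `ν`. -/
noncomputable def famT' (f : M' →ₗ[R'] M'') (hfR : IsBaseChange Q (f.restrictScalars R))
    (ν : M' →ₚₗ[R] N) (P : Type u) [CommRing P] [Algebra R P] [Algebra Q P] [IsScalarTower R Q P] :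
    P ⊗[Q] M'' → P ⊗[Q] (Q ⊗[R] N) :=
  fun y => PolLaw.bcAlong (Q := Q) (TensorProduct.mk R Q N 1) P
    (ν.toFun' P ((Equiv.ofBijective _ (bcAlong_bijective (f.restrictScalars R) hfR P)).symm y))

theorem famT'_bc (f : M' →ₗ[R'] M'') (hfR : IsBaseChange Q (f.restrictScalars R))
    (ν : M' →ₚₗ[R] N) (P : Type u) [CommRing P] [Algebra R P] [Algebra Q P] [IsScalarTower R Q P]
    (m : P ⊗[R] M') :
    famT' f hfR ν P (PolLaw.bcAlong (Q := Q) (f.restrictScalars R) P m) =
      PolLaw.bcAlong (Q := Q) (TensorProduct.mk R Q N 1) P (ν.toFun' P m) := by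
  unfold famT'
  have : (Equiv.ofBijective _ (bcAlong_bijective (f.restrictScalars R) hfR P)).symm
      (PolLaw.bcAlong (Q := Q) (f.restrictScalars R) P m) = m :=
    (Equiv.ofBijective _ (bcAlong_bijective (f.restrictScalars R) hfR P)).symm_apply_apply m
  rw [this]

theorem famT'_compat (f : M' →ₗ[R'] M'') (hfR : IsBaseChange Q (f.restrictScalars R))
    (ν : M' →ₚₗ[R] N) {P P' : Type u} [CommRing P] [Algebra R P] [Algebra Q P]
    [IsScalarTower R Q P] [CommRing P'] [Algebra R P'] [Algebra Q P'] [IsScalarTower R Q P']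
    (φ : P →ₐ[Q] P') (y : P ⊗[Q] M'') :
    φ.toLinearMap.rTensor (Q ⊗[R] N) (famT' f hfR ν P y) =
      famT' f hfR ν P' (φ.toLinearMap.rTensor M'' y) := by
  obtain ⟨m, rfl⟩ := (bcAlong_bijective (f.restrictScalars R) hfR P).2 y
  rw [famT'_bc, ← bcAlong_rTensor (Q := Q) (TensorProduct.mk R Q N 1) φ,
    ← bcAlong_rTensor (Q := Q) (f.restrictScalars R) φ, famT'_bc,
    ← PolynomialLaw.isCompat_apply']

theorem famT'_normic [Nontrivial R] [Algebra.IsPushout R R' Q Q'] [Module.Free R R']
    [Module.Finite R R'] (f : M' →ₗ[R'] M'') (hfR : IsBaseChange Q (f.restrictScalars R))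
    (ν : M' →ₚₗ[R] N) (hν : PolLaw.IsNormic R' ν)
    (P : Type u) [CommRing P] [Algebra R P] [Algebra Q P] [IsScalarTower R Q P]
    (x : P ⊗[Q] Q') (y : P ⊗[Q] M'') :
    famT' f hfR ν P (PolLaw.actEnd M'' P x y) = Algebra.norm P x • famT' f hfR ν P y := by
  obtain ⟨m, rfl⟩ := (bcAlong_bijective (f.restrictScalars R) hfR P).2 y
  obtain ⟨x₀, rfl⟩ := (bcAlong_bijective (IsScalarTower.toAlgHom R R' Q').toLinearMap
    (isBaseChange_of_isPushout (R := R) (R' := R') (Q := Q) (Q' := Q')) P).2 x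
  rw [← bcAlong_actEnd, famT'_bc, famT'_bc, hν P x₀ m, bcAlong_smul]
  congr 1
  have := norm_bcAlong (Q := Q) (Q' := Q') (Module.finrank R R') rfl P P (AlgHom.id R P) x₀
  rw [AlgHom.id_apply] at this
  rw [← this]
  simp

end Setup2

section Main

theorem exists_isBaseChange_of_isUnivNormic {R R' Q Q' : Type u} [CommRing R] [CommRing R']
    [Algebra R R']
    [CommRing Q] [Algebra R Q] [CommRing Q'] [Algebra R Q'] [Algebra Q Q'] [Algebra R' Q']
    [IsScalarTower R Q Q'] [IsScalarTower R R' Q'] [Algebra.IsPushout R R' Q Q']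
    [Module.Free R R'] [Module.Finite R R']
    {M' : Type u} [AddCommGroup M'] [Module R M'] [Module R' M'] [IsScalarTower R R' M']
    {M'' : Type u} [AddCommGroup M''] [Module R M''] [Module R' M''] [Module Q M''] [Module Q' M'']
    [IsScalarTower R R' M''] [IsScalarTower R Q M''] [IsScalarTower R' Q' M'']
    [IsScalarTower Q Q' M'']
    (f : M' →ₗ[R'] M'') (hf : IsBaseChange Q' f)
    {N : Type u} [AddCommGroup N] [Module R N] (ν : M' →ₚₗ[R] N) (hν : PolLaw.IsUnivNormic R' ν)
    {N'' : Type u} [AddCommGroup N''] [Module R N''] [Module Q N''] [IsScalarTower R Q N'']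
    (ν'' : M'' →ₚₗ[Q] N'') (hν'' : PolLaw.IsUnivNormic Q' ν'') :
    ∃ u : N →ₗ[R] N'',
      (∀ (P : Type u) [CommRing P] [Algebra R P] [Algebra Q P] [IsScalarTower R Q P]
          (m : P ⊗[R] M'),
          ν''.toFun' P (PolLaw.bcAlong (f.restrictScalars R) P m) =
            PolLaw.bcAlong u P (ν.toFun' P m)) ∧
      IsBaseChange Q u := by
  rcases subsingleton_or_nontrivial R with hR | hR
  · haveI : Subsingleton (Q ⊗[R] N) := Module.subsingleton R _
    haveI : Subsingleton N'' := Module.subsingleton R _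
    refine ⟨0, ?_, IsBaseChange.of_equiv (LinearEquiv.ofSubsingleton _ _)
      (fun x => Subsingleton.elim _ _)⟩
    intro P _ _ _ _ m
    haveI : Subsingleton P := by
      refine subsingleton_of_zero_eq_one ?_
      rw [← (algebraMap R P).map_one, Subsingleton.elim (1 : R) 0, map_zero]
    haveI : Subsingleton (P ⊗[Q] N'') := Module.subsingleton P _
    exact Subsingleton.elim _ _
  -- Step 1: the restricted law μ over R and the map u
  obtain ⟨μ, hμ⟩ := exists_law_of_family (A := R) (X := M') (E := N'')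
    (fun S _ _ => famT f ν'' S) (fun S S' _ _ _ _ φ x => famT_compat f ν'' S S' φ x)
  have hμn : PolLaw.IsNormic R' μ := by
    intro P _ _ x m
    rw [hμ, hμ, famT_normic f ν'' hν''.1]
  obtain ⟨u, hu, -⟩ := hν.2 N'' μ hμn
  have hu' : ∀ (S : Type u) [CommRing S] [Algebra R S] (m : S ⊗[R] M'),
      u.lTensor S (ν.toFun' S m) = famT f ν'' S m := by
    intro S _ _ m
    rw [← hμ S m, ← hu]
    rfl
  -- Step 2: compatibility over Q-algebras
  have h4 : ∀ (P : Type u) [CommRing P] [Algebra R P] [Algebra Q P] [IsScalarTower R Q P]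
      (m : P ⊗[R] M'),
      ν''.toFun' P (PolLaw.bcAlong (f.restrictScalars R) P m) =
        PolLaw.bcAlong u P (ν.toFun' P m) := by
    intro P _ _ _ _ m
    have e1 : PolLaw.bcAlong (Q := Q) u P (ν.toFun' P m) =
        PolLaw.bcAlong (Q := Q) (LinearMap.id : N'' →ₗ[R] N'') P (u.lTensor P (ν.toFun' P m)) := by
      rw [bcAlong_lTensor, LinearMap.id_comp]
    rw [e1, hu' P m]
    unfold famT
    rw [bcAlong_id_psi, PolynomialLaw.isCompat_apply']
    congr 1
    rw [← bcAlong_rTensor (Q := Q) (f.restrictScalars R) (multAlg (R := R) P),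
      ← LinearMap.rTensor_comp_apply, ← AlgHom.comp_toLinearMap]
    have hid : ((multAlg (R := R) (Q := Q) P).restrictScalars R).comp
        (Algebra.TensorProduct.includeRight : P →ₐ[R] Q ⊗[R] P) = AlgHom.id R P := by
      ext p
      simp [multAlg_tmul]
    rw [hid]
    simp
  -- Step 3: the base-changed law μ' over Q and the map v
  have hfR : IsBaseChange Q (f.restrictScalars R) :=
    isBaseChange_restrictScalars (R := R) (R' := R') (Q := Q) (Q' := Q') f hf
  obtain ⟨μ', hμ'0⟩ := (Groth.Agent.S13174.result (A := Q) (M := M'') (N := Q ⊗[R] N)).2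
    ⟨fun n => famT' f hfR ν (MvPolynomial (Fin n) Q),
      fun n m φ => funext (fun y => famT'_compat f hfR ν φ y)⟩
  have hμ'' : ∀ n, μ'.toFun' (MvPolynomial (Fin n) Q) = famT' f hfR ν (MvPolynomial (Fin n) Q) :=
    fun n => congrFun (congrArg Subtype.val hμ'0) n
  haveI : Module.Free Q Q' := Module.Free.of_basis
    (bcBasis (R := R) (R' := R') Q Q' (Module.finBasisOfFinrankEq R R' rfl))
  haveI : Module.Finite Q Q' := Module.Finite.of_basis
    (bcBasis (R := R) (R' := R') Q Q' (Module.finBasisOfFinrankEq R R' rfl))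
  have hμ'n : PolLaw.IsNormic Q' μ' := by
    refine isNormic_of_polynomial Q' μ' (fun n x y => ?_)
    rw [hμ'' n]
    exact famT'_normic f hfR ν hν.1 _ x y
  obtain ⟨v, hv, -⟩ := hν''.2 (Q ⊗[R] N) μ' hμ'n
  have hμ'g : ∀ (P : Type u) [CommRing P] [Algebra R P] [Algebra Q P] [IsScalarTower R Q P]
      (m : P ⊗[R] M'),
      μ'.toFun' P (PolLaw.bcAlong (Q := Q) (f.restrictScalars R) P m) =
        PolLaw.bcAlong (Q := Q) (TensorProduct.mk R Q N 1) P (ν.toFun' P m) := by
    intro P _ _ _ _ m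
    obtain ⟨n, φ, y₀, hy₀⟩ := PolynomialLaw.exists_lift (R := Q)
      (PolLaw.bcAlong (Q := Q) (f.restrictScalars R) P m)
    rw [← famT'_bc f hfR ν P m, ← hy₀, ← PolynomialLaw.isCompat_apply', hμ'' n, famT'_compat]
  have h4' : ∀ (P : Type u) [CommRing P] [Algebra R P] [Algebra Q P] [IsScalarTower R Q P]
      (m : P ⊗[R] M'),
      v.lTensor P (ν''.toFun' P (PolLaw.bcAlong (Q := Q) (f.restrictScalars R) P m)) =
        PolLaw.bcAlong (Q := Q) (TensorProduct.mk R Q N 1) P (ν.toFun' P m) := by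
    intro P _ _ _ _ m
    rw [← hμ'g P m, ← hv]
    rfl
  -- Step 4: the two composites
  have hũj : ((u.liftBaseChange Q).restrictScalars R) ∘ₗ (TensorProduct.mk R Q N 1) = u := by
    ext n
    simp
  have h_i : (u.liftBaseChange Q) ∘ₗ v = LinearMap.id := by
    refine (hν''.2 N'' ν'' hν''.1).unique ?_ (postcomp_id' ν'')
    rw [postcomp_comp', hv]
    apply (Groth.Agent.S13174.result (A := Q) (M := M'') (N := N'')).1
    refine Subtype.ext (funext fun n => funext fun y => ?_)
    show (u.liftBaseChange Q).lTensor (MvPolynomial (Fin n) Q)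
      (μ'.toFun' (MvPolynomial (Fin n) Q) y) = ν''.toFun' (MvPolynomial (Fin n) Q) y
    obtain ⟨m, rfl⟩ := (bcAlong_bijective (f.restrictScalars R) hfR (MvPolynomial (Fin n) Q)).2 y
    rw [hμ'g, lTensor_bcAlong, hũj, h4]
  have hjn : PolLaw.IsNormic R' (PolLaw.postcomp (TensorProduct.mk R Q N 1) ν) := by
    intro P _ _ x m
    show (TensorProduct.mk R Q N 1).lTensor P (ν.toFun' P (PolLaw.actEnd M' P x m)) =
      Algebra.norm P x • (TensorProduct.mk R Q N 1).lTensor P (ν.toFun' P m)
    rw [hν.1 P x m, lTensor_smul']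
  have hvu : (v.restrictScalars R) ∘ₗ u = TensorProduct.mk R Q N 1 := by
    refine (hν.2 (Q ⊗[R] N) (PolLaw.postcomp (TensorProduct.mk R Q N 1) ν) hjn).unique ?_ rfl
    rw [postcomp_comp', hu]
    apply (Groth.Agent.S13174.result (A := R) (M := M') (N := Q ⊗[R] N)).1
    refine Subtype.ext (funext fun n => funext fun m => ?_)
    show (v.restrictScalars R).lTensor (MvPolynomial (Fin n) R)
        (μ.toFun' (MvPolynomial (Fin n) R) m) =
      (TensorProduct.mk R Q N 1).lTensor (MvPolynomial (Fin n) R)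
        (ν.toFun' (MvPolynomial (Fin n) R) m)
    rw [hμ]
    unfold famT
    rw [← psi_lTensor, h4' (Q ⊗[R] MvPolynomial (Fin n) R), ← PolynomialLaw.isCompat_apply',
      psi_bcAlong_mk]
  have h_ii : v ∘ₗ (u.liftBaseChange Q) = LinearMap.id := by
    apply TensorProduct.AlgebraTensorModule.ext
    intro q n
    have h1 : v (u n) = (1 : Q) ⊗ₜ[R] n := LinearMap.congr_fun hvu n
    simp only [LinearMap.comp_apply, LinearMap.liftBaseChange_tmul, map_smul, h1,
      LinearMap.id_apply, TensorProduct.smul_tmul', smul_eq_mul, mul_one]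
  refine ⟨u, h4, IsBaseChange.of_equiv (LinearEquiv.ofLinear (u.liftBaseChange Q) v h_i h_ii)
    (fun n => ?_)⟩
  simp

end Main

end Groth.Agent.H77.Alt
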