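import Mathlib

/-!
# Graded module with prescribed degree-zero localization (for S12095): the maps θ and ρ
-/

namespace Groth.Agent.H77.AwayMod

open HomogeneousLocalization Polynomial

universe u

variable {R R' S : Type u} [CommRing R] [CommRing R'] [CommRing S] [Algebra R S]
  (𝒜 : ℕ → Submodule R S) [GradedAlgebra 𝒜] {f : S} (hf : f ∈ 𝒜 1)
  (e : Away 𝒜 f ≃+* R')

theorem mem_smul_one {k : ℕ} {s : S} (hs : s ∈ 𝒜 k) : s ∈ 𝒜 (k • 1) := by
  rwa [smul_eq_mul, mul_one]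

/-- `s / f^k` in the degree-zero localization. -/
noncomputable def frac (k : ℕ) (s : 𝒜 k) : Away 𝒜 f :=
  Away.mk 𝒜 hf k s.1 (mem_smul_one 𝒜 s.2)

theorem val_frac (k : ℕ) (s : 𝒜 k) :
    (frac 𝒜 hf k s).val = Localization.mk s.1 (⟨f ^ k, k, rfl⟩ : Submonoid.powers f) := rfl

theorem frac_add (k : ℕ) (s t : 𝒜 k) :
    frac 𝒜 hf k (s + t) = frac 𝒜 hf k s + frac 𝒜 hf k t := by
  apply val_injective
  rw [val_add, val_frac, val_frac, val_frac, Localization.add_mk_self]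
  rfl

theorem frac_zero_one : frac 𝒜 hf 0 ⟨1, SetLike.one_mem_graded 𝒜⟩ = 1 := by
  apply val_injective
  rw [val_frac, val_one]
  have : (⟨f ^ 0, 0, rfl⟩ : Submonoid.powers f) = 1 := Subtype.ext (pow_zero f)
  rw [this, Localization.mk_one]

theorem frac_mul (i j : ℕ) (a : 𝒜 i) (b : 𝒜 j) :
    frac 𝒜 hf (i + j) ⟨a.1 * b.1, SetLike.mul_mem_graded a.2 b.2⟩ =
      frac 𝒜 hf i a * frac 𝒜 hf j b := by
  apply val_injective
  rw [val_mul, val_frac, val_frac, val_frac, Localization.mk_mul]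
  congr 1
  exact Subtype.ext (pow_add f i j)

theorem frac_succ (k : ℕ) (s : 𝒜 k) :
    frac 𝒜 hf (k + 1) ⟨s.1 * f, SetLike.mul_mem_graded s.2 hf⟩ = frac 𝒜 hf k s := by
  apply val_injective
  rw [val_frac, val_frac, Localization.mk_eq_mk_iff, Localization.r_iff_exists]
  refine ⟨1, ?_⟩
  simp only [OneMemClass.coe_one, one_mul]
  ring

theorem frac_surjective (a : Away 𝒜 f) : ∃ (k : ℕ) (s : 𝒜 k), frac 𝒜 hf k s = a := by
  obtain ⟨n, x, hx, rfl⟩ := Away.mk_surjective 𝒜 hf a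
  have hx' : x ∈ 𝒜 n := by rwa [smul_eq_mul, mul_one] at hx
  exact ⟨n, ⟨x, hx'⟩, rfl⟩

/-- `θ_k : 𝒜 k →+ R'`. -/
noncomputable def theta (k : ℕ) : 𝒜 k →+ R' where
  toFun s := e (frac 𝒜 hf k s)
  map_zero' := by
    have : frac 𝒜 hf k 0 = 0 := by
      have := frac_add 𝒜 hf k 0 0
      rw [add_zero] at this
      exact left_eq_add.mp this
    rw [this, map_zero]
  map_add' s t := by rw [frac_add, map_add]

theorem theta_apply (k : ℕ) (s : 𝒜 k) : theta 𝒜 hf e k s = e (frac 𝒜 hf k s) := rfl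

theorem theta_zero_one : theta 𝒜 hf e 0 ⟨1, SetLike.one_mem_graded 𝒜⟩ = 1 := by
  rw [theta_apply, frac_zero_one, map_one]

theorem theta_mul (i j : ℕ) (a : 𝒜 i) (b : 𝒜 j) :
    theta 𝒜 hf e (i + j) ⟨a.1 * b.1, SetLike.mul_mem_graded a.2 b.2⟩ =
      theta 𝒜 hf e i a * theta 𝒜 hf e j b := by
  rw [theta_apply, frac_mul, map_mul]
  rfl

theorem theta_succ (k : ℕ) (s : 𝒜 k) :
    theta 𝒜 hf e (k + 1) ⟨s.1 * f, SetLike.mul_mem_graded s.2 hf⟩ = theta 𝒜 hf e k s := by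
  rw [theta_apply, frac_succ]
  rfl

theorem theta_one_f : theta 𝒜 hf e 1 ⟨f, hf⟩ = 1 := by
  have h := theta_succ 𝒜 hf e 0 ⟨1, SetLike.one_mem_graded 𝒜⟩
  rw [theta_zero_one] at h
  rw [← h]
  congr 1
  exact Subtype.ext (by simp)

theorem theta_surjective (a : R') : ∃ (k : ℕ) (s : 𝒜 k), theta 𝒜 hf e k s = a := by
  obtain ⟨k, s, hs⟩ := frac_surjective 𝒜 hf (e.symm a)
  exact ⟨k, s, by rw [theta_apply, hs, RingEquiv.apply_symm_apply]⟩

/-- raising the index -/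
theorem theta_raise (k j : ℕ) (s : 𝒜 k) :
    ∃ t : 𝒜 (k + j), theta 𝒜 hf e (k + j) t = theta 𝒜 hf e k s := by
  induction j with
  | zero => exact ⟨s, rfl⟩
  | succ j ih =>
    obtain ⟨t, ht⟩ := ih
    exact ⟨⟨t.1 * f, (SetLike.mul_mem_graded t.2 hf : t.1 * f ∈ 𝒜 (k + j + 1))⟩, by
      rw [← ht]; exact theta_succ 𝒜 hf e _ t⟩

/-- the ring hom `ρ : S → R'[X]`, `s_k ↦ θ_k(s_k) X^k`. -/
noncomputable def rho : S →+* R'[X] :=
  (DirectSum.toSemiring (fun k => (monomial k).toAddMonoidHom.comp (theta 𝒜 hf e k))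
    (by
      show monomial 0 (theta 𝒜 hf e 0 ⟨1, SetLike.one_mem_graded 𝒜⟩) = 1
      rw [theta_zero_one]
      rfl)
    (by
      intro i j a b
      show monomial (i + j) (theta 𝒜 hf e (i + j) ⟨a.1 * b.1, _⟩) =
        monomial i (theta 𝒜 hf e i a) * monomial j (theta 𝒜 hf e j b)
      rw [theta_mul, monomial_mul_monomial])).comp
    (DirectSum.decomposeRingEquiv 𝒜).toRingHom

theorem rho_of_mem {k : ℕ} {s : S} (hs : s ∈ 𝒜 k) :
    rho 𝒜 hf e s = monomial k (theta 𝒜 hf e k ⟨s, hs⟩) := by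
  unfold rho
  rw [RingHom.comp_apply]
  have : (DirectSum.decomposeRingEquiv 𝒜).toRingHom s =
      DirectSum.of (fun i => 𝒜 i) k ⟨s, hs⟩ := DirectSum.decompose_of_mem 𝒜 hs
  rw [this, DirectSum.toSemiring_of]
  rfl

theorem rho_f : rho 𝒜 hf e f = X := by
  rw [rho_of_mem 𝒜 hf e hf, theta_one_f]
  rfl

end Groth.Agent.H77.AwayMod
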