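import Mathlib
import Groth.Agent.H77.AwayMod1

/-!
# Graded module with prescribed degree-zero localization (for S12095): the module `N`
-/

namespace Groth.Agent.H77.AwayMod

open HomogeneousLocalization Polynomial

universe u

variable {R R' S : Type u} [CommRing R] [CommRing R'] [CommRing S] [Algebra R S]
  (𝒜 : ℕ → Submodule R S) [GradedAlgebra 𝒜] {f : S} (hf : f ∈ 𝒜 1)
  (e : Away 𝒜 f ≃+* R')
  (M : Type u) [AddCommGroup M] [Module R' M]

/-- type synonym of `PolynomialModule R' M` carrying the data needed for the `S`-action -/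
@[nolint unusedArguments]
def PM (_ : f ∈ 𝒜 1) (_ : Away 𝒜 f ≃+* R') : Type u := PolynomialModule R' M

noncomputable instance : AddCommGroup (PM 𝒜 M hf e) :=
  inferInstanceAs (AddCommGroup (PolynomialModule R' M))

noncomputable instance : Module R'[X] (PM 𝒜 M hf e) :=
  inferInstanceAs (Module R'[X] (PolynomialModule R' M))

noncomputable instance instModuleS : Module S (PM 𝒜 M hf e) :=
  Module.compHom _ (rho 𝒜 hf e)

noncomputable instance instModuleR : Module R (PM 𝒜 M hf e) :=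
  Module.compHom _ ((rho 𝒜 hf e).comp (algebraMap R S))

instance : IsScalarTower R S (PM 𝒜 M hf e) where
  smul_assoc r s p := by
    show rho 𝒜 hf e (r • s) • p = (rho 𝒜 hf e).comp (algebraMap R S) r • (rho 𝒜 hf e s • p)
    rw [Algebra.smul_def, map_mul, mul_smul]
    rfl

variable {𝒜 M hf e}

/-- coefficient -/
def cf (p : PM 𝒜 M hf e) (k : ℕ) : M := PolynomialModule.coeff (R := R') p k

/-- single -/
noncomputable def sg (k : ℕ) (m : M) : PM 𝒜 M hf e := PolynomialModule.single R' k m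

theorem cf_add (p q : PM 𝒜 M hf e) (k : ℕ) : cf (p + q) k = cf p k + cf q k := rfl

theorem cf_zero (k : ℕ) : cf (0 : PM 𝒜 M hf e) k = 0 := rfl

theorem cf_sg (k j : ℕ) (m : M) : cf (sg k m : PM 𝒜 M hf e) j = if k = j then m else 0 := by
  unfold cf sg
  rw [PolynomialModule.coeff_single, Finsupp.single_apply]

theorem ext_cf {p q : PM 𝒜 M hf e} (h : ∀ k, cf p k = cf q k) : p = q := by
  apply PolynomialModule.ext (R := R')
  ext k
  exact h k

theorem smulS_def (s : S) (p : PM 𝒜 M hf e) :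
    s • p = (show PM 𝒜 M hf e from (rho 𝒜 hf e s) • (show PolynomialModule R' M from p)) := rfl

theorem cf_smul_of_mem {i : ℕ} {s : S} (hs : s ∈ 𝒜 i) (p : PM 𝒜 M hf e) (n : ℕ) :
    cf (s • p) n = if i ≤ n then theta 𝒜 hf e i ⟨s, hs⟩ • cf p (n - i) else 0 := by
  rw [smulS_def, rho_of_mem 𝒜 hf e hs]
  exact PolynomialModule.monomial_smul_apply i _ _ n

theorem smul_sg_of_mem {i : ℕ} {s : S} (hs : s ∈ 𝒜 i) (j : ℕ) (m : M) :
    s • (sg j m : PM 𝒜 M hf e) = sg (i + j) (theta 𝒜 hf e i ⟨s, hs⟩ • m) := by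
  rw [smulS_def, rho_of_mem 𝒜 hf e hs]
  exact PolynomialModule.monomial_smul_single i _ j m

theorem sum_sg (p : PM 𝒜 M hf e) :
    p = ∑ k ∈ (PolynomialModule.coeff (R := R') p).support, sg k (cf p k) := by
  apply ext_cf
  intro j
  have : ∀ (t : Finset ℕ), cf (∑ k ∈ t, (sg k (cf p k) : PM 𝒜 M hf e)) j =
      ∑ k ∈ t, cf (sg k (cf p k) : PM 𝒜 M hf e) j := by
    intro t
    induction t using Finset.induction_on with
    | empty => simp [cf_zero]
    | insert a t ha ih => rw [Finset.sum_insert ha, Finset.sum_insert ha, cf_add, ih]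
  rw [this]
  simp only [cf_sg]
  rw [Finset.sum_ite_eq']
  split_ifs with h
  · rfl
  · rw [Finsupp.mem_support_iff, not_not] at h
    exact h

variable (𝒜 hf e) {r : ℕ} (m : Fin r → M)

/-- the `k`-th piece inside `M` -/
def Nk (k : ℕ) : AddSubgroup M where
  carrier := {x | ∃ s : Fin r → 𝒜 k, x = ∑ l, theta 𝒜 hf e k (s l) • m l}
  zero_mem' := ⟨0, by simp⟩
  add_mem' := by
    rintro _ _ ⟨s, rfl⟩ ⟨t, rfl⟩
    exact ⟨s + t, by simp [add_smul, Finset.sum_add_distrib]⟩
  neg_mem' := by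
    rintro _ ⟨s, rfl⟩
    exact ⟨-s, by simp [Finset.sum_neg_distrib]⟩

theorem theta_smul_mem_Nk {i j : ℕ} (a : 𝒜 i) {x : M} (hx : x ∈ Nk 𝒜 hf e m j) :
    theta 𝒜 hf e i a • x ∈ Nk 𝒜 hf e m (i + j) := by
  obtain ⟨s, rfl⟩ := hx
  refine ⟨fun l => ⟨a.1 * (s l).1, SetLike.mul_mem_graded a.2 (s l).2⟩, ?_⟩
  rw [Finset.smul_sum]
  refine Finset.sum_congr rfl fun l _ => ?_
  rw [theta_mul, mul_smul]

theorem gen_mem_Nk (l : Fin r) : m l ∈ Nk 𝒜 hf e m 0 := by
  classical
  refine ⟨fun l' => if l' = l then ⟨1, SetLike.one_mem_graded 𝒜⟩ else 0, ?_⟩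
  rw [Finset.sum_eq_single l]
  · beta_reduce
    rw [if_pos rfl, theta_zero_one, one_smul]
  · intro b _ hb
    beta_reduce
    rw [if_neg hb, map_zero, zero_smul]
  · intro h
    exact absurd (Finset.mem_univ l) h

/-- the graded submodule `N` of `M[X]` -/
noncomputable def Nsub : Submodule S (PM 𝒜 M hf e) where
  carrier := {p | ∀ k, cf p k ∈ Nk 𝒜 hf e m k}
  zero_mem' := fun k => by
    show cf (0 : PM 𝒜 M hf e) k ∈ _
    rw [cf_zero]
    exact zero_mem _
  add_mem' := by
    intro p q hp hq k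
    rw [cf_add]
    exact add_mem (hp k) (hq k)
  smul_mem' := by
    classical
    intro s p hp k
    show cf (s • p) k ∈ _
    rw [← DirectSum.sum_support_decompose 𝒜 s, Finset.sum_smul]
    have hsum : ∀ (t : Finset ℕ) (g : ℕ → PM 𝒜 M hf e),
        (∀ i ∈ t, cf (g i) k ∈ Nk 𝒜 hf e m k) → cf (∑ i ∈ t, g i) k ∈ Nk 𝒜 hf e m k := by
      intro t g
      induction t using Finset.induction_on with
      | empty =>
        intro _
        rw [Finset.sum_empty, cf_zero]
        exact zero_mem _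
      | insert a t ha ih =>
        intro h
        rw [Finset.sum_insert ha, cf_add]
        exact add_mem (h a (Finset.mem_insert_self a t))
          (ih fun i hi => h i (Finset.mem_insert_of_mem hi))
    apply hsum
    intro i _
    rw [cf_smul_of_mem (SetLike.coe_mem _)]
    split_ifs with hik
    · have := theta_smul_mem_Nk 𝒜 hf e m
        (⟨_, SetLike.coe_mem (DirectSum.decompose 𝒜 s i)⟩ : 𝒜 i) (hp (k - i))
      rwa [Nat.add_sub_cancel' hik] at this
    · exact zero_mem _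

theorem mem_Nsub {p : PM 𝒜 M hf e} : p ∈ Nsub 𝒜 hf e m ↔ ∀ k, cf p k ∈ Nk 𝒜 hf e m k := Iff.rfl

theorem sg_mem_Nsub {k : ℕ} {x : M} (hx : x ∈ Nk 𝒜 hf e m k) :
    (sg k x : PM 𝒜 M hf e) ∈ Nsub 𝒜 hf e m := by
  intro j
  rw [cf_sg]
  split_ifs with h
  · subst h
    exact hx
  · exact zero_mem _

/-- `N` is generated by the `m l` in degree zero. -/
theorem Nsub_le_span :
    Nsub 𝒜 hf e m ≤ Submodule.span S (Set.range fun l => (sg 0 (m l) : PM 𝒜 M hf e)) := by
  intro p hp
  rw [sum_sg p]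
  refine Submodule.sum_mem _ fun k _ => ?_
  obtain ⟨s, hs⟩ := hp k
  rw [hs]
  have : (sg k (∑ l, theta 𝒜 hf e k (s l) • m l) : PM 𝒜 M hf e) =
      ∑ l, (s l).1 • (sg 0 (m l) : PM 𝒜 M hf e) := by
    have h1 : ∀ l, (s l).1 • (sg 0 (m l) : PM 𝒜 M hf e) =
        sg k (theta 𝒜 hf e k (s l) • m l) := by
      intro l
      rw [smul_sg_of_mem (s l).2, add_zero]
    simp only [h1]
    apply ext_cf
    intro j
    have hsum : ∀ (t : Finset (Fin r)) (g : Fin r → PM 𝒜 M hf e),
        cf (∑ i ∈ t, g i) j = ∑ i ∈ t, cf (g i) j := by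
      intro t g
      induction t using Finset.induction_on with
      | empty => simp [cf_zero]
      | insert a t ha ih => rw [Finset.sum_insert ha, Finset.sum_insert ha, cf_add, ih]
    rw [hsum]
    simp only [cf_sg]
    split_ifs with h
    · rfl
    · simp
  rw [this]
  exact Submodule.sum_mem _ fun l _ =>
    Submodule.smul_mem _ _ (Submodule.subset_span ⟨l, rfl⟩)

theorem Nsub_fg : (Nsub 𝒜 hf e m).FG := by
  have h : Nsub 𝒜 hf e m = Submodule.span S (Set.range fun l => (sg 0 (m l) : PM 𝒜 M hf e)) := by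
    apply le_antisymm (Nsub_le_span 𝒜 hf e m)
    rw [Submodule.span_le]
    rintro _ ⟨l, rfl⟩
    exact sg_mem_Nsub 𝒜 hf e m (gen_mem_Nk 𝒜 hf e m l)
  rw [h]
  exact Submodule.fg_span (Set.finite_range _)

end Groth.Agent.H77.AwayMod
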