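import Mathlib
import Groth.Agent.H77.AwayMod2

/-!
# Graded module with prescribed degree-zero localization (for S12095): the grading on `N`
-/

namespace Groth.Agent.H77.AwayMod

open HomogeneousLocalization Polynomial

universe u

variable {R R' S : Type u} [CommRing R] [CommRing R'] [CommRing S] [Algebra R S]
  (𝒜 : ℕ → Submodule R S) [GradedAlgebra 𝒜] {f : S} (hf : f ∈ 𝒜 1)
  (e : Away 𝒜 f ≃+* R')
  {M : Type u} [AddCommGroup M] [Module R' M] {r : ℕ} (m : Fin r → M)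

theorem smulR_def (c : R) (p : PM 𝒜 M hf e) : c • p = (algebraMap R S c) • p := rfl

theorem cf_smulR (c : R) (p : PM 𝒜 M hf e) (n : ℕ) :
    cf (c • p) n =
      theta 𝒜 hf e 0 ⟨algebraMap R S c, SetLike.algebraMap_mem_graded 𝒜 c⟩ • cf p n := by
  rw [smulR_def, cf_smul_of_mem (SetLike.algebraMap_mem_graded 𝒜 c), if_pos (Nat.zero_le n),
    Nat.sub_zero]

/-- the type `N` -/
abbrev NT : Type u := ↥(Nsub 𝒜 hf e m)

/-- elements supported in degree `k` -/
noncomputable def gr (k : ℕ) : Submodule R (NT 𝒜 hf e m) where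
  carrier := {n | ∀ j, j ≠ k → cf n.1 j = 0}
  zero_mem' := fun j _ => rfl
  add_mem' := by
    intro a b ha hb j hj
    show cf (a.1 + b.1) j = 0
    rw [cf_add, ha j hj, hb j hj, add_zero]
  smul_mem' := by
    intro c a ha j hj
    show cf (c • a.1) j = 0
    rw [cf_smulR, ha j hj, smul_zero]

theorem mem_gr {k : ℕ} {n : NT 𝒜 hf e m} :
    n ∈ gr 𝒜 hf e m k ↔ ∀ j, j ≠ k → cf n.1 j = 0 := Iff.rfl

/-- the `k`-th component -/
noncomputable def comp (k : ℕ) (n : NT 𝒜 hf e m) : NT 𝒜 hf e m :=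
  ⟨sg k (cf n.1 k), sg_mem_Nsub 𝒜 hf e m (n.2 k)⟩

theorem comp_mem (k : ℕ) (n : NT 𝒜 hf e m) : comp 𝒜 hf e m k n ∈ gr 𝒜 hf e m k := by
  intro j hj
  show cf (sg k (cf n.1 k) : PM 𝒜 M hf e) j = 0
  rw [cf_sg, if_neg (Ne.symm hj)]

theorem eq_sum_comp (n : NT 𝒜 hf e m) :
    n = ∑ k ∈ (PolynomialModule.coeff (R := R') n.1).support, comp 𝒜 hf e m k n := by
  apply Subtype.ext
  rw [Submodule.coe_sum]
  exact sum_sg n.1

theorem iSup_gr : ⨆ k, gr 𝒜 hf e m k = ⊤ := by
  rw [eq_top_iff]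
  intro n _
  rw [eq_sum_comp 𝒜 hf e m n]
  exact Submodule.sum_mem _ fun k _ =>
    Submodule.mem_iSup_of_mem k (comp_mem 𝒜 hf e m k n)

/-- elements whose `k`-th coefficient vanishes -/
noncomputable def zk (k : ℕ) : Submodule R (NT 𝒜 hf e m) where
  carrier := {n | cf n.1 k = 0}
  zero_mem' := rfl
  add_mem' := by
    intro a b ha hb
    show cf (a.1 + b.1) k = 0
    rw [cf_add, ha, hb, add_zero]
  smul_mem' := by
    intro c a ha
    show cf (c • a.1) k = 0
    rw [cf_smulR, ha, smul_zero]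

theorem iSupIndep_gr : iSupIndep (gr 𝒜 hf e m) := by
  intro k
  rw [Submodule.disjoint_def]
  intro x hx hx'
  have h1 : (⨆ j, ⨆ (_ : j ≠ k), gr 𝒜 hf e m j) ≤ zk 𝒜 hf e m k := by
    refine iSup₂_le fun j hj => ?_
    intro y hy
    exact hy k (Ne.symm hj)
  have h2 : cf x.1 k = 0 := h1 hx'
  apply Subtype.ext
  apply ext_cf
  intro j
  by_cases hj : j = k
  · subst hj
    rw [h2]
    rfl
  · rw [hx j hj]
    rfl

theorem isInternal_gr : DirectSum.IsInternal (gr 𝒜 hf e m) :=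
  (DirectSum.isInternal_submodule_iff_iSupIndep_and_iSup_eq_top _).2
    ⟨iSupIndep_gr 𝒜 hf e m, iSup_gr 𝒜 hf e m⟩

theorem gradedSMul_gr : SetLike.GradedSMul 𝒜 (gr 𝒜 hf e m) where
  smul_mem := by
    intro i j a b ha hb l hl
    show cf (a • b.1) l = 0
    rw [cf_smul_of_mem ha]
    split_ifs with hil
    · have : l - i ≠ j := by
        intro h
        apply hl
        show l = i + j
        omega
      rw [hb _ this, smul_zero]
    · rfl

theorem finite_NT : Module.Finite S (NT 𝒜 hf e m) :=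
  Module.Finite.iff_fg.2 (Nsub_fg 𝒜 hf e m)

end Groth.Agent.H77.AwayMod
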