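import Mathlib
import Groth.Agent.H77.AwayMod3

/-!
# Graded module with prescribed degree-zero localization (for S12095): the evaluation map
-/

namespace Groth.Agent.H77.AwayMod

open HomogeneousLocalization Polynomial

universe u

variable {R R' S : Type u} [CommRing R] [CommRing R'] [CommRing S] [Algebra R S]
  (𝒜 : ℕ → Submodule R S) [GradedAlgebra 𝒜] {f : S} (hf : f ∈ 𝒜 1)
  (e : Away 𝒜 f ≃+* R')
  {M : Type u} [AddCommGroup M] [Module R' M] {r : ℕ} (m : Fin r → M)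

/-- evaluation at `X = 1` -/
noncomputable def ev0 (p : PM 𝒜 M hf e) : M :=
  PolynomialModule.eval (1 : R') (show PolynomialModule R' M from p)

theorem ev0_add (p q : PM 𝒜 M hf e) : ev0 𝒜 hf e (p + q) = ev0 𝒜 hf e p + ev0 𝒜 hf e q :=
  map_add (PolynomialModule.eval (1 : R')) _ _

theorem ev0_zero : ev0 𝒜 hf e (0 : PM 𝒜 M hf e) = 0 :=
  map_zero (PolynomialModule.eval (1 : R'))

theorem ev0_smul (s : S) (p : PM 𝒜 M hf e) :
    ev0 𝒜 hf e (s • p) = (rho 𝒜 hf e s).eval 1 • ev0 𝒜 hf e p := by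
  rw [smulS_def]
  exact PolynomialModule.eval_smul _ _ _

theorem ev0_smul_of_mem {i : ℕ} {s : S} (hs : s ∈ 𝒜 i) (p : PM 𝒜 M hf e) :
    ev0 𝒜 hf e (s • p) = theta 𝒜 hf e i ⟨s, hs⟩ • ev0 𝒜 hf e p := by
  rw [ev0_smul, rho_of_mem 𝒜 hf e hs, eval_monomial, one_pow, mul_one]

theorem ev0_pow_smul (a : ℕ) (p : PM 𝒜 M hf e) : ev0 𝒜 hf e (f ^ a • p) = ev0 𝒜 hf e p := by
  rw [ev0_smul, map_pow, rho_f, eval_pow, eval_X, one_pow, one_smul]

theorem ev0_powers_smul (t : Submonoid.powers f) (p : PM 𝒜 M hf e) :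
    ev0 𝒜 hf e ((t : S) • p) = ev0 𝒜 hf e p := by
  obtain ⟨a, ha⟩ := t.2
  rw [← ha]
  exact ev0_pow_smul 𝒜 hf e a p

theorem ev0_sg (k : ℕ) (x : M) : ev0 𝒜 hf e (sg k x : PM 𝒜 M hf e) = x := by
  unfold ev0 sg
  rw [PolynomialModule.eval_single, one_pow, one_smul]

theorem eq_sg_of_mem_gr {k : ℕ} {n : NT 𝒜 hf e m} (hn : n ∈ gr 𝒜 hf e m k) :
    n.1 = sg k (cf n.1 k) := by
  apply ext_cf
  intro j
  rw [cf_sg]
  split_ifs with h
  · subst h
    rfl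
  · exact hn j (Ne.symm h)

theorem ev0_of_mem_gr {k : ℕ} {n : NT 𝒜 hf e m} (hn : n ∈ gr 𝒜 hf e m k) :
    ev0 𝒜 hf e n.1 = cf n.1 k := by
  rw [eq_sg_of_mem_gr 𝒜 hf e m hn, ev0_sg, cf_sg, if_pos rfl]

theorem eq_zero_of_mem_gr {k : ℕ} {n : NT 𝒜 hf e m} (hn : n ∈ gr 𝒜 hf e m k)
    (h0 : ev0 𝒜 hf e n.1 = 0) : n = 0 := by
  apply Subtype.ext
  rw [eq_sg_of_mem_gr 𝒜 hf e m hn, ← ev0_of_mem_gr 𝒜 hf e m hn, h0]
  apply ext_cf
  intro j
  rw [cf_sg]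
  split_ifs <;> rfl

include hf in
theorem fpow_mem (k : ℕ) : f ^ k ∈ 𝒜 k := by
  have := SetLike.pow_mem_graded k hf
  rwa [smul_eq_mul, mul_one] at this

/-- the localized module -/
abbrev LN : Type u := LocalizedModule (Submonoid.powers f) (NT 𝒜 hf e m)

/-- evaluation on the localization -/
noncomputable def ev (x : LN 𝒜 hf e m) : M :=
  LocalizedModule.liftOn x (fun p => ev0 𝒜 hf e p.1.1) (by
    rintro ⟨n, t⟩ ⟨n', t'⟩ ⟨u, hu⟩
    have hu' : (u : S) • (t' : S) • n.1 = (u : S) • (t : S) • n'.1 :=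
      congrArg Subtype.val hu
    show ev0 𝒜 hf e n.1 = ev0 𝒜 hf e n'.1
    have h1 := congrArg (ev0 𝒜 hf e) hu'
    rwa [ev0_powers_smul, ev0_powers_smul, ev0_powers_smul, ev0_powers_smul] at h1)

theorem ev_mk (n : NT 𝒜 hf e m) (t : Submonoid.powers f) :
    ev 𝒜 hf e m (LocalizedModule.mk n t) = ev0 𝒜 hf e n.1 :=
  LocalizedModule.liftOn_mk _ _ _

theorem ev_add (x y : LN 𝒜 hf e m) :
    ev 𝒜 hf e m (x + y) = ev 𝒜 hf e m x + ev 𝒜 hf e m y := by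
  induction x, y using LocalizedModule.induction_on₂ with
  | _ n n' t t' =>
    rw [LocalizedModule.mk_add_mk, ev_mk, ev_mk, ev_mk]
    show ev0 𝒜 hf e ((t' : S) • n.1 + (t : S) • n'.1) = _
    rw [ev0_add, ev0_powers_smul, ev0_powers_smul]

theorem ev_smul (s : S) (x : LN 𝒜 hf e m) :
    ev 𝒜 hf e m (s • x) = (rho 𝒜 hf e s).eval 1 • ev 𝒜 hf e m x := by
  induction x using LocalizedModule.induction_on with
  | _ n t =>
    rw [LocalizedModule.smul'_mk, ev_mk, ev_mk]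
    exact ev0_smul 𝒜 hf e s n.1

theorem ev_pow_smul (k : ℕ) (x : LN 𝒜 hf e m) :
    ev 𝒜 hf e m (f ^ k • x) = ev 𝒜 hf e m x := by
  rw [ev_smul, map_pow, rho_f, eval_pow, eval_X, one_pow, one_smul]

/-- semilinearity over `S_(f)` -/
theorem ev_val_smul (a : Away 𝒜 f) (x : LN 𝒜 hf e m) :
    ev 𝒜 hf e m (a.val • x) = e a • ev 𝒜 hf e m x := by
  obtain ⟨k, s, rfl⟩ := frac_surjective 𝒜 hf a
  induction x using LocalizedModule.induction_on with
  | _ n t =>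
    rw [val_frac, LocalizedModule.mk_smul_mk, ev_mk, ev_mk]
    show ev0 𝒜 hf e (s.1 • n.1) = _
    rw [ev0_smul_of_mem 𝒜 hf e s.2]
    rfl

section base

variable [Algebra R R'] [Module R M] [IsScalarTower R R' M]
  (he : ∀ c : R, (e.symm (algebraMap R R' c)).val =
    algebraMap S (Localization.Away f) (algebraMap R S c))

include he in
theorem theta_algebraMap (c : R) :
    theta 𝒜 hf e 0 ⟨algebraMap R S c, SetLike.algebraMap_mem_graded 𝒜 c⟩ = algebraMap R R' c := by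
  rw [theta_apply]
  have : frac 𝒜 hf 0 ⟨algebraMap R S c, SetLike.algebraMap_mem_graded 𝒜 c⟩ =
      e.symm (algebraMap R R' c) := by
    apply val_injective
    rw [he c, val_frac]
    have h1 : (⟨f ^ 0, 0, rfl⟩ : Submonoid.powers f) = 1 := Subtype.ext (pow_zero f)
    rw [h1]
    exact Localization.mk_one_eq_algebraMap _
  rw [this, RingEquiv.apply_symm_apply]

include he in
theorem ev_smulR (c : R) (x : LN 𝒜 hf e m) :
    ev 𝒜 hf e m (c • x) = c • ev 𝒜 hf e m x := by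
  induction x using LocalizedModule.induction_on with
  | _ n t =>
    rw [LocalizedModule.smul'_mk, ev_mk, ev_mk]
    show ev0 𝒜 hf e (c • n.1) = _
    rw [smulR_def, ev0_smul_of_mem 𝒜 hf e (SetLike.algebraMap_mem_graded 𝒜 c),
      theta_algebraMap 𝒜 hf e he, algebraMap_smul]

/-- the degree-zero part of the localization -/
noncomputable def Nf : Submodule R (LN 𝒜 hf e m) where
  carrier := {x | ∃ k : ℕ, ∃ n ∈ gr 𝒜 hf e m k, f ^ k • x = LocalizedModule.mk n 1}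
  zero_mem' := ⟨0, 0, zero_mem _, by rw [smul_zero, LocalizedModule.zero_mk]⟩
  add_mem' := by
    rintro x y ⟨k, n, hn, hx⟩ ⟨k', n', hn', hy⟩
    refine ⟨k' + k, f ^ k' • n + f ^ k • n', ?_, ?_⟩
    · refine add_mem ?_ ?_
      · exact (gradedSMul_gr 𝒜 hf e m).smul_mem (fpow_mem 𝒜 hf k') hn
      · have := (gradedSMul_gr 𝒜 hf e m).smul_mem (fpow_mem 𝒜 hf k) hn'
        rw [vadd_eq_add, add_comm] at this
        exact this
    · rw [smul_add, pow_add, mul_smul, hx, mul_comm, mul_smul, hy, LocalizedModule.smul'_mk,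
        LocalizedModule.smul'_mk, LocalizedModule.mk_add_mk, one_smul, one_smul, one_mul]
  smul_mem' := by
    rintro c x ⟨k, n, hn, hx⟩
    refine ⟨k, c • n, Submodule.smul_mem _ c hn, ?_⟩
    rw [smul_comm, hx, LocalizedModule.smul'_mk]

theorem mem_Nf {x : LN 𝒜 hf e m} :
    x ∈ Nf 𝒜 hf e m ↔ ∃ k : ℕ, ∃ n ∈ gr 𝒜 hf e m k, f ^ k • x = LocalizedModule.mk n 1 :=
  Iff.rfl

theorem ev_injOn {x : LN 𝒜 hf e m} (hx : x ∈ Nf 𝒜 hf e m) (h0 : ev 𝒜 hf e m x = 0) : x = 0 := by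
  obtain ⟨k, n, hn, hk⟩ := hx
  have h1 : ev0 𝒜 hf e n.1 = 0 := by
    rw [← ev_mk 𝒜 hf e m n 1, ← hk, ev_pow_smul, h0]
  have h2 : n = 0 := eq_zero_of_mem_gr 𝒜 hf e m hn h1
  rw [h2, LocalizedModule.zero_mk] at hk
  exact LocalizedModule.eq_zero_of_smul_eq_zero (f ^ k)
    (⟨k, rfl⟩ : f ^ k ∈ Submonoid.powers f) x hk

theorem theta_surj_ge (a : R') : ∃ k0, ∀ k, k0 ≤ k → ∃ s : 𝒜 k, theta 𝒜 hf e k s = a := by
  obtain ⟨k0, s, hs⟩ := theta_surjective 𝒜 hf e a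
  refine ⟨k0, fun k hk => ?_⟩
  obtain ⟨j, rfl⟩ := Nat.exists_eq_add_of_le hk
  obtain ⟨t, ht⟩ := theta_raise 𝒜 hf e k0 j s
  exact ⟨t, ht.trans hs⟩

theorem exists_mem_Nk (hm : Submodule.span R' (Set.range m) = ⊤) (x : M) :
    ∃ K, x ∈ Nk 𝒜 hf e m K := by
  have hx : x ∈ Submodule.span R' (Set.range m) := by rw [hm]; trivial
  obtain ⟨c, rfl⟩ := (Submodule.mem_span_range_iff_exists_fun R').1 hx
  choose k0 hk0 using fun l => theta_surj_ge 𝒜 hf e (c l)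
  let K := Finset.univ.sup k0
  have hK : ∀ l, k0 l ≤ K := fun l => Finset.le_sup (Finset.mem_univ l)
  choose s hs using fun l => hk0 l K (hK l)
  exact ⟨K, s, Finset.sum_congr rfl fun l _ => by rw [hs]⟩

theorem ev_surjOn (hm : Submodule.span R' (Set.range m) = ⊤) (x : M) :
    ∃ y ∈ Nf 𝒜 hf e m, ev 𝒜 hf e m y = x := by
  obtain ⟨K, hK⟩ := exists_mem_Nk 𝒜 hf e m hm x
  let n : NT 𝒜 hf e m := ⟨sg K x, sg_mem_Nsub 𝒜 hf e m hK⟩
  have hn : n ∈ gr 𝒜 hf e m K := by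
    intro j hj
    show cf (sg K x : PM 𝒜 M hf e) j = 0
    rw [cf_sg, if_neg (Ne.symm hj)]
  let t : Submonoid.powers f := ⟨f ^ K, K, rfl⟩
  refine ⟨LocalizedModule.mk n t, ⟨K, n, hn, ?_⟩, ?_⟩
  · rw [LocalizedModule.smul'_mk]
    have : f ^ K • n = t • n := rfl
    rw [this, LocalizedModule.mk_cancel]
  · rw [ev_mk]
    exact ev0_sg 𝒜 hf e K x

/-- the `R`-linear map underlying `e'` -/
noncomputable def evLin : ↥(Nf 𝒜 hf e m) →ₗ[R] M where
  toFun x := ev 𝒜 hf e m x.1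
  map_add' x y := ev_add 𝒜 hf e m x.1 y.1
  map_smul' c x := ev_smulR 𝒜 hf e m he c x.1

theorem evLin_apply (x : ↥(Nf 𝒜 hf e m)) : evLin 𝒜 hf e m he x = ev 𝒜 hf e m x.1 := rfl

theorem evLin_bijective (hm : Submodule.span R' (Set.range m) = ⊤) :
    Function.Bijective (evLin 𝒜 hf e m he) := by
  constructor
  · intro x y hxy
    have hxy' : ev 𝒜 hf e m x.1 = ev 𝒜 hf e m y.1 := hxy
    have hsub : ev 𝒜 hf e m (x.1 - y.1) = 0 := by
      have h := ev_add 𝒜 hf e m (x.1 - y.1) y.1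
      rw [sub_add_cancel, hxy'] at h
      exact right_eq_add.mp h
    have h0 := ev_injOn 𝒜 hf e m (sub_mem x.2 y.2) hsub
    exact Subtype.ext (sub_eq_zero.mp h0)
  · intro x
    obtain ⟨y, hy, hxy⟩ := ev_surjOn 𝒜 hf e m hm x
    exact ⟨⟨y, hy⟩, hxy⟩

/-- the equivalence `e'` -/
noncomputable def evEquiv (hm : Submodule.span R' (Set.range m) = ⊤) :
    ↥(Nf 𝒜 hf e m) ≃ₗ[R] M :=
  LinearEquiv.ofBijective (evLin 𝒜 hf e m he) (evLin_bijective 𝒜 hf e m he hm)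

theorem evEquiv_apply (hm : Submodule.span R' (Set.range m) = ⊤) (x : ↥(Nf 𝒜 hf e m)) :
    evEquiv 𝒜 hf e m he hm x = ev 𝒜 hf e m x.1 := rfl

end base

end Groth.Agent.H77.AwayMod
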