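import Mathlib
import Groth.Prelude.Def_ChGrp
import Groth.Prelude.Def_NonAbH2
import Groth.Agent.H52.DescCI

/-!
# (CI) for helper40 / S19099: a monomorphism of `S`-schemes `m : Y' ⟶ Y` which, fppf-locally on `Y`
(on the members of a trivialising covering of `j : W ⟶ Y`), has the same points as a closed
immersion, is a closed immersion (helper77)
-/

set_option autoImplicit false
universe u
open CategoryTheory CategoryTheory.Limits AlgebraicGeometry MonoidalCategory CartesianMonoidalCategory MonObj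

namespace Groth.Agent.H77.Bal_CI

/-- Local statement: over a member `f` of the covering with a section `s` of `j`, every base change
of `m.left` along `f` is a closed immersion. -/
theorem local_ci {S : Scheme.{u}} {W X Xh Y Y' : Over S} (j : W ⟶ Y) (p : W ⟶ X)
    (incl : Xh ⟶ X) (hincl : IsClosedImmersion incl.left)
    (m : Y' ⟶ Y) [Mono m]
    (H : ∀ (T : Over S) (w : T ⟶ W), (∃ y' : T ⟶ Y', y' ≫ m = w ≫ j) ↔
      (∃ z : T ⟶ Xh, z ≫ incl = w ≫ p))
    {Z : Scheme.{u}} (f : Z ⟶ Y.left) (s : Z ⟶ W.left) (hs : s ≫ j.left = f)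
    {A : Scheme.{u}} (a : A ⟶ Y'.left) (b : A ⟶ Z) (sq : IsPullback a b m.left f) :
    IsClosedImmersion b := by
  have hmono : Mono m.left := inferInstance
  have hb : Mono b := sq.mono_snd_of_mono
  let b' : pullback incl.left (s ≫ p.left) ⟶ Z := pullback.snd incl.left (s ≫ p.left)
  have hb' : IsClosedImmersion b' := inferInstance
  have hb'm : Mono b' := inferInstance
  have hjW : j.left ≫ Y.hom = W.hom := Over.w j
  have hmY : m.left ≫ Y.hom = Y'.hom := Over.w m
  have hpX : p.left ≫ X.hom = W.hom := Over.w p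
  have hiX : incl.left ≫ X.hom = Xh.hom := Over.w incl
  -- `b` factors through `b'`
  obtain ⟨u, hu⟩ : ∃ u : A ⟶ pullback incl.left (s ≫ p.left), u ≫ b' = b := by
    let T : Over S := Over.mk (b ≫ f ≫ Y.hom)
    have hw : (b ≫ s) ≫ W.hom = T.hom := by
      change (b ≫ s) ≫ W.hom = b ≫ f ≫ Y.hom
      rw [← hs, ← hjW]; simp only [Category.assoc]
    let w : T ⟶ W := Over.homMk (b ≫ s) hw
    have hy : a ≫ Y'.hom = T.hom := by
      change a ≫ Y'.hom = b ≫ f ≫ Y.hom
      rw [← hmY, ← Category.assoc, sq.w, Category.assoc]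
    let y' : T ⟶ Y' := Over.homMk a hy
    have hym : y' ≫ m = w ≫ j := by
      ext
      change a ≫ m.left = (b ≫ s) ≫ j.left
      rw [sq.w, Category.assoc, hs]
    obtain ⟨z, hz⟩ := (H T w).1 ⟨y', hym⟩
    have hz' : z.left ≫ incl.left = b ≫ s ≫ p.left := by
      have := congrArg (fun φ : T ⟶ X => φ.left) hz
      simpa [w] using this
    exact ⟨pullback.lift z.left b hz', pullback.lift_snd _ _ _⟩
  -- `b'` factors through `b`
  obtain ⟨v, hv⟩ : ∃ v : pullback incl.left (s ≫ p.left) ⟶ A, v ≫ b = b' := by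
    let T : Over S := Over.mk (b' ≫ f ≫ Y.hom)
    have hw : (b' ≫ s) ≫ W.hom = T.hom := by
      change (b' ≫ s) ≫ W.hom = b' ≫ f ≫ Y.hom
      rw [← hs, ← hjW]; simp only [Category.assoc]
    let w : T ⟶ W := Over.homMk (b' ≫ s) hw
    have hz0 : pullback.fst incl.left (s ≫ p.left) ≫ Xh.hom = T.hom := by
      change pullback.fst incl.left (s ≫ p.left) ≫ Xh.hom = b' ≫ f ≫ Y.hom
      rw [← hiX, ← Category.assoc, pullback.condition, ← hs]
      simp only [Category.assoc, b', hpX, hjW]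
    let z : T ⟶ Xh := Over.homMk (pullback.fst incl.left (s ≫ p.left)) hz0
    have hzi : z ≫ incl = w ≫ p := by
      ext
      change pullback.fst incl.left (s ≫ p.left) ≫ incl.left = (b' ≫ s) ≫ p.left
      rw [pullback.condition, Category.assoc]
    obtain ⟨y', hy'⟩ := (H T w).2 ⟨z, hzi⟩
    have hy'' : y'.left ≫ m.left = b' ≫ f := by
      have := congrArg (fun φ : T ⟶ Y => φ.left) hy'
      have h2 : y'.left ≫ m.left = (b' ≫ s) ≫ j.left := by simpa [w] using this
      rw [h2, Category.assoc, hs]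
    exact ⟨sq.lift y'.left b' hy'', sq.lift_snd _ _ _⟩
  have huv : u ≫ v = 𝟙 A := by
    rw [← cancel_mono b, Category.assoc, hv, hu, Category.id_comp]
  have hvu : v ≫ u = 𝟙 _ := by
    rw [← cancel_mono b', Category.assoc, hu, hv, Category.id_comp]
  have : IsIso u := ⟨v, huv, hvu⟩
  rw [← hu]
  infer_instance

/-- Sigma-descriptions of flat / l.f.p. families. -/
theorem flat_sigmaDesc {X : Scheme.{u}} {σ : Type u} {Y : σ → Scheme.{u}}
    {f : ∀ i, Y i ⟶ X} (hf : ∀ i, Flat (f i)) : Flat (Sigma.desc f) := by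
  have := hf
  infer_instance

set_option backward.isDefEq.respectTransparency.types false in
theorem lfp_sigmaDesc {X : Scheme.{u}} {σ : Type u} {Y : σ → Scheme.{u}}
    {f : ∀ i, Y i ⟶ X} (hf : ∀ i, LocallyOfFinitePresentation (f i)) :
    LocallyOfFinitePresentation (Sigma.desc f) :=
  IsZariskiLocalAtSource.sigmaDesc (P := @LocallyOfFinitePresentation) hf

theorem CI {S : Scheme.{u}} {W X Xh Y Y' : Over S} (j : W ⟶ Y) (p : W ⟶ X)
    (hj : NonAbH1.IsLocallyTrivialFor Scheme.fppfPrecoverage (Over.mk j.left : Over Y.left))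
    (incl : Xh ⟶ X) [Mono incl] (hincl : IsClosedImmersion incl.left)
    (m : Y' ⟶ Y) [Mono m]
    (H : ∀ (T : Over S) (w : T ⟶ W), (∃ y' : T ⟶ Y', y' ≫ m = w ≫ j) ↔ (∃ z : T ⟶ Xh, z ≫ incl = w ≫ p)) :
    IsClosedImmersion m.left := by
  obtain ⟨R, hR, hsec⟩ := hj
  have hR1 : ∀ y : Y.left, ∃ (Z : Scheme.{u}) (f : Z ⟶ Y.left), R f ∧
      y ∈ Set.range (Scheme.forget.map f) :=
    (Presieve.mem_comap_jointlySurjectivePrecoverage_iff Scheme.forget).1 hR.1
  have hR2 : ∀ ⦃Z : Scheme.{u}⦄ ⦃f : Z ⟶ Y.left⦄, R f →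
      (@Flat ⊓ @LocallyOfFinitePresentation : MorphismProperty Scheme.{u}) f := hR.2
  choose Z f hRf hy using hR1
  have hsec' : ∀ y : Y.left, ∃ s : Z y ⟶ W.left, s ≫ j.left = f y := fun y => hsec (f y) (hRf y)
  choose s hs using hsec'
  let c : (∐ Z) ⟶ Y.left := Sigma.desc f
  have hιc : ∀ y, Sigma.ι Z y ≫ c = f y := fun y => Sigma.ι_desc _ _
  have hflat : Flat c := flat_sigmaDesc (fun y => (hR2 (hRf y)).1)
  have hlfp : LocallyOfFinitePresentation c := lfp_sigmaDesc (fun y => (hR2 (hRf y)).2)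
  have hsurj : Surjective c := by
    refine ⟨fun y => ?_⟩
    obtain ⟨x, hx⟩ := hy y
    refine ⟨Sigma.ι Z y x, ?_⟩
    rw [← Scheme.Hom.comp_apply, hιc]
    exact hx
  have hc : Groth.Agent.H50.fppfProp c := ⟨⟨hsurj, hflat⟩, hlfp⟩
  have hfst : IsClosedImmersion (pullback.fst c m.left) := by
    apply IsZariskiLocalAtTarget.of_openCover (P := @IsClosedImmersion) (sigmaOpenCover Z)
    intro y
    have sq1 := IsPullback.of_hasPullback (pullback.fst c m.left) ((sigmaOpenCover Z).f y)
    have sq2 := (IsPullback.of_hasPullback c m.left).flip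
    have sq3 := sq1.paste_horiz sq2
    have hf : (sigmaOpenCover Z).f y ≫ c = f y := hιc y
    rw [hf] at sq3
    exact local_ci j p incl hincl m H (f y) (s y) (hs y) _ _ sq3
  exact Groth.Agent.H52.isClosedImmersion_descendsAlong_fppf.of_isPullback
    (IsPullback.of_hasPullback c m.left) hc hfst

end Groth.Agent.H77.Bal_CI
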