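import Mathlib

/-!
# Bertini–Noether: geometric irreducibility of a polynomial spreads out over an open of the base

Proof by a Nullstellensatz certificate for the system "P = G * H with G, H non-constant".
-/

namespace Groth.Agent.H77.BertiniNoether

open MvPolynomial

attribute [local instance] MvPolynomial.algebraMvPolynomial

universe u

lemma totalDegree_map_le' {R S σ : Type*} [CommSemiring R] [CommSemiring S] (f : R →+* S)
    (p : MvPolynomial σ R) : (map f p).totalDegree ≤ p.totalDegree :=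
  Finset.sup_mono (support_map_subset f p)

variable {n : ℕ} (d : ℕ)

/-- exponent vector attached to a bounded function -/
noncomputable def expo (c : Fin n → Fin (d + 1)) : Fin n →₀ ℕ :=
  Finsupp.equivFunOnFinite.symm (fun i => (c i : ℕ))

@[simp] lemma expo_apply (c : Fin n → Fin (d + 1)) (i : Fin n) : expo d c i = (c i : ℕ) := rfl

lemma expo_injective : Function.Injective (expo (n := n) d) := by
  intro c c' h
  funext i
  have h1 := DFunLike.congr_fun h i
  rw [expo_apply, expo_apply] at h1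
  exact Fin.ext h1

lemma exists_expo_eq (μ : Fin n →₀ ℕ) (h : ∀ i, μ i ≤ d) : ∃ c, expo d c = μ :=
  ⟨fun i => ⟨μ i, Nat.lt_succ_of_le (h i)⟩, by ext i; simp⟩

section genPoly

variable {F : Type*} [CommSemiring F]

/-- the polynomial with prescribed coefficients on the box of exponents -/
noncomputable def genPoly (w : (Fin n → Fin (d + 1)) → F) : MvPolynomial (Fin n) F :=
  ∑ c, monomial (expo d c) (w c)

lemma coeff_genPoly_expo (w : (Fin n → Fin (d + 1)) → F) (c : Fin n → Fin (d + 1)) :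
    coeff (expo d c) (genPoly d w) = w c := by
  classical
  rw [genPoly, coeff_sum, Finset.sum_eq_single c]
  · simp
  · intro c' _ hc'
    rw [coeff_monomial, if_neg]
    exact fun h => hc' (expo_injective d h)
  · intro h
    exact absurd (Finset.mem_univ c) h

lemma coeff_genPoly_of_forall_ne (w : (Fin n → Fin (d + 1)) → F) (μ : Fin n →₀ ℕ)
    (h : ∀ c, expo d c ≠ μ) : coeff μ (genPoly d w) = 0 := by
  classical
  rw [genPoly, coeff_sum]
  apply Finset.sum_eq_zero
  intro c _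
  rw [coeff_monomial, if_neg (h c)]

lemma map_genPoly {F' : Type*} [CommSemiring F'] (φ : F →+* F') (w : (Fin n → Fin (d + 1)) → F) :
    map φ (genPoly d w) = genPoly d (fun c => φ (w c)) := by
  simp [genPoly, map_sum, map_monomial]

lemma genPoly_coeff_eq_self (G : MvPolynomial (Fin n) F) (hG : G.totalDegree ≤ d) :
    genPoly d (fun c => coeff (expo d c) G) = G := by
  classical
  ext μ
  by_cases hμ : ∃ c, expo d c = μ
  · obtain ⟨c, rfl⟩ := hμ
    rw [coeff_genPoly_expo]
  · push Not at hμ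
    rw [coeff_genPoly_of_forall_ne d _ μ hμ]
    symm
    by_contra hne
    have hmem : μ ∈ G.support := mem_support_iff.2 hne
    have hle : ∀ i, μ i ≤ d := by
      intro i
      have h1 := le_totalDegree hmem
      have h2 : μ i ≤ μ.sum fun _ e => e := by
        by_cases hi : i ∈ μ.support
        · exact Finset.single_le_sum (f := fun j => μ j) (fun _ _ => Nat.zero_le _) hi
        · rw [Finsupp.notMem_support_iff.1 hi]
          exact Nat.zero_le _
      omega
    obtain ⟨c, hc⟩ := exists_expo_eq d μ hle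
    exact hμ c hc

end genPoly

section units

variable {F : Type*} [Field F]

lemma not_isUnit_of_coeff_ne_zero (G : MvPolynomial (Fin n) F) (μ : Fin n →₀ ℕ) (hμ : μ ≠ 0)
    (h : coeff μ G ≠ 0) : ¬ IsUnit G := by
  classical
  intro hu
  obtain ⟨r, _, rfl⟩ := (isUnit_iff_eq_C_of_isReduced).1 hu
  rw [coeff_C, if_neg (Ne.symm hμ)] at h
  exact h rfl

lemma exists_coeff_ne_zero_of_not_isUnit (G : MvPolynomial (Fin n) F) (h0 : G ≠ 0)
    (hu : ¬ IsUnit G) : ∃ μ : Fin n →₀ ℕ, μ ≠ 0 ∧ coeff μ G ≠ 0 := by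
  classical
  by_contra hcon
  push Not at hcon
  have hG : G = C (coeff 0 G) := by
    ext μ
    rw [coeff_C]
    by_cases hμ : 0 = μ
    · rw [if_pos hμ, hμ]
    · rw [if_neg hμ]
      exact hcon μ (Ne.symm hμ)
  apply hu
  have h1 : coeff 0 G ≠ 0 := by
    intro h
    apply h0
    rw [hG, h, C_0]
  rw [hG]
  exact (isUnit_iff_ne_zero.2 h1).map C

end units

section system

variable (A : Type u) [CommRing A]

/-- index type of the coefficients -/
abbrev Idx (n d : ℕ) := Fin n → Fin (d + 1)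

/-- variables of the system -/
abbrev Var (n d : ℕ) := (Idx n d ⊕ Idx n d) ⊕ Fin 2

/-- the first generic factor -/
noncomputable def GG : MvPolynomial (Fin n) (MvPolynomial (Var n d) A) :=
  genPoly d (fun c => X (Sum.inl (Sum.inl c)))

/-- the second generic factor -/
noncomputable def HH : MvPolynomial (Fin n) (MvPolynomial (Var n d) A) :=
  genPoly d (fun c => X (Sum.inl (Sum.inr c)))

variable {A}

/-- the equations `G * H = P`, `g_{c₁} s = 1`, `h_{c₂} s' = 1` -/
noncomputable def eqs (P : MvPolynomial (Fin n) A) (c₁ c₂ : Idx n d) :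
    Set (MvPolynomial (Var n d) A) :=
  (Set.range fun μ : Fin n →₀ ℕ => coeff μ (GG d A * HH d A - map C P)) ∪
    {X (Sum.inl (Sum.inl c₁)) * X (Sum.inr 0) - 1, X (Sum.inl (Sum.inr c₂)) * X (Sum.inr 1) - 1}

lemma factor_of_kills (P : MvPolynomial (Fin n) A) {F : Type*} [Field F] (ψ : A →+* F)
    (v : Var n d → F) (c₁ c₂ : Idx n d)
    (hk : ∀ e ∈ eqs d P c₁ c₂, eval₂Hom ψ v e = 0) :
    map ψ P = genPoly d (fun c => v (Sum.inl (Sum.inl c))) *
        genPoly d (fun c => v (Sum.inl (Sum.inr c))) ∧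
      v (Sum.inl (Sum.inl c₁)) * v (Sum.inr 0) = 1 ∧
      v (Sum.inl (Sum.inr c₂)) * v (Sum.inr 1) = 1 := by
  refine ⟨?_, ?_, ?_⟩
  · have h1 : map (eval₂Hom ψ v) (GG d A * HH d A - map C P) = 0 := by
      ext μ
      rw [coeff_map, coeff_zero]
      exact hk _ (Or.inl ⟨μ, rfl⟩)
    have h2 : (eval₂Hom ψ v).comp C = ψ := by
      ext a
      simp
    rw [map_sub, map_mul, GG, HH, map_genPoly, map_genPoly, map_map, h2] at h1
    simp only [eval₂Hom_X'] at h1
    exact (sub_eq_zero.1 h1).symm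
  · have h := hk _ (Or.inr (Set.mem_insert _ _))
    rw [map_sub, map_mul, map_one, eval₂Hom_X', eval₂Hom_X', sub_eq_zero] at h
    exact h
  · have h := hk _ (Or.inr (Set.mem_insert_of_mem _ (Set.mem_singleton _)))
    rw [map_sub, map_mul, map_one, eval₂Hom_X', eval₂Hom_X', sub_eq_zero] at h
    exact h

lemma ideal_map_eq_top [IsDomain A] (P : MvPolynomial (Fin n) A)
    (hP : Irreducible (map (algebraMap A (AlgebraicClosure (FractionRing A))) P))
    (c₁ c₂ : Idx n d) (h₁ : expo d c₁ ≠ 0) (h₂ : expo d c₂ ≠ 0) :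
    Ideal.map (algebraMap (MvPolynomial (Var n d) A) (MvPolynomial (Var n d) (FractionRing A)))
      (Ideal.span (eqs d P c₁ c₂)) = ⊤ := by
  by_contra hne
  obtain ⟨𝔪, h𝔪, hle⟩ := Ideal.exists_le_maximal _ hne
  obtain ⟨x, hx⟩ := eq_vanishingIdeal_singleton_of_isMaximal
    (AlgebraicClosure (FractionRing A)) h𝔪
  have hk : ∀ e ∈ eqs d P c₁ c₂,
      eval₂Hom (algebraMap A (AlgebraicClosure (FractionRing A))) x e = 0 := by
    intro e he
    have h1 : algebraMap _ (MvPolynomial (Var n d) (FractionRing A)) e ∈ 𝔪 :=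
      hle (Ideal.mem_map_of_mem _ (Ideal.subset_span he))
    rw [hx, mem_vanishingIdeal_singleton_iff, MvPolynomial.algebraMap_def, aeval_def,
      eval₂_map, ← IsScalarTower.algebraMap_eq] at h1
    exact h1
  obtain ⟨hfac, hg, hh⟩ := factor_of_kills d P _ x c₁ c₂ hk
  have hG : ¬ IsUnit (genPoly d fun c => x (Sum.inl (Sum.inl c))) :=
    not_isUnit_of_coeff_ne_zero _ (expo d c₁) h₁ (by
      rw [coeff_genPoly_expo]
      exact left_ne_zero_of_mul_eq_one hg)
  have hH : ¬ IsUnit (genPoly d fun c => x (Sum.inl (Sum.inr c))) :=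
    not_isUnit_of_coeff_ne_zero _ (expo d c₂) h₂ (by
      rw [coeff_genPoly_expo]
      exact left_ne_zero_of_mul_eq_one hh)
  rcases hP.isUnit_or_isUnit hfac with h | h
  · exact hG h
  · exact hH h

lemma exists_C_mem [IsDomain A] (J : Ideal (MvPolynomial (Var n d) A))
    (hJ : Ideal.map (algebraMap (MvPolynomial (Var n d) A)
      (MvPolynomial (Var n d) (FractionRing A))) J = ⊤) :
    ∃ f : A, f ≠ 0 ∧ C f ∈ J := by
  have h1 : (1 : MvPolynomial (Var n d) (FractionRing A)) ∈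
      Ideal.map (algebraMap (MvPolynomial (Var n d) A) _) J := by
    rw [hJ]
    trivial
  rw [IsLocalization.mem_map_algebraMap_iff ((nonZeroDivisors A).map (C (σ := Var n d)))] at h1
  obtain ⟨⟨⟨a, ha⟩, ⟨m, hm⟩⟩, h⟩ := h1
  obtain ⟨f, hf, rfl⟩ := hm
  rw [one_mul] at h
  have hinj : Function.Injective (algebraMap (MvPolynomial (Var n d) A)
      (MvPolynomial (Var n d) (FractionRing A))) := by
    rw [MvPolynomial.algebraMap_def]
    exact map_injective _ (IsFractionRing.injective A (FractionRing A))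
  have h2 : C f = a := hinj h
  refine ⟨f, nonZeroDivisors.ne_zero hf, ?_⟩
  rw [h2]
  exact ha

end system

theorem main {A : Type u} [CommRing A] [IsDomain A] {n : ℕ} (P : MvPolynomial (Fin n) A)
    (hP : Irreducible (MvPolynomial.map (algebraMap A (AlgebraicClosure (FractionRing A))) P)) :
    ∃ f : A, f ≠ 0 ∧ ∀ (κ : Type u) [Field κ] (φ : Localization.Away f →+* κ),
      Irreducible (MvPolynomial.map (φ.comp (algebraMap A (Localization.Away f))) P) := by
  classical
  set d := P.totalDegree with hd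
  -- a nonconstant monomial of `P`
  have hPb0 : MvPolynomial.map (algebraMap A (AlgebraicClosure (FractionRing A))) P ≠ 0 := hP.ne_zero
  obtain ⟨μ₀, hμ₀, hcμ₀⟩ := exists_coeff_ne_zero_of_not_isUnit _ hPb0 hP.not_isUnit
  rw [coeff_map] at hcμ₀
  have hp₀ : coeff μ₀ P ≠ 0 := by
    intro h
    rw [h, map_zero] at hcμ₀
    exact hcμ₀ rfl
  have hex : ∀ c₁ c₂ : Idx n d, ∃ f : A, f ≠ 0 ∧
      (expo d c₁ ≠ 0 → expo d c₂ ≠ 0 → C f ∈ Ideal.span (eqs d P c₁ c₂)) := by
    intro c₁ c₂
    by_cases h : expo d c₁ ≠ 0 ∧ expo d c₂ ≠ 0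
    · obtain ⟨f, hf0, hf⟩ := exists_C_mem d _ (ideal_map_eq_top d P hP c₁ c₂ h.1 h.2)
      exact ⟨f, hf0, fun _ _ => hf⟩
    · exact ⟨1, one_ne_zero, fun h1 h2 => absurd ⟨h1, h2⟩ h⟩
  choose ff hff0 hff using hex
  obtain ⟨f, hf⟩ : ∃ f : A, f = coeff μ₀ P * ∏ c₁, ∏ c₂, ff c₁ c₂ := ⟨_, rfl⟩
  refine ⟨f, hf ▸ mul_ne_zero hp₀
    (Finset.prod_ne_zero_iff.2 fun c₁ _ => Finset.prod_ne_zero_iff.2 fun c₂ _ => hff0 c₁ c₂), ?_⟩
  intro κ _ φ
  set ψ : A →+* κ := φ.comp (algebraMap A (Localization.Away f)) with hψ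
  have hψf : ψ f ≠ 0 := by
    have h1 : IsUnit (algebraMap A (Localization.Away f) f) :=
      IsLocalization.Away.algebraMap_isUnit f
    exact (h1.map φ).ne_zero
  rw [hf, map_mul, map_prod] at hψf
  have hψp : ψ (coeff μ₀ P) ≠ 0 := left_ne_zero_of_mul hψf
  have hψff : ∀ c₁ c₂, ψ (ff c₁ c₂) ≠ 0 := by
    intro c₁ c₂
    have h1 := right_ne_zero_of_mul hψf
    have h2 := Finset.prod_ne_zero_iff.1 h1 c₁ (Finset.mem_univ _)
    rw [map_prod] at h2
    exact Finset.prod_ne_zero_iff.1 h2 c₂ (Finset.mem_univ _)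
  have hcoeff : coeff μ₀ (map ψ P) ≠ 0 := by
    rw [coeff_map]
    exact hψp
  have hne0 : map ψ P ≠ 0 := by
    intro h
    rw [h, coeff_zero] at hcoeff
    exact hcoeff rfl
  refine ⟨not_isUnit_of_coeff_ne_zero _ μ₀ hμ₀ hcoeff, ?_⟩
  intro G H hGH
  by_contra hcon
  push Not at hcon
  obtain ⟨hGu, hHu⟩ := hcon
  have hG0 : G ≠ 0 := by
    rintro rfl
    rw [zero_mul] at hGH
    exact hne0 hGH
  have hH0 : H ≠ 0 := by
    rintro rfl
    rw [mul_zero] at hGH
    exact hne0 hGH
  have hdeg : G.totalDegree + H.totalDegree ≤ d := by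
    rw [← totalDegree_mul_of_isDomain hG0 hH0, ← hGH]
    exact totalDegree_map_le' ψ P
  obtain ⟨μ₁, hμ₁, hc₁⟩ := exists_coeff_ne_zero_of_not_isUnit G hG0 hGu
  obtain ⟨μ₂, hμ₂, hc₂⟩ := exists_coeff_ne_zero_of_not_isUnit H hH0 hHu
  have hGd : G.totalDegree ≤ d := by omega
  have hHd : H.totalDegree ≤ d := by omega
  have hbox : ∀ (Q : MvPolynomial (Fin n) κ), Q.totalDegree ≤ d → ∀ μ : Fin n →₀ ℕ,
      coeff μ Q ≠ 0 → ∃ c, expo d c = μ := by
    intro Q hQ μ hμ
    by_contra hno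
    push Not at hno
    have h1 := genPoly_coeff_eq_self d Q hQ
    have h2 := coeff_genPoly_of_forall_ne d (fun c => coeff (expo d c) Q) μ hno
    rw [h1] at h2
    exact hμ h2
  obtain ⟨c₁, hc₁'⟩ := hbox G hGd μ₁ hc₁
  obtain ⟨c₂, hc₂'⟩ := hbox H hHd μ₂ hc₂
  -- the point
  let v : Var n d → κ := Sum.elim
    (Sum.elim (fun c => coeff (expo d c) G) (fun c => coeff (expo d c) H))
    (fun i => if i = 0 then (coeff μ₁ G)⁻¹ else (coeff μ₂ H)⁻¹)
  have hkill : ∀ e ∈ eqs d P c₁ c₂, eval₂Hom ψ v e = 0 := by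
    intro e he
    rcases he with ⟨μ, rfl⟩ | he
    · have h1 : eval₂Hom ψ v (coeff μ (GG d A * HH d A - map C P)) =
          coeff μ (map (eval₂Hom ψ v) (GG d A * HH d A - map C P)) := (coeff_map _ _ _).symm
      have h2 : (eval₂Hom ψ v).comp C = ψ := by
        ext a
        simp
      rw [h1, map_sub, map_mul, GG, HH, map_genPoly, map_genPoly, map_map, h2]
      simp only [eval₂Hom_X']
      have e1 : (fun c : Idx n d => v (Sum.inl (Sum.inl c))) = fun c => coeff (expo d c) G := rfl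
      have e2 : (fun c : Idx n d => v (Sum.inl (Sum.inr c))) = fun c => coeff (expo d c) H := rfl
      rw [e1, e2, genPoly_coeff_eq_self d G hGd, genPoly_coeff_eq_self d H hHd, ← hGH, sub_self,
        coeff_zero]
    · rcases he with rfl | he
      · rw [map_sub, map_mul, map_one, eval₂Hom_X', eval₂Hom_X', sub_eq_zero]
        show coeff (expo d c₁) G * (if (0 : Fin 2) = 0 then (coeff μ₁ G)⁻¹ else (coeff μ₂ H)⁻¹) = 1
        rw [if_pos rfl, hc₁', mul_inv_cancel₀ hc₁]
      · rw [Set.mem_singleton_iff] at he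
        subst he
        rw [map_sub, map_mul, map_one, eval₂Hom_X', eval₂Hom_X', sub_eq_zero]
        show coeff (expo d c₂) H * (if (1 : Fin 2) = 0 then (coeff μ₁ G)⁻¹ else (coeff μ₂ H)⁻¹) = 1
        rw [if_neg (by decide), hc₂', mul_inv_cancel₀ hc₂]
  have hle : Ideal.span (eqs d P c₁ c₂) ≤ RingHom.ker (eval₂Hom ψ v) :=
    Ideal.span_le.2 fun e he => hkill e he
  have hmem := hle (hff c₁ c₂ (by rw [hc₁']; exact hμ₁) (by rw [hc₂']; exact hμ₂))
  rw [RingHom.mem_ker, eval₂Hom_C] at hmem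
  exact hψff c₁ c₂ hmem

end Groth.Agent.H77.BertiniNoether
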