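-- helper77: correspondence between right structures and isomorphism families (Prelude namespace Bitors)
import Groth.Prelude.Def_W4c2gerbepatchBitors

set_option autoImplicit false
universe w v u

namespace Groth.Agent.H77

open CategoryTheory Opposite Bitors

variable {C : Type u} [Category.{v} C] {J : GrothendieckTopology C}
  {G H : Sheaf J GrpCat.{w}} {P : NonAbH1.GSheaf G}

theorem isomFamily_ext (φ φ' : IsomFamily P H)
    (h : ∀ (U : Cᵒᵖ) (p : P.P.obj.obj U) (x : H.obj.obj U), φ.φ p x = φ'.φ p x) : φ = φ' := by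
  obtain ⟨φ1, _, _⟩ := φ
  obtain ⟨φ2, _, _⟩ := φ'
  have : @φ1 = @φ2 := by
    funext U p
    exact MulEquiv.ext (h U p)
  subst this
  rfl

theorem rightStr_ext (ρ ρ' : RightStr P H)
    (h : ∀ (U : Cᵒᵖ) (p : P.P.obj.obj U) (x : H.obj.obj U), ρ.rsmul p x = ρ'.rsmul p x) :
    ρ = ρ' := by
  obtain ⟨r1, _, _, _, _, _⟩ := ρ
  obtain ⟨r2, _, _, _, _, _⟩ := ρ'
  have : @r1 = @r2 := by
    funext U p x
    exact h U p x
  subst this
  rfl

section

variable (hP : P.IsPseudoTorsor) (ρ : RightStr P H)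

/-- The element `g` with `g • p = p · h`. -/
noncomputable def phiFun {U : Cᵒᵖ} (p : P.P.obj.obj U) (h : H.obj.obj U) : G.obj.obj U :=
  (hP U p (ρ.rsmul p h)).choose

theorem phiFun_spec {U : Cᵒᵖ} (p : P.P.obj.obj U) (h : H.obj.obj U) :
    P.smul (phiFun hP ρ p h) p = ρ.rsmul p h :=
  (hP U p (ρ.rsmul p h)).choose_spec.1

include hP in
theorem smul_cancel {U : Cᵒᵖ} (p : P.P.obj.obj U) (g g' : G.obj.obj U)
    (h : P.smul g p = P.smul g' p) : g = g' :=
  (hP U p (P.smul g' p)).unique h rfl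

theorem eq_phiFun {U : Cᵒᵖ} (p : P.P.obj.obj U) (h : H.obj.obj U) (g : G.obj.obj U)
    (hg : P.smul g p = ρ.rsmul p h) : g = phiFun hP ρ p h :=
  smul_cancel hP p _ _ (hg.trans (phiFun_spec hP ρ p h).symm)

theorem rsmul_cancel {U : Cᵒᵖ} (p : P.P.obj.obj U) (h h' : H.obj.obj U)
    (e : ρ.rsmul p h = ρ.rsmul p h') : h = h' :=
  (ρ.existsUnique_rsmul p (ρ.rsmul p h')).unique e rfl

theorem phiFun_mul {U : Cᵒᵖ} (p : P.P.obj.obj U) (h h' : H.obj.obj U) :
    phiFun hP ρ p (h * h') = phiFun hP ρ p h * phiFun hP ρ p h' := by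
  symm
  apply eq_phiFun
  rw [P.mul_smul, phiFun_spec, ← ρ.smul_rsmul, phiFun_spec, ρ.rsmul_mul]

theorem phiFun_bijective {U : Cᵒᵖ} (p : P.P.obj.obj U) :
    Function.Bijective (phiFun hP ρ p) := by
  constructor
  · intro h h' hh
    apply rsmul_cancel ρ p
    rw [← phiFun_spec hP ρ p h, ← phiFun_spec hP ρ p h', hh]
  · intro g
    obtain ⟨h, hh, _⟩ := ρ.existsUnique_rsmul p (P.smul g p)
    exact ⟨h, (eq_phiFun hP ρ p h g hh.symm).symm⟩

/-- The isomorphism family attached to a right structure on a pseudo-torsor. -/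
noncomputable def isomFamilyOfRightStr : IsomFamily P H where
  φ {U} p :=
    MulEquiv.ofBijective (MonoidHom.mk' (phiFun hP ρ p) (phiFun_mul hP ρ p))
      (phiFun_bijective hP ρ p)
  map_φ {U V} f p h := by
    show G.obj.map f (phiFun hP ρ p h) = phiFun hP ρ (P.P.obj.map f p) (H.obj.map f h)
    apply eq_phiFun
    rw [← P.map_smul, phiFun_spec, ρ.map_rsmul]
  φ_smul {U} g p h := by
    show phiFun hP ρ (P.smul g p) h = g * phiFun hP ρ p h * g⁻¹
    symm
    apply eq_phiFun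
    rw [← P.mul_smul, inv_mul_cancel_right, P.mul_smul, phiFun_spec, ρ.smul_rsmul]

theorem isomFamilyOfRightStr_spec {U : Cᵒᵖ} (p : P.P.obj.obj U) (h : H.obj.obj U) :
    ρ.rsmul p h = P.smul ((isomFamilyOfRightStr hP ρ).φ p h) p :=
  (phiFun_spec hP ρ p h).symm

end

section

variable (hP : P.IsPseudoTorsor) (φ : IsomFamily P H)

/-- The right structure attached to an isomorphism family on a pseudo-torsor. -/
noncomputable def rightStrOfIsomFamily : RightStr P H where
  rsmul {U} p h := P.smul (φ.φ p h) p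
  rsmul_one p := by rw [map_one, P.one_smul]
  rsmul_mul p h h' := by
    rw [map_mul, φ.φ_smul, ← P.mul_smul, inv_mul_cancel_right]
  map_rsmul f p h := by
    rw [P.map_smul, φ.map_φ]
  smul_rsmul g p h := by
    rw [φ.φ_smul, ← P.mul_smul, inv_mul_cancel_right, P.mul_smul]
  existsUnique_rsmul {U} p q := by
    obtain ⟨g, hg, hguniq⟩ := hP U p q
    refine ⟨(φ.φ p).symm g, ?_, ?_⟩
    · show P.smul (φ.φ p ((φ.φ p).symm g)) p = q
      rw [MulEquiv.apply_symm_apply]
      exact hg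
    · intro h hh
      have := hguniq _ hh
      rw [← this, MulEquiv.symm_apply_apply]

end

theorem rightStr_correspondence (hP : P.IsPseudoTorsor) :
    (∀ ρ : Bitors.RightStr P H, ∃! φ : Bitors.IsomFamily P H,
        ∀ (U : Cᵒᵖ) (p : P.P.obj.obj U) (h : H.obj.obj U), ρ.rsmul p h = P.smul (φ.φ p h) p) ∧
    (∀ φ : Bitors.IsomFamily P H, ∃! ρ : Bitors.RightStr P H,
        ∀ (U : Cᵒᵖ) (p : P.P.obj.obj U) (h : H.obj.obj U), ρ.rsmul p h = P.smul (φ.φ p h) p) := by
  constructor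
  · intro ρ
    refine ⟨isomFamilyOfRightStr hP ρ, fun U p h => isomFamilyOfRightStr_spec hP ρ p h, ?_⟩
    intro φ' hφ'
    apply isomFamily_ext
    intro U p x
    apply smul_cancel hP p
    rw [← hφ', ← isomFamilyOfRightStr_spec hP ρ p x]
  · intro φ
    refine ⟨rightStrOfIsomFamily hP φ, fun U p h => rfl, ?_⟩
    intro ρ' hρ'
    apply rightStr_ext
    intro U p x
    rw [hρ']
    rfl

end Groth.Agent.H77
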