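import Groth.Agent.H77.CBPts

set_option autoImplicit false

/-! Cayley–Bacharach: at most `3n+1` points are coplanar or lie on two skew lines. -/

namespace Groth.Agent.H77.CBPlane

open MvPolynomial Classical Module Groth.Agent.H77.CBVec Groth.Agent.H77.CBPts

universe u
variable {k : Type u} [Field k] {ι : Type} [Fintype ι]

/-- the Cayley–Bacharach property in degree `n`. -/
def CB (n : ℕ) (Z : Finset (Projectivization k (ι → k))) : Prop :=
  ∀ z ∈ Z, ∀ p : MvPolynomial ι k, p.IsHomogeneous n →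
    (∀ z' ∈ Z, z' ≠ z → MvPolynomial.eval z'.rep p = 0) → MvPolynomial.eval z.rep p = 0

theorem card_ge {n : ℕ} {Z : Finset (Projectivization k (ι → k))} (h : CB n Z)
    (hne : Z.Nonempty) : n + 2 ≤ Z.card := (main Z hne n h).1

theorem collinear_of_card_le {n : ℕ} {Z : Finset (Projectivization k (ι → k))} (h : CB n Z)
    (hne : Z.Nonempty) (hc : Z.card ≤ 2 * n + 1) :
    ∃ W : Submodule k (ι → k), finrank k W = 2 ∧ ∀ z ∈ Z, z.rep ∈ W := by
  obtain ⟨W, hW, hZ⟩ := (main Z hne n h).2 hc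
  refine ⟨W, hW, fun z hz => ?_⟩
  have := hZ z hz
  rw [Projectivization.submodule_eq, Submodule.span_singleton_le_iff_mem] at this
  exact this

theorem cb_restrict {n : ℕ} {Z : Finset (Projectivization k (ι → k))} (h : CB (n + 1) Z)
    (H : Submodule k (ι → k)) : CB n (Z.filter (fun z => z.rep ∉ H)) := by
  intro z hz F hF hvan
  rw [Finset.mem_filter] at hz
  obtain ⟨f, hf, hfH⟩ := Submodule.exists_dual_map_eq_bot_of_notMem hz.2 inferInstance
  have hfH' : ∀ w ∈ H, f w = 0 := fun w hw => by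
    have : f w ∈ H.map f := Submodule.mem_map_of_mem hw
    rw [hfH] at this
    exact (Submodule.mem_bot k).1 this
  have hhom : (linForm f * F).IsHomogeneous (n + 1) := by
    have := (linForm_homog f).mul hF
    rwa [add_comm] at this
  have hG := h z hz.1 (linForm f * F) hhom ?_
  · rw [map_mul, eval_linForm] at hG
    exact (mul_eq_zero.1 hG).resolve_left hf
  · intro z' hz' hne
    rw [map_mul, eval_linForm]
    by_cases hz'H : z'.rep ∈ H
    · rw [hfH' _ hz'H, zero_mul]
    · rw [hvan z' (Finset.mem_filter.2 ⟨hz', hz'H⟩) hne, mul_zero]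

theorem finrank_sup_singleton (U : Submodule k (ι → k)) {x : ι → k} (hx : x ∉ U) :
    finrank k ↥(U ⊔ Submodule.span k {x}) = finrank k U + 1 := by
  have hx0 : x ≠ 0 := fun h => hx (h ▸ U.zero_mem)
  have hdisj : U ⊓ Submodule.span k {x} = ⊥ := by
    rw [← disjoint_iff]
    exact (Submodule.disjoint_span_singleton' hx0).2 hx
  have h := Submodule.finrank_sup_add_finrank_inf_eq U (Submodule.span k {x})
  rw [hdisj, finrank_bot, add_zero, finrank_span_singleton hx0] at h
  exact h

theorem exists_ge_finrank_eq (m : ℕ) (h2 : m ≤ Fintype.card ι) :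
    ∀ (d : ℕ) (U : Submodule k (ι → k)), d = m - finrank k U → finrank k U ≤ m →
      ∃ H : Submodule k (ι → k), U ≤ H ∧ finrank k H = m := by
  intro d
  induction d with
  | zero =>
    intro U hd h1
    exact ⟨U, le_rfl, by omega⟩
  | succ d ih =>
    intro U hd h1
    have hlt : finrank k U < finrank k (ι → k) := by
      rw [Module.finrank_fintype_fun_eq_card]; omega
    obtain ⟨x, hx⟩ : ∃ x, x ∉ U := by
      by_contra hcon
      push Not at hcon
      have : U = ⊤ := Submodule.eq_top_iff'.2 hcon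
      rw [this, finrank_top] at hlt
      exact lt_irrefl _ hlt
    have hfr := finrank_sup_singleton U hx
    obtain ⟨H, hH1, hH2⟩ := ih (U ⊔ Submodule.span k {x}) (by omega) (by omega)
    exact ⟨H, le_sup_left.trans hH1, hH2⟩

/-- all points in a subspace of dimension 3. -/
def Coplanar (Z : Finset (Projectivization k (ι → k))) : Prop :=
  ∃ W : Submodule k (ι → k), finrank k W = 3 ∧ ∀ z ∈ Z, z.rep ∈ W

/-- two skew lines. -/
def Skew (n : ℕ) (Z : Finset (Projectivization k (ι → k))) : Prop :=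
  ∃ l1 l2 : Submodule k (ι → k), finrank k l1 = 2 ∧ finrank k l2 = 2 ∧ l1 ⊓ l2 = ⊥ ∧
    (∀ z ∈ Z, z.rep ∈ l1 ∨ z.rep ∈ l2) ∧ n + 1 ≤ (Z.filter (fun z => z.rep ∈ l1)).card ∧
    n + 1 ≤ (Z.filter (fun z => z.rep ∈ l2)).card ∧ 2 * n + 3 ≤ Z.card

theorem coplanar_of_le (h3 : 3 ≤ Fintype.card ι) {Z : Finset (Projectivization k (ι → k))}
    (U : Submodule k (ι → k)) (hU : finrank k U ≤ 3) (hZ : ∀ z ∈ Z, z.rep ∈ U) : Coplanar Z := by
  obtain ⟨H, hH1, hH2⟩ := exists_ge_finrank_eq 3 h3 _ U rfl hU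
  exact ⟨H, hH2, fun z hz => hH1 (hZ z hz)⟩

theorem card_filter_sup_singleton {Z : Finset (Projectivization k (ι → k))}
    (l : Submodule k (ι → k)) (A : Finset (Projectivization k (ι → k))) (hAZ : A ⊆ Z)
    (hA : ∀ z ∈ A, z.rep ∈ l) (z₀ : Projectivization k (ι → k)) (hz₀ : z₀ ∈ Z)
    (hz₀l : z₀.rep ∉ l) :
    A.card + 1 ≤ (Z.filter (fun z => z.rep ∈ l ⊔ Submodule.span k {z₀.rep})).card := by
  have hz₀A : z₀ ∉ A := fun h => hz₀l (hA z₀ h)
  rw [← Finset.card_insert_of_notMem hz₀A]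
  apply Finset.card_le_card
  intro z hz
  rw [Finset.mem_filter]
  rcases Finset.mem_insert.1 hz with rfl | hz
  · exact ⟨hz₀, (le_sup_right : _ ≤ l ⊔ Submodule.span k {z.rep})
      (Submodule.subset_span rfl)⟩
  · exact ⟨hAZ hz, (le_sup_left : l ≤ _) (hA z hz)⟩

/-- Claim 1: some plane contains at least `n + 3` points. -/
theorem exists_plane (h3 : 3 ≤ Fintype.card ι) (n : ℕ)
    (Q : ∀ Z : Finset (Projectivization k (ι → k)), CB n Z → Z.card ≤ 3 * n + 1 →
      Coplanar Z ∨ Skew n Z)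
    (Z : Finset (Projectivization k (ι → k))) (hCB : CB (n + 1) Z)
    (hcard : Z.card ≤ 3 * (n + 1) + 1) (hnc : ¬ Coplanar Z) :
    ∃ H : Submodule k (ι → k), finrank k H = 3 ∧
      n + 3 ≤ (Z.filter (fun z => z.rep ∈ H)).card := by
  by_contra hall
  push Not at hall
  have hne : Z.Nonempty := by
    by_contra hem
    rw [Finset.not_nonempty_iff_eq_empty] at hem
    apply hnc
    refine coplanar_of_le h3 ⊥ (by rw [finrank_bot]; omega) ?_
    intro z hz
    rw [hem] at hz
    exact absurd hz (Finset.notMem_empty _)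
  have hZ3 := card_ge hCB hne
  obtain ⟨a, ha, b, hb, c, hc, hab, hac, hbc⟩ := Finset.two_lt_card.1 (by omega : 2 < Z.card)
  have hU : finrank k (Submodule.span k
      ((({a.rep, b.rep, c.rep} : Finset (ι → k)) : Set (ι → k)))) ≤ 3 :=
    (finrank_span_finset_le_card _).trans Finset.card_le_three
  obtain ⟨H, hH1, hH2⟩ := exists_ge_finrank_eq 3 h3 _ _ rfl hU
  have hmemH : ∀ z ∈ ({a, b, c} : Finset (Projectivization k (ι → k))), z.rep ∈ H := by
    intro z hz
    apply hH1
    apply Submodule.subset_span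
    simp only [Finset.mem_insert, Finset.mem_singleton] at hz
    rcases hz with rfl | rfl | rfl <;> simp
  have hcnt3 : 3 ≤ (Z.filter (fun z => z.rep ∈ H)).card := by
    have h3c : ({a, b, c} : Finset (Projectivization k (ι → k))).card = 3 := by
      rw [Finset.card_insert_of_notMem, Finset.card_insert_of_notMem, Finset.card_singleton]
      · simpa using hbc
      · simp [hab, hac]
    rw [← h3c]
    apply Finset.card_le_card
    intro z hz
    rw [Finset.mem_filter]
    refine ⟨?_, hmemH z hz⟩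
    simp only [Finset.mem_insert, Finset.mem_singleton] at hz
    rcases hz with rfl | rfl | rfl <;> assumption
  have hCB' := cb_restrict hCB H
  have hsplit := Finset.card_filter_add_card_filter_not (s := Z) (fun z => z.rep ∈ H)
  have hne' : (Z.filter (fun z => z.rep ∉ H)).Nonempty := by
    by_contra hem
    rw [Finset.not_nonempty_iff_eq_empty] at hem
    apply hnc
    refine ⟨H, hH2, fun z hz => ?_⟩
    by_contra hzH
    have : z ∈ Z.filter (fun z => z.rep ∉ H) := Finset.mem_filter.2 ⟨hz, hzH⟩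
    rw [hem] at this
    exact absurd this (Finset.notMem_empty _)
  have hge' := card_ge hCB' hne'
  have hsubZ : Z.filter (fun z => z.rep ∉ H) ⊆ Z := Finset.filter_subset _ _
  rcases Q _ hCB' (by omega) with hcop | hskew
  · obtain ⟨H₂, hH₂, hZ'⟩ := hcop
    have hle : (Z.filter (fun z => z.rep ∉ H)).card ≤ (Z.filter (fun z => z.rep ∈ H₂)).card := by
      apply Finset.card_le_card
      intro z hz
      exact Finset.mem_filter.2 ⟨hsubZ hz, hZ' z hz⟩
    have hH₂cnt := hall H₂ hH₂
    obtain ⟨l, hl, hZl⟩ := collinear_of_card_le hCB' hne' (by omega)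
    obtain ⟨z₀, hz₀, hz₀l⟩ : ∃ z₀ ∈ Z, z₀.rep ∉ l := by
      by_contra hcon
      push Not at hcon
      exact hnc (coplanar_of_le h3 l (by omega) hcon)
    have hcnt := card_filter_sup_singleton l _ hsubZ hZl z₀ hz₀ hz₀l
    have hfr := finrank_sup_singleton l hz₀l
    have := hall _ (by rw [hfr, hl])
    omega
  · obtain ⟨l1, l2, hl1, hl2, hinf, hcov, hc1, hc2, htot⟩ := hskew
    have hunion : (Z.filter (fun z => z.rep ∉ H)).card ≤
        ((Z.filter (fun z => z.rep ∉ H)).filter (fun z => z.rep ∈ l1)).card +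
        ((Z.filter (fun z => z.rep ∉ H)).filter (fun z => z.rep ∈ l2)).card := by
      refine le_trans (Finset.card_le_card ?_) (Finset.card_union_le _ _)
      intro z hz
      rcases hcov z hz with h | h
      · exact Finset.mem_union_left _ (Finset.mem_filter.2 ⟨hz, h⟩)
      · exact Finset.mem_union_right _ (Finset.mem_filter.2 ⟨hz, h⟩)
    have key : ∀ (la lb : Submodule k (ι → k)), finrank k la = 2 → la ⊓ lb = ⊥ →
        n + 2 ≤ ((Z.filter (fun z => z.rep ∉ H)).filter (fun z => z.rep ∈ la)).card →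
        1 ≤ ((Z.filter (fun z => z.rep ∉ H)).filter (fun z => z.rep ∈ lb)).card → False := by
      intro la lb hla hinf' hca hcb
      obtain ⟨z₂, hz₂⟩ := Finset.card_pos.1 hcb
      rw [Finset.mem_filter] at hz₂
      have hz₂la : z₂.rep ∉ la := by
        intro h
        have : z₂.rep ∈ la ⊓ lb := ⟨h, hz₂.2⟩
        rw [hinf'] at this
        exact z₂.rep_nonzero ((Submodule.mem_bot k).1 this)
      have hcnt := card_filter_sup_singleton (Z := Z) la
        ((Z.filter (fun z => z.rep ∉ H)).filter (fun z => z.rep ∈ la))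
        ((Finset.filter_subset _ _).trans hsubZ) (fun z hz => (Finset.mem_filter.1 hz).2)
        z₂ (hsubZ hz₂.1) hz₂la
      have hfr := finrank_sup_singleton la hz₂la
      have := hall _ (by rw [hfr, hla])
      omega
    by_cases hbig : n + 2 ≤ ((Z.filter (fun z => z.rep ∉ H)).filter (fun z => z.rep ∈ l1)).card
    · exact key l1 l2 hl1 hinf hbig (by omega)
    · have hbig2 : n + 2 ≤
          ((Z.filter (fun z => z.rep ∉ H)).filter (fun z => z.rep ∈ l2)).card := by omega
      exact key l2 l1 hl2 (by rw [inf_comm]; exact hinf) hbig2 (by omega)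

/-- two lines containing many points of a small set agree. -/
theorem line_unique {ZH A B : Finset (Projectivization k (ι → k))} {n : ℕ} (hA : A ⊆ ZH)
    (hB : B ⊆ ZH) (hZH : ZH.card ≤ 2 * n + 2) (hAc : n + 2 ≤ A.card) (hBc : n + 2 ≤ B.card)
    (lA lB : Submodule k (ι → k)) (hlA : finrank k lA = 2) (hlB : finrank k lB = 2)
    (hAl : ∀ z ∈ A, z.rep ∈ lA) (hBl : ∀ z ∈ B, z.rep ∈ lB) : lA = lB := by
  have h1 := Finset.card_union_add_card_inter A B
  have h2 : (A ∪ B).card ≤ ZH.card := Finset.card_le_card (Finset.union_subset hA hB)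
  have h3 : 1 < (A ∩ B).card := by omega
  obtain ⟨z1, hz1, z2, hz2, hne⟩ := Finset.one_lt_card.1 h3
  rw [Finset.mem_inter] at hz1 hz2
  have e1 := span_pair_eq hne lA hlA (hAl _ hz1.1) (hAl _ hz2.1)
  have e2 := span_pair_eq hne lB hlB (hBl _ hz1.2) (hBl _ hz2.2)
  rw [← e1, e2]

/-- Phase 2: from a plane with many points to two skew lines. -/
theorem skew_of_plane (h3 : 3 ≤ Fintype.card ι) (n : ℕ)
    (Z : Finset (Projectivization k (ι → k))) (hCB : CB (n + 1) Z)
    (hcard : Z.card ≤ 3 * (n + 1) + 1) (hnc : ¬ Coplanar Z)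
    (H : Submodule k (ι → k)) (hH : finrank k H = 3)
    (hcnt : n + 3 ≤ (Z.filter (fun z => z.rep ∈ H)).card) : Skew (n + 1) Z := by
  have hsplit := Finset.card_filter_add_card_filter_not (s := Z) (fun z => z.rep ∈ H)
  have hCB' := cb_restrict hCB H
  have hne' : (Z.filter (fun z => z.rep ∉ H)).Nonempty := by
    by_contra hem
    rw [Finset.not_nonempty_iff_eq_empty] at hem
    apply hnc
    refine ⟨H, hH, fun z hz => ?_⟩
    by_contra hzH
    have : z ∈ Z.filter (fun z => z.rep ∉ H) := Finset.mem_filter.2 ⟨hz, hzH⟩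
    rw [hem] at this
    exact absurd this (Finset.notMem_empty _)
  have hge' := card_ge hCB' hne'
  obtain ⟨l', hl', hZl'⟩ := collinear_of_card_le hCB' hne' (by omega)
  have hZHcard : (Z.filter (fun z => z.rep ∈ H)).card ≤ 2 * n + 2 := by omega
  have Fq : ∀ q ∈ Z, q.rep ∉ l' → ∃ lq : Submodule k (ι → k), finrank k lq = 2 ∧
      (∀ z ∈ Z.filter (fun z => z.rep ∉ l' ⊔ Submodule.span k {q.rep}), z.rep ∈ lq) ∧
      n + 2 ≤ (Z.filter (fun z => z.rep ∉ l' ⊔ Submodule.span k {q.rep})).card ∧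
      Z.filter (fun z => z.rep ∉ l' ⊔ Submodule.span k {q.rep}) ⊆
        Z.filter (fun z => z.rep ∈ H) ∧
      q ∈ Z.filter (fun z => z.rep ∈ H) ∧
      q ∉ Z.filter (fun z => z.rep ∉ l' ⊔ Submodule.span k {q.rep}) := by
    intro q hq hql
    have hfr := finrank_sup_singleton l' hql
    have hCBq := cb_restrict hCB (l' ⊔ Submodule.span k {q.rep})
    have hneq : (Z.filter (fun z => z.rep ∉ l' ⊔ Submodule.span k {q.rep})).Nonempty := by
      by_contra hem
      rw [Finset.not_nonempty_iff_eq_empty] at hem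
      apply hnc
      refine ⟨_, by rw [hfr, hl'], fun z hz => ?_⟩
      by_contra hzH
      have : z ∈ Z.filter (fun z => z.rep ∉ l' ⊔ Submodule.span k {q.rep}) :=
        Finset.mem_filter.2 ⟨hz, hzH⟩
      rw [hem] at this
      exact absurd this (Finset.notMem_empty _)
    have hgeq := card_ge hCBq hneq
    have hsubq : Z.filter (fun z => z.rep ∉ l' ⊔ Submodule.span k {q.rep}) ⊆
        Z.filter (fun z => z.rep ∈ H) := by
      intro z hz
      rw [Finset.mem_filter] at hz ⊢
      refine ⟨hz.1, ?_⟩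
      by_contra hzH
      exact hz.2 ((le_sup_left : l' ≤ _) (hZl' z (Finset.mem_filter.2 ⟨hz.1, hzH⟩)))
    have hqH : q ∈ Z.filter (fun z => z.rep ∈ H) := by
      rw [Finset.mem_filter]
      refine ⟨hq, ?_⟩
      by_contra hqH
      exact hql (hZl' q (Finset.mem_filter.2 ⟨hq, hqH⟩))
    have hqn : q ∉ Z.filter (fun z => z.rep ∉ l' ⊔ Submodule.span k {q.rep}) := by
      intro h
      exact (Finset.mem_filter.1 h).2
        ((le_sup_right : _ ≤ l' ⊔ Submodule.span k {q.rep}) (Submodule.subset_span rfl))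
    have hlt : (Z.filter (fun z => z.rep ∉ l' ⊔ Submodule.span k {q.rep})).card <
        (Z.filter (fun z => z.rep ∈ H)).card :=
      Finset.card_lt_card ⟨hsubq, fun h => hqn (h hqH)⟩
    obtain ⟨lq, hlq, hZlq⟩ := collinear_of_card_le hCBq hneq (by omega)
    exact ⟨lq, hlq, hZlq, hgeq, hsubq, hqH, hqn⟩
  obtain ⟨q₀, hq₀, hq₀l⟩ : ∃ q₀ ∈ Z, q₀.rep ∉ l' := by
    by_contra hcon
    push Not at hcon
    exact hnc (coplanar_of_le h3 l' (by omega) hcon)
  obtain ⟨l'', hl'', hAl, hAc, hAsub, hq₀H, hq₀A⟩ := Fq q₀ hq₀ hq₀l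
  have claim2 : ∀ x ∈ Z, x.rep ∉ l' → x.rep ∈ l'' := by
    intro x hx hxl
    by_contra hxl''
    obtain ⟨lx, hlx, hZx, hZxc, hZxsub, -, -⟩ := Fq x hx hxl
    have e1 : lx = l'' := line_unique hZxsub hAsub hZHcard hZxc hAc lx l'' hlx hl'' hZx hAl
    obtain ⟨q, hqZx⟩ : (Z.filter
        (fun z => z.rep ∉ l' ⊔ Submodule.span k {x.rep})).Nonempty :=
      Finset.card_pos.1 (by omega)
    have hq := (Finset.mem_filter.1 hqZx).1
    have hqHx := (Finset.mem_filter.1 hqZx).2
    have hql : q.rep ∉ l' := fun h => hqHx ((le_sup_left : l' ≤ _) h)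
    obtain ⟨lq, hlq, hZq, hZqc, hZqsub, -, -⟩ := Fq q hq hql
    have e2 : lq = l'' := line_unique hZqsub hAsub hZHcard hZqc hAc lq l'' hlq hl'' hZq hAl
    have hxHq : x.rep ∈ l' ⊔ Submodule.span k {q.rep} := by
      by_contra hcon
      apply hxl''
      rw [← e2]
      exact hZq x (Finset.mem_filter.2 ⟨hx, hcon⟩)
    have hle : l' ⊔ Submodule.span k {x.rep} ≤ l' ⊔ Submodule.span k {q.rep} :=
      sup_le le_sup_left ((Submodule.span_singleton_le_iff_mem _ _).2 hxHq)
    have heq : l' ⊔ Submodule.span k {x.rep} = l' ⊔ Submodule.span k {q.rep} :=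
      Submodule.eq_of_le_of_finrank_eq hle
        (by rw [finrank_sup_singleton l' hxl, finrank_sup_singleton l' hql])
    apply hqHx
    rw [heq]
    exact (le_sup_right : _ ≤ l' ⊔ Submodule.span k {q.rep}) (Submodule.subset_span rfl)
  have hcov : ∀ z ∈ Z, z.rep ∈ l' ∨ z.rep ∈ l'' := fun z hz => by
    by_cases h : z.rep ∈ l'
    · exact Or.inl h
    · exact Or.inr (claim2 z hz h)
  have hinf : l' ⊓ l'' = ⊥ := by
    by_contra hcon
    apply hnc
    have h1 := Submodule.finrank_sup_add_finrank_inf_eq l' l''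
    have h2 : 1 ≤ finrank k ↥(l' ⊓ l'') := by
      rw [Nat.one_le_iff_ne_zero, Ne, Submodule.finrank_eq_zero]
      exact hcon
    refine coplanar_of_le h3 (l' ⊔ l'') (by omega) (fun z hz => ?_)
    rcases hcov z hz with h | h
    · exact (le_sup_left : l' ≤ _) h
    · exact (le_sup_right : l'' ≤ _) h
  refine ⟨l', l'', hl', hl'', hinf, hcov, ?_, ?_, ?_⟩
  · refine le_trans (by omega : n + 1 + 1 ≤ (Z.filter (fun z => z.rep ∉ H)).card)
      (Finset.card_le_card ?_)
    intro z hz
    exact Finset.mem_filter.2 ⟨(Finset.mem_filter.1 hz).1, hZl' z hz⟩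
  · refine le_trans (by omega : n + 1 + 1 ≤
      (Z.filter (fun z => z.rep ∉ l' ⊔ Submodule.span k {q₀.rep})).card)
      (Finset.card_le_card ?_)
    intro z hz
    exact Finset.mem_filter.2 ⟨(Finset.mem_filter.1 hz).1, hAl z hz⟩
  · omega

theorem Q (h3 : 3 ≤ Fintype.card ι) : ∀ (n : ℕ) (Z : Finset (Projectivization k (ι → k))),
    CB n Z → Z.card ≤ 3 * n + 1 → Coplanar Z ∨ Skew n Z := by
  intro n
  induction n with
  | zero =>
    intro Z hCB hcard
    left
    by_cases hne : Z.Nonempty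
    · have := card_ge hCB hne
      omega
    · rw [Finset.not_nonempty_iff_eq_empty] at hne
      refine coplanar_of_le h3 ⊥ (by rw [finrank_bot]; omega) ?_
      intro z hz
      rw [hne] at hz
      exact absurd hz (Finset.notMem_empty _)
  | succ n ih =>
    intro Z hCB hcard
    by_cases hnc : Coplanar Z
    · exact Or.inl hnc
    · right
      obtain ⟨H, hH, hcnt⟩ := exists_plane h3 n ih Z hCB hcard hnc
      exact skew_of_plane h3 n Z hCB hcard hnc H hH hcnt

theorem sub_iff (z : Projectivization k (ι → k)) (W : Submodule k (ι → k)) :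
    z.submodule ≤ W ↔ z.rep ∈ W := by
  rw [Projectivization.submodule_eq, Submodule.span_singleton_le_iff_mem]

theorem main42 (h3 : 3 ≤ Fintype.card ι) (Z : Finset (Projectivization k (ι → k))) (n : ℕ)
    (hCB : CB n Z) (hcard : Z.card ≤ 3 * n + 1) :
    (∃ W : Submodule k (ι → k), finrank k W = 3 ∧ ∀ z ∈ Z, z.submodule ≤ W) ∨
      (∃ W₁ W₂ : Submodule k (ι → k), finrank k W₁ = 2 ∧ finrank k W₂ = 2 ∧ W₁ ⊓ W₂ = ⊥ ∧
        (∀ z ∈ Z, z.submodule ≤ W₁ ∨ z.submodule ≤ W₂) ∧
        n + 1 ≤ Set.ncard {z : Projectivization k (ι → k) | z ∈ Z ∧ z.submodule ≤ W₁} ∧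
        n + 1 ≤ Set.ncard {z : Projectivization k (ι → k) | z ∈ Z ∧ z.submodule ≤ W₂} ∧
        2 * n + 3 ≤ Z.card) := by
  have hset : ∀ W : Submodule k (ι → k),
      {z : Projectivization k (ι → k) | z ∈ Z ∧ z.submodule ≤ W} =
        ((Z.filter (fun z => z.rep ∈ W) : Finset (Projectivization k (ι → k))) :
          Set (Projectivization k (ι → k))) := by
    intro W
    ext z
    simp only [Set.mem_setOf_eq, Finset.coe_filter, sub_iff]
  rcases Q h3 n Z hCB hcard with ⟨W, hW, hZ⟩ | ⟨l1, l2, hl1, hl2, hinf, hcov, hc1, hc2, htot⟩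
  · exact Or.inl ⟨W, hW, fun z hz => (sub_iff z W).2 (hZ z hz)⟩
  · right
    refine ⟨l1, l2, hl1, hl2, hinf, fun z hz => ?_, ?_, ?_, htot⟩
    · rcases hcov z hz with h | h
      · exact Or.inl ((sub_iff z l1).2 h)
      · exact Or.inr ((sub_iff z l2).2 h)
    · rw [hset, Set.ncard_coe_finset]
      exact hc1
    · rw [hset, Set.ncard_coe_finset]
      exact hc2

end Groth.Agent.H77.CBPlane
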