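import Groth.Agent.H77.CBVec

set_option autoImplicit false

/-! Cayley–Bacharach for finite sets of points of a projective space. -/

namespace Groth.Agent.H77.CBPts

open MvPolynomial Classical Groth.Agent.H77.CBVec

universe u
variable {k : Type u} [Field k] {ι : Type} [Fintype ι]

theorem rep_notMem_span {p z : Projectivization k (ι → k)} (h : z ≠ p) :
    z.rep ∉ Submodule.span k {p.rep} := by
  intro hmem
  obtain ⟨a, ha⟩ := Submodule.mem_span_singleton.1 hmem
  have hli := (Projectivization.linearIndependent_pair_iff_ne (D := p) (D' := z)).2 (Ne.symm h)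
  rw [LinearIndependent.pair_iff' (Projectivization.rep_nonzero _)] at hli
  exact hli a ha

theorem finrank_span_pair {a b : Projectivization k (ι → k)} (h : a ≠ b) :
    Module.finrank k (Submodule.span k {a.rep, b.rep}) = 2 := by
  have hli := (Projectivization.linearIndependent_pair_iff_ne (D := a) (D' := b)).2 h
  have h1 := finrank_span_eq_card hli
  have h2 : Set.range ![a.rep, b.rep] = {a.rep, b.rep} := by
    ext x
    simp only [Set.mem_range, Set.mem_insert_iff, Set.mem_singleton_iff]
    constructor
    · rintro ⟨i, rfl⟩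
      fin_cases i
      · left; rfl
      · right; rfl
    · rintro (rfl | rfl)
      · exact ⟨0, rfl⟩
      · exact ⟨1, rfl⟩
  rw [h2] at h1
  rw [h1]
  rfl

theorem span_pair_eq {z1 z2 : Projectivization k (ι → k)} (h : z1 ≠ z2)
    (M : Submodule k (ι → k)) (hM : Module.finrank k M = 2) (h1 : z1.rep ∈ M) (h2 : z2.rep ∈ M) :
    Submodule.span k {z1.rep, z2.rep} = M := by
  apply Submodule.eq_of_le_of_finrank_eq
  · rw [Submodule.span_le]
    rintro x (rfl | rfl) <;> assumption
  · rw [finrank_span_pair h, hM]

theorem not_sep (Z : Finset (Projectivization k (ι → k))) (n : ℕ)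
    (hCB : ∀ z ∈ Z, ∀ p : MvPolynomial ι k, p.IsHomogeneous n →
      (∀ z' ∈ Z, z' ≠ z → MvPolynomial.eval z'.rep p = 0) → MvPolynomial.eval z.rep p = 0)
    (z : Projectivization k (ι → k)) (hz : z ∈ Z) :
    ¬ Sep n z.rep (((Z.erase z).image Projectivization.rep : Finset (ι → k)) : Set (ι → k)) := by
  rintro ⟨F, hF, hFu, hFS⟩
  apply hFu
  apply hCB z hz F hF
  intro z' hz' hne
  apply hFS
  exact Finset.mem_coe.2 (Finset.mem_image.2 ⟨z', Finset.mem_erase.2 ⟨hne, hz'⟩, rfl⟩)

theorem main (Z : Finset (Projectivization k (ι → k))) (hZ : Z.Nonempty) (n : ℕ)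
    (hCB : ∀ z ∈ Z, ∀ p : MvPolynomial ι k, p.IsHomogeneous n →
      (∀ z' ∈ Z, z' ≠ z → MvPolynomial.eval z'.rep p = 0) → MvPolynomial.eval z.rep p = 0) :
    n + 2 ≤ Z.card ∧ (Z.card ≤ 2 * n + 1 →
      ∃ W : Submodule k (ι → k), Module.finrank k ↥W = 2 ∧ ∀ z ∈ Z, z.submodule ≤ W) := by
  constructor
  · by_contra hlt
    push Not at hlt
    obtain ⟨z, hz⟩ := hZ
    apply not_sep Z n hCB z hz
    apply sep_of_card_le (Projectivization.rep_nonzero z)
    · calc ((Z.erase z).image Projectivization.rep).card ≤ (Z.erase z).card :=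
          Finset.card_image_le
        _ ≤ n := by rw [Finset.card_erase_of_mem hz]; omega
    · intro s hs
      obtain ⟨z', hz', rfl⟩ := Finset.mem_image.1 hs
      exact rep_notMem_span (Finset.mem_erase.1 hz').1
  · intro hcard
    by_contra hcol
    push Not at hcol
    have claim : ∃ p ∈ Z, ∀ s ∈ Z, s ≠ p → ((Z.erase p).filter
        (fun z' => z'.rep ∈ Submodule.span k {p.rep, s.rep})).card ≤ n := by
      by_cases hA : ∃ a ∈ Z, ∃ b ∈ Z, a ≠ b ∧
          n + 2 ≤ (Z.filter (fun z => z.rep ∈ Submodule.span k {a.rep, b.rep})).card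
      · obtain ⟨a, ha, b, hb, hab, hcnt⟩ := hA
        have hfin0 : Module.finrank k (Submodule.span k {a.rep, b.rep}) = 2 :=
          finrank_span_pair hab
        obtain ⟨p, hp, hpM⟩ := hcol (Submodule.span k {a.rep, b.rep}) hfin0
        have hpM' : p.rep ∉ Submodule.span k {a.rep, b.rep} := by
          intro h
          apply hpM
          rw [Projectivization.submodule_eq, Submodule.span_singleton_le_iff_mem]
          exact h
        refine ⟨p, hp, fun s hs hsp => ?_⟩
        have hfinM : Module.finrank k (Submodule.span k {p.rep, s.rep}) = 2 :=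
          finrank_span_pair (Ne.symm hsp)
        have hsubset : (Z.erase p).filter
            (fun z' => z'.rep ∈ Submodule.span k {p.rep, s.rep}) ⊆
            (Z.filter (fun z' => z'.rep ∈ Submodule.span k {a.rep, b.rep} ∧
              z'.rep ∈ Submodule.span k {p.rep, s.rep})) ∪
            ((Z.filter (fun z' => ¬ z'.rep ∈ Submodule.span k {a.rep, b.rep})).erase p) := by
          intro z hz
          rw [Finset.mem_filter, Finset.mem_erase] at hz
          by_cases hz0 : z.rep ∈ Submodule.span k {a.rep, b.rep}
          · exact Finset.mem_union_left _ (Finset.mem_filter.2 ⟨hz.1.2, hz0, hz.2⟩)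
          · exact Finset.mem_union_right _
              (Finset.mem_erase.2 ⟨hz.1.1, Finset.mem_filter.2 ⟨hz.1.2, hz0⟩⟩)
        have hc1 : (Z.filter (fun z' => z'.rep ∈ Submodule.span k {a.rep, b.rep} ∧
            z'.rep ∈ Submodule.span k {p.rep, s.rep})).card ≤ 1 := by
          rw [Finset.card_le_one]
          intro z1 hz1 z2 hz2
          by_contra hne
          rw [Finset.mem_filter] at hz1 hz2
          have e1 := span_pair_eq hne _ hfin0 hz1.2.1 hz2.2.1
          have e2 := span_pair_eq hne _ hfinM hz1.2.2 hz2.2.2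
          apply hpM'
          rw [← e1, e2]
          exact Submodule.subset_span (by simp)
        have hpmem : p ∈ Z.filter (fun z' => ¬ z'.rep ∈ Submodule.span k {a.rep, b.rep}) :=
          Finset.mem_filter.2 ⟨hp, hpM'⟩
        have hc2 := Finset.card_erase_of_mem hpmem
        have hc3 := Finset.card_filter_add_card_filter_not (s := Z)
          (fun z' => z'.rep ∈ Submodule.span k {a.rep, b.rep})
        have hc4 : 1 ≤ (Z.filter
            (fun z' => ¬ z'.rep ∈ Submodule.span k {a.rep, b.rep})).card :=
          Finset.card_pos.2 ⟨p, hpmem⟩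
        have hc5 := Finset.card_le_card hsubset
        have hc6 := Finset.card_union_le
          (Z.filter (fun z' => z'.rep ∈ Submodule.span k {a.rep, b.rep} ∧
              z'.rep ∈ Submodule.span k {p.rep, s.rep}))
          ((Z.filter (fun z' => ¬ z'.rep ∈ Submodule.span k {a.rep, b.rep})).erase p)
        omega
      · push Not at hA
        obtain ⟨p, hp⟩ := hZ
        refine ⟨p, hp, fun s hs hsp => ?_⟩
        have h := hA p hp s hs (Ne.symm hsp)
        have heq : (Z.erase p).filter (fun z' => z'.rep ∈ Submodule.span k {p.rep, s.rep}) =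
            (Z.filter (fun z' => z'.rep ∈ Submodule.span k {p.rep, s.rep})).erase p := by
          ext z
          simp only [Finset.mem_filter, Finset.mem_erase]
          tauto
        have hpmem : p ∈ Z.filter (fun z' => z'.rep ∈ Submodule.span k {p.rep, s.rep}) :=
          Finset.mem_filter.2 ⟨hp, Submodule.subset_span (by simp)⟩
        rw [heq, Finset.card_erase_of_mem hpmem]
        omega
    obtain ⟨p, hp, hpcls⟩ := claim
    apply not_sep Z n hCB p hp
    apply sep_of_classes (Projectivization.rep_nonzero p) n
    · calc ((Z.erase p).image Projectivization.rep).card ≤ (Z.erase p).card :=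
          Finset.card_image_le
        _ ≤ 2 * n := by rw [Finset.card_erase_of_mem hp]; omega
    · intro s hs
      obtain ⟨z', hz', rfl⟩ := Finset.mem_image.1 hs
      exact rep_notMem_span (Finset.mem_erase.1 hz').1
    · intro s hs
      obtain ⟨z, hz, rfl⟩ := Finset.mem_image.1 hs
      have hzZ := (Finset.mem_erase.1 hz).2
      have hzp := (Finset.mem_erase.1 hz).1
      rw [Finset.filter_image]
      refine (Finset.card_image_le).trans ((Finset.card_le_card ?_).trans (hpcls z hzZ hzp))
      intro z' hz'
      rw [Finset.mem_filter] at hz' ⊢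
      refine ⟨hz'.1, ?_⟩
      have h1 : z'.rep ∈ L p.rep z'.rep := mem_L_self _ _
      rw [hz'.2] at h1
      exact h1

end Groth.Agent.H77.CBPts
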