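import Mathlib

set_option autoImplicit false

/-! Separating a vector from a finite set of vectors by a form of given degree
(Cayley–Bacharach type lemmas). -/

namespace Groth.Agent.H77.CBVec

open MvPolynomial Classical

universe u
variable {k : Type u} [Field k] {ι : Type} [Fintype ι]

/-- some form of degree `n` vanishes on `S` but not at `u`. -/
def Sep (n : ℕ) (u : ι → k) (S : Set (ι → k)) : Prop :=
  ∃ F : MvPolynomial ι k, F.IsHomogeneous n ∧ MvPolynomial.eval u F ≠ 0 ∧
    ∀ s ∈ S, MvPolynomial.eval s F = 0

theorem sep_zero (u : ι → k) : Sep 0 u ∅ :=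
  ⟨1, MvPolynomial.isHomogeneous_one _ _, by simp, by simp⟩

theorem sep_mul {n m : ℕ} {u : ι → k} {S S' : Set (ι → k)} (h : Sep n u S) (h' : Sep m u S') :
    Sep (n + m) u (S ∪ S') := by
  obtain ⟨F, hF, hFu, hFS⟩ := h
  obtain ⟨G, hG, hGu, hGS⟩ := h'
  refine ⟨F * G, hF.mul hG, ?_, ?_⟩
  · rw [map_mul]; exact mul_ne_zero hFu hGu
  · rintro s (hs | hs)
    · rw [map_mul, hFS s hs, zero_mul]
    · rw [map_mul, hGS s hs, mul_zero]

theorem sep_mono {n : ℕ} {u : ι → k} {S S' : Set (ι → k)} (h : Sep n u S) (hs : S' ⊆ S) :
    Sep n u S' := by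
  obtain ⟨F, hF, hFu, hFS⟩ := h
  exact ⟨F, hF, hFu, fun s h => hFS s (hs h)⟩

/-- the linear form of a functional. -/
noncomputable def linForm (lam : (ι → k) →ₗ[k] k) : MvPolynomial ι k :=
  ∑ i, C (lam (fun j => if i = j then 1 else 0)) * X i

theorem linForm_homog (lam : (ι → k) →ₗ[k] k) : (linForm lam).IsHomogeneous 1 := by
  unfold linForm
  refine MvPolynomial.IsHomogeneous.sum _ _ _ fun i _ => ?_
  have := (MvPolynomial.isHomogeneous_C ι (lam (fun j => if i = j then 1 else 0))).mul
    (MvPolynomial.isHomogeneous_X k i)
  simpa using this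

theorem eval_linForm (lam : (ι → k) →ₗ[k] k) (w : ι → k) :
    MvPolynomial.eval w (linForm lam) = lam w := by
  unfold linForm
  rw [map_sum, LinearMap.pi_apply_eq_sum_univ lam w]
  refine Finset.sum_congr rfl fun i _ => ?_
  rw [map_mul, eval_C, eval_X, smul_eq_mul, mul_comm]

theorem sep_one {u : ι → k} {S : Set (ι → k)} (lam : (ι → k) →ₗ[k] k) (hu : lam u ≠ 0)
    (hS : ∀ s ∈ S, lam s = 0) : Sep 1 u S :=
  ⟨linForm lam, linForm_homog lam, by rw [eval_linForm]; exact hu,
    fun s hs => by rw [eval_linForm]; exact hS s hs⟩

theorem sep_one_of_notMem {u : ι → k} (p : Submodule k (ι → k)) (hu : u ∉ p) :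
    Sep 1 u (p : Set (ι → k)) := by
  obtain ⟨f, hf, hfp⟩ := Submodule.exists_dual_map_eq_bot_of_notMem hu inferInstance
  refine sep_one f hf fun s hs => ?_
  have : f s ∈ p.map f := Submodule.mem_map_of_mem hs
  rw [hfp] at this
  exact (Submodule.mem_bot k).1 this

theorem sep_pad {u : ι → k} (hu : u ≠ 0) : ∀ n : ℕ, Sep n u ∅
  | 0 => sep_zero u
  | n + 1 => by
    have h1 : Sep 1 u ∅ := by
      have : u ∉ (⊥ : Submodule k (ι → k)) := fun h => hu ((Submodule.mem_bot k).1 h)
      exact sep_mono (sep_one_of_notMem ⊥ this) (Set.empty_subset _)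
    have := sep_mul (sep_pad hu n) h1
    rwa [Set.union_empty] at this

/-- if `s ∉ span {u}` and `u ≠ 0`, then `u ∉ span {s}`. -/
theorem notMem_span_singleton_symm {u s : ι → k} (hu : u ≠ 0)
    (hs : s ∉ Submodule.span k {u}) : u ∉ Submodule.span k {s} := by
  intro h
  obtain ⟨a, ha⟩ := Submodule.mem_span_singleton.1 h
  have ha0 : a ≠ 0 := by
    rintro rfl
    rw [zero_smul] at ha
    exact hu ha.symm
  apply hs
  rw [Submodule.mem_span_singleton]
  refine ⟨a⁻¹, ?_⟩
  rw [← ha, smul_smul, inv_mul_cancel₀ ha0, one_smul]

/-- singletons: at most `n` vectors, none proportional to `u`. -/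
theorem sep_of_card_le {u : ι → k} (hu : u ≠ 0) (S : Finset (ι → k)) :
    ∀ n : ℕ, S.card ≤ n → (∀ s ∈ S, s ∉ Submodule.span k {u}) → Sep n u (S : Set (ι → k)) := by
  induction S using Finset.induction_on with
  | empty =>
    intro n _ _
    rw [Finset.coe_empty]
    exact sep_pad hu n
  | insert s S' hs ih =>
    intro n hn h1
    rw [Finset.card_insert_of_notMem hs] at hn
    obtain ⟨m, rfl⟩ : ∃ m, n = m + 1 := ⟨n - 1, by omega⟩
    have ih' := ih m (by omega) (fun t ht => h1 t (Finset.mem_insert_of_mem ht))
    have hus : u ∉ Submodule.span k {s} :=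
      notMem_span_singleton_symm hu (h1 s (Finset.mem_insert_self _ _))
    have h2 := sep_one_of_notMem _ hus
    refine sep_mono (sep_mul ih' h2) ?_
    intro t ht
    rw [Finset.coe_insert] at ht
    rcases ht with rfl | ht
    · right; exact Submodule.subset_span rfl
    · left; exact ht

/-- the line through `u` and `s`. -/
def L (u s : ι → k) : Submodule k (ι → k) := Submodule.span k {u, s}

theorem mem_L_self (u s : ι → k) : s ∈ L u s := Submodule.subset_span (by simp)
theorem u_mem_L (u s : ι → k) : u ∈ L u s := Submodule.subset_span (by simp)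

/-- if `a, b` are not proportional to `u` and `u ∈ span {a, b}`, then the lines agree. -/
theorem L_eq_of_mem_span {u a b : ι → k} (hu : u ≠ 0) (ha : a ∉ Submodule.span k {u})
    (hb : b ∉ Submodule.span k {u}) (h : u ∈ Submodule.span k {a, b}) : L u b = L u a := by
  obtain ⟨α, β, hab⟩ := Submodule.mem_span_pair.1 h
  have hβ : β ≠ 0 := by
    rintro rfl
    rw [zero_smul, add_zero] at hab
    have : u ∈ Submodule.span k {a} := Submodule.mem_span_singleton.2 ⟨α, hab⟩
    exact notMem_span_singleton_symm hu ha this
  have hα : α ≠ 0 := by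
    rintro rfl
    rw [zero_smul, zero_add] at hab
    have : u ∈ Submodule.span k {b} := Submodule.mem_span_singleton.2 ⟨β, hab⟩
    exact notMem_span_singleton_symm hu hb this
  have hb' : b = β⁻¹ • u - (β⁻¹ * α) • a := by
    rw [← hab, smul_add, smul_smul, smul_smul, inv_mul_cancel₀ hβ, one_smul]
    abel
  have ha' : a = α⁻¹ • u - (α⁻¹ * β) • b := by
    rw [← hab, smul_add, smul_smul, smul_smul, inv_mul_cancel₀ hα, one_smul]
    abel
  apply le_antisymm
  · unfold L
    rw [Submodule.span_le]
    rintro x (rfl | rfl)
    · exact u_mem_L _ _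
    · rw [hb']
      exact Submodule.sub_mem _ (Submodule.smul_mem _ _ (u_mem_L _ _))
        (Submodule.smul_mem _ _ (mem_L_self _ _))
  · unfold L
    rw [Submodule.span_le]
    rintro x (rfl | rfl)
    · exact u_mem_L _ _
    · rw [ha']
      exact Submodule.sub_mem _ (Submodule.smul_mem _ _ (u_mem_L _ _))
        (Submodule.smul_mem _ _ (mem_L_self _ _))

/-- pairing lemma. -/
theorem sep_of_classes {u : ι → k} (hu : u ≠ 0) :
    ∀ (n : ℕ) (S : Finset (ι → k)), S.card ≤ 2 * n → (∀ s ∈ S, s ∉ Submodule.span k {u}) →
      (∀ s ∈ S, (S.filter (fun s' => L u s' = L u s)).card ≤ n) → Sep n u (S : Set (ι → k)) := by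
  intro n
  induction n with
  | zero =>
    intro S hS _ _
    have : S = ∅ := Finset.card_eq_zero.1 (by omega)
    rw [this, Finset.coe_empty]
    exact sep_zero u
  | succ n ih =>
    intro S hS h1 hcls
    by_cases hSn : S.card ≤ n + 1
    · exact sep_of_card_le hu S (n + 1) hSn h1
    push Not at hSn
    have hne : S.Nonempty := Finset.card_pos.1 (by omega)
    obtain ⟨a, haS, hamax⟩ := Finset.exists_max_image S
      (fun s => (S.filter (fun s' => L u s' = L u s)).card) hne
    have hS1card : (S.filter (fun s' => ¬ L u s' = L u a)).card ≠ 0 := by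
      have h := Finset.card_filter_add_card_filter_not (s := S) (fun s' => L u s' = L u a)
      have := hcls a haS
      omega
    have hne1 : (S.filter (fun s' => ¬ L u s' = L u a)).Nonempty :=
      Finset.card_pos.1 (Nat.pos_of_ne_zero hS1card)
    obtain ⟨b, hbS1, hbmax⟩ := Finset.exists_max_image (S.filter (fun s' => ¬ L u s' = L u a))
      (fun s => (S.filter (fun s' => L u s' = L u s)).card) hne1
    have hbS : b ∈ S := (Finset.mem_filter.1 hbS1).1
    have hLab : ¬ L u b = L u a := (Finset.mem_filter.1 hbS1).2
    have hab : a ≠ b := by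
      rintro rfl
      exact hLab rfl
    have hunot : u ∉ Submodule.span k {a, b} := fun h =>
      hLab (L_eq_of_mem_span hu (h1 a haS) (h1 b hbS) h)
    have hsep1 := sep_one_of_notMem _ hunot
    have hcard' : ((S.erase a).erase b).card ≤ 2 * n := by
      rw [Finset.card_erase_of_mem (Finset.mem_erase.2 ⟨hab.symm, hbS⟩),
        Finset.card_erase_of_mem haS]
      omega
    have hsub : (S.erase a).erase b ⊆ S :=
      (Finset.erase_subset _ _).trans (Finset.erase_subset _ _)
    have h1' : ∀ s ∈ (S.erase a).erase b, s ∉ Submodule.span k {u} := fun s hs => h1 s (hsub hs)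
    have hcls' : ∀ s ∈ (S.erase a).erase b,
        (((S.erase a).erase b).filter (fun s' => L u s' = L u s)).card ≤ n := by
      intro s hs
      have hsS := hsub hs
      by_cases hsa : L u s = L u a
      · -- class of a, with a removed
        have hsubset : ((S.erase a).erase b).filter (fun s' => L u s' = L u s) ⊆
            (S.filter (fun s' => L u s' = L u a)).erase a := by
          intro t ht
          rw [Finset.mem_filter] at ht
          rw [Finset.mem_erase, Finset.mem_filter]
          have ht1 := Finset.mem_erase.1 ht.1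
          have ht2 := Finset.mem_erase.1 ht1.2
          exact ⟨ht2.1, ht2.2, ht.2.trans hsa⟩
        have h2 := Finset.card_le_card hsubset
        have hmem : a ∈ S.filter (fun s' => L u s' = L u a) := Finset.mem_filter.2 ⟨haS, rfl⟩
        rw [Finset.card_erase_of_mem hmem] at h2
        have := hcls a haS
        omega
      by_cases hsb : L u s = L u b
      · have hsubset : ((S.erase a).erase b).filter (fun s' => L u s' = L u s) ⊆
            (S.filter (fun s' => L u s' = L u b)).erase b := by
          intro t ht
          rw [Finset.mem_filter] at ht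
          rw [Finset.mem_erase, Finset.mem_filter]
          have ht1 := Finset.mem_erase.1 ht.1
          have ht2 := Finset.mem_erase.1 ht1.2
          exact ⟨ht1.1, ht2.2, ht.2.trans hsb⟩
        have h2 := Finset.card_le_card hsubset
        have hmem : b ∈ S.filter (fun s' => L u s' = L u b) := Finset.mem_filter.2 ⟨hbS, rfl⟩
        rw [Finset.card_erase_of_mem hmem] at h2
        have := hcls b hbS
        omega
      · -- a third class
        have hsubset : ((S.erase a).erase b).filter (fun s' => L u s' = L u s) ⊆
            S.filter (fun s' => L u s' = L u s) :=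
          Finset.filter_subset_filter _ hsub
        have h2 := Finset.card_le_card hsubset
        have h3 : (S.filter (fun s' => L u s' = L u s)).card ≤
            (S.filter (fun s' => L u s' = L u b)).card :=
          hbmax s (Finset.mem_filter.2 ⟨hsS, hsa⟩)
        have h4 : (S.filter (fun s' => L u s' = L u b)).card ≤
            (S.filter (fun s' => L u s' = L u a)).card := hamax b hbS
        have hd1 : Disjoint (S.filter (fun s' => L u s' = L u a))
            (S.filter (fun s' => L u s' = L u b)) := by
          rw [Finset.disjoint_left]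
          intro t ht1 ht2
          exact hLab ((Finset.mem_filter.1 ht2).2.symm.trans (Finset.mem_filter.1 ht1).2)
        have hd2 : Disjoint (S.filter (fun s' => L u s' = L u a) ∪
            S.filter (fun s' => L u s' = L u b)) (S.filter (fun s' => L u s' = L u s)) := by
          rw [Finset.disjoint_left]
          intro t ht1 ht2
          rcases Finset.mem_union.1 ht1 with h | h
          · exact hsa ((Finset.mem_filter.1 ht2).2.symm.trans (Finset.mem_filter.1 h).2)
          · exact hsb ((Finset.mem_filter.1 ht2).2.symm.trans (Finset.mem_filter.1 h).2)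
        have h5 : ((S.filter (fun s' => L u s' = L u a) ∪
            S.filter (fun s' => L u s' = L u b)) ∪ S.filter (fun s' => L u s' = L u s)).card ≤
            S.card := by
          apply Finset.card_le_card
          intro t ht
          rcases Finset.mem_union.1 ht with h | h
          · rcases Finset.mem_union.1 h with h | h
            · exact (Finset.mem_filter.1 h).1
            · exact (Finset.mem_filter.1 h).1
          · exact (Finset.mem_filter.1 h).1
        rw [Finset.card_union_of_disjoint hd2, Finset.card_union_of_disjoint hd1] at h5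
        omega
    have hIH := ih ((S.erase a).erase b) hcard' h1' hcls'
    refine sep_mono (sep_mul hIH hsep1) ?_
    intro t ht
    by_cases hta : t = a
    · right; rw [hta]; exact Submodule.subset_span (by simp)
    by_cases htb : t = b
    · right; rw [htb]; exact Submodule.subset_span (by simp)
    · left
      exact Finset.mem_coe.2 (Finset.mem_erase.2 ⟨htb, Finset.mem_erase.2 ⟨hta, ht⟩⟩)

end Groth.Agent.H77.CBVec
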