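import Mathlib
import Groth.Prelude.Def_Wider
import Groth.Agent.H55.CE.Defs

/-!
# (C1) for helper55 / S17775: the inductive step on the Čech side (helper77)

`(M_{t'} / Sp)_b / im(M_{t'}/Sp) ≃ M_t / Σ` for `t = t' * b`.
-/

set_option autoImplicit false
universe u
open Groth.Agent.H55.CE

namespace Groth.Agent.H77.CE_C1

/-- An element acting invertibly on a module acts invertibly on any localization of it. -/
theorem isUnit_algebraMap_end_of_isLocalizedModule {R : Type*} [CommRing R] (S : Submonoid R)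
    {A B : Type*} [AddCommGroup A] [Module R A] [AddCommGroup B] [Module R B]
    (f : A →ₗ[R] B) [IsLocalizedModule S f] (r : R)
    (h : IsUnit (algebraMap R (Module.End R A) r)) : IsUnit (algebraMap R (Module.End R B) r) := by
  obtain ⟨v, h1, -⟩ := isUnit_iff_exists.1 h
  have hv : ∀ a, r • v a = a := fun a => by
    have := congrArg (fun φ : Module.End R A => φ a) h1
    simpa [Module.algebraMap_end_apply] using this
  have key : ∀ y : B, r • IsLocalizedModule.map S f f v y = y := by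
    intro y
    obtain ⟨⟨a, s⟩, rfl⟩ := IsLocalizedModule.mk'_surjective S f y
    simp only [Function.uncurry_apply_pair, IsLocalizedModule.map_mk']
    rw [← IsLocalizedModule.mk'_smul, hv]
  refine isUnit_iff_exists.2 ⟨IsLocalizedModule.map S f f v, ?_, ?_⟩
  · ext y
    simpa [Module.algebraMap_end_apply] using key y
  · ext y
    simp [Module.algebraMap_end_apply, key y]

section Main

variable {R : Type u} [CommRing R] (t' b t : R) (M : Type u) [AddCommGroup M] [Module R M]

local notation "Mp" => LocalizedModule (Submonoid.powers t') M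
local notation "PP" => LocalizedModule (Submonoid.powers b) (LocalizedModule (Submonoid.powers t') M)
local notation "Mt" => LocalizedModule (Submonoid.powers t) M
local notation "f₁" => LocalizedModule.mkLinearMap (Submonoid.powers t') M
local notation "f₂" => LocalizedModule.mkLinearMap (Submonoid.powers b)
  (LocalizedModule (Submonoid.powers t') M)

/-- the composite `M → M_{t'} → (M_{t'})_b` -/
noncomputable def gg : M →ₗ[R] PP := f₂ ∘ₗ f₁

theorem isLoc_gg (ht : t = t' * b) : IsLocalizedModule (Submonoid.powers t) (gg t' b M) := by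
  have hb : IsUnit (algebraMap R (Module.End R PP) b) :=
    IsLocalizedModule.map_units f₂ ⟨b, Submonoid.mem_powers b⟩
  have ht'0 : IsUnit (algebraMap R (Module.End R Mp) t') :=
    IsLocalizedModule.map_units f₁ ⟨t', Submonoid.mem_powers t'⟩
  have ht' : IsUnit (algebraMap R (Module.End R PP) t') :=
    isUnit_algebraMap_end_of_isLocalizedModule (Submonoid.powers b) f₂ t' ht'0
  have h1 : IsUnit (algebraMap R (Module.End R PP) t) := by
    rw [ht, map_mul]; exact ht'.mul hb
  refine IsLocalizedModule.Away.mk_of_addCommGroup h1 ?_ ?_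
  · intro p
    obtain ⟨c, y, hy⟩ := IsLocalizedModule.Away.surj f₂ b p
    obtain ⟨a, m, hm⟩ := IsLocalizedModule.Away.surj f₁ t' y
    refine ⟨a + c, (t' ^ c * b ^ a) • m, ?_⟩
    have e1 : t ^ (a + c) • p = (t' ^ c * b ^ a) • (t' ^ a • (b ^ c • p)) := by
      rw [smul_smul, smul_smul, ht]; congr 1; ring
    rw [e1, hy, ← map_smul, hm, ← map_smul, ← map_smul]
    rfl
  · intro m hm
    have hm' : f₂ (f₁ m) = f₂ 0 := by rw [map_zero]; exact hm
    obtain ⟨c, hc⟩ := IsLocalizedModule.Away.exists_of_eq b hm'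
    have hc' : f₁ (b ^ c • m) = f₁ 0 := by rw [map_smul, hc, smul_zero, map_zero]
    obtain ⟨a, ha⟩ := IsLocalizedModule.Away.exists_of_eq t' hc'
    refine ⟨a + c, ?_⟩
    have e1 : t ^ (a + c) • m = (t' ^ c * b ^ a) • (t' ^ a • (b ^ c • m)) := by
      rw [smul_smul, smul_smul, ht]; congr 1; ring
    rw [e1, ha, smul_zero, smul_zero]

/-- `M_t ≃ (M_{t'})_b` -/
noncomputable def eps (ht : t = t' * b) : Mt ≃ₗ[R] PP :=
  haveI := isLoc_gg t' b t M ht
  IsLocalizedModule.iso (Submonoid.powers t) (gg t' b M)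

theorem H_aux (a c : ℕ) (r : R) (m₀ : M) :
    (t' ^ a * b ^ c * r) • IsLocalizedModule.mk' f₂
      (LocalizedModule.mk m₀ (⟨t' ^ a, a, rfl⟩ : Submonoid.powers t') : Mp)
      (⟨b ^ c, c, rfl⟩ : Submonoid.powers b) = gg t' b M (r • m₀) := by
  have h1 : b ^ c • IsLocalizedModule.mk' f₂
      (LocalizedModule.mk m₀ (⟨t' ^ a, a, rfl⟩ : Submonoid.powers t') : Mp)
      (⟨b ^ c, c, rfl⟩ : Submonoid.powers b) =
      f₂ (LocalizedModule.mk m₀ (⟨t' ^ a, a, rfl⟩ : Submonoid.powers t') : Mp) :=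
    IsLocalizedModule.mk'_cancel' f₂ _ (⟨b ^ c, c, rfl⟩ : Submonoid.powers b)
  have h2 : t' ^ a • (LocalizedModule.mk m₀ (⟨t' ^ a, a, rfl⟩ : Submonoid.powers t') : Mp) =
      f₁ m₀ := by
    rw [LocalizedModule.smul'_mk, LocalizedModule.mkLinearMap_apply]
    exact LocalizedModule.mk_cancel (⟨t' ^ a, a, rfl⟩ : Submonoid.powers t') m₀
  have e1 : ∀ p : PP, (t' ^ a * b ^ c * r) • p = r • (t' ^ a • (b ^ c • p)) := by
    intro p
    rw [smul_smul, smul_smul]; congr 1; ring
  rw [e1, h1, ← map_smul, h2, ← map_smul, ← map_smul]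
  rfl

theorem eps_symm_apply (ht : t = t' * b) (a c : ℕ) (r : R) (m₀ : M) (n : ℕ)
    (hn : t ^ n = t' ^ a * b ^ c * r) :
    (eps t' b t M ht).symm (IsLocalizedModule.mk' f₂
      (LocalizedModule.mk m₀ (⟨t' ^ a, a, rfl⟩ : Submonoid.powers t') : Mp)
      (⟨b ^ c, c, rfl⟩ : Submonoid.powers b)) =
    LocalizedModule.mk (r • m₀) (⟨t ^ n, n, rfl⟩ : Submonoid.powers t) := by
  have := isLoc_gg t' b t M ht
  have key := H_aux t' b M a c r m₀
  rw [← hn] at key
  exact IsLocalizedModule.iso_symm_apply' _ _ _ _ _ key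

/-- the map `(M_{t'})_b → (M_{t'}/Sp)_b` -/
noncomputable def qq (Sp : Submodule R Mp) :
    PP →ₗ[R] LocalizedModule (Submonoid.powers b) (Mp ⧸ Sp) :=
  IsLocalizedModule.map (Submonoid.powers b) f₂
    (LocalizedModule.mkLinearMap (Submonoid.powers b) (Mp ⧸ Sp)) Sp.mkQ

theorem qq_mk' (Sp : Submodule R Mp) (y : Mp) (s : Submonoid.powers b) :
    qq t' b M Sp (IsLocalizedModule.mk' f₂ y s) =
      IsLocalizedModule.mk' (LocalizedModule.mkLinearMap (Submonoid.powers b) (Mp ⧸ Sp))
        (Sp.mkQ y) s :=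
  IsLocalizedModule.map_mk' _ _ _ _ _ _

theorem qq_apply (Sp : Submodule R Mp) (y : Mp) :
    qq t' b M Sp (f₂ y) =
      LocalizedModule.mkLinearMap (Submonoid.powers b) (Mp ⧸ Sp) (Sp.mkQ y) :=
  IsLocalizedModule.map_apply _ _ _ _ _

theorem qq_surjective (Sp : Submodule R Mp) : Function.Surjective (qq t' b M Sp) :=
  IsLocalizedModule.map_surjective _ _ _ _ (Submodule.mkQ_surjective _)

/-- the map `(M_{t'})_b → locCoker b (M_{t'}/Sp)` -/
noncomputable def FF (Sp : Submodule R Mp) :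
    PP →ₗ[R] (LocalizedModule (Submonoid.powers b) (Mp ⧸ Sp) ⧸
      LinearMap.range (LocalizedModule.mkLinearMap (Submonoid.powers b) (Mp ⧸ Sp))) :=
  (LinearMap.range (LocalizedModule.mkLinearMap (Submonoid.powers b) (Mp ⧸ Sp))).mkQ ∘ₗ
    qq t' b M Sp

theorem FF_surjective (Sp : Submodule R Mp) : Function.Surjective (FF t' b M Sp) :=
  (Submodule.mkQ_surjective _).comp (qq_surjective t' b M Sp)

theorem FF_apply_f₂ (Sp : Submodule R Mp) (y : Mp) : FF t' b M Sp (f₂ y) = 0 := by
  change (LinearMap.range (LocalizedModule.mkLinearMap (Submonoid.powers b) (Mp ⧸ Sp))).mkQ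
    (qq t' b M Sp (f₂ y)) = 0
  rw [qq_apply, Submodule.mkQ_apply, Submodule.Quotient.mk_eq_zero]
  exact ⟨_, rfl⟩

theorem FF_apply_mem (Sp : Submodule R Mp) (σ : Mp) (hσ : σ ∈ Sp) (s : Submonoid.powers b) :
    FF t' b M Sp (IsLocalizedModule.mk' f₂ σ s) = 0 := by
  change (LinearMap.range (LocalizedModule.mkLinearMap (Submonoid.powers b) (Mp ⧸ Sp))).mkQ
    (qq t' b M Sp (IsLocalizedModule.mk' f₂ σ s)) = 0
  have h0 : Sp.mkQ σ = 0 := by
    rw [Submodule.mkQ_apply, Submodule.Quotient.mk_eq_zero]; exact hσ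
  rw [qq_mk', h0, IsLocalizedModule.mk'_zero, map_zero]

theorem FF_ker (Sp : Submodule R Mp) (p : PP) (hp : FF t' b M Sp p = 0) :
    ∃ (y₀ σ : Mp) (s : Submonoid.powers b), σ ∈ Sp ∧
      p = f₂ y₀ - IsLocalizedModule.mk' f₂ σ s := by
  obtain ⟨⟨y, s⟩, rfl⟩ := IsLocalizedModule.mk'_surjective (Submonoid.powers b) f₂ p
  simp only [Function.uncurry_apply_pair] at hp ⊢
  have h1 : qq t' b M Sp (IsLocalizedModule.mk' f₂ y s) ∈
      LinearMap.range (LocalizedModule.mkLinearMap (Submonoid.powers b) (Mp ⧸ Sp)) := by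
    have : (LinearMap.range (LocalizedModule.mkLinearMap (Submonoid.powers b) (Mp ⧸ Sp))).mkQ
      (qq t' b M Sp (IsLocalizedModule.mk' f₂ y s)) = 0 := hp
    rwa [Submodule.mkQ_apply, Submodule.Quotient.mk_eq_zero] at this
  rw [qq_mk'] at h1
  obtain ⟨n₀, hn₀⟩ := h1
  obtain ⟨y₀, rfl⟩ := Submodule.mkQ_surjective Sp n₀
  have h2 : LocalizedModule.mkLinearMap (Submonoid.powers b) (Mp ⧸ Sp) (Sp.mkQ y) =
      LocalizedModule.mkLinearMap (Submonoid.powers b) (Mp ⧸ Sp) (s • Sp.mkQ y₀) := by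
    have := (IsLocalizedModule.mk'_eq_iff (f := LocalizedModule.mkLinearMap (Submonoid.powers b)
      (Mp ⧸ Sp))).1 hn₀.symm
    rw [this, Submonoid.smul_def, Submonoid.smul_def, map_smul]
  obtain ⟨u, hu⟩ := (IsLocalizedModule.eq_iff_exists (Submonoid.powers b)
    (LocalizedModule.mkLinearMap (Submonoid.powers b) (Mp ⧸ Sp))).1 h2
  refine ⟨y₀, (u * s) • y₀ - u • y, u * s, ?_, ?_⟩
  · rw [← Submodule.Quotient.mk_eq_zero, ← Submodule.mkQ_apply, map_sub]
    rw [sub_eq_zero]
    have e1 : Sp.mkQ ((u * s) • y₀) = u • s • Sp.mkQ y₀ := by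
      rw [mul_smul]
      simp only [Submonoid.smul_def, map_smul]
    have e2 : Sp.mkQ (u • y) = u • Sp.mkQ y := by
      simp only [Submonoid.smul_def, map_smul]
    rw [e1, e2, hu]
  · have e1 : IsLocalizedModule.mk' f₂ y s = IsLocalizedModule.mk' f₂ (u • y) (u * s) :=
      (IsLocalizedModule.mk'_cancel_left f₂ y u s).symm
    have e2 : f₂ y₀ = IsLocalizedModule.mk' f₂ ((u * s) • y₀) (u * s) :=
      (IsLocalizedModule.mk'_cancel f₂ y₀ (u * s)).symm
    rw [e1, e2, ← IsLocalizedModule.mk'_sub]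
    congr 1
    abel

theorem G (ht : t = t' * b) {I : Type*} (xi ci : I → R) (hxc : ∀ i, t' = xi i * ci i)
    (Sp : Submodule R Mp)
    (hSp : Sp = Submodule.span R {y | ∃ (i : I) (n : ℕ) (m : M),
      y = LocalizedModule.mk (xi i ^ n • m) (⟨t' ^ n, n, rfl⟩ : Submonoid.powers t')})
    (St : Submodule R Mt)
    (hSt : St = Submodule.span R ({y | ∃ (i : I) (n : ℕ) (m : M),
        y = LocalizedModule.mk (xi i ^ n • m) (⟨t ^ n, n, rfl⟩ : Submonoid.powers t)} ∪
      {y | ∃ (n : ℕ) (m : M),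
        y = LocalizedModule.mk (b ^ n • m) (⟨t ^ n, n, rfl⟩ : Submonoid.powers t)})) :
    Nonempty ((LocalizedModule (Submonoid.powers b) (Mp ⧸ Sp) ⧸
      LinearMap.range (LocalizedModule.mkLinearMap (Submonoid.powers b) (Mp ⧸ Sp))) ≃ₗ[R]
        (Mt ⧸ St)) := by
  have hone : (⟨b ^ 0, 0, rfl⟩ : Submonoid.powers b) = 1 := Subtype.ext (pow_zero b)
  -- (iia)
  have hA : ∀ y₀ : Mp, (eps t' b t M ht).symm (f₂ y₀) ∈ St := by
    intro y₀
    induction y₀ using LocalizedModule.induction_on with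
    | h m s =>
      obtain ⟨_, n, rfl⟩ := s
      have e := eps_symm_apply t' b t M ht n 0 (b ^ n) m n (by rw [ht]; ring)
      rw [hone, IsLocalizedModule.mk'_one] at e
      rw [e, hSt]
      exact Submodule.subset_span (Or.inr ⟨n, m, rfl⟩)
  -- (iib)
  have hB : ∀ σ ∈ Sp, ∀ s : Submonoid.powers b,
      (eps t' b t M ht).symm (IsLocalizedModule.mk' f₂ σ s) ∈ St := by
    intro σ hσ s
    obtain ⟨_, k, rfl⟩ := s
    rw [hSp] at hσ
    induction hσ using Submodule.span_induction with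
    | mem σ hσ =>
      obtain ⟨i, n, m, rfl⟩ := hσ
      have e := eps_symm_apply t' b t M ht n k (t' ^ k * b ^ n) (xi i ^ n • m) (n + k)
        (by rw [ht]; ring)
      have e3 : (t' ^ k * b ^ n) * xi i ^ n = xi i ^ (n + k) * (ci i ^ k * b ^ n) := by
        rw [hxc i]; ring
      have e2 : (t' ^ k * b ^ n) • (xi i ^ n • m) = xi i ^ (n + k) • ((ci i ^ k * b ^ n) • m) := by
        rw [smul_smul, smul_smul, e3]
      rw [e, e2, hSt]
      exact Submodule.subset_span (Or.inl ⟨i, n + k, _, rfl⟩)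
    | zero =>
      rw [IsLocalizedModule.mk'_zero, map_zero]; exact St.zero_mem
    | add σ₁ σ₂ _ _ h₁ h₂ =>
      rw [IsLocalizedModule.mk'_add, map_add]; exact St.add_mem h₁ h₂
    | smul r σ _ h =>
      rw [IsLocalizedModule.mk'_smul, map_smul]; exact St.smul_mem r h
  -- the map Θ
  let Θ := (FF t' b M Sp).comp (eps t' b t M ht).toLinearMap
  have hsurj : Function.Surjective Θ :=
    (FF_surjective t' b M Sp).comp (eps t' b t M ht).surjective
  have hker : LinearMap.ker Θ = St := by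
    apply le_antisymm
    · intro z hz
      have hz' : FF t' b M Sp ((eps t' b t M ht) z) = 0 := hz
      obtain ⟨y₀, σ, s, hσ, hp⟩ := FF_ker t' b M Sp _ hz'
      have : z = (eps t' b t M ht).symm (f₂ y₀) -
          (eps t' b t M ht).symm (IsLocalizedModule.mk' f₂ σ s) := by
        rw [← map_sub, ← hp, LinearEquiv.symm_apply_apply]
      rw [this]
      exact St.sub_mem (hA y₀) (hB σ hσ s)
    · rw [hSt, Submodule.span_le]
      rintro z (⟨i, n, m, rfl⟩ | ⟨n, m, rfl⟩)
      · have e := eps_symm_apply t' b t M ht n n 1 (xi i ^ n • m) n (by rw [ht]; ring)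
        rw [one_smul] at e
        change FF t' b M Sp ((eps t' b t M ht) _) = 0
        rw [← e, LinearEquiv.apply_symm_apply]
        apply FF_apply_mem
        rw [hSp]
        exact Submodule.subset_span ⟨i, n, m, rfl⟩
      · have e := eps_symm_apply t' b t M ht n 0 (b ^ n) m n (by rw [ht]; ring)
        change FF t' b M Sp ((eps t' b t M ht) _) = 0
        rw [← e, LinearEquiv.apply_symm_apply, hone, IsLocalizedModule.mk'_one]
        exact FF_apply_f₂ t' b M Sp _
  exact ⟨(LinearMap.quotKerEquivOfSurjective Θ hsurj).symm.trans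
    (Submodule.quotEquivOfEq _ _ hker)⟩

end Main

/-- (C1) the inductive step on the Čech side (pure algebra of localizations). -/
theorem C1 (R : Type u) [CommRing R] (d : ℕ) (x : Fin (d + 1) → R) (M : Type u)
    [AddCommGroup M] [Module R M] :
    Nonempty (locCoker (x (Fin.last d)) (cechTop (fun i : Fin d => x i.castSucc) M) ≃ₗ[R]
      cechTop x M) := by
  refine G (∏ i : Fin d, x i.castSucc) (x (Fin.last d)) (∏ i, x i) M
    (Fin.prod_univ_castSucc x) (fun i : Fin d => x i.castSucc)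
    (fun i : Fin d => ∏ j ∈ Finset.univ.erase i, x j.castSucc)
    (fun i => (Finset.mul_prod_erase Finset.univ (fun i : Fin d => x i.castSucc)
      (Finset.mem_univ i)).symm)
    (cechSub (fun i : Fin d => x i.castSucc) M) rfl (cechSub x M) ?_
  unfold cechSub
  congr 1
  ext y
  constructor
  · rintro ⟨i, n, m, rfl⟩
    induction i using Fin.lastCases with
    | last => exact Or.inr ⟨n, m, rfl⟩
    | cast i => exact Or.inl ⟨i, n, m, rfl⟩
  · rintro (⟨i, n, m, rfl⟩ | ⟨n, m, rfl⟩)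
    · exact ⟨i.castSucc, n, m, rfl⟩
    · exact ⟨Fin.last d, n, m, rfl⟩

end Groth.Agent.H77.CE_C1
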