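import Mathlib

/-!
# Explicit resolutions of the overlap ambiguities for the genus one curve relations
(abstract commutative ring identities; found by a mechanical reduction).
-/

set_option autoImplicit false

namespace Groth.Agent.H77.CurveCores

variable {B : Type*} [CommRing B]

/-- tail of `x2 * y` -/
def tAf (x2 x3 y c cy cby : B) : B := x2 * x3 + cy * y + cby * x2 - c
/-- tail of `x3 * y` -/
def tBf (x2 x3 y a c cb cy cby : B) : B := x2 * x3 + (a + cy + cby) * (y - cby) + cb - c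
/-- tail of `y * z` -/
def tCf (x2 x3 y z c cyz czy : B) : B := x2 * x3 + cyz * z + czy * y - c
/-- tail of `x2 * x3 ^ 2` -/
def tDf (x2 x3 a c cb d : B) : B := x2 ^ 2 * x3 + a * (x2 * x3) + (cb - c) * x2 + c * x3 + d

lemma tCf_symm (x2 x3 y z c cyz czy : B) : tCf x2 x3 y z c cyz czy = tCf x2 x3 z y c czy cyz := by
  simp only [tCf]; ring

/-- the constant of the cubic relation derived from the index `i` -/
def dcf (a c cb ci cbi : B) : B := (a + ci + cbi) * (ci * cbi - c) - ci * (cb - c)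

lemma dcf_eq (a c cb ci cbi cj cbj cij cji : B)
    (hL : cij + cji - (a + ci + cbi + cj + cbj) = 0)
    (hQ : cji * cj + cij * ci - ci * cj - c = 0)
    (hQb : cji * cbi + cij * cbj - cbi * cbj - cb = 0) :
    dcf a c cb ci cbi = dcf a c cb cj cbj := by
  simp only [dcf]
  linear_combination (-(cbj - cbi)) * hQ + (-(cj - ci)) * hQb + (cj * cbj - ci * cbi) * hL

/-- the derived cubic relation lies in the ideal -/
lemma gD_eq (x2 x3 xi a c cb ci cbi : B) :
    x2 * x3 ^ 2 - tDf x2 x3 a c cb (dcf a c cb ci cbi)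
      = (x2 - ci) * (x3 * xi - tBf x2 x3 xi a c cb ci cbi)
        + ((a + ci + cbi) - x3) * (x2 * xi - tAf x2 x3 xi c ci cbi) := by
  simp only [tAf, tBf, tDf, dcf]; ring

theorem core2 (x2 x3 xi a c cb ci cbi d : B) (hd : d = dcf a c cb ci cbi) :
    x3 * tAf x2 x3 xi c ci cbi - x2 * tBf x2 x3 xi a c cb ci cbi
      = (-a - cbi - ci) * (x2 * xi - tAf x2 x3 xi c ci cbi)
      + (ci) * (x3 * xi - tBf x2 x3 xi a c cb ci cbi)
      + (x2 * x3 ^ 2 - tDf x2 x3 a c cb d) := by
  subst hd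
  simp only [tAf, tBf, tDf, dcf]; ring

theorem core3 (x2 x3 xi xj a c cb ci cbi cj cbj cij cji d : B)
    (hL : cij + cji - (a + ci + cbi + cj + cbj) = 0)
    (hQ : cji * cj + cij * ci - ci * cj - c = 0)
    (hQb : cji * cbi + cij * cbj - cbi * cbj - cb = 0)
    (hd : d = dcf a c cb cj cbj) :
    xj * tAf x2 x3 xi c ci cbi - x2 * tCf x2 x3 xi xj c cij cji
      = (-cji) * (x2 * xi - tAf x2 x3 xi c ci cbi)
      + (cbi - cij + x3) * (x2 * xj - tAf x2 x3 xj c cj cbj)
      + (cj) * (x3 * xj - tBf x2 x3 xj a c cb cj cbj)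
      + (ci) * (xi * xj - tCf x2 x3 xi xj c cij cji)
      + (x2 * x3 ^ 2 - tDf x2 x3 a c cb d) := by
  have hcji : cji = a + ci + cbi + cj + cbj - cij := by linear_combination hL
  have hc : c = cji * cj + cij * ci - ci * cj := by linear_combination -hQ
  have hcb : cb = cji * cbi + cij * cbj - cbi * cbj := by linear_combination -hQb
  subst hd
  subst hcb
  subst hc
  subst hcji
  simp only [tAf, tBf, tCf, tDf, dcf]; ring

theorem core4 (x2 x3 xi a c cb ci cbi d : B) (hd : d = dcf a c cb ci cbi) :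
    x3 ^ 2 * tAf x2 x3 xi c ci cbi - xi * tDf x2 x3 a c cb d
      = (c - cb - x2 * x3 - a * x3 - ci * x3) * (x2 * xi - tAf x2 x3 xi c ci cbi)
      + (-c + cbi * ci + ci * x3) * (x3 * xi - tBf x2 x3 xi a c cb ci cbi)
      + (cbi + x3) * (x2 * x3 ^ 2 - tDf x2 x3 a c cb d) := by
  subst hd
  simp only [tAf, tBf, tDf, dcf]; ring

theorem core6 (x2 x3 xi xj a c cb ci cbi cj cbj cij cji : B)
    (hL : cij + cji - (a + ci + cbi + cj + cbj) = 0)
    (hQ : cji * cj + cij * ci - ci * cj - c = 0)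
    (hQb : cji * cbi + cij * cbj - cbi * cbj - cb = 0) :
    xj * tBf x2 x3 xi a c cb ci cbi - x3 * tCf x2 x3 xi xj c cij cji
      = (x3) * (x2 * xj - tAf x2 x3 xj c cj cbj)
      + (-cji) * (x3 * xi - tBf x2 x3 xi a c cb ci cbi)
      + (-cij + cj) * (x3 * xj - tBf x2 x3 xj a c cb cj cbj)
      + (a + cbi + ci) * (xi * xj - tCf x2 x3 xi xj c cij cji) := by
  have hcji : cji = a + ci + cbi + cj + cbj - cij := by linear_combination hL
  have hc : c = cji * cj + cij * ci - ci * cj := by linear_combination -hQ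
  have hcb : cb = cji * cbi + cij * cbj - cbi * cbj := by linear_combination -hQb
  subst hcb
  subst hc
  subst hcji
  simp only [tAf, tBf, tCf]; ring

theorem core8 (x2 x3 xi xj xk a c cb ci cbi cj cbj ck cbk cij cji cik cki cjk ckj : B)
    (hLij : cij + cji - (a + ci + cbi + cj + cbj) = 0)
    (hLjk : cjk + ckj - (a + cj + cbj + ck + cbk) = 0)
    (hLik : cik + cki - (a + ci + cbi + ck + cbk) = 0)
    (hQik : cki * ck + cik * ci - ci * ck - c = 0)
    (hQbik : cki * cbi + cik * cbk - cbi * cbk - cb = 0)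
    (hT1 : cij * cjk + cji * cik - cik * cjk + (a + ck + cbk) * ck - c = 0)
    (hT2 : cjk * cki + ckj * cji - cji * cki + (a + ci + cbi) * ci - c = 0) :
    xk * tCf x2 x3 xi xj c cij cji - xi * tCf x2 x3 xj xk c cjk ckj
      = (-x3) * (x2 * xi - tAf x2 x3 xi c ci cbi)
      + (x3) * (x2 * xk - tAf x2 x3 xk c ck cbk)
      + (-ci) * (x3 * xi - tBf x2 x3 xi a c cb ci cbi)
      + (ck) * (x3 * xk - tBf x2 x3 xk a c cb ck cbk)
      + (-ckj) * (xi * xj - tCf x2 x3 xi xj c cij cji)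
      + (cji - cjk) * (xi * xk - tCf x2 x3 xi xk c cik cki)
      + (cij) * (xj * xk - tCf x2 x3 xj xk c cjk ckj) := by
  simp only [tAf, tBf, tCf]
  linear_combination (x2 * x3 - c) * hLij - (x2 * x3 - c) * hLjk + xk * hT1 - xi * hT2
    - (cbk - cbi) * hQik - (ck - ci) * hQbik + (ck * cbk - ci * cbi) * hLik

end Groth.Agent.H77.CurveCores
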