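import Mathlib

/-!
# A weighted diamond lemma (Bergman / Buchberger) for commutative polynomial rings

Rewriting rules `monomial (lead s) 1 ↦ tail s`, where all monomials of `tail s` have smaller
weight than `lead s`.  If all ambiguities are resolvable relative to the weight, then the normal
monomials are linearly independent modulo the ideal generated by the rules.
-/

set_option autoImplicit false

namespace Groth.Agent.H77.Diamond

open MvPolynomial

variable {σ : Type*} {R : Type*} [CommRing R] {ι : Type*}
variable (wt : σ → ℕ) (lead : ι → σ →₀ ℕ) (tail : ι → MvPolynomial σ R)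

/-- weight of a monomial -/
noncomputable abbrev mwt (u : σ →₀ ℕ) : ℕ := Finsupp.weight wt u

/-- the relation attached to a rule -/
noncomputable def g (s : ι) : MvPolynomial σ R := monomial (lead s) 1 - tail s

/-- all monomials have weight at most `k` -/
def WLe (q : MvPolynomial σ R) (k : ℕ) : Prop := ∀ u ∈ q.support, mwt wt u ≤ k

section WLe
variable {wt}

lemma WLe.mono {q : MvPolynomial σ R} {k k' : ℕ} (h : WLe wt q k) (hk : k ≤ k') : WLe wt q k' :=
  fun u hu => (h u hu).trans hk

lemma WLe_zero (k : ℕ) : WLe wt (0 : MvPolynomial σ R) k := by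
  intro u hu; simp at hu

lemma WLe_monomial (u : σ →₀ ℕ) (r : R) {k : ℕ} (h : mwt wt u ≤ k) : WLe wt (monomial u r) k := by
  intro v hv
  have := support_monomial_subset hv
  rw [Finset.mem_singleton] at this
  rw [this]; exact h

lemma WLe_C (r : R) (k : ℕ) : WLe wt (C r : MvPolynomial σ R) k := by
  rw [C_apply]; exact WLe_monomial _ _ (by simp [mwt])

lemma WLe_one (k : ℕ) : WLe wt (1 : MvPolynomial σ R) k := by
  have := WLe_C (wt := wt) (σ := σ) (1 : R) k
  rwa [C_1] at this

lemma WLe_X (a : σ) {k : ℕ} (h : wt a ≤ k) : WLe wt (X a : MvPolynomial σ R) k := by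
  rw [X]; exact WLe_monomial _ _ (by simpa [mwt, Finsupp.weight_single] using h)

lemma WLe.add {p q : MvPolynomial σ R} {k : ℕ} (hp : WLe wt p k) (hq : WLe wt q k) :
    WLe wt (p + q) k := by
  classical
  intro u hu
  rcases Finset.mem_union.1 (support_add hu) with h | h
  · exact hp u h
  · exact hq u h

lemma WLe.neg {p : MvPolynomial σ R} {k : ℕ} (hp : WLe wt p k) : WLe wt (-p) k := by
  intro u hu; rw [support_neg] at hu; exact hp u hu

lemma WLe.sub {p q : MvPolynomial σ R} {k : ℕ} (hp : WLe wt p k) (hq : WLe wt q k) :
    WLe wt (p - q) k := by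
  rw [sub_eq_add_neg]; exact hp.add hq.neg

lemma WLe.mul {p q : MvPolynomial σ R} {a b k : ℕ} (hp : WLe wt p a) (hq : WLe wt q b)
    (h : a + b ≤ k) : WLe wt (p * q) k := by
  classical
  intro u hu
  obtain ⟨u1, h1, u2, h2, rfl⟩ := Finset.mem_add.1 (support_mul p q hu)
  have e : mwt wt (u1 + u2) = mwt wt u1 + mwt wt u2 := map_add _ _ _
  rw [e]
  exact (Nat.add_le_add (hp u1 h1) (hq u2 h2)).trans h

lemma WLe.pow {p : MvPolynomial σ R} {a : ℕ} (hp : WLe wt p a) (n : ℕ) {k : ℕ} (h : n * a ≤ k) :
    WLe wt (p ^ n) k := by
  induction n generalizing k with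
  | zero => rw [pow_zero]; exact WLe_one k
  | succ n ih =>
    rw [pow_succ]
    exact (ih le_rfl).mul hp (by rw [Nat.succ_mul] at h; exact h)

end WLe

/-- the `R`-span of the relations `monomial u 1 * g s` of weight less than `n`. -/
noncomputable def Low (n : ℕ) : Submodule R (MvPolynomial σ R) :=
  Submodule.span R {p | ∃ u s, mwt wt (u + lead s) < n ∧ p = monomial u 1 * g lead tail s}

variable {wt lead tail}

lemma Low_mono {n n' : ℕ} (h : n ≤ n') : Low wt lead tail n ≤ Low wt lead tail n' := by
  apply Submodule.span_mono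
  rintro p ⟨u, s, hlt, rfl⟩
  exact ⟨u, s, lt_of_lt_of_le hlt h, rfl⟩

lemma mul_low {n : ℕ} {p : MvPolynomial σ R} (hp : p ∈ Low wt lead tail n) (z : σ →₀ ℕ) :
    monomial z 1 * p ∈ Low wt lead tail (n + mwt wt z) := by
  induction hp using Submodule.span_induction with
  | mem p hp =>
    obtain ⟨u, s, hlt, rfl⟩ := hp
    apply Submodule.subset_span
    refine ⟨z + u, s, ?_, ?_⟩
    · have e : mwt wt (z + u + lead s) = mwt wt z + mwt wt (u + lead s) := by
        rw [add_assoc]; exact map_add _ _ _
      rw [e]; omega
    · rw [← mul_assoc, monomial_mul, one_mul]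
  | zero => rw [mul_zero]; exact Submodule.zero_mem _
  | add x y _ _ hx hy => rw [mul_add]; exact Submodule.add_mem _ hx hy
  | smul a x _ hx => rw [mul_smul_comm]; exact Submodule.smul_mem _ _ hx

lemma low_of_wle {q : MvPolynomial σ R} {k : ℕ} {s : ι} {n : ℕ} (hq : WLe wt q k)
    (h : k + mwt wt (lead s) < n) : q * g lead tail s ∈ Low wt lead tail n := by
  rw [q.as_sum, Finset.sum_mul]
  refine Submodule.sum_mem _ fun u hu => ?_
  have e : monomial u (coeff u q) = coeff u q • (monomial u 1 : MvPolynomial σ R) := by
    rw [smul_monomial, smul_eq_mul, mul_one]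
  rw [e, smul_mul_assoc]
  refine Submodule.smul_mem _ _ (Submodule.subset_span ⟨u, s, ?_, rfl⟩)
  have e2 : mwt wt (u + lead s) = mwt wt u + mwt wt (lead s) := map_add _ _ _
  have := hq u hu
  rw [e2]; omega

variable (wt lead tail)

/-- normal form of a monomial -/
noncomputable def nf
    (htail : ∀ s, ∀ v ∈ (tail s).support, mwt wt v < mwt wt (lead s)) (u : σ →₀ ℕ) :
    MvPolynomial σ R :=
  open Classical in
  if h : ∃ s, lead s ≤ u then
    ∑ v ∈ (tail h.choose).support.attach,
      (tail h.choose).coeff v.1 • nf htail (u - lead h.choose + v.1)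
  else monomial u 1
termination_by mwt wt u
decreasing_by
  have hle : lead h.choose ≤ u := h.choose_spec
  have e1 : mwt wt (u - lead h.choose + v.1) = mwt wt (u - lead h.choose) + mwt wt v.1 :=
    map_add _ _ _
  have e2 : mwt wt u = mwt wt (u - lead h.choose) + mwt wt (lead h.choose) := by
    conv_lhs => rw [← tsub_add_cancel_of_le hle]
    exact map_add _ _ _
  have := htail h.choose v.1 v.2
  rw [e1, e2]; omega

variable (htail : ∀ s, ∀ v ∈ (tail s).support, mwt wt v < mwt wt (lead s))

/-- the normal form as a linear map -/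
noncomputable def NF : MvPolynomial σ R →ₗ[R] MvPolynomial σ R :=
  (basisMonomials σ R).constr R (nf wt lead tail htail)

lemma NF_monomial (u : σ →₀ ℕ) (r : R) :
    NF wt lead tail htail (monomial u r) = r • nf wt lead tail htail u := by
  have h : monomial u r = r • (basisMonomials σ R) u := by
    rw [coe_basisMonomials, smul_monomial, smul_eq_mul, mul_one]
  rw [h, map_smul, NF, Module.Basis.constr_basis]

lemma NF_eq_sum (p : MvPolynomial σ R) :
    NF wt lead tail htail p = ∑ v ∈ p.support, p.coeff v • nf wt lead tail htail v := by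
  conv_lhs => rw [p.as_sum]
  rw [map_sum]
  exact Finset.sum_congr rfl fun v _ => NF_monomial _ _ _ _ _ _

lemma NF_monomial_mul (a : σ →₀ ℕ) (p : MvPolynomial σ R) :
    NF wt lead tail htail (monomial a 1 * p)
      = ∑ v ∈ p.support, p.coeff v • nf wt lead tail htail (a + v) := by
  conv_lhs => rw [p.as_sum]
  rw [Finset.mul_sum, map_sum]
  refine Finset.sum_congr rfl fun v _ => ?_
  rw [monomial_mul, one_mul, NF_monomial]

lemma nf_of_red (u : σ →₀ ℕ) (h : ∃ s, lead s ≤ u) :
    nf wt lead tail htail u
      = NF wt lead tail htail (monomial (u - lead h.choose) 1 * tail h.choose) := by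
  rw [nf, dif_pos h, NF_monomial_mul]
  exact Finset.sum_attach _ (fun v => (tail h.choose).coeff v • nf wt lead tail htail
    (u - lead h.choose + v))

lemma nf_of_normal (u : σ →₀ ℕ) (h : ¬ ∃ s, lead s ≤ u) :
    nf wt lead tail htail u = monomial u 1 := by
  rw [nf, dif_neg h]

/-- `NF` kills the relations of weight `< n`. -/
def Kills (n : ℕ) : Prop :=
  ∀ u s, mwt wt (u + lead s) < n → NF wt lead tail htail (monomial u 1 * g lead tail s) = 0

lemma Kills.low {n : ℕ} (hk : Kills wt lead tail htail n) {p : MvPolynomial σ R}
    (hp : p ∈ Low wt lead tail n) : NF wt lead tail htail p = 0 := by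
  induction hp using Submodule.span_induction with
  | mem p hp =>
    obtain ⟨u, s, hlt, rfl⟩ := hp
    exact hk u s hlt
  | zero => exact map_zero _
  | add x y _ _ hx hy => rw [map_add, hx, hy, add_zero]
  | smul a x _ hx => rw [map_smul, hx, smul_zero]

/-- the resolvability hypothesis -/
def Res : Prop :=
  ∀ s t a b, a + lead s = b + lead t →
    monomial a 1 * tail s - monomial b 1 * tail t ∈ Low wt lead tail (mwt wt (a + lead s))

theorem kills_all (hres : Res wt lead tail) : ∀ n, Kills wt lead tail htail n := by
  intro n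
  induction n with
  | zero => intro u s h; exact absurd h (Nat.not_lt_zero _)
  | succ n ih =>
    intro u s hlt
    by_cases hlt' : mwt wt (u + lead s) < n
    · exact ih u s hlt'
    have hn : mwt wt (u + lead s) = n := by omega
    have h : ∃ s', lead s' ≤ u + lead s := ⟨s, le_add_self⟩
    have ht : lead h.choose ≤ u + lead s := h.choose_spec
    have hb : (u + lead s - lead h.choose) + lead h.choose = u + lead s :=
      tsub_add_cancel_of_le ht
    have key := hres s h.choose u (u + lead s - lead h.choose) hb.symm
    rw [hn] at key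
    have hz := Kills.low wt lead tail htail ih key
    rw [map_sub] at hz
    rw [g, mul_sub, map_sub, monomial_mul, one_mul, NF_monomial, one_smul,
      nf_of_red wt lead tail htail _ h]
    rw [sub_eq_zero] at hz ⊢
    exact hz.symm

theorem NF_ideal (hres : Res wt lead tail) (p : MvPolynomial σ R)
    (hp : p ∈ Ideal.span (Set.range (g lead tail))) : NF wt lead tail htail p = 0 := by
  have key : ∀ q : MvPolynomial σ R, NF wt lead tail htail (q * p) = 0 := by
    induction hp using Submodule.span_induction with
    | mem p hp =>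
      obtain ⟨s, rfl⟩ := hp
      intro q
      rw [q.as_sum, Finset.sum_mul, map_sum]
      refine Finset.sum_eq_zero fun u _ => ?_
      have e : monomial u (coeff u q) = coeff u q • (monomial u 1 : MvPolynomial σ R) := by
        rw [smul_monomial, smul_eq_mul, mul_one]
      rw [e, smul_mul_assoc, map_smul,
        kills_all wt lead tail htail hres _ u s (Nat.lt_succ_self _), smul_zero]
    | zero => intro q; rw [mul_zero, map_zero]
    | add x y _ _ hx hy => intro q; rw [mul_add, map_add, hx, hy, add_zero]
    | smul a x _ hx =>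
      intro q
      rw [smul_eq_mul, ← mul_assoc]
      exact hx _
  have := key 1
  rwa [one_mul] at this

include htail in
/-- **Diamond lemma**: an element of the ideal all of whose monomials are normal is zero. -/
theorem eq_zero_of_mem_of_normal (hres : Res wt lead tail) (p : MvPolynomial σ R)
    (hp : p ∈ Ideal.span (Set.range (g lead tail)))
    (hn : ∀ u ∈ p.support, ¬ ∃ s, lead s ≤ u) : p = 0 := by
  have h0 := NF_ideal wt lead tail htail hres p hp
  rw [NF_eq_sum] at h0
  rw [p.as_sum, ← h0]
  refine Finset.sum_congr rfl fun u hu => ?_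
  rw [nf_of_normal wt lead tail htail u (hn u hu), smul_monomial, smul_eq_mul, mul_one]

include htail in
/-- Normal monomials span the quotient by any ideal containing the relations. -/
theorem mk_monomial_mem_span (I : Ideal (MvPolynomial σ R)) (hI : ∀ s, g lead tail s ∈ I)
    (u : σ →₀ ℕ) :
    Ideal.Quotient.mk I (monomial u 1) ∈ Submodule.span R
      {x | ∃ u', (¬ ∃ s, lead s ≤ u') ∧ x = Ideal.Quotient.mk I (monomial u' 1)} := by
  induction hN : mwt wt u using Nat.strong_induction_on generalizing u with
  | _ N ih =>
    by_cases h : ∃ s, lead s ≤ u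
    · obtain ⟨s, hs⟩ := h
      have hu : u - lead s + lead s = u := tsub_add_cancel_of_le hs
      have e1 : (monomial u 1 : MvPolynomial σ R)
          = monomial (u - lead s) 1 * g lead tail s + monomial (u - lead s) 1 * tail s := by
        rw [← mul_add, g, sub_add_cancel, monomial_mul, one_mul, hu]
      have e2 : Ideal.Quotient.mk I (monomial u 1)
          = Ideal.Quotient.mk I (monomial (u - lead s) 1 * tail s) := by
        rw [e1, map_add]
        have : Ideal.Quotient.mk I (monomial (u - lead s) 1 * g lead tail s) = 0 :=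
          Ideal.Quotient.eq_zero_iff_mem.2 (I.mul_mem_left _ (hI s))
        rw [this, zero_add]
      rw [e2]
      conv => arg 2; rw [(tail s).as_sum]
      rw [Finset.mul_sum, map_sum]
      refine Submodule.sum_mem _ fun v hv => ?_
      have e : monomial (u - lead s) 1 * monomial v (coeff v (tail s))
          = coeff v (tail s) • (monomial (u - lead s + v) 1 : MvPolynomial σ R) := by
        rw [monomial_mul, one_mul, smul_monomial, smul_eq_mul, mul_one]
      rw [e]
      have e' : Ideal.Quotient.mk I (coeff v (tail s) • (monomial (u - lead s + v) 1))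
          = coeff v (tail s) • Ideal.Quotient.mk I (monomial (u - lead s + v) 1) :=
        map_smul (Ideal.Quotient.mkₐ R I) _ _
      rw [e']
      refine Submodule.smul_mem _ _ (ih (mwt wt (u - lead s + v)) ?_ _ rfl)
      have e3 : mwt wt (u - lead s + v) = mwt wt (u - lead s) + mwt wt v := map_add _ _ _
      have e4 : mwt wt u = mwt wt (u - lead s) + mwt wt (lead s) := by
        conv_lhs => rw [← hu]
        exact map_add _ _ _
      have := htail s v hv
      rw [← hN, e3, e4]; omega
    · exact Submodule.subset_span ⟨u, h, rfl⟩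

include htail in
theorem span_normal_eq_top (I : Ideal (MvPolynomial σ R)) (hI : ∀ s, g lead tail s ∈ I) :
    Submodule.span R
      {x | ∃ u', (¬ ∃ s, lead s ≤ u') ∧ x = Ideal.Quotient.mk I (monomial u' 1)} = ⊤ := by
  rw [eq_top_iff]
  rintro x -
  obtain ⟨p, rfl⟩ := Ideal.Quotient.mk_surjective x
  rw [p.as_sum, map_sum]
  refine Submodule.sum_mem _ fun u _ => ?_
  have e : monomial u (coeff u p) = coeff u p • (monomial u 1 : MvPolynomial σ R) := by
    rw [smul_monomial, smul_eq_mul, mul_one]
  have e' : Ideal.Quotient.mk I (coeff u p • (monomial u 1))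
      = coeff u p • Ideal.Quotient.mk I (monomial u 1) :=
    map_smul (Ideal.Quotient.mkₐ R I) _ _
  rw [e, e']
  exact Submodule.smul_mem _ _ (mk_monomial_mem_span wt lead tail htail I hI u)

/-- Reduction of the resolvability check to the least common multiple. -/
theorem res_of_lcm {s t : ι} (a0 b0 : σ →₀ ℕ) (h0 : a0 + lead s = b0 + lead t)
    (hdisj : ∀ x, a0 x = 0 ∨ b0 x = 0)
    (hlow : monomial a0 1 * tail s - monomial b0 1 * tail t
      ∈ Low wt lead tail (mwt wt (a0 + lead s))) :
    ∀ a b, a + lead s = b + lead t →
      monomial a 1 * tail s - monomial b 1 * tail t ∈ Low wt lead tail (mwt wt (a + lead s)) := by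
  intro a b hab
  have hcross : a + b0 = b + a0 := by
    have h1 : a + b0 + (lead s + lead t) = b + a0 + (lead s + lead t) := by
      calc a + b0 + (lead s + lead t) = (a + lead s) + (b0 + lead t) := by abel
        _ = (b + lead t) + (a0 + lead s) := by rw [hab, h0]
        _ = b + a0 + (lead s + lead t) := by abel
    exact add_right_cancel h1
  have ha0 : a0 ≤ a := by
    intro x
    have hx := DFunLike.congr_fun hcross x
    simp only [Finsupp.add_apply] at hx
    rcases hdisj x with h | h
    · rw [h]; exact Nat.zero_le _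
    · rw [h] at hx; omega
  set z := a - a0 with hz
  have haz : a = z + a0 := (tsub_add_cancel_of_le ha0).symm
  have hbz : b = z + b0 := by
    have : b + a0 = z + b0 + a0 := by rw [← hcross, haz]; abel
    exact add_right_cancel this
  have e : monomial a 1 * tail s - monomial b 1 * tail t
      = monomial z 1 * (monomial a0 1 * tail s - monomial b0 1 * tail t) := by
    rw [haz, hbz, mul_sub, ← mul_assoc, ← mul_assoc, monomial_mul, monomial_mul, one_mul]
  rw [e]
  have hw : mwt wt (a + lead s) = mwt wt (a0 + lead s) + mwt wt z := by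
    rw [haz, add_assoc, add_comm]
    exact map_add _ _ _
  rw [hw]
  exact mul_low hlow z

/-- resolvability of a single pair of rules -/
def ResP (s t : ι) : Prop :=
  ∀ a b, a + lead s = b + lead t →
    monomial a 1 * tail s - monomial b 1 * tail t ∈ Low wt lead tail (mwt wt (a + lead s))

lemma res_of_resP (h : ∀ s t, ResP wt lead tail s t) : Res wt lead tail :=
  fun s t a b hab => h s t a b hab

lemma resP_self (s : ι) : ResP wt lead tail s s := by
  intro a b hab
  have : a = b := add_right_cancel hab
  rw [this, sub_self]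
  exact Submodule.zero_mem _

lemma ResP.symm {s t : ι} (h : ResP wt lead tail s t) : ResP wt lead tail t s := by
  intro a b hab
  have := h b a hab.symm
  rw [← hab] at this
  have e : monomial a 1 * tail t - monomial b 1 * tail s
      = -(monomial b 1 * tail s - monomial a 1 * tail t) := by ring
  rw [e]
  exact Submodule.neg_mem _ this

/-- rules with coprime leading monomials are always resolvable -/
theorem resP_coprime (htail : ∀ s, ∀ v ∈ (tail s).support, mwt wt v < mwt wt (lead s))
    {s t : ι} (hdisj : ∀ x, lead t x = 0 ∨ lead s x = 0) :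
    ResP wt lead tail s t := by
  apply res_of_lcm wt lead tail (lead t) (lead s) (add_comm _ _) hdisj
  have e : monomial (lead t) 1 * tail s - monomial (lead s) 1 * tail t
      = tail s * g lead tail t - tail t * g lead tail s := by
    simp only [g]; ring
  rw [e]
  have hw : mwt wt (lead t + lead s) = mwt wt (lead t) + mwt wt (lead s) := map_add _ _ _
  refine Submodule.sub_mem _ ?_ ?_
  · by_cases h0 : tail s = 0
    · rw [h0, zero_mul]; exact Submodule.zero_mem _
    · obtain ⟨v, hv⟩ : (tail s).support.Nonempty := by
        rw [Finset.nonempty_iff_ne_empty]; intro h; exact h0 (support_eq_empty.1 h)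
      have hpos := htail s v hv
      refine low_of_wle (k := mwt wt (lead s) - 1) ?_ ?_
      · intro u hu; have := htail s u hu; omega
      · rw [hw]; omega
  · by_cases h0 : tail t = 0
    · rw [h0, zero_mul]; exact Submodule.zero_mem _
    · obtain ⟨v, hv⟩ : (tail t).support.Nonempty := by
        rw [Finset.nonempty_iff_ne_empty]; intro h; exact h0 (support_eq_empty.1 h)
      have hpos := htail t v hv
      refine low_of_wle (k := mwt wt (lead t) - 1) ?_ ?_
      · intro u hu; have := htail t u hu; omega
      · rw [hw]; omega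

lemma low_g {s : ι} {n : ℕ} (h : mwt wt (lead s) < n) : g lead tail s ∈ Low wt lead tail n := by
  have := low_of_wle (wt := wt) (lead := lead) (tail := tail) (q := 1) (k := 0) (s := s) (n := n)
    (WLe_one 0) (by omega)
  rwa [one_mul] at this

section exact
variable {wt}

lemma WLe_C0 (r : R) : WLe wt (C r : MvPolynomial σ R) 0 := WLe_C r 0
lemma WLe_one0 : WLe wt (1 : MvPolynomial σ R) 0 := WLe_one 0
lemma WLe_X' (a : σ) : WLe wt (X a : MvPolynomial σ R) (wt a) := WLe_X a le_rfl
lemma WLe.add' {p q : MvPolynomial σ R} {a b : ℕ} (hp : WLe wt p a) (hq : WLe wt q b) :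
    WLe wt (p + q) (max a b) :=
  (hp.mono (le_max_left _ _)).add (hq.mono (le_max_right _ _))
lemma WLe.sub' {p q : MvPolynomial σ R} {a b : ℕ} (hp : WLe wt p a) (hq : WLe wt q b) :
    WLe wt (p - q) (max a b) :=
  (hp.mono (le_max_left _ _)).sub (hq.mono (le_max_right _ _))
lemma WLe.mul' {p q : MvPolynomial σ R} {a b : ℕ} (hp : WLe wt p a) (hq : WLe wt q b) :
    WLe wt (p * q) (a + b) := hp.mul hq le_rfl
lemma WLe.pow' {p : MvPolynomial σ R} {a : ℕ} (hp : WLe wt p a) (n : ℕ) :
    WLe wt (p ^ n) (n * a) := hp.pow n le_rfl

end exact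

end Groth.Agent.H77.Diamond
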