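import Mathlib
import Groth.Prelude.Def_W4c5m1nsnscurvesC
import Groth.Agent.H77.Diamond
import Groth.Agent.H77.CurveCores

/-!
# The rewriting system of the genus one curve algebra: all ambiguities are resolvable
-/

set_option autoImplicit false
universe u

namespace Groth.Agent.H77.CurveRules

open MvPolynomial W4c5m1nsnscurves Groth.Agent.H77.Diamond Groth.Agent.H77.CurveCores

variable {R : Type u} [CommRing R] {m : ℕ}

/-- weights of the variables -/
def cwt : CVar m → ℕ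
  | .x2 => 1
  | .x3 => 2
  | .xi _ => 3

/-- the rewriting rules -/
inductive Rule (m : ℕ) : Type
  | A (i : Fin m)
  | B (i : Fin m)
  | Cc (q : DPair m)
  | D

/-- leading monomials -/
noncomputable def lead : Rule m → (CVar m →₀ ℕ)
  | .A i => Finsupp.single .x2 1 + Finsupp.single (.xi i) 1
  | .B i => Finsupp.single .x3 1 + Finsupp.single (.xi i) 1
  | .Cc q => Finsupp.single (.xi q.1.1) 1 + Finsupp.single (.xi q.1.2) 1
  | .D => Finsupp.single .x2 1 + Finsupp.single .x3 2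

variable (v : UGen m → R) (i0 : Fin m)

noncomputable def tA (i : Fin m) : MvPolynomial (CVar m) R :=
  tAf (X .x2) (X .x3) (X (.xi i)) (C (v .c)) (C (v (.ci i))) (C (v (.cbi i)))

noncomputable def tB (i : Fin m) : MvPolynomial (CVar m) R :=
  tBf (X .x2) (X .x3) (X (.xi i)) (C (v .a)) (C (v .c)) (C (v .cb)) (C (v (.ci i)))
    (C (v (.cbi i)))

noncomputable def tCs (i j : Fin m) (h : i ≠ j) : MvPolynomial (CVar m) R :=
  tCf (X .x2) (X .x3) (X (.xi i)) (X (.xi j)) (C (v .c)) (C (v (.cij i j h)))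
    (C (v (.cij j i h.symm)))

/-- the constant of the cubic relation derived from `i` -/
def dc (i : Fin m) : R := dcf (v .a) (v .c) (v .cb) (v (.ci i)) (v (.cbi i))

noncomputable def tD : MvPolynomial (CVar m) R :=
  tDf (X .x2) (X .x3) (C (v .a)) (C (v .c)) (C (v .cb)) (C (dc v i0))

/-- tails -/
noncomputable def tail : Rule m → MvPolynomial (CVar m) R
  | .A i => tA v i
  | .B i => tB v i
  | .Cc q => tCs v q.1.1 q.1.2 q.2
  | .D => tD v i0

lemma tCs_symm (i j : Fin m) (h : i ≠ j) : tCs v i j h = tCs v j i h.symm := by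
  unfold tCs; exact tCf_symm _ _ _ _ _ _ _

lemma mono_pair (a b : CVar m) (j k : ℕ) :
    (monomial (Finsupp.single a j + Finsupp.single b k) (1 : R)) = X a ^ j * X b ^ k := by
  rw [monomial_single_add, ← X_pow_eq_monomial]

lemma mono_single (a : CVar m) (k : ℕ) :
    (monomial (Finsupp.single a k) (1 : R)) = X a ^ k := (X_pow_eq_monomial ..).symm

lemma g_A (i : Fin m) : g lead (tail v i0) (.A i) = X .x2 * X (.xi i) - tA v i := by
  simp only [g, lead, tail]
  rw [mono_pair, pow_one, pow_one]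

lemma g_B (i : Fin m) : g lead (tail v i0) (.B i) = X .x3 * X (.xi i) - tB v i := by
  simp only [g, lead, tail]
  rw [mono_pair, pow_one, pow_one]

lemma g_C (i j : Fin m) (h : i ≠ j) :
    g lead (tail v i0) (.Cc ⟨(i, j), h⟩) = X (.xi i) * X (.xi j) - tCs v i j h := by
  simp only [g, lead, tail]
  rw [mono_pair, pow_one, pow_one]

lemma g_D : g lead (tail v i0) .D = X .x2 * X .x3 ^ 2 - tD v i0 := by
  simp only [g, lead, tail]
  rw [mono_pair, pow_one]

/-! ### weights -/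

lemma mwt_single (a : CVar m) (k : ℕ) : mwt cwt (Finsupp.single a k) = k * cwt a := by
  simp [mwt, Finsupp.weight_single]

lemma mwt_add (a b : CVar m →₀ ℕ) : mwt cwt (a + b) = mwt cwt a + mwt cwt b := map_add _ _ _

lemma mwt_A (i : Fin m) : mwt cwt (lead (.A i)) = 4 := by
  simp [lead, mwt_add, mwt_single, cwt]

lemma mwt_B (i : Fin m) : mwt cwt (lead (.B i)) = 5 := by
  simp [lead, mwt_add, mwt_single, cwt]

lemma mwt_C (q : DPair m) : mwt cwt (lead (.Cc q)) = 6 := by
  simp [lead, mwt_add, mwt_single, cwt]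

lemma mwt_D : mwt cwt (lead (.D : Rule m)) = 5 := by
  simp [lead, mwt_add, mwt_single, cwt]

macro "wle_core" : tactic => `(tactic| repeat' (first
  | with_reducible exact WLe_one0 | with_reducible exact WLe_C0 _ | with_reducible exact WLe_X' _
  | with_reducible apply WLe.add' | with_reducible apply WLe.sub' | with_reducible apply WLe.mul'
  | with_reducible apply WLe.neg | with_reducible apply WLe.pow'))

macro "wle" : tactic =>
  `(tactic| (apply WLe.mono; (wle_core); all_goals (first | decide | simp [cwt] | omega)))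

lemma wle_tA (i : Fin m) : WLe cwt (tA v i) 3 := by
  unfold tA tAf; wle

lemma wle_tB (i : Fin m) : WLe cwt (tB v i) 3 := by
  unfold tB tBf; wle

lemma wle_tC (i j : Fin m) (h : i ≠ j) : WLe cwt (tCs v i j h) 3 := by
  unfold tCs tCf; wle

lemma wle_tD : WLe cwt (tD v i0) 4 := by
  unfold tD tDf; wle

lemma htail : ∀ s, ∀ u ∈ (tail v i0 s).support, mwt cwt u < mwt cwt (lead s) := by
  intro s u hu
  cases s with
  | A i => rw [mwt_A]; exact lt_of_le_of_lt (wle_tA v i u hu) (by norm_num)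
  | B i => rw [mwt_B]; exact lt_of_le_of_lt (wle_tB v i u hu) (by norm_num)
  | Cc q => rw [mwt_C]; exact lt_of_le_of_lt (wle_tC v _ _ _ u hu) (by norm_num)
  | D => rw [mwt_D]; exact lt_of_le_of_lt (wle_tD v i0 u hu) (by norm_num)

/-! ### the relations lie in the ideal -/

lemma C_dc (i : Fin m) : (C (dc v i) : MvPolynomial (CVar m) R)
    = dcf (C (v .a)) (C (v .c)) (C (v .cb)) (C (v (.ci i))) (C (v (.cbi i))) := by
  simp only [dc, dcf, map_add, map_sub, map_mul]

lemma gA_mem (i : Fin m) : g lead (tail v i0) (.A i) ∈ Ideal.span (CRel R m v) := by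
  rw [g_A]
  exact Ideal.subset_span (Or.inl (Or.inl ⟨i, rfl⟩))

lemma tB_eq (i : Fin m) : tB v i = X .x2 * X .x3 + C (v .a + v (.ci i) + v (.cbi i)) *
    (X (.xi i) - C (v (.cbi i))) + C (v .cb) - C (v .c) := by
  simp only [tB, tBf, C_add]

lemma gB_mem (i : Fin m) : g lead (tail v i0) (.B i) ∈ Ideal.span (CRel R m v) := by
  rw [g_B, tB_eq]
  exact Ideal.subset_span (Or.inl (Or.inr ⟨i, rfl⟩))

lemma gC_mem (q : DPair m) : g lead (tail v i0) (.Cc q) ∈ Ideal.span (CRel R m v) := by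
  obtain ⟨⟨i, j⟩, h⟩ := q
  rw [g_C]
  exact Ideal.subset_span (Or.inr ⟨⟨(i, j), h⟩, rfl⟩)

lemma gD_mem : g lead (tail v i0) .D ∈ Ideal.span (CRel R m v) := by
  have e : g lead (tail v i0) .D
      = (X .x2 - C (v (.ci i0))) * g lead (tail v i0) (.B i0)
        + ((C (v .a) + C (v (.ci i0)) + C (v (.cbi i0))) - X .x3) * g lead (tail v i0) (.A i0) := by
    rw [g_D, g_A, g_B]
    unfold tD
    rw [C_dc]
    exact gD_eq _ _ _ _ _ _ _ _
  rw [e]
  exact Ideal.add_mem _ (Ideal.mul_mem_left _ _ (gB_mem v i0 i0))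
    (Ideal.mul_mem_left _ _ (gA_mem v i0 i0))

lemma g_mem (s : Rule m) : g lead (tail v i0) s ∈ Ideal.span (CRel R m v) := by
  cases s with
  | A i => exact gA_mem v i0 i
  | B i => exact gB_mem v i0 i
  | Cc q => exact gC_mem v i0 q
  | D => exact gD_mem v i0

lemma CRel_subset : CRel R m v ⊆ Set.range (g lead (tail v i0)) := by
  rintro p ((⟨i, rfl⟩ | ⟨i, rfl⟩) | ⟨q, rfl⟩)
  · exact ⟨.A i, g_A v i0 i⟩
  · exact ⟨.B i, by rw [g_B, tB_eq]⟩
  · obtain ⟨⟨i, j⟩, h⟩ := q
    exact ⟨.Cc ⟨(i, j), h⟩, g_C v i0 i j h⟩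

/-! ### disjointness lemmas -/

lemma disj_single {α : Type*} (a b : α) (hab : a ≠ b) (j k : ℕ) :
    ∀ x, (Finsupp.single a j : α →₀ ℕ) x = 0 ∨ (Finsupp.single b k : α →₀ ℕ) x = 0 := by
  classical
  intro x
  by_cases h : a = x
  · right; subst h; simp [Finsupp.single_apply, hab.symm]
  · left; simp [Finsupp.single_apply, h]

lemma disj_pair {α : Type*} (a b c d : α) (hac : a ≠ c) (had : a ≠ d) (hbc : b ≠ c) (hbd : b ≠ d)
    (n1 n2 n3 n4 : ℕ) :
    ∀ x, (Finsupp.single a n1 + Finsupp.single b n2 : α →₀ ℕ) x = 0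
      ∨ (Finsupp.single c n3 + Finsupp.single d n4 : α →₀ ℕ) x = 0 := by
  classical
  intro x
  by_cases h : a = x ∨ b = x
  · right
    rcases h with rfl | rfl
    · simp [Finsupp.single_apply, hac.symm, had.symm]
    · simp [Finsupp.single_apply, hbc.symm, hbd.symm]
  · left
    push Not at h
    simp [Finsupp.single_apply, h.1, h.2]

lemma disj_pair_single {α : Type*} (a b c : α) (hac : a ≠ c) (hbc : b ≠ c) (n1 n2 n3 : ℕ) :
    ∀ x, (Finsupp.single a n1 + Finsupp.single b n2 : α →₀ ℕ) x = 0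
      ∨ (Finsupp.single c n3 : α →₀ ℕ) x = 0 := by
  classical
  intro x
  by_cases h : a = x ∨ b = x
  · right
    rcases h with rfl | rfl
    · simp [Finsupp.single_apply, hac.symm]
    · simp [Finsupp.single_apply, hbc.symm]
  · left
    push Not at h
    simp [Finsupp.single_apply, h.1, h.2]

/-! ### the relations among the structure constants -/

section core

variable (hL : ∀ (i j : Fin m) (h : i ≠ j), v (.cij i j h) + v (.cij j i h.symm)
    - (v .a + v (.ci i) + v (.cbi i) + v (.ci j) + v (.cbi j)) = 0)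
  (hQ : ∀ (i j : Fin m) (h : i ≠ j), v (.cij j i h.symm) * v (.ci j) + v (.cij i j h) * v (.ci i)
    - v (.ci i) * v (.ci j) - v .c = 0)
  (hQb : ∀ (i j : Fin m) (h : i ≠ j), v (.cij j i h.symm) * v (.cbi i)
    + v (.cij i j h) * v (.cbi j) - v (.cbi i) * v (.cbi j) - v .cb = 0)
  (hT : ∀ (i j k : Fin m) (hij : i ≠ j) (hjk : j ≠ k) (hik : i ≠ k),
    v (.cij i j hij) * v (.cij j k hjk) + v (.cij j i hij.symm) * v (.cij i k hik)
      - v (.cij i k hik) * v (.cij j k hjk) + (v .a + v (.ci k) + v (.cbi k)) * v (.ci k)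
      - v .c = 0)

include hL in
lemma hLC (i j : Fin m) (h : i ≠ j) :
    (C (v (.cij i j h)) + C (v (.cij j i h.symm))
      - (C (v .a) + C (v (.ci i)) + C (v (.cbi i)) + C (v (.ci j)) + C (v (.cbi j)))
      : MvPolynomial (CVar m) R) = 0 := by
  have := congrArg (C (σ := CVar m)) (hL i j h)
  simpa only [map_add, map_sub, map_mul, map_zero] using this

include hQ in
lemma hQC (i j : Fin m) (h : i ≠ j) :
    (C (v (.cij j i h.symm)) * C (v (.ci j)) + C (v (.cij i j h)) * C (v (.ci i))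
      - C (v (.ci i)) * C (v (.ci j)) - C (v .c) : MvPolynomial (CVar m) R) = 0 := by
  have := congrArg (C (σ := CVar m)) (hQ i j h)
  simpa only [map_add, map_sub, map_mul, map_zero] using this

include hQb in
lemma hQbC (i j : Fin m) (h : i ≠ j) :
    (C (v (.cij j i h.symm)) * C (v (.cbi i)) + C (v (.cij i j h)) * C (v (.cbi j))
      - C (v (.cbi i)) * C (v (.cbi j)) - C (v .cb) : MvPolynomial (CVar m) R) = 0 := by
  have := congrArg (C (σ := CVar m)) (hQb i j h)
  simpa only [map_add, map_sub, map_mul, map_zero] using this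

include hT in
lemma hTC (i j k : Fin m) (hij : i ≠ j) (hjk : j ≠ k) (hik : i ≠ k) :
    (C (v (.cij i j hij)) * C (v (.cij j k hjk)) + C (v (.cij j i hij.symm)) * C (v (.cij i k hik))
      - C (v (.cij i k hik)) * C (v (.cij j k hjk))
      + (C (v .a) + C (v (.ci k)) + C (v (.cbi k))) * C (v (.ci k))
      - C (v .c) : MvPolynomial (CVar m) R) = 0 := by
  have := congrArg (C (σ := CVar m)) (hT i j k hij hjk hik)
  simpa only [map_add, map_sub, map_mul, map_zero] using this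

include hL hQ hQb in
lemma dc_eq (i : Fin m) : dc v i0 = dc v i := by
  by_cases h : i0 = i
  · rw [h]
  · exact dcf_eq _ _ _ _ _ _ _ _ _ (hL i0 i h) (hQ i0 i h) (hQb i0 i h)

include hL hQ hQb in
lemma C_dc0 (i : Fin m) : (C (dc v i0) : MvPolynomial (CVar m) R)
    = dcf (C (v .a)) (C (v .c)) (C (v .cb)) (C (v (.ci i))) (C (v (.cbi i))) := by
  rw [dc_eq v i0 hL hQ hQb i, C_dc]

local notation "LowN" => Low cwt lead (tail v i0)
local notation "gg" => g lead (tail v i0)

lemma low_add {n : ℕ} {p q : MvPolynomial (CVar m) R} (hp : p ∈ LowN n) (hq : q ∈ LowN n) :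
    p + q ∈ LowN n := Submodule.add_mem _ hp hq

lemma low_term {q : MvPolynomial (CVar m) R} {k n : ℕ} (r : Rule m) (lwr : ℕ)
    (hlw : mwt cwt (lead r) = lwr) (hq : WLe cwt q k) (h : k + lwr < n) :
    q * gg r ∈ LowN n :=
  low_of_wle hq (by rw [hlw]; exact h)

include hL hQ hQb in
lemma low2 (i : Fin m) : X .x3 * tA v i - X .x2 * tB v i ∈ LowN 6 := by
  have e : X .x3 * tA v i - X .x2 * tB v i
      = (-C (v .a) - C (v (.cbi i)) - C (v (.ci i))) * gg (.A i)
        + (C (v (.ci i))) * gg (.B i) + gg .D := by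
    rw [g_A, g_B, g_D]
    exact core2 _ _ _ _ _ _ _ _ _ (C_dc0 v i0 hL hQ hQb i)
  rw [e]
  refine low_add v i0 (low_add v i0 ?_ ?_) ?_
  · exact low_term v i0 (.A i) 4 (mwt_A i) (k := 0) (by wle) (by norm_num)
  · exact low_term v i0 (.B i) 5 (mwt_B i) (k := 0) (by wle) (by norm_num)
  · exact low_g cwt lead (tail v i0) (by rw [mwt_D]; norm_num)

include hL hQ hQb in
lemma low3 (i j : Fin m) (h : i ≠ j) :
    X (.xi j) * tA v i - X .x2 * tCs v i j h ∈ LowN 7 := by
  have e : X (.xi j) * tA v i - X .x2 * tCs v i j h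
      = (-C (v (.cij j i h.symm))) * gg (.A i)
        + (C (v (.cbi i)) - C (v (.cij i j h)) + X .x3) * gg (.A j)
        + (C (v (.ci j))) * gg (.B j)
        + (C (v (.ci i))) * gg (.Cc ⟨(i, j), h⟩)
        + gg .D := by
    rw [g_A, g_A, g_B, g_C, g_D]
    exact core3 _ _ _ _ _ _ _ _ _ _ _ _ _ _ (hLC v hL i j h) (hQC v hQ i j h) (hQbC v hQb i j h)
      (C_dc0 v i0 hL hQ hQb j)
  rw [e]
  refine low_add v i0 (low_add v i0 (Submodule.add_mem _
    (low_add v i0 ?_ ?_) ?_) ?_) ?_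
  · exact low_term v i0 (.A i) 4 (mwt_A i) (k := 0) (by wle) (by norm_num)
  · exact low_term v i0 (.A j) 4 (mwt_A j) (k := 2) (by wle) (by norm_num)
  · exact low_term v i0 (.B j) 5 (mwt_B j) (k := 0) (by wle) (by norm_num)
  · exact low_term v i0 (.Cc ⟨(i, j), h⟩) 6 (mwt_C _) (k := 0) (by wle) (by norm_num)
  · exact low_g cwt lead (tail v i0) (by rw [mwt_D]; norm_num)

include hL hQ hQb in
lemma low4 (i : Fin m) : X .x3 ^ 2 * tA v i - X (.xi i) * tD v i0 ∈ LowN 8 := by
  have e : X .x3 ^ 2 * tA v i - X (.xi i) * tD v i0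
      = (C (v .c) - C (v .cb) - X .x2 * X .x3 - C (v .a) * X .x3 - C (v (.ci i)) * X .x3)
          * gg (.A i)
        + (-C (v .c) + C (v (.cbi i)) * C (v (.ci i)) + C (v (.ci i)) * X .x3) * gg (.B i)
        + (C (v (.cbi i)) + X .x3) * gg .D := by
    rw [g_A, g_B, g_D]
    exact core4 _ _ _ _ _ _ _ _ _ (C_dc0 v i0 hL hQ hQb i)
  rw [e]
  have h1 := low_term v i0 (q := C (v .c) - C (v .cb) - X .x2 * X .x3 - C (v .a) * X .x3
    - C (v (.ci i)) * X .x3) (n := 8) (.A i) 4 (mwt_A i) (k := 3) (by wle) (by norm_num)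
  have h2 := low_term v i0 (q := -C (v .c) + C (v (.cbi i)) * C (v (.ci i))
    + C (v (.ci i)) * X .x3) (n := 8) (.B i) 5 (mwt_B i) (k := 2) (by wle) (by norm_num)
  have h3 := low_term v i0 (q := C (v (.cbi i)) + X .x3) (n := 8) .D 5 mwt_D (k := 2)
    (by wle) (by norm_num)
  exact low_add v i0 (low_add v i0 h1 h2) h3

include hL hQ hQb in
lemma low6 (i j : Fin m) (h : i ≠ j) :
    X (.xi j) * tB v i - X .x3 * tCs v i j h ∈ LowN 8 := by
  have e : X (.xi j) * tB v i - X .x3 * tCs v i j h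
      = (X .x3) * gg (.A j)
        + (-C (v (.cij j i h.symm))) * gg (.B i)
        + (-C (v (.cij i j h)) + C (v (.ci j))) * gg (.B j)
        + (C (v .a) + C (v (.cbi i)) + C (v (.ci i))) * gg (.Cc ⟨(i, j), h⟩) := by
    rw [g_A, g_B, g_B, g_C]
    exact core6 _ _ _ _ _ _ _ _ _ _ _ _ _ (hLC v hL i j h) (hQC v hQ i j h) (hQbC v hQb i j h)
  rw [e]
  exact low_add v i0 (low_add v i0 (low_add v i0
    (low_term v i0 (.A j) 4 (mwt_A j) (k := 2) (by wle) (by norm_num))
    (low_term v i0 (.B i) 5 (mwt_B i) (k := 0) (by wle) (by norm_num)))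
    (low_term v i0 (.B j) 5 (mwt_B j) (k := 0) (by wle) (by norm_num)))
    (low_term v i0 (.Cc ⟨(i, j), h⟩) 6 (mwt_C _) (k := 0) (by wle) (by norm_num))

include hL hQ hQb hT in
lemma low8 (i j k : Fin m) (hij : i ≠ j) (hjk : j ≠ k) (hik : i ≠ k) :
    X (.xi k) * tCs v i j hij - X (.xi i) * tCs v j k hjk ∈ LowN 9 := by
  have e : X (.xi k) * tCs v i j hij - X (.xi i) * tCs v j k hjk
      = (-X .x3) * gg (.A i)
        + (X .x3) * gg (.A k)
        + (-C (v (.ci i))) * gg (.B i)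
        + (C (v (.ci k))) * gg (.B k)
        + (-C (v (.cij k j hjk.symm))) * gg (.Cc ⟨(i, j), hij⟩)
        + (C (v (.cij j i hij.symm)) - C (v (.cij j k hjk))) * gg (.Cc ⟨(i, k), hik⟩)
        + (C (v (.cij i j hij))) * gg (.Cc ⟨(j, k), hjk⟩) := by
    rw [g_A, g_A, g_B, g_B, g_C, g_C, g_C]
    exact core8 _ _ _ _ _ (C (v .a)) (C (v .c)) (C (v .cb)) _ _ (C (v (.ci j))) (C (v (.cbi j)))
      _ _ _ _ _ (C (v (.cij k i hik.symm))) _ _
      (hLC v hL i j hij) (hLC v hL j k hjk) (hLC v hL i k hik) (hQC v hQ i k hik)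
      (hQbC v hQb i k hik) (hTC v hT i j k hij hjk hik)
      (hTC v hT j k i hjk hik.symm hij.symm)
  rw [e]
  refine low_add v i0 (low_add v i0 (low_add v i0 (Submodule.add_mem _
    (low_add v i0 (low_add v i0 ?_ ?_) ?_) ?_) ?_) ?_) ?_
  · exact low_term v i0 (.A i) 4 (mwt_A i) (k := 2) (by wle) (by norm_num)
  · exact low_term v i0 (.A k) 4 (mwt_A k) (k := 2) (by wle) (by norm_num)
  · exact low_term v i0 (.B i) 5 (mwt_B i) (k := 0) (by wle) (by norm_num)
  · exact low_term v i0 (.B k) 5 (mwt_B k) (k := 0) (by wle) (by norm_num)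
  · exact low_term v i0 (.Cc ⟨(i, j), hij⟩) 6 (mwt_C _) (k := 0) (by wle) (by norm_num)
  · exact low_term v i0 (.Cc ⟨(i, k), hik⟩) 6 (mwt_C _) (k := 0) (by wle) (by norm_num)
  · exact low_term v i0 (.Cc ⟨(j, k), hjk⟩) 6 (mwt_C _) (k := 0) (by wle) (by norm_num)

end core

end Groth.Agent.H77.CurveRules
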