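import Mathlib
import Groth.Prelude.Def_W4c5m1nsnscurvesC
import Groth.Agent.H77.CurveRules

/-!
# Resolvability of all ambiguities, and the basis of the genus one curve algebra
-/

set_option autoImplicit false
universe u

namespace Groth.Agent.H77.CurveRules

open MvPolynomial W4c5m1nsnscurves Groth.Agent.H77.Diamond Groth.Agent.H77.CurveCores
open Finsupp (single)

variable {R : Type u} [CommRing R] {m : ℕ} (v : UGen m → R) (i0 : Fin m)

lemma xi_ne {i j : Fin m} (h : i ≠ j) : (CVar.xi i : CVar m) ≠ CVar.xi j :=
  fun e => h (CVar.xi.inj e)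

section res

variable (hL : ∀ (i j : Fin m) (h : i ≠ j), v (.cij i j h) + v (.cij j i h.symm)
    - (v .a + v (.ci i) + v (.cbi i) + v (.ci j) + v (.cbi j)) = 0)
  (hQ : ∀ (i j : Fin m) (h : i ≠ j), v (.cij j i h.symm) * v (.ci j) + v (.cij i j h) * v (.ci i)
    - v (.ci i) * v (.ci j) - v .c = 0)
  (hQb : ∀ (i j : Fin m) (h : i ≠ j), v (.cij j i h.symm) * v (.cbi i)
    + v (.cij i j h) * v (.cbi j) - v (.cbi i) * v (.cbi j) - v .cb = 0)
  (hT : ∀ (i j k : Fin m) (hij : i ≠ j) (hjk : j ≠ k) (hik : i ≠ k),
    v (.cij i j hij) * v (.cij j k hjk) + v (.cij j i hij.symm) * v (.cij i k hik)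
      - v (.cij i k hik) * v (.cij j k hjk) + (v .a + v (.ci k) + v (.cbi k)) * v (.ci k)
      - v .c = 0)

local notation "RP" => ResP cwt lead (tail v i0)
local notation "LowN" => Low cwt lead (tail v i0)

include hL hQ hQb in
lemma resP_A_B (i : Fin m) : RP (.A i) (.B i) := by
  apply res_of_lcm cwt lead (tail v i0) (single .x3 1) (single .x2 1)
  · simp only [lead]; abel
  · exact disj_single _ _ (by simp) _ _
  · have hw : mwt cwt (single .x3 1 + lead (.A i)) = 6 := by
      simp [mwt_add, mwt_single, mwt_A, cwt]
    rw [hw, mono_single, mono_single, pow_one, pow_one]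
    simp only [tail]
    exact low2 v i0 hL hQ hQb i

include hL hQ hQb in
lemma resP_A_C (i j : Fin m) (hij : i ≠ j) (q : DPair m)
    (hl : lead (.Cc q) = single (.xi i) 1 + single (.xi j) 1)
    (ht : tail v i0 (.Cc q) = tCs v i j hij) : RP (.A i) (.Cc q) := by
  apply res_of_lcm cwt lead (tail v i0) (single (.xi j) 1) (single .x2 1)
  · rw [hl]; simp only [lead]; abel
  · exact disj_single _ _ (by simp) _ _
  · have hw : mwt cwt (single (.xi j) 1 + lead (.A i)) = 7 := by
      simp [mwt_add, mwt_single, mwt_A, cwt]
    rw [hw, ht, mono_single, mono_single, pow_one, pow_one]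
    simp only [tail]
    exact low3 v i0 hL hQ hQb i j hij

include hL hQ hQb in
lemma resP_A_D (i : Fin m) : RP (.A i) .D := by
  apply res_of_lcm cwt lead (tail v i0) (single .x3 2) (single (.xi i) 1)
  · simp only [lead]; abel
  · exact disj_single _ _ (by simp) _ _
  · have hw : mwt cwt (single .x3 2 + lead (.A i)) = 8 := by
      simp [mwt_add, mwt_single, mwt_A, cwt]
    rw [hw, mono_single, mono_single, pow_one]
    simp only [tail]
    exact low4 v i0 hL hQ hQb i

include hL hQ hQb in
lemma resP_B_C (i j : Fin m) (hij : i ≠ j) (q : DPair m)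
    (hl : lead (.Cc q) = single (.xi i) 1 + single (.xi j) 1)
    (ht : tail v i0 (.Cc q) = tCs v i j hij) : RP (.B i) (.Cc q) := by
  apply res_of_lcm cwt lead (tail v i0) (single (.xi j) 1) (single .x3 1)
  · rw [hl]; simp only [lead]; abel
  · exact disj_single _ _ (by simp) _ _
  · have hw : mwt cwt (single (.xi j) 1 + lead (.B i)) = 8 := by
      simp [mwt_add, mwt_single, mwt_B, cwt]
    rw [hw, ht, mono_single, mono_single, pow_one, pow_one]
    simp only [tail]
    exact low6 v i0 hL hQ hQb i j hij

include hL hQ hQb in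
lemma resP_B_D (i : Fin m) : RP (.B i) .D := by
  apply res_of_lcm cwt lead (tail v i0) (single .x2 1 + single .x3 1) (single (.xi i) 1)
  · have e2 : (single .x3 2 : CVar m →₀ ℕ) = single .x3 1 + single .x3 1 := by
      rw [← Finsupp.single_add]
    simp only [lead]; rw [e2]; abel
  · exact disj_pair_single _ _ _ (by simp) (by simp) _ _ _
  · have hw : mwt cwt (single .x2 1 + single .x3 1 + lead (.B i)) = 8 := by
      simp [mwt_add, mwt_single, mwt_B, cwt]
    rw [hw, mono_pair, mono_single, pow_one, pow_one, pow_one]
    simp only [tail]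
    have e : X .x2 * X .x3 * tB v i - X (.xi i) * tD v i0
        = (X .x3 ^ 2 * tA v i - X (.xi i) * tD v i0)
          - X .x3 * (X .x3 * tA v i - X .x2 * tB v i) := by ring
    rw [e]
    have h2 := mul_low (low2 v i0 hL hQ hQb i) (single .x3 1)
    rw [mono_single, pow_one, mwt_single] at h2
    have h68 : 6 + 1 * cwt (CVar.x3 : CVar m) = 8 := rfl
    rw [h68] at h2
    exact Submodule.sub_mem _ (low4 v i0 hL hQ hQb i) h2

include hL hQ hQb in
lemma resP_A_A (i j : Fin m) (hij : i ≠ j) : RP (.A i) (.A j) := by
  apply res_of_lcm cwt lead (tail v i0) (single (.xi j) 1) (single (.xi i) 1)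
  · simp only [lead]; abel
  · exact disj_single _ _ (xi_ne hij.symm) _ _
  · have hw : mwt cwt (single (.xi j) 1 + lead (.A i)) = 7 := by
      simp [mwt_add, mwt_single, mwt_A, cwt]
    rw [hw, mono_single, mono_single, pow_one, pow_one]
    simp only [tail]
    have e : X (.xi j) * tA v i - X (.xi i) * tA v j
        = (X (.xi j) * tA v i - X .x2 * tCs v i j hij)
          - (X (.xi i) * tA v j - X .x2 * tCs v j i hij.symm) := by
      rw [tCs_symm v j i hij.symm]; ring
    rw [e]
    exact Submodule.sub_mem _ (low3 v i0 hL hQ hQb i j hij) (low3 v i0 hL hQ hQb j i hij.symm)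

include hL hQ hQb in
lemma resP_B_B (i j : Fin m) (hij : i ≠ j) : RP (.B i) (.B j) := by
  apply res_of_lcm cwt lead (tail v i0) (single (.xi j) 1) (single (.xi i) 1)
  · simp only [lead]; abel
  · exact disj_single _ _ (xi_ne hij.symm) _ _
  · have hw : mwt cwt (single (.xi j) 1 + lead (.B i)) = 8 := by
      simp [mwt_add, mwt_single, mwt_B, cwt]
    rw [hw, mono_single, mono_single, pow_one, pow_one]
    simp only [tail]
    have e : X (.xi j) * tB v i - X (.xi i) * tB v j
        = (X (.xi j) * tB v i - X .x3 * tCs v i j hij)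
          - (X (.xi i) * tB v j - X .x3 * tCs v j i hij.symm) := by
      rw [tCs_symm v j i hij.symm]; ring
    rw [e]
    exact Submodule.sub_mem _ (low6 v i0 hL hQ hQb i j hij) (low6 v i0 hL hQ hQb j i hij.symm)

include hL hQ hQb hT in
lemma resP_C_C_shared (q q' : DPair m) (i j k : Fin m) (hij : i ≠ j) (hjk : j ≠ k) (hik : i ≠ k)
    (hl : lead (.Cc q) = single (.xi i) 1 + single (.xi j) 1)
    (ht : tail v i0 (.Cc q) = tCs v i j hij)
    (hl' : lead (.Cc q') = single (.xi j) 1 + single (.xi k) 1)
    (ht' : tail v i0 (.Cc q') = tCs v j k hjk) : RP (.Cc q) (.Cc q') := by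
  apply res_of_lcm cwt lead (tail v i0) (single (.xi k) 1) (single (.xi i) 1)
  · rw [hl, hl']; abel
  · exact disj_single _ _ (xi_ne hik.symm) _ _
  · have hw : mwt cwt (single (.xi k) 1 + lead (.Cc q)) = 9 := by
      simp [mwt_add, mwt_single, mwt_C, cwt]
    rw [hw, ht, ht', mono_single, mono_single, pow_one, pow_one]
    exact low8 v i0 hL hQ hQb hT i j k hij hjk hik

lemma resP_cop {s t : Rule m} (h : ∀ x, lead t x = 0 ∨ lead s x = 0) : RP s t :=
  resP_coprime cwt lead (tail v i0) (htail v i0) h

include hL hQ hQb hT in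
lemma resP_C_C (q q' : DPair m) : RP (.Cc q) (.Cc q') := by
  obtain ⟨⟨i, j⟩, h⟩ := q
  obtain ⟨⟨k, l⟩, h'⟩ := q'
  simp only at h h'
  by_cases hik : i = k
  · subst hik
    by_cases hjl : j = l
    · subst hjl
      exact resP_self cwt lead (tail v i0) _
    · -- shared i: (j, i, l)
      exact resP_C_C_shared v i0 hL hQ hQb hT _ _ j i l h.symm h' hjl
        (by simp only [lead]; exact add_comm _ _)
        (by simp only [tail]; exact tCs_symm v i j h) rfl rfl
  · by_cases hil : i = l
    · subst hil
      by_cases hjk : j = k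
      · subst hjk
        -- swapped pair
        apply res_of_lcm cwt lead (tail v i0) 0 0
        · simp only [lead, zero_add]; exact add_comm _ _
        · intro x; left; rfl
        · have e : tail v i0 (.Cc ⟨(i, j), h⟩) = tail v i0 (.Cc ⟨(j, i), h'⟩) := by
            simp only [tail]; exact tCs_symm v i j h
          rw [e, sub_self]
          exact Submodule.zero_mem _
      · -- q = (i,j), q' = (k,i): (j, i, k)
        exact resP_C_C_shared v i0 hL hQ hQb hT _ _ j i k h.symm hik hjk
          (by simp only [lead]; exact add_comm _ _)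
          (by simp only [tail]; exact tCs_symm v i j h)
          (by simp only [lead]; exact add_comm _ _)
          (by simp only [tail]; exact tCs_symm v k i h')
    · by_cases hjk : j = k
      · subst hjk
        -- q = (i,j), q' = (j,l): (i, j, l)
        exact resP_C_C_shared v i0 hL hQ hQb hT _ _ i j l h h' hil rfl rfl rfl rfl
      · by_cases hjl : j = l
        · subst hjl
          -- q = (i,j), q' = (k,j): (i, j, k)
          exact resP_C_C_shared v i0 hL hQ hQb hT _ _ i j k h hjk hik rfl rfl
            (by simp only [lead]; exact add_comm _ _)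
            (by simp only [tail]; exact tCs_symm v k j h')
        · apply resP_cop
          exact disj_pair _ _ _ _ (xi_ne (Ne.symm hik)) (xi_ne (Ne.symm hjk)) (xi_ne (Ne.symm hil))
            (xi_ne (Ne.symm hjl)) _ _ _ _

include hL hQ hQb hT in
theorem res_all : ∀ s t, RP s t := by
  have key : ∀ s t : Rule m, RP s t ∨ RP t s := by
    intro s t
    rcases s with i | i | q | _ <;> rcases t with j | j | q' | _
    · -- A A
      by_cases hij : i = j
      · subst hij; exact Or.inl (resP_self _ _ _ _)
      · exact Or.inl (resP_A_A v i0 hL hQ hQb i j hij)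
    · -- A B
      by_cases hij : i = j
      · subst hij; exact Or.inl (resP_A_B v i0 hL hQ hQb i)
      · refine Or.inl (resP_cop v i0 ?_)
        exact disj_pair _ _ _ _ (by simp) (by simp) (by simp) (xi_ne (Ne.symm hij)) _ _ _ _
    · -- A C
      obtain ⟨⟨k, l⟩, h'⟩ := q'
      simp only at h'
      by_cases hik : i = k
      · subst hik
        exact Or.inl (resP_A_C v i0 hL hQ hQb i l h' _ rfl rfl)
      · by_cases hil : i = l
        · subst hil
          exact Or.inl (resP_A_C v i0 hL hQ hQb i k h'.symm _
            (by simp only [lead]; exact add_comm _ _)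
            (by simp only [tail]; exact tCs_symm v k i h'))
        · refine Or.inl (resP_cop v i0 ?_)
          exact disj_pair _ _ _ _ (by simp) (xi_ne (Ne.symm hik)) (by simp) (xi_ne (Ne.symm hil))
            _ _ _ _
    · -- A D
      exact Or.inl (resP_A_D v i0 hL hQ hQb i)
    · -- B A
      by_cases hij : i = j
      · subst hij; exact Or.inr (resP_A_B v i0 hL hQ hQb i)
      · refine Or.inl (resP_cop v i0 ?_)
        exact disj_pair _ _ _ _ (by simp) (by simp) (by simp) (xi_ne (Ne.symm hij)) _ _ _ _
    · -- B B
      by_cases hij : i = j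
      · subst hij; exact Or.inl (resP_self _ _ _ _)
      · exact Or.inl (resP_B_B v i0 hL hQ hQb i j hij)
    · -- B C
      obtain ⟨⟨k, l⟩, h'⟩ := q'
      simp only at h'
      by_cases hik : i = k
      · subst hik
        exact Or.inl (resP_B_C v i0 hL hQ hQb i l h' _ rfl rfl)
      · by_cases hil : i = l
        · subst hil
          exact Or.inl (resP_B_C v i0 hL hQ hQb i k h'.symm _
            (by simp only [lead]; exact add_comm _ _)
            (by simp only [tail]; exact tCs_symm v k i h'))
        · refine Or.inl (resP_cop v i0 ?_)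
          exact disj_pair _ _ _ _ (by simp) (xi_ne (Ne.symm hik)) (by simp) (xi_ne (Ne.symm hil))
            _ _ _ _
    · -- B D
      exact Or.inl (resP_B_D v i0 hL hQ hQb i)
    · -- C A
      obtain ⟨⟨k, l⟩, h'⟩ := q
      simp only at h'
      by_cases hik : j = k
      · subst hik
        exact Or.inr (resP_A_C v i0 hL hQ hQb j l h' _ rfl rfl)
      · by_cases hil : j = l
        · subst hil
          exact Or.inr (resP_A_C v i0 hL hQ hQb j k h'.symm _
            (by simp only [lead]; exact add_comm _ _)
            (by simp only [tail]; exact tCs_symm v k j h'))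
        · refine Or.inr (resP_cop v i0 ?_)
          exact disj_pair _ _ _ _ (by simp) (xi_ne (Ne.symm hik)) (by simp) (xi_ne (Ne.symm hil))
            _ _ _ _
    · -- C B
      obtain ⟨⟨k, l⟩, h'⟩ := q
      simp only at h'
      by_cases hik : j = k
      · subst hik
        exact Or.inr (resP_B_C v i0 hL hQ hQb j l h' _ rfl rfl)
      · by_cases hil : j = l
        · subst hil
          exact Or.inr (resP_B_C v i0 hL hQ hQb j k h'.symm _
            (by simp only [lead]; exact add_comm _ _)
            (by simp only [tail]; exact tCs_symm v k j h'))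
        · refine Or.inr (resP_cop v i0 ?_)
          exact disj_pair _ _ _ _ (by simp) (xi_ne (Ne.symm hik)) (by simp) (xi_ne (Ne.symm hil))
            _ _ _ _
    · -- C C
      exact Or.inl (resP_C_C v i0 hL hQ hQb hT q q')
    · -- C D
      refine Or.inl (resP_cop v i0 ?_)
      exact disj_pair _ _ _ _ (by simp) (by simp) (by simp) (by simp) _ _ _ _
    · -- D A
      exact Or.inr (resP_A_D v i0 hL hQ hQb j)
    · -- D B
      exact Or.inr (resP_B_D v i0 hL hQ hQb j)
    · -- D C
      refine Or.inl (resP_cop v i0 ?_)
      exact disj_pair _ _ _ _ (by simp) (by simp) (by simp) (by simp) _ _ _ _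
    · -- D D
      exact Or.inl (resP_self _ _ _ _)
  intro s t
  rcases key s t with h | h
  · exact h
  · exact h.symm

end res

end Groth.Agent.H77.CurveRules
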