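import Mathlib
import Groth.Prelude.Def_W4c5m1nsnscurvesC
import Groth.Agent.H77.CurveRes

/-!
# The monomials `cmon` form a basis of the genus one curve algebra when the relations of `U_n` hold
-/

set_option autoImplicit false
universe u

namespace Groth.Agent.H77.CurveRules

open MvPolynomial W4c5m1nsnscurves Groth.Agent.H77.Diamond Groth.Agent.H77.CurveCores
open Finsupp (single)

variable {R : Type u} [CommRing R] {m : ℕ} (v : UGen m → R) (i0 : Fin m)

/-- exponent vectors of the basis monomials -/
noncomputable def mon : Option (ℕ ⊕ (CVar m × ℕ)) → (CVar m →₀ ℕ)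
  | none => 0
  | some (Sum.inl k) => single .x2 (k + 1) + single .x3 1
  | some (Sum.inr (y, k)) => single y (k + 1)

lemma cmon_eq (idx : Option (ℕ ⊕ (CVar m × ℕ))) :
    cmon R m v idx = Ideal.Quotient.mk (Ideal.span (CRel R m v)) (monomial (mon idx) 1) := by
  rcases idx with _ | k | ⟨y, k⟩
  · simp only [cmon, mon]
    rw [← C_apply, C_1, map_one]
  · simp only [cmon, mon]
    rw [mono_pair, pow_one]
  · simp only [cmon, mon]
    rw [mono_single]

lemma pair_le {α : Type*} (a b : α) (hab : a ≠ b) (j k : ℕ) (u : α →₀ ℕ) :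
    single a j + single b k ≤ u ↔ j ≤ u a ∧ k ≤ u b := by
  classical
  rw [Finsupp.le_def]
  constructor
  · intro h
    have ha := h a
    have hb := h b
    simp only [Finsupp.add_apply, Finsupp.single_apply, if_pos rfl, if_neg hab, if_neg hab.symm,
      add_zero, zero_add] at ha hb
    exact ⟨ha, hb⟩
  · rintro ⟨ha, hb⟩ x
    by_cases hxa : a = x
    · subst hxa
      simp only [Finsupp.add_apply, Finsupp.single_apply, if_pos rfl, if_neg hab.symm, add_zero]
      exact ha
    · by_cases hxb : b = x
      · subst hxb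
        simp only [Finsupp.add_apply, Finsupp.single_apply, if_pos rfl, if_neg hxa, zero_add]
        exact hb
      · simp only [Finsupp.add_apply, Finsupp.single_apply, if_neg hxa, if_neg hxb, add_zero]
        exact Nat.zero_le _

lemma single_pos {α : Type*} {a x : α} {n k : ℕ} (hk : 1 ≤ k) (h : k ≤ single a n x) : a = x := by
  classical
  by_contra hne
  rw [Finsupp.single_apply, if_neg hne] at h
  omega

lemma lead_pair (s : Rule m) : ∃ (a b : CVar m) (j k : ℕ), a ≠ b ∧ 1 ≤ j ∧ 1 ≤ k ∧
    lead s = single a j + single b k := by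
  cases s with
  | A i => exact ⟨.x2, .xi i, 1, 1, by simp, le_rfl, le_rfl, rfl⟩
  | B i => exact ⟨.x3, .xi i, 1, 1, by simp, le_rfl, le_rfl, rfl⟩
  | Cc q => exact ⟨.xi q.1.1, .xi q.1.2, 1, 1, xi_ne q.2, le_rfl, le_rfl, rfl⟩
  | D => exact ⟨.x2, .x3, 1, 2, by simp, le_rfl, by norm_num, rfl⟩

lemma mon_normal (idx : Option (ℕ ⊕ (CVar m × ℕ))) : ¬ ∃ s : Rule m, lead s ≤ mon idx := by
  classical
  rintro ⟨s, hs⟩
  rcases idx with _ | k | ⟨y, k⟩
  · obtain ⟨a, b, j, k, hab, hj, hk, he⟩ := lead_pair s
    rw [he, pair_le a b hab] at hs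
    have := hs.1
    simp only [mon, Finsupp.coe_zero, Pi.zero_apply] at this
    omega
  · cases s with
    | A i =>
      have h := ((pair_le _ _ (by simp) _ _ _).1 hs).2
      simp [mon, Finsupp.single_apply] at h
    | B i =>
      have h := ((pair_le _ _ (by simp) _ _ _).1 hs).2
      simp [mon, Finsupp.single_apply] at h
    | Cc q =>
      have h := ((pair_le _ _ (xi_ne q.2) _ _ _).1 hs).2
      simp [mon, Finsupp.single_apply] at h
    | D =>
      have h := ((pair_le _ _ (by simp) _ _ _).1 hs).2
      simp [mon, Finsupp.single_apply] at h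
  · obtain ⟨a, b, j, k', hab, hj, hk, he⟩ := lead_pair s
    rw [he, pair_le a b hab] at hs
    simp only [mon] at hs
    have h1 := single_pos hj hs.1
    have h2 := single_pos hk hs.2
    exact hab (h1.symm.trans h2)

lemma normal_mon (u : CVar m →₀ ℕ) (hu : ¬ ∃ s : Rule m, lead s ≤ u) : ∃ idx, u = mon idx := by
  classical
  have hA : ∀ i, ¬ (1 ≤ u .x2 ∧ 1 ≤ u (.xi i)) := fun i h =>
    hu ⟨.A i, (pair_le _ _ (by simp) _ _ _).2 h⟩
  have hB : ∀ i, ¬ (1 ≤ u .x3 ∧ 1 ≤ u (.xi i)) := fun i h =>
    hu ⟨.B i, (pair_le _ _ (by simp) _ _ _).2 h⟩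
  have hC : ∀ i j, i ≠ j → ¬ (1 ≤ u (.xi i) ∧ 1 ≤ u (.xi j)) := fun i j hij h =>
    hu ⟨.Cc ⟨(i, j), hij⟩, (pair_le _ _ (xi_ne hij) _ _ _).2 h⟩
  have hD : ¬ (1 ≤ u .x2 ∧ 2 ≤ u .x3) := fun h =>
    hu ⟨.D, (pair_le _ _ (by simp) _ _ _).2 h⟩
  by_cases hx : ∃ i, 1 ≤ u (.xi i)
  · obtain ⟨i, hi⟩ := hx
    have h2 : u .x2 = 0 := by have := hA i; omega
    have h3 : u .x3 = 0 := by have := hB i; omega
    have hj : ∀ j, j ≠ i → u (.xi j) = 0 := fun j hji => by
      have := hC i j (Ne.symm hji); omega
    refine ⟨some (Sum.inr (.xi i, u (.xi i) - 1)), ?_⟩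
    ext x
    simp only [mon]
    cases x with
    | x2 => rw [Finsupp.single_apply, if_neg (by simp), h2]
    | x3 => rw [Finsupp.single_apply, if_neg (by simp), h3]
    | xi j =>
      by_cases hji : j = i
      · subst hji
        rw [Finsupp.single_apply, if_pos rfl]; omega
      · rw [Finsupp.single_apply, if_neg (xi_ne (Ne.symm hji)), hj j hji]
  · push Not at hx
    have hx0 : ∀ i, u (.xi i) = 0 := fun i => by have := hx i; omega
    rcases Nat.eq_zero_or_pos (u .x2) with h2 | h2
    · rcases Nat.eq_zero_or_pos (u .x3) with h3 | h3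
      · refine ⟨none, ?_⟩
        ext x
        simp only [mon, Finsupp.coe_zero, Pi.zero_apply]
        cases x with
        | x2 => exact h2
        | x3 => exact h3
        | xi j => exact hx0 j
      · refine ⟨some (Sum.inr (.x3, u .x3 - 1)), ?_⟩
        ext x
        simp only [mon]
        cases x with
        | x2 => rw [Finsupp.single_apply, if_neg (by simp), h2]
        | x3 => rw [Finsupp.single_apply, if_pos rfl]; omega
        | xi j => rw [Finsupp.single_apply, if_neg (by simp), hx0 j]
    · rcases Nat.eq_zero_or_pos (u .x3) with h3 | h3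
      · refine ⟨some (Sum.inr (.x2, u .x2 - 1)), ?_⟩
        ext x
        simp only [mon]
        cases x with
        | x2 => rw [Finsupp.single_apply, if_pos rfl]; omega
        | x3 => rw [Finsupp.single_apply, if_neg (by simp), h3]
        | xi j => rw [Finsupp.single_apply, if_neg (by simp), hx0 j]
      · have h31 : u .x3 = 1 := by omega
        refine ⟨some (Sum.inl (u .x2 - 1)), ?_⟩
        ext x
        simp only [mon, Finsupp.add_apply]
        cases x with
        | x2 =>
          rw [Finsupp.single_apply, if_pos rfl, Finsupp.single_apply, if_neg (by simp)]; omega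
        | x3 =>
          rw [Finsupp.single_apply, if_neg (by simp), Finsupp.single_apply, if_pos rfl, h31]
        | xi j =>
          rw [Finsupp.single_apply, if_neg (by simp), Finsupp.single_apply, if_neg (by simp),
            hx0 j, add_zero]

lemma mon_inj : Function.Injective (mon (m := m)) := by
  classical
  intro a b hab
  rcases a with _ | k | ⟨y, k⟩ <;> rcases b with _ | k' | ⟨y', k'⟩
  · rfl
  · have := DFunLike.congr_fun hab CVar.x3
    simp [mon, Finsupp.single_apply] at this
  · have := DFunLike.congr_fun hab y'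
    simp [mon] at this
  · have := DFunLike.congr_fun hab CVar.x3
    simp [mon, Finsupp.single_apply] at this
  · have := DFunLike.congr_fun hab CVar.x2
    simp [mon, Finsupp.single_apply] at this
    rw [this]
  · have h2 := DFunLike.congr_fun hab CVar.x2
    have h3 := DFunLike.congr_fun hab CVar.x3
    cases y' <;> simp [mon, Finsupp.single_apply] at h2 h3
  · have := DFunLike.congr_fun hab y
    simp [mon] at this
  · have h2 := DFunLike.congr_fun hab CVar.x2
    have h3 := DFunLike.congr_fun hab CVar.x3
    cases y <;> simp [mon, Finsupp.single_apply] at h2 h3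
  · simp only [mon] at hab
    rcases (Finsupp.single_eq_single_iff _ _ _ _).1 hab with ⟨h1, h2⟩ | ⟨h1, _⟩
    · have : k = k' := by omega
      rw [h1, this]
    · omega

include i0 in
/-- spanning holds for every assignment `v` (as soon as there is one index) -/
theorem span_top : Submodule.span R (Set.range (cmon R m v)) = ⊤ := by
  have h := span_normal_eq_top cwt lead (tail v i0) (htail v i0) (Ideal.span (CRel R m v))
    (g_mem v i0)
  rw [eq_top_iff, ← h]
  apply Submodule.span_mono
  rintro x ⟨u, hu, rfl⟩
  obtain ⟨idx, rfl⟩ := normal_mon u hu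
  exact ⟨idx, cmon_eq v idx⟩

section indep

variable (hL : ∀ (i j : Fin m) (h : i ≠ j), v (.cij i j h) + v (.cij j i h.symm)
    - (v .a + v (.ci i) + v (.cbi i) + v (.ci j) + v (.cbi j)) = 0)
  (hQ : ∀ (i j : Fin m) (h : i ≠ j), v (.cij j i h.symm) * v (.ci j) + v (.cij i j h) * v (.ci i)
    - v (.ci i) * v (.ci j) - v .c = 0)
  (hQb : ∀ (i j : Fin m) (h : i ≠ j), v (.cij j i h.symm) * v (.cbi i)
    + v (.cij i j h) * v (.cbi j) - v (.cbi i) * v (.cbi j) - v .cb = 0)
  (hT : ∀ (i j k : Fin m) (hij : i ≠ j) (hjk : j ≠ k) (hik : i ≠ k),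
    v (.cij i j hij) * v (.cij j k hjk) + v (.cij j i hij.symm) * v (.cij i k hik)
      - v (.cij i k hik) * v (.cij j k hjk) + (v .a + v (.ci k) + v (.cbi k)) * v (.ci k)
      - v .c = 0)

include i0 hL hQ hQb hT in
theorem indep : LinearIndependent R (cmon R m v) := by
  classical
  have hv : LinearIndependent R (fun idx => (monomial (mon (m := m) idx) (1 : R))) := by
    have := (basisMonomials (CVar m) R).linearIndependent.comp mon mon_inj
    have e : (fun idx => (monomial (mon (m := m) idx) (1 : R)))
        = (basisMonomials (CVar m) R) ∘ mon := by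
      funext idx
      simp only [Function.comp_apply, coe_basisMonomials]
    rw [e]; exact this
  set f : MvPolynomial (CVar m) R →ₗ[R] CurveAlg R m v :=
    (Ideal.Quotient.mkₐ R (Ideal.span (CRel R m v))).toLinearMap with hf
  have hdisj : Disjoint (Submodule.span R (Set.range fun idx =>
      (monomial (mon (m := m) idx) (1 : R)))) (LinearMap.ker f) := by
    rw [Submodule.disjoint_def]
    intro p hp
    have hsupp : ∀ u ∈ p.support, ∃ idx, u = mon idx := by
      induction hp using Submodule.span_induction with
      | mem p hp =>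
        obtain ⟨idx, rfl⟩ := hp
        intro u hu
        have := support_monomial_subset hu
        exact ⟨idx, Finset.mem_singleton.1 this⟩
      | zero => intro u hu; simp at hu
      | add x y _ _ hx hy =>
        intro u hu
        rcases Finset.mem_union.1 (support_add hu) with h | h
        · exact hx u h
        · exact hy u h
      | smul a x _ hx =>
        intro u hu
        exact hx u (support_smul hu)
    intro hker
    have hmem : p ∈ Ideal.span (CRel R m v) := by
      have : Ideal.Quotient.mk (Ideal.span (CRel R m v)) p = 0 := hker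
      exact Ideal.Quotient.eq_zero_iff_mem.1 this
    have hmem' : p ∈ Ideal.span (Set.range (g lead (tail v i0))) :=
      Ideal.span_mono (CRel_subset v i0) hmem
    refine eq_zero_of_mem_of_normal cwt lead (tail v i0) (htail v i0)
      (res_of_resP cwt lead (tail v i0) (res_all v i0 hL hQ hQb hT)) p hmem' ?_
    intro u hu
    obtain ⟨idx, rfl⟩ := hsupp u hu
    exact mon_normal idx
  have := hv.map hdisj
  have e : cmon R m v = f ∘ fun idx => (monomial (mon (m := m) idx) (1 : R)) := by
    funext idx
    rw [cmon_eq]; rfl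
  rw [e]; exact this

end indep

end Groth.Agent.H77.CurveRules
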