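import Groth.Agent.H5.ExDefs
import Groth.Agent.H26.Ex_D1

/-!
# (B) for helper5's S0829 squad: `ker(Φ_n → F_n) ⊆ I^{n+1} Φ_n` (helper77)

Submodule form of the element chase on sections over an affine open.
-/
set_option autoImplicit false
universe u
open CategoryTheory CategoryTheory.Limits AlgebraicGeometry Opposite
open Groth.Agent.S9528 Groth.Agent.H5.Ker Groth.Agent.H5.Ex Groth.Agent.H5.KerLoc
open Groth.Agent.H8 (appₗ app_res)
open Groth.Agent.S0833 (Jm)

namespace Groth.Agent.H77.Ex_B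

variable {A : Type u} [CommRing A] {X : Scheme.{u}} [X.Over (Spec (CommRingCat.of A))] (I : Ideal A)

/-- (D2), inline copy: if `L` kills `coker f` then `b • y ∈ range f` on affine sections,
`b ∈ L Γ(X, W)`. -/
theorem smul_mem_range_of_killed_coker {M N : X.Modules} [M.IsQuasicoherent] [N.IsQuasicoherent]
    (f : M ⟶ N) {L : Ideal A} (h : Formal.KilledBy L (cokernel f)) {W : X.Opens}
    (hW : IsAffineOpen W) (b : Γ(X, W)) (hb : b ∈ Jm L W) (y : Γ(N, W)) :
    ∃ x : Γ(M, W), f.app W x = b • y := by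
  haveI : (cokernel f).IsQuasicoherent := Groth.Agent.H8.isQuasicoherent_cokernel f
  haveI : (Abelian.image f).IsQuasicoherent :=
    Groth.Agent.H22.QCohLimits.isQuasicoherent_kernel (cokernel.π f)
  have h0 : (cokernel.π f).app W (b • y) = 0 := by
    rw [Scheme.Modules.Hom.app_smul]
    exact Groth.Agent.S0833.smul_eq_zero_of_killed h W b hb _
  let S : ShortComplex X.Modules :=
    ShortComplex.mk (Abelian.image.ι f) (cokernel.π f) (kernel.condition _)
  have hS : S.Exact := ShortComplex.exact_of_f_is_kernel _ (kernelIsKernel (cokernel.π f))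
  haveI : Mono S.f := inferInstanceAs (Mono (kernel.ι (cokernel.π f)))
  obtain ⟨x, hx⟩ := Groth.Agent.H8.exists_app_eq_of_exact S hS W (b • y) h0
  obtain ⟨x₀, hx₀⟩ := Groth.Agent.S0833.app_surjective_of_epi (Abelian.factorThruImage f) hW x
  refine ⟨x₀, ?_⟩
  have hfac : Abelian.factorThruImage f ≫ Abelian.image.ι f = f := Abelian.image.fac f
  have e1 : f.app W x₀ = (Abelian.image.ι f).app W ((Abelian.factorThruImage f).app W x₀) := by
    have := congrArg (fun φ : M ⟶ N => φ.app W x₀) hfac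
    exact this.symm
  rw [e1, hx₀]
  exact hx

variable {G : X.Modules} {F : ℕᵒᵖ ⥤ X.Modules} (α : F ⟶ Formal.completion I G)

theorem ker_p_sections [IsNoetherian X] (hG : Coh.IsCoh G) (hF : Formal.IsCohFormal I F) {t : ℕ}
    (hcok : ∀ n, Formal.KilledBy (I ^ t) (cokernel (α.app (op n)))) (s n : ℕ) (hs : t ≤ s)
    {W : X.Opens} (hW : IsAffineOpen W) (ζ : Γ(Φ I α s n, W))
    (hζ : (pΦ I α s n).app W ζ = 0) :
    ζ ∈ Jm (I ^ (n + 1)) W • (⊤ : Submodule Γ(X, W) Γ(Φ I α s n, W)) := by
  haveI : G.IsQuasicoherent := hG.1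
  haveI hFq : ∀ k, (F.obj (op k)).IsQuasicoherent := fun k => (hF.1 k).1
  have hGc := Groth.Agent.S9536.isCohFormal_completion I G hG
  haveI hGq : ∀ k, ((Formal.completion I G).obj (op k)).IsQuasicoherent := fun k => (hGc.1 k).1
  haveI hPq : ∀ k, (P I α k).IsQuasicoherent := fun k =>
    Groth.Agent.H22.QCohLimits.isQuasicoherent_pullback _ _
  haveI : (cokernel (tP I α (Nat.le_add_right n s))).IsQuasicoherent :=
    Groth.Agent.H8.isQuasicoherent_cokernel _
  haveI : (Φ I α s n).IsQuasicoherent :=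
    Groth.Agent.H22.QCohLimits.isQuasicoherent_kernel
      (cokernel.π (tP I α (Nat.le_add_right n s)))
  haveI : Epi (πG I G (n + s)) := inferInstanceAs (Epi (cokernel.π _))
  -- linear maps on sections
  let fst := appₗ (fstP I α (n + s)) W
  let snd := appₗ (sndP I α (n + s)) W
  let aa := appₗ (α.app (op (n + s))) W
  let ππ := appₗ (πG I G (n + s)) W
  let TT := Tm F W (Nat.le_add_right n s)
  let φπ := appₗ (Φπ I α s n) W
  set JJ : Ideal Γ(X, W) := Jm (I ^ (n + 1)) W with hJJ
  -- (F1)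
  have hcond : ∀ w, aa (fst w) = ππ (snd w) := by
    intro w
    have := congrArg (fun φ : P I α (n + s) ⟶ _ => φ.app W w) (condP I α (n + s))
    exact this
  -- sections of the pullback
  have hD1 : ∀ (y : Γ(F.obj (op (n + s)), W)) (m : Γ(G, W)), aa y = ππ m →
      ∃ w, fst w = y ∧ snd w = m := fun y m h =>
    Groth.Agent.H26.Ex_D1.pullback_section (α.app (op (n + s))) (πG I G (n + s)) W y m h
  have hππ : Function.Surjective ππ :=
    Groth.Agent.S0833.app_surjective_of_epi (πG I G (n + s)) hW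
  -- (F2)
  have hfst : LinearMap.range fst = ⊤ := by
    rw [LinearMap.range_eq_top]
    intro y
    obtain ⟨m, hm⟩ := hππ (aa y)
    obtain ⟨w, hw, -⟩ := hD1 y m hm.symm
    exact ⟨w, hw⟩
  -- (F3)
  have hkT : LinearMap.ker (Tm F W (Nat.le_add_right n s)) =
      JJ • (⊤ : Submodule Γ(X, W) Γ(F.obj (op (n + s)), W)) := by
    rw [ker_Tm I hF hW (Nat.le_add_right n s), hJJ]
    congr 1
    exact (Ideal.map_pow _ _ _).symm
  -- (F4)
  have hkπ : LinearMap.ker ππ =
      JJ • (Jm (I ^ s) W • (⊤ : Submodule Γ(X, W) Γ(G, W))) := by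
    have h1 := Groth.Agent.S0833.ker_π I G (n + s + 1) hW
    have h2 : Jm (I ^ (n + s + 1)) W = JJ * Jm (I ^ s) W := by
      have : n + s + 1 = (n + 1) + s := by omega
      rw [hJJ, this, pow_add]
      exact Ideal.map_mul _ _ _
    rw [← Submodule.mul_smul, ← h2]
    exact h1
  -- (F5)
  have hV : Jm (I ^ s) W • (⊤ : Submodule Γ(X, W) Γ(G, W)) ≤
      Submodule.comap ππ (LinearMap.range aa) := by
    refine Submodule.smul_le.2 (fun b hb y _ => ?_)
    have hb' : b ∈ Jm (I ^ t) W := Ideal.map_mono (Ideal.pow_le_pow_right hs) hb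
    obtain ⟨x, hx⟩ := smul_mem_range_of_killed_coker (α.app (op (n + s))) (hcok (n + s)) hW b hb'
      (ππ y)
    rw [Submodule.mem_comap, map_smul]
    exact ⟨x, hx⟩
  -- (F6)
  have hsnd : Submodule.comap ππ (LinearMap.range aa) ≤ LinearMap.range snd := by
    rintro g ⟨z, hz⟩
    obtain ⟨w, -, hw⟩ := hD1 z g hz
    exact ⟨w, hw⟩
  set Q : Submodule Γ(X, W) Γ(P I α (n + s), W) := JJ • ⊤ with hQ
  have hmapfst : Submodule.map fst Q = LinearMap.ker TT := by
    rw [hQ, Submodule.map_smul'', Submodule.map_top, hfst]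
    exact hkT.symm
  have hmapsnd : LinearMap.ker ππ ≤ Submodule.map snd Q := by
    rw [hQ, Submodule.map_smul'', Submodule.map_top, hkπ]
    exact Submodule.smul_mono le_rfl (hV.trans hsnd)
  -- (F7)
  have hzero : ∀ r, TT (fst r) = 0 → snd r = 0 → φπ r = 0 := by
    intro r h1 h2
    have hinj : Function.Injective ((Φι I α s n).app W) :=
      Groth.Agent.H8.app_injective_of_mono (Φι I α s n) W
    apply hinj
    have e0 : (Φι I α s n).app W (φπ r) = (tP I α (Nat.le_add_right n s)).app W r := by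
      have := congrArg (fun φ : P I α (n + s) ⟶ _ => φ.app W r) (Φπ_ι I α s n)
      exact this
    refine (e0.trans ?_).trans (map_zero ((Φι I α s n).app W).hom).symm
    refine Groth.Agent.H26.Ex_D1.pullback_section_ext (α.app (op n)) (πG I G n) W _ _ ?_ ?_
    · have := congrArg (fun φ : P I α (n + s) ⟶ _ => φ.app W r)
        (tP_fst I α (Nat.le_add_right n s))
      exact (this.trans h1).trans
        (map_zero ((pullback.fst (α.app (op n)) (πG I G n)).app W).hom).symm
    · have := congrArg (fun φ : P I α (n + s) ⟶ _ => φ.app W r)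
        (tP_snd I α (Nat.le_add_right n s))
      exact (this.trans h2).trans
        (map_zero ((pullback.snd (α.app (op n)) (πG I G n)).app W).hom).symm
  -- the chase
  obtain ⟨w, rfl⟩ : ∃ w, φπ w = ζ :=
    Groth.Agent.S0833.app_surjective_of_epi (Φπ I α s n) hW ζ
  have hTw : TT (fst w) = 0 := by
    have e1 : (pΦ I α s n).app W (φπ w) = TT (fst w) := by
      have h1 := congrArg (fun φ : P I α (n + s) ⟶ _ => φ.app W w)
        (Φπ_ι_assoc I α s n (fstP I α n))
      have h2 := congrArg (fun φ : P I α (n + s) ⟶ _ => φ.app W w)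
        (tP_fst I α (Nat.le_add_right n s))
      exact h1.trans h2
    rw [← e1]
    exact hζ
  obtain ⟨w₁, hw₁Q, hw₁⟩ : ∃ w₁ ∈ Q, fst w₁ = fst w := by
    have : fst w ∈ Submodule.map fst Q := by
      rw [hmapfst]
      exact hTw
    exact this
  have hw₂ : snd (w - w₁) ∈ LinearMap.ker ππ := by
    rw [LinearMap.mem_ker, ← hcond, map_sub, hw₁, sub_self, map_zero]
  obtain ⟨w₃, hw₃Q, hw₃⟩ : ∃ w₃ ∈ Q, snd w₃ = snd (w - w₁) := hmapsnd hw₂
  have hr : φπ (w - w₁ - w₃) = 0 := by
    apply hzero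
    · have h3 : TT (fst w₃) = 0 := by
        have : fst w₃ ∈ LinearMap.ker TT := by
          rw [← hmapfst]
          exact ⟨w₃, hw₃Q, rfl⟩
        exact this
      have e : fst (w - w₁ - w₃) = - fst w₃ := by
        rw [map_sub, map_sub, hw₁, sub_self, zero_sub]
      rw [e, map_neg, h3, neg_zero]
    · rw [map_sub, hw₃, sub_self]
  have hsum : φπ w = φπ (w₁ + w₃) := by
    have : w = (w - w₁ - w₃) + (w₁ + w₃) := by abel
    conv_lhs => rw [this]
    rw [map_add, hr, zero_add]
  rw [hsum]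
  have hmem : φπ (w₁ + w₃) ∈ Submodule.map φπ Q := ⟨_, Q.add_mem hw₁Q hw₃Q, rfl⟩
  rw [hQ, Submodule.map_smul''] at hmem
  exact Submodule.smul_mono le_rfl le_top hmem

/-- **(B)** -/
theorem ker_p [IsNoetherian X] (hG : Coh.IsCoh G) (hF : Formal.IsCohFormal I F) {t : ℕ}
    (hcok : ∀ n, Formal.KilledBy (I ^ t) (cokernel (α.app (op n)))) (s n : ℕ) (hs : t ≤ s) :
    kernel.ι (pΦ I α s n) ≫ Formal.modPowπ I (n + 1) (Φ I α s n) = 0 := by
  haveI : G.IsQuasicoherent := hG.1
  haveI hFq : ∀ k, (F.obj (op k)).IsQuasicoherent := fun k => (hF.1 k).1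
  have hGc := Groth.Agent.S9536.isCohFormal_completion I G hG
  haveI hGq : ∀ k, ((Formal.completion I G).obj (op k)).IsQuasicoherent := fun k => (hGc.1 k).1
  haveI hPq : ∀ k, (P I α k).IsQuasicoherent := fun k =>
    Groth.Agent.H22.QCohLimits.isQuasicoherent_pullback _ _
  haveI : (cokernel (tP I α (Nat.le_add_right n s))).IsQuasicoherent :=
    Groth.Agent.H8.isQuasicoherent_cokernel _
  haveI : (Φ I α s n).IsQuasicoherent :=
    Groth.Agent.H22.QCohLimits.isQuasicoherent_kernel
      (cokernel.π (tP I α (Nat.le_add_right n s)))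
  haveI : (kernel (pΦ I α s n)).IsQuasicoherent :=
    Groth.Agent.H22.QCohLimits.isQuasicoherent_kernel _
  apply eq_zero_of_affine_cover _ (fun V : X.affineOpens => (V : X.Opens))
    (TopologicalSpace.IsOpenCover.mk (iSup_affineOpens_eq_top X)) (fun V => V.2)
  intro V ζ'
  have hζ : (pΦ I α s n).app (V : X.Opens) ((kernel.ι (pΦ I α s n)).app (V : X.Opens) ζ') = 0 :=
    kernel_ι_app_comp (pΦ I α s n) (V : X.Opens) ζ'
  have hmem := ker_p_sections I α hG hF hcok s n hs V.2 _ hζ
  rw [← Groth.Agent.S0833.ker_π I (Φ I α s n) (n + 1) V.2] at hmem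
  exact hmem

end Groth.Agent.H77.Ex_B
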