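import Groth.Agent.H5.ExDefs

/-!
# (E) for helper5's S0829 squad: a compatible family of quotient presentations `M ↠ F_{N₀+k}`
identifies `F` with the completion of `M` (helper77; pattern of `Groth.Agent.S0832.main`).
-/
set_option autoImplicit false
universe u
open CategoryTheory CategoryTheory.Limits AlgebraicGeometry Opposite
open Groth.Agent.S9528 Groth.Agent.H5.Ker Groth.Agent.H5.Ex
open Groth.Agent.H8 (appₗ app_res)
open Groth.Agent.S0833 (Jm)

namespace Groth.Agent.H77.Ex_E

variable {A : Type u} [CommRing A] {X : Scheme.{u}} [X.Over (Spec (CommRingCat.of A))] (I : Ideal A)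

theorem exists_β {F : ℕᵒᵖ ⥤ X.Modules} (hF : Formal.IsCohFormal I F) (M : X.Modules) (N₀ : ℕ)
    (q : ∀ k : ℕ, M ⟶ F.obj (op (N₀ + k)))
    (hq : ∀ k, q (k + 1) ≫ F.map (homOfLE (Nat.le_succ (N₀ + k))).op = q k)
    (hcol : ∀ k, IsQuot (I ^ (N₀ + k + 1)) (q k)) :
    ∃ β : F ≅ Formal.completion I M, ∀ n : ℕ,
      Formal.modPowπ I (n + 1) M ≫ β.inv.app (op n) =
        q n ≫ F.map (homOfLE (Nat.le_add_left n N₀)).op := by
  let p : ∀ n : ℕ, M ⟶ F.obj (op n) := fun n => q n ≫ F.map (homOfLE (Nat.le_add_left n N₀)).op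
  have hp : ∀ n : ℕ, p (n + 1) ≫ F.map (homOfLE (Nat.le_succ n)).op = p n := by
    intro n
    change (q (n + 1) ≫ F.map (homOfLE (Nat.le_add_left (n + 1) N₀)).op) ≫
      F.map (homOfLE (Nat.le_succ n)).op = q n ≫ F.map (homOfLE (Nat.le_add_left n N₀)).op
    rw [Category.assoc, Groth.Agent.S0832.map_comp_le F (Nat.le_succ n) (Nat.le_add_left (n + 1) N₀),
      ← hq n, Category.assoc,
      Groth.Agent.S0832.map_comp_le F (Nat.le_add_left n N₀) (Nat.le_succ (N₀ + n))]
  have hquot : ∀ n : ℕ, IsQuot (I ^ (n + 1)) (p n) := fun n =>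
    IsQuot.comp (Sub.of_le (Ideal.pow_le_pow_right (by omega))) (hcol n)
      (isQuot_of_cohFormal I hF _)
  have h : ∀ n : ℕ, Formal.smulFamily (I ^ (n + 1)) M ≫ p n = 0 := fun n => (hquot n).w
  let e : ∀ n : ℕ, Formal.modPow I (n + 1) M ⟶ F.obj (op n) :=
    fun n => cokernel.desc _ (p n) (h n)
  have he : ∀ n, IsIso (e n) := fun n =>
    Groth.Agent.S0835.isIso_desc_of_isColimit _ _ (h n) (hquot n).2.some
  let α : Formal.completion I M ⟶ F :=
    NatTrans.ofOpSequence (F := Formal.completion I M) (G := F) e (by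
      intro n
      have h1 : (Formal.completion I M).map (homOfLE (n.le_add_right 1)).op =
          Formal.modPowTrans I (n + 1) M :=
        Functor.ofOpSequence_map_homOfLE_succ _ n
      rw [h1]
      apply coequalizer.hom_ext
      change Formal.modPowπ I (n + 1 + 1) M ≫ Formal.modPowTrans I (n + 1) M ≫ e n =
        cokernel.π _ ≫ cokernel.desc _ (p (n + 1)) (h (n + 1)) ≫ F.map (homOfLE _).op
      rw [← Category.assoc, Formal.modPowπ_trans, ← Category.assoc, cokernel.π_desc]
      change cokernel.π _ ≫ cokernel.desc _ (p n) (h n) = _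
      rw [cokernel.π_desc]
      exact (hp n).symm)
  haveI : ∀ k : ℕᵒᵖ, IsIso (α.app k) := fun k => he k.unop
  haveI : IsIso α := NatIso.isIso_of_isIso_app α
  refine ⟨(asIso α).symm, fun n => ?_⟩
  change cokernel.π _ ≫ cokernel.desc _ (p n) (h n) = _
  rw [cokernel.π_desc]

end Groth.Agent.H77.Ex_E
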