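import Mathlib
import Groth.Agent.H21.TrdegDim
import Groth.Agent.H54.IntegralDim

/-!
# Generic translates miss lower-dimensional pieces over finitely many closed points
-/

namespace Groth.Agent.H77.FaceA

open TensorProduct

universe u v w

variable {k : Type u} [Field k] {r : ℕ}

/-- In a `k`-algebra of finite type and dimension `< r`, any `r` elements satisfy a nonzero
polynomial relation. -/
theorem exists_relation {R₁ : Type u} [CommRing R₁] [Algebra k R₁] [Algebra.FiniteType k R₁]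
    (hdim : ringKrullDim R₁ < (r : WithBot ℕ∞)) (u : Fin r → R₁) :
    ∃ h : MvPolynomial (Fin r) k, h ≠ 0 ∧ MvPolynomial.aeval u h = 0 := by
  by_contra hcon
  push Not at hcon
  have hind : AlgebraicIndependent k u := by
    rw [algebraicIndependent_iff]
    intro p hp
    by_contra hp0
    exact hcon p hp0 hp
  have h1 := Groth.Agent.H21.SegreDim.natCast_le_ringKrullDim_of_algebraicIndependent hind
  rw [Fintype.card_fin] at h1
  exact absurd (lt_of_le_of_lt h1 hdim) (lt_irrefl _)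

theorem exists_h_abstract {A LP : Type u} [CommRing A] [Algebra k A] (hA : Algebra.FiniteType k A)
    [CommRing LP] [Algebra k LP] (hLP : Module.Finite k LP)
    (hdimA : ringKrullDim A < (r : WithBot ℕ∞))
    (xA : Fin r → A) (ξP : Fin r → LP) (b : A) (N : ℕ) :
    ∃ h : MvPolynomial (Fin r) k, h ≠ 0 ∧
      ∀ (L : Type w) [CommRing L] [Algebra k L] (evA : A →ₐ[k] L) (evP : LP →ₐ[k] L),
        MvPolynomial.aeval (fun i => (evA (xA i) - evP (ξP i)) * evA b ^ N) h = 0 := by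
  classical
  haveI := hA
  haveI := hLP
  haveI : Module.Finite A (A ⊗[k] LP) := inferInstance
  haveI : Algebra.IsIntegral A (A ⊗[k] LP) := Algebra.IsIntegral.of_finite A (A ⊗[k] LP)
  have hdim1 : ringKrullDim (A ⊗[k] LP) ≤ ringKrullDim A :=
    Groth.Agent.H54.ringKrullDim_le_of_isIntegral
  haveI : Algebra.FiniteType A (A ⊗[k] LP) := inferInstance
  haveI : Algebra.FiniteType k (A ⊗[k] LP) :=
    Algebra.FiniteType.trans (inferInstance : Algebra.FiniteType k A)
      (inferInstance : Algebra.FiniteType A (A ⊗[k] LP))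
  obtain ⟨h, hh0, hh⟩ := exists_relation (k := k) (R₁ := A ⊗[k] LP)
    (lt_of_le_of_lt hdim1 hdimA)
    (fun i => (xA i ⊗ₜ[k] (1 : LP) - (1 : A) ⊗ₜ[k] ξP i) * ((b ^ N) ⊗ₜ[k] (1 : LP)))
  refine ⟨h, hh0, ?_⟩
  intro L _ _ evA evP
  have h1 := MvPolynomial.comp_aeval_apply (Algebra.TensorProduct.productMap evA evP)
    (f := fun i => (xA i ⊗ₜ[k] (1 : LP) - (1 : A) ⊗ₜ[k] ξP i) * ((b ^ N) ⊗ₜ[k] (1 : LP))) h
  rw [hh, map_zero] at h1
  have e : (fun i => (Algebra.TensorProduct.productMap evA evP)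
        ((xA i ⊗ₜ[k] (1 : LP) - (1 : A) ⊗ₜ[k] ξP i) * ((b ^ N) ⊗ₜ[k] (1 : LP)))) =
      fun i => (evA (xA i) - evP (ξP i)) * evA b ^ N := by
    funext i
    simp
  rw [e] at h1
  exact h1.symm

theorem exists_h_face (d N : ℕ) (hr : 1 ≤ r)
    (I : Ideal (MvPolynomial (Fin r ⊕ (Unit ⊕ Fin d)) k))
    (ht0 : I ⊔ Ideal.span {MvPolynomial.X (Sum.inr (Sum.inl ()))} = ⊤)
    (S : Finset (Fin d)) (hS : S.Nonempty) (ε : Fin d → k)
    (hdimS : ringKrullDim (MvPolynomial (Fin r ⊕ (Unit ⊕ Fin d)) k ⧸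
        (I ⊔ Ideal.span ((fun i => MvPolynomial.X (Sum.inr (Sum.inr i)) - MvPolynomial.C (ε i)) ''
          (S : Set (Fin d))))) ≤ (r - S.card : ℕ))
    (P : Ideal (MvPolynomial (Fin r) k)) (hP : P.IsMaximal) :
    ∃ h : MvPolynomial (Fin r) k, h ≠ 0 ∧
      ∀ (K : Type v) [Field K] [Algebra k K] (g : Fin r → K), MvPolynomial.aeval g h ≠ 0 →
        ∀ (L : Type w) [Field L] [Algebra k L] [Algebra K L] [IsScalarTower k K L]
          (ξ : Fin r → L) (t : L) (y : Fin d → L),
          (∀ p ∈ P, MvPolynomial.aeval ξ p = 0) →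
              (∀ i ∈ S, y i = algebraMap k L (ε i)) →
                ¬ (∀ q ∈ I, MvPolynomial.aeval
                    (Sum.elim (fun i => ξ i + t ^ N * algebraMap K L (g i))
                      (Sum.elim (fun _ : Unit => t) y)) q = 0) := by
  classical
  set IS : Ideal (MvPolynomial (Fin r ⊕ (Unit ⊕ Fin d)) k) :=
    I ⊔ Ideal.span ((fun i => MvPolynomial.X (Sum.inr (Sum.inr i)) - MvPolynomial.C (ε i)) ''
          (S : Set (Fin d))) with hIS
  have hLP : Module.Finite k (MvPolynomial (Fin r) k ⧸ P) := by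
    let := Ideal.Quotient.field P
    exact finite_of_finite_type_of_isJacobsonRing k _
  have hA : Algebra.FiniteType k (MvPolynomial (Fin r ⊕ (Unit ⊕ Fin d)) k ⧸ IS) :=
    Algebra.FiniteType.of_surjective (Ideal.Quotient.mkₐ k IS) (Ideal.Quotient.mkₐ_surjective k IS)
  have hlt : ((r - S.card : ℕ) : WithBot ℕ∞) < (r : WithBot ℕ∞) := by
    have h1 : 0 < S.card := hS.card_pos
    have h2 : r - S.card < r := by omega
    exact_mod_cast h2
  -- invert t modulo I
  obtain ⟨a₀, ha₀, c₀, hc₀, hac⟩ := Submodule.mem_sup.1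
    (show (1 : MvPolynomial (Fin r ⊕ (Unit ⊕ Fin d)) k) ∈
      I ⊔ Ideal.span {MvPolynomial.X (Sum.inr (Sum.inl ()))} by rw [ht0]; trivial)
  obtain ⟨b₀, rfl⟩ := Ideal.mem_span_singleton'.1 hc₀
  obtain ⟨h, hh0, hh⟩ := exists_h_abstract.{u, w} (r := r) hA hLP (lt_of_le_of_lt hdimS hlt)
    (fun i => Ideal.Quotient.mk IS (MvPolynomial.X (Sum.inl i)))
    (fun i => Ideal.Quotient.mk P (MvPolynomial.X i)) (Ideal.Quotient.mk IS b₀) N
  refine ⟨h, hh0, ?_⟩
  intro K _ _ g hg L _ _ _ _ ξ t y hξ hy hI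
  apply hg
  set pt : Fin r ⊕ (Unit ⊕ Fin d) → L :=
    Sum.elim (fun i => ξ i + t ^ N * algebraMap K L (g i)) (Sum.elim (fun _ : Unit => t) y) with hpt
  have hkill : ∀ a ∈ IS, MvPolynomial.aeval pt a = 0 := by
    have hle : IS ≤ RingHom.ker (MvPolynomial.aeval pt : MvPolynomial (Fin r ⊕ (Unit ⊕ Fin d)) k →ₐ[k] L) := by
      refine sup_le (fun q hq => ?_) (Ideal.span_le.2 ?_)
      · exact hI q hq
      · rintro _ ⟨i, hi, rfl⟩
        show MvPolynomial.aeval pt _ = 0
        simp [pt, hy i hi]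
    exact fun a ha => hle ha
  let evA : (MvPolynomial (Fin r ⊕ (Unit ⊕ Fin d)) k ⧸ IS) →ₐ[k] L :=
    Ideal.Quotient.liftₐ IS (MvPolynomial.aeval pt) hkill
  let evP : (MvPolynomial (Fin r) k ⧸ P) →ₐ[k] L :=
    Ideal.Quotient.liftₐ P (MvPolynomial.aeval ξ) hξ
  have key := hh L evA evP
  have hbt : MvPolynomial.aeval pt b₀ * t = 1 := by
    have h1 := congrArg (MvPolynomial.aeval pt) hac
    rw [map_add, hI a₀ ha₀, zero_add, map_mul, map_one] at h1
    rw [← h1]
    simp [pt]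
  have e : (fun i => (evA (Ideal.Quotient.mk IS (MvPolynomial.X (Sum.inl i))) -
        evP (Ideal.Quotient.mk P (MvPolynomial.X i))) * evA (Ideal.Quotient.mk IS b₀) ^ N) =
      (algebraMap K L) ∘ g := by
    funext i
    have e1 : evA (Ideal.Quotient.mk IS (MvPolynomial.X (Sum.inl i))) =
        ξ i + t ^ N * algebraMap K L (g i) := by
      simp [evA, pt]
    have e2 : evP (Ideal.Quotient.mk P (MvPolynomial.X i)) = ξ i := by
      simp [evP]
    have e3 : evA (Ideal.Quotient.mk IS b₀) = MvPolynomial.aeval pt b₀ := by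
      simp [evA]
    rw [e1, e2, e3, Function.comp_apply]
    calc (ξ i + t ^ N * algebraMap K L (g i) - ξ i) * (MvPolynomial.aeval pt b₀) ^ N
        = algebraMap K L (g i) * (MvPolynomial.aeval pt b₀ * t) ^ N := by ring
      _ = algebraMap K L (g i) := by rw [hbt, one_pow, mul_one]
  rw [e, MvPolynomial.aeval_algebraMap_apply] at key
  exact (map_eq_zero_iff _ (algebraMap K L).injective).1 key

end Groth.Agent.H77.FaceA
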