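import Mathlib
import Groth.Agent.H35.PCDescent
import Groth.Agent.H2.IsoDescFam

/-!
# helper77: descent of exactness / finiteness along a finite flat family jointly surjective on
`Spec`, after adjoining `n` variables (for helper90, S6227)
-/

set_option autoImplicit false
universe u
open CategoryTheory TensorProduct

namespace Groth.Agent.H77.FamDesc

section General

variable {P : Type u} [CommRing P] {J : Type} [Finite J] (S : J → Type u)
  [∀ j, CommRing (S j)] [∀ j, Algebra P (S j)]

/-- exactness is reflected by a finite family whose product is faithfully flat -/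
theorem exact_of_forall_lTensor [Module.FaithfullyFlat P (∀ j, S j)]
    {M₁ M₂ M₃ : Type*} [AddCommGroup M₁] [Module P M₁] [AddCommGroup M₂] [Module P M₂]
    [AddCommGroup M₃] [Module P M₃] (f : M₁ →ₗ[P] M₂) (g : M₂ →ₗ[P] M₃)
    (h : ∀ j, Function.Exact (f.lTensor (S j)) (g.lTensor (S j))) : Function.Exact f g := by
  classical
  haveI := Fintype.ofFinite J
  apply Module.FaithfullyFlat.lTensor_reflects_exact P (∀ j, S j)
  let F : (∀ j, S j ⊗[P] M₁) →ₗ[P] (∀ j, S j ⊗[P] M₂) :=
    LinearMap.pi (fun j => (f.lTensor (S j)) ∘ₗ LinearMap.proj j)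
  let G : (∀ j, S j ⊗[P] M₂) →ₗ[P] (∀ j, S j ⊗[P] M₃) :=
    LinearMap.pi (fun j => (g.lTensor (S j)) ∘ₗ LinearMap.proj j)
  have hFG : Function.Exact F G := by
    intro y
    constructor
    · intro hy
      have hj : ∀ j, ∃ x, (f.lTensor (S j)) x = y j := fun j =>
        ((h j) (y j)).1 (congrFun hy j)
      choose x hx using hj
      exact ⟨x, funext hx⟩
    · rintro ⟨x, rfl⟩
      funext j
      exact (h j).apply_apply_eq_zero (x j)
  have c1 : F ∘ₗ (TensorProduct.piLeft P M₁ S).toLinearMap =
      (TensorProduct.piLeft P M₂ S).toLinearMap ∘ₗ f.lTensor (∀ j, S j) := by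
    apply TensorProduct.ext'
    intro t m
    funext j
    simp [F]
  have c2 : G ∘ₗ (TensorProduct.piLeft P M₂ S).toLinearMap =
      (TensorProduct.piLeft P M₃ S).toLinearMap ∘ₗ g.lTensor (∀ j, S j) := by
    apply TensorProduct.ext'
    intro t m
    funext j
    simp [G]
  exact (Function.Exact.iff_of_ladder_linearEquiv c1 c2).1 hFG

/-- a single finite base change is generated by a finitely generated submodule -/
theorem exists_fg_surjective_lTensor (S₀ : Type u) [CommRing S₀] [Algebra P S₀]
    (M : Type*) [AddCommGroup M] [Module P M] [Module.Finite S₀ (S₀ ⊗[P] M)] :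
    ∃ N : Submodule P M, N.FG ∧ Function.Surjective (N.subtype.lTensor S₀) := by
  obtain ⟨n, s, hs⟩ := Module.Finite.exists_fin (R := S₀) (M := S₀ ⊗[P] M)
  choose k t m hm using fun i : Fin n => TensorProduct.exists_sum_tmul_eq (s i)
  refine ⟨Submodule.span P (Set.range (fun x : Σ i, Fin (k i) => m x.1 x.2)),
    Submodule.fg_span (Set.finite_range _), ?_⟩
  have : Function.Surjective (AlgebraTensorModule.lTensor S₀ S₀
      (Submodule.span P (Set.range (fun x : Σ i, Fin (k i) => m x.1 x.2))).subtype) := by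
    rw [← LinearMap.range_eq_top, eq_top_iff, ← hs, Submodule.span_le, Set.range_subset_iff]
    intro i
    refine ⟨∑ l : Fin (k i), t i l ⊗ₜ ⟨m i l, Submodule.subset_span ⟨⟨i, l⟩, rfl⟩⟩, ?_⟩
    rw [map_sum, hm i]
    rfl
  exact this

/-- finiteness descends along a finite family whose product is faithfully flat -/
theorem finite_of_forall_finite_tensor [Module.FaithfullyFlat P (∀ j, S j)]
    (M : Type*) [AddCommGroup M] [Module P M]
    (h : ∀ j, Module.Finite (S j) (S j ⊗[P] M)) : Module.Finite P M := by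
  have hN : ∀ j, ∃ N : Submodule P M, N.FG ∧ Function.Surjective (N.subtype.lTensor (S j)) :=
    fun j => by
      haveI := h j
      exact exists_fg_surjective_lTensor (S j) M
  choose N hNfg hNs using hN
  have hfg : (⨆ j, N j).FG := Submodule.fg_iSup N hNfg
  have hsurj : Function.Surjective (⨆ j, N j).subtype := by
    rw [← LinearMap.exact_zero_iff_surjective M]
    apply exact_of_forall_lTensor S
    intro j
    rw [LinearMap.lTensor_zero, LinearMap.exact_zero_iff_surjective]
    have hle : N j ≤ ⨆ j, N j := le_iSup N j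
    have hcomp : (N j).subtype = (⨆ j, N j).subtype ∘ₗ Submodule.inclusion hle := by
      ext x
      rfl
    have h1 := hNs j
    rw [hcomp, LinearMap.lTensor_comp] at h1
    exact Function.Surjective.of_comp h1
  have htop : (⨆ j, N j) = ⊤ := by
    rw [eq_top_iff]
    intro x _
    obtain ⟨y, rfl⟩ := hsurj x
    exact y.2
  rw [Module.finite_def, ← htop]
  exact hfg

end General

section Poly

attribute [local instance] MvPolynomial.algebraMvPolynomial

variable {R : Type u} [CommRing R] {J : Type} [Finite J]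
  (R' : J → Type u) [∀ j, CommRing (R' j)] [∀ j, Algebra R (R' j)] [∀ j, Module.Flat R (R' j)]

theorem faithfullyFlat_pi_mvPolynomial
    (hcov : ∀ p : PrimeSpectrum R, ∃ j, ∃ q : PrimeSpectrum (R' j),
      q.comap (algebraMap R (R' j)) = p) (n : ℕ) :
    Module.FaithfullyFlat (MvPolynomial (Fin n) R) (∀ j, MvPolynomial (Fin n) (R' j)) := by
  classical
  haveI := Fintype.ofFinite J
  haveI : Module.FaithfullyFlat R (∀ j, R' j) :=
    Groth.Agent.H2.IsoDescFam.faithfullyFlat_pi R' hcov
  let e1 : MvPolynomial (Fin n) R ⊗[R] (∀ j, R' j) ≃ₗ[MvPolynomial (Fin n) R]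
      ∀ j, MvPolynomial (Fin n) R ⊗[R] R' j :=
    TensorProduct.piRight R (MvPolynomial (Fin n) R) (MvPolynomial (Fin n) R) R'
  let e2 : (∀ j, MvPolynomial (Fin n) R ⊗[R] R' j) ≃ₗ[MvPolynomial (Fin n) R]
      ∀ j, MvPolynomial (Fin n) (R' j) :=
    LinearEquiv.piCongrRight (fun j =>
      IsBaseChange.equiv (Algebra.IsPushout.out : IsBaseChange (MvPolynomial (Fin n) R)
        (IsScalarTower.toAlgHom R (R' j) (MvPolynomial (Fin n) (R' j))).toLinearMap))
  exact Module.FaithfullyFlat.of_linearEquiv (MvPolynomial (Fin n) R)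
    (MvPolynomial (Fin n) R ⊗[R] (∀ j, R' j)) (e1.trans e2).symm

end Poly

open Groth.Agent.H35.TorDescent Groth.Agent.H35.FlatBC in
/-- (SQ1) -/
theorem jointlyReflects_mvPolynomial {R : Type u} [CommRing R] {J : Type} [Finite J]
    (R' : J → Type u) [∀ j, CommRing (R' j)] [∀ j, Algebra R (R' j)] [∀ j, Module.Flat R (R' j)]
    (hcov : ∀ p : PrimeSpectrum R, ∃ j, ∃ q : PrimeSpectrum (R' j),
      q.comap (algebraMap R (R' j)) = p) (n : ℕ) :
    Groth.Agent.H35.TorDescent.JointlyReflects
      (fun j => (MvPolynomial.map (algebraMap R (R' j)) :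
        MvPolynomial (Fin n) R →+* MvPolynomial (Fin n) (R' j))) := by
  letI : ∀ j, Algebra (MvPolynomial (Fin n) R) (MvPolynomial (Fin n) (R' j)) :=
    fun j => MvPolynomial.algebraMvPolynomial
  haveI := faithfullyFlat_pi_mvPolynomial R' hcov n
  intro M₁ M₂ M₃ f g h
  exact exact_of_forall_lTensor (fun j => MvPolynomial (Fin n) (R' j)) f.hom g.hom
    (fun j => exact_lTensor_of_exact_ext
      (S := MvPolynomial (Fin n) (R' j)) f g (h j))

open Groth.Agent.H35.TorDescent Groth.Agent.H35.FlatBC in
/-- (SQ2) -/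
theorem finiteDescends_mvPolynomial {R : Type u} [CommRing R] {J : Type} [Finite J]
    (R' : J → Type u) [∀ j, CommRing (R' j)] [∀ j, Algebra R (R' j)] [∀ j, Module.Flat R (R' j)]
    (hcov : ∀ p : PrimeSpectrum R, ∃ j, ∃ q : PrimeSpectrum (R' j),
      q.comap (algebraMap R (R' j)) = p) (n : ℕ) :
    Groth.Agent.H35.TorDescent.FiniteDescends
      (fun j => (MvPolynomial.map (algebraMap R (R' j)) :
        MvPolynomial (Fin n) R →+* MvPolynomial (Fin n) (R' j))) := by
  letI : ∀ j, Algebra (MvPolynomial (Fin n) R) (MvPolynomial (Fin n) (R' j)) :=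
    fun j => MvPolynomial.algebraMvPolynomial
  haveI := faithfullyFlat_pi_mvPolynomial R' hcov n
  intro M h
  exact finite_of_forall_finite_tensor (fun j => MvPolynomial (Fin n) (R' j)) M
    (fun j => finite_tensor_of_finite_ext (S := MvPolynomial (Fin n) (R' j)) M (h j))

end Groth.Agent.H77.FamDesc
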