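import Mathlib

/-! Rational simplicial approximation of a nonnegative real vector (used for formal fans). -/

namespace Groth.Agent.H77.FanA

open Finset

theorem exists_common_den {α : Type*} [Fintype α] (c : α → ℚ) :
    ∃ N : ℕ, 0 < N ∧ ∀ a, ∃ z : ℤ, (z : ℚ) = N * c a := by
  classical
  refine ⟨∏ a, (c a).den, Finset.prod_pos fun a _ => (c a).den_pos, fun a => ?_⟩
  refine ⟨(∏ b ∈ Finset.univ.erase a, ((c b).den : ℤ)) * (c a).num, ?_⟩
  rw [← Finset.mul_prod_erase Finset.univ _ (Finset.mem_univ a)]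
  push_cast
  have := Rat.mul_den_eq_num (c a)
  rw [← this]; ring

theorem sum_mul_sum_swap {α β K : Type*} [Fintype α] [Fintype β] [CommRing K] (f : α → K)
    (g : α → β → K) (h : β → K) :
    ∑ a, f a * ∑ b, g a b * h b = ∑ b, (∑ a, f a * g a b) * h b := by
  simp_rw [Finset.mul_sum, Finset.sum_mul]
  rw [Finset.sum_comm]
  refine Finset.sum_congr rfl fun b _ => Finset.sum_congr rfl fun a _ => ?_
  ring

theorem rat_span_coords {ι : Type*} [Fintype ι] (x : ι → ℝ) (hx0 : x ≠ 0) :
    ∃ (d : ℕ) (_ : 0 < d) (R : Fin d → ℝ) (q : ι → Fin d → ℚ),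
      (∀ l, 0 < R l) ∧ (∀ i, x i = ∑ l, (q i l : ℝ) * R l) ∧
      (∀ a : ι → ℚ, ∑ i, (a i : ℝ) * x i = 0 → ∀ l, ∑ i, a i * q i l = 0) ∧
      (∀ σ : Fin d → ℚ, (∀ i, ∑ l, q i l * σ l = 0) → σ = 0) := by
  classical
  let S : Submodule ℚ ℝ := Submodule.span ℚ (Set.range x)
  haveI : Module.Finite ℚ S := Module.Finite.span_of_finite ℚ (Set.finite_range x)
  let xS : ι → S := fun i => ⟨x i, Submodule.subset_span ⟨i, rfl⟩⟩
  have hspan : Submodule.span ℚ (Set.range xS) = ⊤ := by
    have h1 := Submodule.span_span_coe_preimage (R := ℚ) (s := Set.range x)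
    convert h1 using 2
    ext ⟨v, hv⟩
    simp only [Set.mem_range, Set.mem_preimage, xS, Subtype.mk.injEq]
  let d := Module.finrank ℚ S
  have hd : 0 < d := by
    obtain ⟨i, hi⟩ : ∃ i, x i ≠ 0 := by
      by_contra h; push Not at h; exact hx0 (funext h)
    haveI : Nontrivial S := ⟨⟨xS i, 0, fun h => hi (congrArg Subtype.val h)⟩⟩
    exact Module.finrank_pos
  let r0 : Module.Basis (Fin d) ℚ S := Module.finBasis ℚ S
  let w : Fin d → ℚˣ := fun l => if (0 : ℝ) < ((r0 l : S) : ℝ) then 1 else -1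
  let r : Module.Basis (Fin d) ℚ S := r0.unitsSMul w
  have hr : ∀ l, 0 < ((r l : S) : ℝ) := by
    intro l
    have hne : ((r0 l : S) : ℝ) ≠ 0 := fun h => r0.ne_zero l (Subtype.ext h)
    have e : r l = w l • r0 l := Module.Basis.unitsSMul_apply _
    rw [e]
    simp only [w]
    split_ifs with h
    · simpa using h
    · have h' : ((r0 l : S) : ℝ) < 0 := lt_of_le_of_ne (not_lt.mp h) hne
      simp only [Units.smul_def, Units.val_neg, Units.val_one, neg_smul, one_smul,
        NegMemClass.coe_neg]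
      linarith
  refine ⟨d, hd, fun l => ((r l : S) : ℝ), fun i l => r.repr (xS i) l, hr, ?_, ?_, ?_⟩
  · intro i
    have h1 := r.sum_repr (xS i)
    have h2 := congrArg (Subtype.val) h1
    rw [AddSubmonoidClass.coe_finset_sum] at h2
    simp only [xS] at h2
    rw [← h2]
    refine Finset.sum_congr rfl fun l _ => ?_
    rw [Submodule.coe_smul, Rat.smul_def]
  · intro a ha l
    have h1 : ∑ i, a i • xS i = 0 := by
      apply Subtype.ext
      rw [AddSubmonoidClass.coe_finset_sum]
      simp only [Submodule.coe_smul, xS, Rat.smul_def, ZeroMemClass.coe_zero]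
      exact ha
    have h2 := congrArg (fun v => r.repr v l) h1
    simp only [map_sum, map_smul, Finsupp.coe_finset_sum, Finset.sum_apply, Finsupp.coe_smul,
      Pi.smul_apply, smul_eq_mul, map_zero, Finsupp.coe_zero, Pi.zero_apply] at h2
    exact h2
  · intro σ hσ
    let f : S →ₗ[ℚ] ℚ := r.constr ℚ σ
    have hf : f = 0 := by
      apply LinearMap.ext_on hspan
      rintro _ ⟨i, rfl⟩
      simp only [f, Module.Basis.constr_apply_fintype, Module.Basis.equivFun_apply, smul_eq_mul,
        LinearMap.zero_apply]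
      exact hσ i
    funext l
    have := congrArg (fun g => g (r l)) hf
    simpa [f, Module.Basis.constr_basis] using this

theorem exists_simplicial_approx {ι : Type*} [Fintype ι] (x : ι → ℝ) (hx : ∀ i, 0 ≤ x i)
    (hx0 : x ≠ 0) :
    ∃ (d : ℕ) (_ : 0 < d) (C : ι → Fin d → ℤ) (t : Fin d → ℝ),
      (∀ i j, 0 ≤ C i j) ∧ (∀ j, 0 < t j) ∧ (∀ i, x i = ∑ j, (C i j : ℝ) * t j) ∧
      (∀ a : ι → ℤ, ∑ i, (a i : ℝ) * x i = 0 → ∀ j, ∑ i, a i * C i j = 0) ∧
      (∀ u : Fin d → ℤ, (∀ i, ∑ j, C i j * u j = 0) → u = 0) := by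
  classical
  obtain ⟨d, hd, R, q, hR, hxq, hrel, hinj⟩ := rat_span_coords x hx0
  haveI : Nonempty (Fin d) := ⟨⟨0, hd⟩⟩
  have hq0 : ∀ i, x i = 0 → ∀ l, q i l = 0 := by
    intro i hi l
    have h0 : ∑ i', (((if i' = i then (1 : ℚ) else 0 : ℚ)) : ℝ) * x i' = 0 := by
      rw [Finset.sum_eq_single i]
      · simp [hi]
      · intro b _ hb; simp [hb]
      · simp
    have := hrel (fun i' => if i' = i then 1 else 0) h0 l
    simpa using this
  let U : Set (Fin d → ℝ) := {s | ∀ i, 0 < x i → 0 < ∑ l, (q i l : ℝ) * s l}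
  have hU : IsOpen U := by
    have : U = ⋂ i, {s | 0 < x i → 0 < ∑ l, (q i l : ℝ) * s l} := by
      ext s; simp [U]
    rw [this]
    apply isOpen_iInter_of_finite
    intro i
    by_cases hi : 0 < x i
    · simp only [hi, forall_true_left]
      exact isOpen_lt continuous_const
        (continuous_finset_sum _ fun l _ => continuous_const.mul (continuous_apply l))
    · simp [hi]
  have hRU : R ∈ U := fun i hi => by rw [← hxq i]; exact hi
  obtain ⟨δ, hδ, hball⟩ := Metric.isOpen_iff.mp hU R hRU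
  obtain ⟨δ', hδ'pos, hδeq⟩ : ∃ δ' : ℝ, 0 < δ' ∧ δ = (d : ℝ) * δ' + 2 * δ' := by
    refine ⟨δ / (d + 2), by positivity, ?_⟩
    field_simp
  have hρ : ∀ l, ∃ ρ : ℚ, max 0 (R l - δ') < (ρ : ℝ) ∧ (ρ : ℝ) < R l :=
    fun l => exists_rat_btwn (max_lt (hR l) (by linarith))
  choose ρ hρ1 hρ2 using hρ
  have hρpos : ∀ l, 0 < (ρ l : ℝ) := fun l => lt_of_le_of_lt (le_max_left _ _) (hρ1 l)
  have hρclose : ∀ l, R l - δ' < ρ l := fun l => lt_of_le_of_lt (le_max_right _ _) (hρ1 l)
  obtain ⟨η, hη1, hη2⟩ := exists_rat_btwn (show (d : ℝ) * δ' < (d : ℝ) * δ' + δ' by linarith)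
  have hDnn : 0 ≤ (d : ℝ) * δ' := by positivity
  have hηpos : 0 < (η : ℝ) := lt_of_le_of_lt hDnn hη1
  let Sm : Fin d → Fin d → ℚ := fun l j => ρ l + if l = j then η else 0
  have hcol : ∀ j, (fun l => (Sm l j : ℝ)) ∈ U := by
    intro j
    apply hball
    rw [Metric.mem_ball, dist_pi_lt_iff hδ]
    intro l
    rw [Real.dist_eq]
    simp only [Sm]
    push_cast
    have h1 := hρclose l
    have h2 := hρ2 l
    split_ifs
    · rw [abs_lt]; constructor <;> linarith
    · push_cast; rw [abs_lt]; constructor <;> linarith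
  set sR : ℝ := ∑ l, R l with hsR
  set sρ : ℝ := ∑ l, (ρ l : ℝ) with hsρ
  have hsρpos : 0 < sρ := Finset.sum_pos (fun l _ => hρpos l) Finset.univ_nonempty
  have hle : sR - sρ ≤ η := by
    have h1 : sR - sρ = ∑ l, (R l - ρ l) := by rw [hsR, hsρ, Finset.sum_sub_distrib]
    have h2 : ∑ l : Fin d, (R l - ρ l) ≤ ∑ _l : Fin d, δ' :=
      Finset.sum_le_sum fun l _ => by have := hρclose l; linarith
    rw [Finset.sum_const, Finset.card_univ, Fintype.card_fin, nsmul_eq_mul] at h2
    linarith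
  have hden : 0 < (η : ℝ) + sρ := by linarith
  have hsRpos : 0 < sR := Finset.sum_pos (fun l _ => hR l) Finset.univ_nonempty
  set T : ℝ := sR / (η + sρ) with hT
  have hT0 : 0 < T := div_pos hsRpos hden
  have hT1 : T ≤ 1 := by rw [hT, div_le_one hden]; linarith
  have hTeq : T * (η + sρ) = sR := by rw [hT]; field_simp
  let t : Fin d → ℝ := fun j => (R j - T * ρ j) / η
  have ht : ∀ j, 0 < t j := by
    intro j
    apply div_pos _ hηpos
    have h1 := hρpos j
    have h2 := hρ2 j
    nlinarith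
  have hsum_t : ∑ j, t j = T := by
    simp only [t]
    rw [← Finset.sum_div, Finset.sum_sub_distrib, ← Finset.mul_sum, ← hsR, ← hsρ]
    rw [div_eq_iff hηpos.ne']
    linarith
  have hSmR : ∀ l j, ((Sm l j : ℚ) : ℝ) = ρ l + if l = j then (η : ℝ) else 0 := by
    intro l j
    simp only [Sm]
    split_ifs <;> push_cast <;> rfl
  have hRt : ∀ l, R l = ∑ j, (Sm l j : ℝ) * t j := by
    intro l
    simp only [hSmR]
    simp only [add_mul, Finset.sum_add_distrib, ite_mul, zero_mul, Finset.sum_ite_eq,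
      Finset.mem_univ, if_true, ← Finset.mul_sum, hsum_t]
    simp only [t]
    field_simp
    ring
  let c : ι × Fin d → ℚ := fun p => ∑ l, q p.1 l * Sm l p.2
  obtain ⟨N, hN, hz⟩ := exists_common_den c
  choose z hz using hz
  have hNR : (0 : ℝ) < N := by exact_mod_cast hN
  have hNQ : (0 : ℚ) < N := by exact_mod_cast hN
  refine ⟨d, hd, fun i j => z (i, j), fun j => t j / N, ?_, ?_, ?_, ?_, ?_⟩
  · intro i j
    have hc : (0 : ℚ) ≤ c (i, j) := by
      rcases (hx i).lt_or_eq with hi | hi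
      · have h1 := hcol j i hi
        have h2 : (0 : ℝ) < ((c (i, j) : ℚ) : ℝ) := by
          simp only [c]; push_cast; exact h1
        exact_mod_cast h2.le
      · simp [c, hq0 i hi.symm]
    have : (0 : ℚ) ≤ (z (i, j) : ℚ) := by rw [hz]; positivity
    exact_mod_cast this
  · intro j; exact div_pos (ht j) hNR
  · intro i
    have hzR : ∀ j, ((z (i, j) : ℤ) : ℝ) = N * ((c (i, j) : ℚ) : ℝ) := by
      intro j
      have := congrArg (fun r : ℚ => (r : ℝ)) (hz (i, j))
      simpa using this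
    rw [hxq i]
    simp_rw [hzR]
    calc ∑ l, (q i l : ℝ) * R l = ∑ l, (q i l : ℝ) * ∑ j, (Sm l j : ℝ) * t j := by
          refine Finset.sum_congr rfl fun l _ => ?_
          rw [← hRt l]
      _ = ∑ j, (∑ l, (q i l : ℝ) * (Sm l j : ℝ)) * t j := sum_mul_sum_swap _ _ _
      _ = ∑ j, (N * ((c (i, j) : ℚ) : ℝ)) * (t j / N) := by
          refine Finset.sum_congr rfl fun j _ => ?_
          simp only [c]
          push_cast
          field_simp
  · intro a ha j
    have h1 := hrel (fun i => (a i : ℚ)) (by simpa using ha)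
    have h2 : (∑ i, (a i : ℚ) * (z (i, j) : ℚ)) = 0 := by
      simp_rw [hz]
      simp only [c]
      calc ∑ i, (a i : ℚ) * (N * ∑ l, q i l * Sm l j)
          = N * ∑ i, (a i : ℚ) * ∑ l, q i l * Sm l j := by
            rw [Finset.mul_sum]
            refine Finset.sum_congr rfl fun i _ => ?_
            ring
        _ = N * ∑ l, (∑ i, (a i : ℚ) * q i l) * Sm l j := by rw [sum_mul_sum_swap]
        _ = 0 := by simp [h1]
    exact_mod_cast h2
  · intro u hu
    let σ : Fin d → ℚ := fun l => ∑ j, Sm l j * u j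
    have hσ : σ = 0 := by
      apply hinj
      intro i
      have h1 : (∑ j, (z (i, j) : ℚ) * (u j : ℚ)) = 0 := by exact_mod_cast hu i
      simp_rw [hz] at h1
      have h2 : ∑ j, c (i, j) * (u j : ℚ) = 0 := by
        have : (N : ℚ) * ∑ j, c (i, j) * u j = 0 := by
          rw [Finset.mul_sum]
          simpa [mul_assoc] using h1
        exact (mul_eq_zero.mp this).resolve_left hNQ.ne'
      simp only [σ]
      rw [← h2]
      simp only [c]
      exact sum_mul_sum_swap _ _ _
    have h3 : ∀ l, ρ l * (∑ j, (u j : ℚ)) + η * u l = 0 := by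
      intro l
      have := congrFun hσ l
      simp only [σ, Sm, add_mul, Finset.sum_add_distrib, ite_mul, zero_mul, Finset.sum_ite_eq,
        Finset.mem_univ, if_true, Pi.zero_apply, ← Finset.mul_sum] at this
      exact this
    have hηQ : (0 : ℚ) < η := by exact_mod_cast hηpos
    have hsρQ : (0 : ℚ) < ∑ l, ρ l := by
      have : (0 : ℝ) < ((∑ l, ρ l : ℚ) : ℝ) := by push_cast; exact hsρpos
      exact_mod_cast this
    have hU0 : (∑ j, (u j : ℚ)) = 0 := by
      have h4 := Finset.sum_eq_zero (fun l _ => h3 l) (s := Finset.univ)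
      rw [Finset.sum_add_distrib, ← Finset.sum_mul, ← Finset.mul_sum] at h4
      have h5 : ((∑ l, ρ l) + η) * (∑ j, (u j : ℚ)) = 0 := by linarith
      exact (mul_eq_zero.mp h5).resolve_left (by positivity)
    funext l
    have h6 := h3 l
    rw [hU0, mul_zero, zero_add] at h6
    have h7 := (mul_eq_zero.mp h6).resolve_left hηQ.ne'
    exact_mod_cast h7

end Groth.Agent.H77.FanA
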