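import Groth.Prelude.Def_W4c6instabfans3Fan
import Groth.Agent.H77.FanA

/-! Formal fans: cone morphisms as matrices, common refinements, equality in `P F`. -/

open CategoryTheory Opposite Instab

universe u

namespace Groth.Agent.H77.FanB

open Groth.Agent.H77.FanA

/-- matrix entries of a cone morphism -/
def ent {k n : ICone} (φ : k ⟶ n) (j : Fin n.dim) (i : Fin k.dim) : ℤ :=
  φ.toLin (Pi.single i 1) j

theorem toLin_apply {k n : ICone} (φ : k ⟶ n) (v : Fin k.dim → ℤ) (j : Fin n.dim) :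
    φ.toLin v j = ∑ i, ent φ j i * v i := by
  classical
  have h := LinearMap.pi_apply_eq_sum_univ φ.toLin v
  rw [h, Finset.sum_apply]
  refine Finset.sum_congr rfl fun i _ => ?_
  rw [Pi.smul_apply, smul_eq_mul, mul_comm]
  have e : (fun j' => if i = j' then (1 : ℤ) else 0) = Pi.single i 1 := by
    ext j'
    simp [Pi.single_apply, eq_comm]
  rw [e]
  rfl

theorem ent_nonneg {k n : ICone} (φ : k ⟶ n) (j : Fin n.dim) (i : Fin k.dim) : 0 ≤ ent φ j i := by
  classical
  refine φ.nonneg (Pi.single i 1) (fun i' => ?_) j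
  rw [Pi.single_apply]
  split_ifs <;> norm_num

theorem realMap_apply {k n : ICone} (φ : k ⟶ n) (v : Fin k.dim → ℝ) (j : Fin n.dim) :
    φ.realMap v j = ∑ i, (ent φ j i : ℝ) * v i := rfl

theorem ent_id {n : ICone} (j i : Fin n.dim) : ent (𝟙 n) j i = if j = i then 1 else 0 := by
  classical
  show (Pi.single i (1 : ℤ) : Fin n.dim → ℤ) j = _
  rw [Pi.single_apply]

theorem realMap_id {n : ICone} (v : Fin n.dim → ℝ) : (𝟙 n : n ⟶ n).realMap v = v := by
  classical
  funext j
  rw [realMap_apply]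
  simp [ent_id]

theorem ent_comp {k m n : ICone} (φ : k ⟶ m) (ψ : m ⟶ n) (j : Fin n.dim) (i : Fin k.dim) :
    ent (φ ≫ ψ) j i = ∑ l, ent ψ j l * ent φ l i := by
  show ψ.toLin (φ.toLin (Pi.single i 1)) j = _
  rw [toLin_apply]
  rfl

theorem realMap_comp {k m n : ICone} (φ : k ⟶ m) (ψ : m ⟶ n) (v : Fin k.dim → ℝ) :
    (φ ≫ ψ).realMap v = ψ.realMap (φ.realMap v) := by
  funext j
  simp only [realMap_apply, ent_comp]
  push_cast
  rw [sum_mul_sum_swap]

theorem realMap_smul {k n : ICone} (φ : k ⟶ n) (c : ℝ) (v : Fin k.dim → ℝ) :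
    φ.realMap (c • v) = c • φ.realMap v := by
  funext j
  simp only [realMap_apply, Pi.smul_apply, smul_eq_mul, Finset.mul_sum]
  refine Finset.sum_congr rfl fun i _ => ?_
  ring

theorem realMap_nonneg {k n : ICone} (φ : k ⟶ n) {v : Fin k.dim → ℝ} (hv : ∀ i, 0 ≤ v i)
    (j : Fin n.dim) : 0 ≤ φ.realMap v j := by
  rw [realMap_apply]
  exact Finset.sum_nonneg fun i _ =>
    mul_nonneg (by exact_mod_cast ent_nonneg φ j i) (hv i)

theorem realMap_ne_zero {k n : ICone} (φ : k ⟶ n) {v : Fin k.dim → ℝ} (hv : ∀ i, 0 ≤ v i)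
    (hv0 : v ≠ 0) : φ.realMap v ≠ 0 := by
  classical
  obtain ⟨i, hi⟩ : ∃ i, v i ≠ 0 := by
    by_contra h; push Not at h; exact hv0 (funext h)
  have hipos : 0 < v i := lt_of_le_of_ne (hv i) (Ne.symm hi)
  have hcol : φ.toLin (Pi.single i 1) ≠ 0 := by
    intro h
    have h2 : φ.toLin (Pi.single i 1) = φ.toLin 0 := by rw [h, map_zero]
    have h3 := congrFun (φ.injective h2) i
    simp at h3
  obtain ⟨j, hj⟩ : ∃ j, φ.toLin (Pi.single i 1) j ≠ 0 := by
    by_contra h; push Not at h; exact hcol (funext h)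
  have hjpos : (1 : ℝ) ≤ (ent φ j i : ℝ) := by
    have : 0 < ent φ j i := lt_of_le_of_ne (ent_nonneg φ j i) (Ne.symm hj)
    exact_mod_cast this
  intro h
  have h1 := congrFun h j
  rw [realMap_apply] at h1
  have h2 : (ent φ j i : ℝ) * v i ≤ ∑ i', (ent φ j i' : ℝ) * v i' :=
    Finset.single_le_sum (f := fun i' => (ent φ j i' : ℝ) * v i')
      (fun i' _ => mul_nonneg (by exact_mod_cast ent_nonneg φ j i') (hv i')) (Finset.mem_univ i)
  have h3 : 0 < (ent φ j i : ℝ) * v i := by nlinarith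
  rw [h1] at h2
  simp at h2
  linarith

/-- the cone morphism of a nonnegative injective integer matrix -/
def homOfMatrix {m k : ICone} (A : Fin k.dim → Fin m.dim → ℤ) (hA : ∀ i j, 0 ≤ A i j)
    (hinj : ∀ u : Fin m.dim → ℤ, (∀ i, ∑ j, A i j * u j = 0) → u = 0) : m ⟶ k :=
  (⟨Matrix.mulVecLin (Matrix.of A), by
      rw [injective_iff_map_eq_zero]
      intro u hu
      apply hinj
      intro i
      have := congrFun hu i
      simpa [Matrix.mulVec, dotProduct] using this,
    by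
      intro v hv j
      simp only [Matrix.mulVecLin_apply, Matrix.mulVec, dotProduct, Matrix.of_apply]
      exact Finset.sum_nonneg fun i _ => mul_nonneg (hA j i) (hv i)⟩ : ICone.Hom m k)

theorem ent_homOfMatrix {m k : ICone} (A : Fin k.dim → Fin m.dim → ℤ) (hA : ∀ i j, 0 ≤ A i j)
    (hinj : ∀ u : Fin m.dim → ℤ, (∀ i, ∑ j, A i j * u j = 0) → u = 0) (i : Fin k.dim)
    (j : Fin m.dim) : ent (homOfMatrix A hA hinj) i j = A i j := by
  classical
  show (Matrix.mulVecLin (Matrix.of A)) (Pi.single j 1) i = _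
  simp [Matrix.mulVec, dotProduct, Pi.single_apply]

theorem hom_ext_ent {k n : ICone} {φ ψ : k ⟶ n} (h : ∀ j i, ent φ j i = ent ψ j i) : φ = ψ := by
  apply ICone.Hom.ext
  apply LinearMap.ext
  intro v
  funext j
  rw [toLin_apply, toLin_apply]
  simp only [h]

/-- Common refinement of two cone morphisms at a common real point. -/
theorem exists_common_refinement {k k' n : ICone} (φ : k ⟶ n) (ψ : k' ⟶ n) (y : Fan.Orth k)
    (y' : Fan.Orth k') (c : ℝ) (hc : 0 < c) (h : φ.realMap y.1 = c • ψ.realMap y'.1) :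
    ∃ (m : ICone) (α : m ⟶ k) (β : m ⟶ k') (z : Fan.Orth m) (b : ℝ),
      α ≫ φ = β ≫ ψ ∧ 0 < b ∧ y.1 = α.realMap z.1 ∧ y'.1 = b • β.realMap z.1 := by
  classical
  let x : Fin k.dim ⊕ Fin k'.dim → ℝ := Sum.elim y.1 (c • y'.1)
  have hx : ∀ i, 0 ≤ x i := by
    rintro (i | i)
    · exact y.2.1 i
    · exact mul_nonneg hc.le (y'.2.1 i)
  have hx0 : x ≠ 0 := by
    intro h0
    apply y.2.2
    funext i
    exact congrFun h0 (Sum.inl i)
  obtain ⟨d, hd, C, t, hC, ht, hxC, hrel, hinjC⟩ := exists_simplicial_approx x hx hx0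
  let m : ICone := ⟨⟨d, hd⟩⟩
  let A : Fin k.dim → Fin m.dim → ℤ := fun i j => C (Sum.inl i) j
  let B : Fin k'.dim → Fin m.dim → ℤ := fun i j => C (Sum.inr i) j
  -- the relations
  have hAB : ∀ (j₀ : Fin n.dim) (j : Fin m.dim),
      ∑ i, ent φ j₀ i * A i j = ∑ i, ent ψ j₀ i * B i j := by
    intro j₀ j
    have h1 := hrel (Sum.elim (fun i => ent φ j₀ i) (fun i => - ent ψ j₀ i)) (by
      rw [Fintype.sum_sum_type]
      simp only [Sum.elim_inl, Sum.elim_inr, x, Pi.smul_apply, smul_eq_mul, Int.cast_neg]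
      have h2 := congrFun h j₀
      rw [realMap_apply, Pi.smul_apply, realMap_apply, smul_eq_mul, Finset.mul_sum] at h2
      rw [h2, ← Finset.sum_add_distrib]
      refine Finset.sum_eq_zero fun i _ => ?_
      ring) j
    rw [Fintype.sum_sum_type] at h1
    simp only [Sum.elim_inl, Sum.elim_inr, neg_mul, Finset.sum_neg_distrib] at h1
    simp only [A, B]
    linarith
  have hABu : ∀ (u : Fin m.dim → ℤ) (j₀ : Fin n.dim),
      ∑ i, ent φ j₀ i * ∑ j, A i j * u j = ∑ i, ent ψ j₀ i * ∑ j, B i j * u j := by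
    intro u j₀
    rw [sum_mul_sum_swap, sum_mul_sum_swap]
    refine Finset.sum_congr rfl fun j _ => ?_
    rw [hAB j₀ j]
  have hinjA : ∀ u : Fin m.dim → ℤ, (∀ i, ∑ j, A i j * u j = 0) → u = 0 := by
    intro u hu
    apply hinjC
    rintro (i | i)
    · exact hu i
    · have h1 : ψ.toLin (fun i => ∑ j, B i j * u j) = ψ.toLin 0 := by
        funext j₀
        rw [toLin_apply, ← hABu u j₀, map_zero]
        simp [hu]
      exact congrFun (ψ.injective h1) i
  have hinjB : ∀ u : Fin m.dim → ℤ, (∀ i, ∑ j, B i j * u j = 0) → u = 0 := by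
    intro u hu
    apply hinjC
    rintro (i | i)
    · have h1 : φ.toLin (fun i => ∑ j, A i j * u j) = φ.toLin 0 := by
        funext j₀
        rw [toLin_apply, hABu u j₀, map_zero]
        simp [hu]
      exact congrFun (φ.injective h1) i
    · exact hu i
  let α : m ⟶ k := homOfMatrix A (fun i j => hC _ _) hinjA
  let β : m ⟶ k' := homOfMatrix B (fun i j => hC _ _) hinjB
  have hz0 : (t : Fin m.dim → ℝ) ≠ 0 := by
    intro h0
    have := ht ⟨0, hd⟩
    rw [h0] at this
    simp at this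
  let z : Fan.Orth m := ⟨t, fun j => (ht j).le, hz0⟩
  refine ⟨m, α, β, z, 1 / c, ?_, by positivity, ?_, ?_⟩
  · apply hom_ext_ent
    intro j₀ j
    rw [ent_comp, ent_comp]
    simp only [α, β, ent_homOfMatrix]
    exact hAB j₀ j
  · funext i
    rw [realMap_apply]
    simp only [α, ent_homOfMatrix, z, A]
    exact hxC (Sum.inl i)
  · funext i
    have h1 : c * y'.1 i = ∑ j, (C (Sum.inr i) j : ℝ) * t j := hxC (Sum.inr i)
    have h2 : β.realMap z.1 i = ∑ j, (C (Sum.inr i) j : ℝ) * t j := by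
      rw [realMap_apply]
      simp only [β, ent_homOfMatrix]
      rfl
    rw [Pi.smul_apply, h2, ← h1, smul_eq_mul]
    field_simp

end Groth.Agent.H77.FanB
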