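import Groth.Agent.H77.FanB

/-! Equality of points in the projective realization of a formal fan. -/

open CategoryTheory Opposite Instab

universe u

namespace Groth.Agent.H77.FanB

variable {F : Fan.{u}}

theorem mk_glue {k n : ICone} (φ : k ⟶ n) (ξ : F.obj (op n)) (v : Fan.Orth k) (w : Fan.Orth n)
    (c : ℝ) (hc : 0 < c) (h : w.1 = c • φ.realMap v.1) :
    Fan.P.mk (F.map φ.op ξ) v = Fan.P.mk ξ w :=
  Quot.sound (Fan.Rel.glue φ ξ v w c hc h)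

theorem map_comp_op {k m n : ICone} (α : k ⟶ m) (φ : m ⟶ n) (ξ : F.obj (op n)) :
    F.map (α ≫ φ).op ξ = F.map α.op (F.map φ.op ξ) := by
  rw [op_comp, F.map_comp_apply]

theorem map_id_op {n : ICone} (ξ : F.obj (op n)) : F.map (𝟙 n).op ξ = ξ := by
  rw [op_id, F.map_id_apply]

/-- Two points of the disjoint union lie in a common sub-cone. -/
def Rp (F : Fan.{u}) (p p' : Fan.Pt F) : Prop :=
  ∃ (k : ICone) (φ₁ : k ⟶ p.1.1) (φ₂ : k ⟶ p'.1.1) (y : Fan.Orth k) (c₁ c₂ : ℝ),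
    F.map φ₁.op p.1.2 = F.map φ₂.op p'.1.2 ∧ 0 < c₁ ∧ 0 < c₂ ∧
      p.2.1 = c₁ • φ₁.realMap y.1 ∧ p'.2.1 = c₂ • φ₂.realMap y.1

theorem Rp_refl (p : Fan.Pt F) : Rp F p p :=
  ⟨p.1.1, 𝟙 _, 𝟙 _, p.2, 1, 1, rfl, one_pos, one_pos, by rw [realMap_id, one_smul],
    by rw [realMap_id, one_smul]⟩

theorem Rp_symm {p p' : Fan.Pt F} : Rp F p p' → Rp F p' p :=
  fun ⟨k, φ₁, φ₂, y, c₁, c₂, h, h1, h2, h3, h4⟩ => ⟨k, φ₂, φ₁, y, c₂, c₁, h.symm, h2, h1, h4, h3⟩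

theorem Rp_of_rel {p p' : Fan.Pt F} : Fan.Rel F p p' → Rp F p p' := by
  rintro ⟨φ, ξ, v, w, c, hc, h⟩
  exact ⟨_, 𝟙 _, φ, v, 1, c, map_id_op _, one_pos, hc, by rw [realMap_id, one_smul], h⟩

theorem Rp_trans {p p' p'' : Fan.Pt F} : Rp F p p' → Rp F p' p'' → Rp F p p'' := by
  rintro ⟨k, φ₁, φ₂, y, c₁, c₂, h, h1, h2, h3, h4⟩ ⟨k', ψ₂, ψ₃, y', d₂, d₃, g, g2, g3, g4, g5⟩
  have hh : φ₂.realMap y.1 = (d₂ / c₂) • ψ₂.realMap y'.1 := by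
    have e : c₂ • φ₂.realMap y.1 = d₂ • ψ₂.realMap y'.1 := by rw [← h4, ← g4]
    have e2 := congrArg (fun v => (1 / c₂) • v) e
    simp only [smul_smul] at e2
    rw [one_div, inv_mul_cancel₀ h2.ne', one_smul] at e2
    rw [e2]
    congr 1
    field_simp
  obtain ⟨m, α, β, z, b, hαβ, hb, hy, hy'⟩ :=
    exists_common_refinement φ₂ ψ₂ y y' (d₂ / c₂) (div_pos g2 h2) hh
  refine ⟨m, α ≫ φ₁, β ≫ ψ₃, z, c₁, d₃ * b, ?_, h1, mul_pos g3 hb, ?_, ?_⟩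
  · rw [map_comp_op, h, ← map_comp_op, hαβ, map_comp_op, g, ← map_comp_op]
  · rw [realMap_comp, ← hy, h3]
  · rw [realMap_comp, g5, hy', realMap_smul, smul_smul]

theorem Rp_of_eqvGen {p p' : Fan.Pt F} (h : Relation.EqvGen (Fan.Rel F) p p') : Rp F p p' := by
  induction h with
  | rel _ _ h => exact Rp_of_rel h
  | refl => exact Rp_refl _
  | symm _ _ _ ih => exact Rp_symm ih
  | trans _ _ _ _ _ ih1 ih2 => exact Rp_trans ih1 ih2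

theorem Rp_of_mk_eq {n₁ n₂ : ICone} (σ₁ : F.obj (op n₁)) (σ₂ : F.obj (op n₂))
    (v₁ : Fan.Orth n₁) (v₂ : Fan.Orth n₂) (h : Fan.P.mk σ₁ v₁ = Fan.P.mk σ₂ v₂) :
    Rp F ⟨⟨n₁, σ₁⟩, v₁⟩ ⟨⟨n₂, σ₂⟩, v₂⟩ :=
  Rp_of_eqvGen (Quot.eqvGen_exact h)

end Groth.Agent.H77.FanB
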