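import Groth.Agent.H77.FanC

/-! Maps of projective realizations of formal fans, pullbacks and sub-fans. -/

open CategoryTheory Opposite Instab

universe u

namespace Groth.Agent.H77.FanB

variable {F G : Fan.{u}}

theorem P_exists_rep (x : Fan.P F) : ∃ (n : ICone) (σ : F.obj (op n)) (v : Fan.Orth n),
    x = Fan.P.mk σ v := by
  induction x using Quot.ind with
  | mk p => exact ⟨p.1.1, p.1.2, p.2, rfl⟩

theorem P_map_mk (f : F ⟶ G) {n : ICone} (σ : F.obj (op n)) (v : Fan.Orth n) :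
    Fan.P.map f (Fan.P.mk σ v) = Fan.P.mk (f.app _ σ) v := rfl

theorem P_map_comp {H : Fan.{u}} (f : F ⟶ G) (g : G ⟶ H) (x : Fan.P F) :
    Fan.P.map (f ≫ g) x = Fan.P.map g (Fan.P.map f x) := by
  obtain ⟨n, σ, v, rfl⟩ := P_exists_rep x
  rfl

theorem mk_restrict {k n : ICone} (φ : k ⟶ n) (ξ : F.obj (op n)) (y : Fan.Orth k)
    (v : Fan.Orth n) (c : ℝ) (hc : 0 < c) (h : v.1 = c • φ.realMap y.1) :
    Fan.P.mk ξ v = Fan.P.mk (F.map φ.op ξ) y :=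
  (mk_glue φ ξ y v c hc h).symm

theorem P_map_injective (f : F ⟶ G) (hf : ∀ n : ICone, Function.Injective (f.app (op n))) :
    Function.Injective (Fan.P.map f) := by
  intro x x' h
  obtain ⟨n, σ, v, rfl⟩ := P_exists_rep x
  obtain ⟨n', σ', v', rfl⟩ := P_exists_rep x'
  rw [P_map_mk, P_map_mk] at h
  obtain ⟨k, φ₁, φ₂, y, c₁, c₂, hG, h1, h2, h3, h4⟩ := Rp_of_mk_eq _ _ _ _ h
  have e : F.map φ₁.op σ = F.map φ₂.op σ' := by
    apply hf k
    rw [NatTrans.naturality_apply f φ₁.op σ, NatTrans.naturality_apply f φ₂.op σ']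
    exact hG
  rw [mk_restrict φ₁ σ y v c₁ h1 h3, mk_restrict φ₂ σ' y v' c₂ h2 h4, e]

theorem P_map_surjective (f : F ⟶ G) (hf : ∀ n : ICone, Function.Surjective (f.app (op n))) :
    Function.Surjective (Fan.P.map f) := by
  intro y
  obtain ⟨n, τ, v, rfl⟩ := P_exists_rep y
  obtain ⟨σ, rfl⟩ := hf n τ
  exact ⟨Fan.P.mk σ v, rfl⟩

/-- Elements of a pullback of fans. -/
theorem exists_pullback_elt {F' : Fan.{u}} (f : F ⟶ G) (g : F' ⟶ G) {n : ICone}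
    (a : F.obj (op n)) (b : F'.obj (op n)) (h : f.app _ a = g.app _ b) :
    ∃ c : (Limits.pullback f g).obj (op n),
      (Limits.pullback.fst f g).app _ c = a ∧ (Limits.pullback.snd f g).app _ c = b := by
  have w : Fan.coneMap a ≫ f = Fan.coneMap b ≫ g := by
    unfold Fan.coneMap
    rw [uliftYonedaEquiv_symm_comp, uliftYonedaEquiv_symm_comp, h]
  refine ⟨uliftYonedaEquiv (Limits.pullback.lift _ _ w), ?_, ?_⟩
  · rw [← uliftYonedaEquiv_comp, Limits.pullback.lift_fst]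
    exact Equiv.apply_symm_apply _ _
  · rw [← uliftYonedaEquiv_comp, Limits.pullback.lift_snd]
    exact Equiv.apply_symm_apply _ _

theorem pullback_condition_apply {F' : Fan.{u}} (f : F ⟶ G) (g : F' ⟶ G) {n : ICone}
    (c : (Limits.pullback f g).obj (op n)) :
    f.app _ ((Limits.pullback.fst f g).app _ c) = g.app _ ((Limits.pullback.snd f g).app _ c) := by
  have h := Limits.pullback.condition (f := f) (g := g)
  have h2 := congrArg (fun t => t.app (op n) c) h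
  exact h2

theorem P_pullback_lift {F' : Fan.{u}} (f : F ⟶ G) (g : F' ⟶ G)
    (x : Fan.P F) (x' : Fan.P F') (h : Fan.P.map f x = Fan.P.map g x') :
    ∃ y : Fan.P (Limits.pullback f g),
      Fan.P.map (Limits.pullback.fst f g) y = x ∧ Fan.P.map (Limits.pullback.snd f g) y = x' := by
  obtain ⟨n, σ, v, rfl⟩ := P_exists_rep x
  obtain ⟨n', σ', v', rfl⟩ := P_exists_rep x'
  rw [P_map_mk, P_map_mk] at h
  obtain ⟨k, φ₁, φ₂, y, c₁, c₂, hG, h1, h2, h3, h4⟩ := Rp_of_mk_eq _ _ _ _ h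
  have e : f.app _ (F.map φ₁.op σ) = g.app _ (F'.map φ₂.op σ') := by
    rw [NatTrans.naturality_apply f φ₁.op σ, NatTrans.naturality_apply g φ₂.op σ']
    exact hG
  obtain ⟨c, hc1, hc2⟩ := exists_pullback_elt f g _ _ e
  refine ⟨Fan.P.mk c y, ?_, ?_⟩
  · rw [P_map_mk, hc1, ← mk_restrict φ₁ σ y v c₁ h1 h3]
  · rw [P_map_mk, hc2, ← mk_restrict φ₂ σ' y v' c₂ h2 h4]

/-- The union of the cells of a sub-fan. -/
def cellsOf (S : Subfunctor F) : Set (Fan.P F) :=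
  {x | ∃ (n : ICone) (σ : F.obj (op n)) (v : Fan.Orth n), σ ∈ S.obj (op n) ∧ x = Fan.P.mk σ v}

theorem range_P_map_ι (S : Subfunctor F) : Set.range (Fan.P.map S.ι) = cellsOf S := by
  ext x
  constructor
  · rintro ⟨y, rfl⟩
    obtain ⟨n, σ, v, rfl⟩ := P_exists_rep y
    exact ⟨n, σ.1, v, σ.2, rfl⟩
  · rintro ⟨n, σ, v, hσ, rfl⟩
    exact ⟨Fan.P.mk (F := S.toFunctor) ⟨σ, hσ⟩ v, rfl⟩

theorem range_P_map (f : F ⟶ G) : Set.range (Fan.P.map f) = cellsOf (Subfunctor.range f) := by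
  ext x
  constructor
  · rintro ⟨y, rfl⟩
    obtain ⟨n, σ, v, rfl⟩ := P_exists_rep y
    exact ⟨n, f.app _ σ, v, ⟨σ, rfl⟩, rfl⟩
  · rintro ⟨n, τ, v, ⟨σ, rfl⟩, rfl⟩
    exact ⟨Fan.P.mk σ v, rfl⟩

theorem cellsOf_inf (S S' : Subfunctor F) : cellsOf S ∩ cellsOf S' = cellsOf (S ⊓ S') := by
  ext x
  constructor
  · rintro ⟨⟨n, σ, v, hσ, rfl⟩, ⟨n', σ', v', hσ', h⟩⟩
    obtain ⟨k, φ₁, φ₂, y, c₁, c₂, hG, h1, h2, h3, h4⟩ := Rp_of_mk_eq _ _ _ _ h
    refine ⟨k, F.map φ₁.op σ, y, ?_, mk_restrict φ₁ σ y v c₁ h1 h3⟩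
    rw [Subfunctor.min_obj]
    refine ⟨S.map φ₁.op hσ, ?_⟩
    show F.map φ₁.op σ ∈ S'.obj (op k)
    rw [hG]
    exact S'.map φ₂.op hσ'
  · rintro ⟨n, σ, v, hσ, rfl⟩
    rw [Subfunctor.min_obj] at hσ
    exact ⟨⟨n, σ, v, hσ.1, rfl⟩, ⟨n, σ, v, hσ.2, rfl⟩⟩

theorem cellsOf_iSup {ι : Type*} (S : ι → Subfunctor F) :
    ⋃ i, cellsOf (S i) = cellsOf (⨆ i, S i) := by
  ext x
  simp only [Set.mem_iUnion]
  constructor
  · rintro ⟨i, n, σ, v, hσ, rfl⟩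
    refine ⟨n, σ, v, ?_, rfl⟩
    rw [Subfunctor.iSup_obj]
    exact Set.mem_iUnion.mpr ⟨i, hσ⟩
  · rintro ⟨n, σ, v, hσ, rfl⟩
    rw [Subfunctor.iSup_obj] at hσ
    obtain ⟨i, hi⟩ := Set.mem_iUnion.mp hσ
    exact ⟨i, n, σ, v, hi, rfl⟩

end Groth.Agent.H77.FanB
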