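import Groth.Agent.H77.FanD

/-! Representable fans, boundedness, quasi-separatedness. -/

open CategoryTheory Opposite Instab

universe u

namespace Groth.Agent.H77.FanB

variable {F G : Fan.{u}}

/-- the image of a point of the orthant under a cone morphism -/
def orthMap {k n : ICone} (φ : k ⟶ n) (y : Fan.Orth k) : Fan.Orth n :=
  ⟨φ.realMap y.1, fun j => realMap_nonneg φ y.2.1 j, realMap_ne_zero φ y.2.1 y.2.2⟩

/-- positive rescaling in the orthant -/
def orthSmul {n : ICone} (c : ℝ) (hc : 0 < c) (v : Fan.Orth n) : Fan.Orth n :=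
  ⟨c • v.1, fun i => mul_nonneg hc.le (v.2.1 i), fun h => v.2.2 (by
    have := congrArg (fun w => c⁻¹ • w) h
    simpa [smul_smul, inv_mul_cancel₀ hc.ne'] using this)⟩

theorem mk_orthMap {k n : ICone} (φ : k ⟶ n) (ξ : F.obj (op n)) (y : Fan.Orth k) :
    Fan.P.mk ξ (orthMap φ y) = Fan.P.mk (F.map φ.op ξ) y :=
  mk_restrict φ ξ y (orthMap φ y) 1 one_pos (by rw [one_smul]; rfl)

theorem mk_orthSmul {n : ICone} (ξ : F.obj (op n)) (c : ℝ) (hc : 0 < c) (v : Fan.Orth n) :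
    Fan.P.mk ξ (orthSmul c hc v) = Fan.P.mk ξ v := by
  have := mk_restrict (𝟙 n) ξ v (orthSmul c hc v) c hc (by rw [realMap_id]; rfl)
  rw [this, map_id_op]

/-- the tautological cone of a representable fan -/
def idCone (n : ICone) : (uliftYoneda.{u}.obj n).obj (op n) := ULift.up (𝟙 n)

theorem yoneda_map_apply {n k k' : ICone} (α : k' ⟶ k) (x : (uliftYoneda.{u}.obj n).obj (op k)) :
    (uliftYoneda.{u}.obj n).map α.op x = ULift.up (α ≫ x.down) := rfl

theorem coneMap_app {n k : ICone} (σ : F.obj (op n)) (x : (uliftYoneda.{u}.obj n).obj (op k)) :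
    (Fan.coneMap σ).app (op k) x = F.map x.down.op σ := rfl

theorem coneMap_comp {n : ICone} (σ : F.obj (op n)) (f : F ⟶ G) :
    Fan.coneMap σ ≫ f = Fan.coneMap (f.app _ σ) := by
  unfold Fan.coneMap
  rw [uliftYonedaEquiv_symm_comp]

theorem rep_mk {n k : ICone} (x : (uliftYoneda.{u}.obj n).obj (op k)) (y : Fan.Orth k) :
    Fan.P.mk x y = Fan.P.mk (idCone n) (orthMap x.down y) := by
  rw [mk_orthMap, yoneda_map_apply]
  congr 1

theorem rep_mk_eq {n k : ICone} (x : (uliftYoneda.{u}.obj n).obj (op k)) (y : Fan.Orth k)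
    (v : Fan.Orth n) (h : Fan.P.mk x y = Fan.P.mk (idCone.{u} n) v) :
    ∃ c : ℝ, 0 < c ∧ v.1 = c • x.down.realMap y.1 := by
  obtain ⟨k', α, β, y'', c₁, c₂, hG, h1, h2, h3, h4⟩ := Rp_of_mk_eq _ _ _ _ h
  rw [yoneda_map_apply, yoneda_map_apply] at hG
  have e : α ≫ x.down = β := by
    have := congrArg ULift.down hG
    simpa [idCone] using this
  refine ⟨c₂ / c₁, div_pos h2 h1, ?_⟩
  have h3' : (y.1 : Fin k.dim → ℝ) = c₁ • α.realMap y''.1 := h3
  have h4' : (v.1 : Fin n.dim → ℝ) = c₂ • β.realMap y''.1 := h4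
  rw [h4', h3', ← e, realMap_comp, realMap_smul, smul_smul]
  congr 1
  field_simp

theorem isBounded_rep (n : ICone) : Fan.IsBounded (uliftYoneda.{u}.obj n) := by
  classical
  refine ⟨{⟨n, idCone n⟩}, fun x => ⟨⟨n, idCone n⟩, Finset.mem_singleton_self _, ?_⟩⟩
  obtain ⟨k, σ, v, rfl⟩ := P_exists_rep x
  exact ⟨orthMap σ.down v, (rep_mk σ v).symm⟩

theorem pullback_elt_ext {F' : Fan.{u}} (f : F ⟶ G) (g : F' ⟶ G) {n : ICone}
    (c c' : (Limits.pullback f g).obj (op n))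
    (h1 : (Limits.pullback.fst f g).app _ c = (Limits.pullback.fst f g).app _ c')
    (h2 : (Limits.pullback.snd f g).app _ c = (Limits.pullback.snd f g).app _ c') : c = c' := by
  have : uliftYonedaEquiv.{u}.symm c = uliftYonedaEquiv.{u}.symm c' := by
    apply Limits.pullback.hom_ext
    · rw [uliftYonedaEquiv_symm_comp, uliftYonedaEquiv_symm_comp, h1]
    · rw [uliftYonedaEquiv_symm_comp, uliftYonedaEquiv_symm_comp, h2]
  exact uliftYonedaEquiv.symm.injective this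

theorem isBounded_of_cover {Q : Fan.{u}} {ι : Type*} (s : Finset ι) (Qe : ι → Fan.{u})
    (j : ∀ e, Qe e ⟶ Q) (hb : ∀ e ∈ s, (Qe e).IsBounded)
    (hcov : ∀ z : Fan.P Q, ∃ e ∈ s, z ∈ Set.range (Fan.P.map (j e))) : Q.IsBounded := by
  classical
  choose t ht using hb
  refine ⟨s.attach.biUnion (fun e => (t e.1 e.2).image
    (fun c => (⟨c.1, (j e.1).app _ c.2⟩ : Σ n : ICone, Q.obj (op n)))), fun z => ?_⟩
  obtain ⟨e, he, ⟨z', rfl⟩⟩ := hcov z
  obtain ⟨c, hc, ⟨w, hw⟩⟩ := ht e he z'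
  refine ⟨⟨c.1, (j e).app _ c.2⟩, ?_, ⟨w, ?_⟩⟩
  · rw [Finset.mem_biUnion]
    exact ⟨⟨e, he⟩, Finset.mem_attach _ _, Finset.mem_image.mpr ⟨c, hc, rfl⟩⟩
  · rw [← hw]
    rfl

theorem isBoundedMap_of_isQuasiSeparated (hG : G.IsQuasiSeparated) (f : F ⟶ G)
    (hF : F.IsBounded) : Fan.IsBoundedMap f := by
  intro n σ
  obtain ⟨s, hs⟩ := hF
  let Qe : (Σ m : ICone, F.obj (op m)) → Fan.{u} := fun e =>
    Limits.pullback (Fan.coneMap (f.app _ e.2)) (Fan.coneMap σ)
  let j : ∀ e, Qe e ⟶ Limits.pullback f (Fan.coneMap σ) := fun e =>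
    Limits.pullback.lift (Limits.pullback.fst _ _ ≫ Fan.coneMap e.2) (Limits.pullback.snd _ _) (by
      rw [Category.assoc, coneMap_comp, Limits.pullback.condition])
  refine isBounded_of_cover s Qe j (fun e _ => hG _ _ _ _) ?_
  intro z
  obtain ⟨k, c, y, rfl⟩ := P_exists_rep z
  obtain ⟨e, he, ⟨w, hw⟩⟩ := hs (Fan.P.mk ((Limits.pullback.fst f (Fan.coneMap σ)).app _ c) y)
  refine ⟨e, he, ?_⟩
  obtain ⟨k', α, β, y'', c₁, c₂, hGe, h1, h2, h3, h4⟩ := Rp_of_mk_eq _ _ _ _ hw.symm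
  -- hGe : F.map α.op (fst c) = F.map β.op e.2
  set c' := (Limits.pullback f (Fan.coneMap σ)).map α.op c with hc'
  have hz : Fan.P.mk c y = Fan.P.mk c' y'' := mk_restrict α c y'' y c₁ h1 h3
  have hfst : (Limits.pullback.fst f (Fan.coneMap σ)).app _ c' = F.map β.op e.2 := by
    rw [hc', NatTrans.naturality_apply]
    exact hGe
  have hcond : (Fan.coneMap (f.app _ e.2)).app (op k') (ULift.up β) =
      (Fan.coneMap σ).app (op k') ((Limits.pullback.snd f (Fan.coneMap σ)).app _ c') := by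
    rw [← pullback_condition_apply, hfst, coneMap_app, NatTrans.naturality_apply]
  obtain ⟨c'', hc1, hc2⟩ := exists_pullback_elt _ _ _ _ hcond
  have hj : (j e).app _ c'' = c' := by
    apply pullback_elt_ext
    · have h5 := congrArg (fun t => t.app (op k') c'')
        (Limits.pullback.lift_fst (Limits.pullback.fst _ _ ≫ Fan.coneMap e.2)
          (Limits.pullback.snd (Fan.coneMap (f.app _ e.2)) (Fan.coneMap σ)) (by
            rw [Category.assoc, coneMap_comp, Limits.pullback.condition]))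
      refine Eq.trans h5 ?_
      show (Fan.coneMap e.2).app _ ((Limits.pullback.fst (Fan.coneMap (f.app _ e.2))
        (Fan.coneMap σ)).app _ c'') = _
      rw [hc1, hfst, coneMap_app]
    · have h5 := congrArg (fun t => t.app (op k') c'')
        (Limits.pullback.lift_snd (Limits.pullback.fst _ _ ≫ Fan.coneMap e.2)
          (Limits.pullback.snd (Fan.coneMap (f.app _ e.2)) (Fan.coneMap σ)) (by
            rw [Category.assoc, coneMap_comp, Limits.pullback.condition]))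
      refine Eq.trans h5 ?_
      exact hc2
  refine ⟨Fan.P.mk c'' y'', ?_⟩
  rw [hz, P_map_mk, hj]

theorem isQuasiSeparated_iff (G : Fan.{u}) :
    G.IsQuasiSeparated ↔ ∀ (F : Fan.{u}) (f : F ⟶ G), F.IsBounded → Fan.IsBoundedMap f := by
  constructor
  · intro hG F f hF
    exact isBoundedMap_of_isQuasiSeparated hG f hF
  · intro h n₀ n₁ σ₀ σ₁
    exact h _ (Fan.coneMap σ₀) (isBounded_rep n₀) n₁ σ₁

theorem exists_finset_subcone_pairs (G : Fan.{u}) (hG : G.IsQuasiSeparated) {n n' : ICone}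
    (ξ : G.obj (op n)) (ξ' : G.obj (op n')) :
    ∃ s : Finset (Σ k : ICone, (k ⟶ n) × (k ⟶ n')),
      (∀ e ∈ s, G.map e.2.1.op ξ = G.map e.2.2.op ξ') ∧
      ∀ (v : Fan.Orth n) (w : Fan.Orth n'), Fan.P.mk ξ v = Fan.P.mk ξ' w ↔
        ∃ e ∈ s, ∃ (y : Fan.Orth e.1) (c c' : ℝ), 0 < c ∧ 0 < c' ∧
          v.1 = c • e.2.1.realMap y.1 ∧ w.1 = c' • e.2.2.realMap y.1 := by
  classical
  obtain ⟨t, ht⟩ := hG n n' ξ ξ'
  let pr : (Σ k : ICone, (Limits.pullback (Fan.coneMap ξ) (Fan.coneMap ξ')).obj (op k)) →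
      (Σ k : ICone, (k ⟶ n) × (k ⟶ n')) :=
    fun c => ⟨c.1, ((Limits.pullback.fst (Fan.coneMap ξ) (Fan.coneMap ξ')).app _ c.2).down,
      ((Limits.pullback.snd (Fan.coneMap ξ) (Fan.coneMap ξ')).app _ c.2).down⟩
  have hpr : ∀ c, G.map (pr c).2.1.op ξ = G.map (pr c).2.2.op ξ' := by
    intro c
    have := pullback_condition_apply (Fan.coneMap ξ) (Fan.coneMap ξ') c.2
    rwa [coneMap_app, coneMap_app] at this
  refine ⟨t.image pr, ?_, ?_⟩
  · intro e he
    obtain ⟨c, _, rfl⟩ := Finset.mem_image.mp he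
    exact hpr c
  · intro v w
    constructor
    · intro h
      have h1 : Fan.P.map (Fan.coneMap ξ) (Fan.P.mk (idCone n) v) =
          Fan.P.map (Fan.coneMap ξ') (Fan.P.mk (idCone n') w) := by
        rw [P_map_mk, P_map_mk, coneMap_app, coneMap_app]
        simp only [idCone]
        rw [map_id_op, map_id_op]
        exact h
      obtain ⟨z, hz1, hz2⟩ := P_pullback_lift _ _ _ _ h1
      obtain ⟨c, hc, ⟨y, rfl⟩⟩ := ht z
      rw [P_map_mk] at hz1 hz2
      obtain ⟨a, ha, hav⟩ := rep_mk_eq _ y v hz1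
      obtain ⟨b, hb, hbw⟩ := rep_mk_eq _ y w hz2
      exact ⟨pr c, Finset.mem_image_of_mem _ hc, y, a, b, ha, hb, hav, hbw⟩
    · rintro ⟨e, he, y, a, b, ha, hb, hav, hbw⟩
      obtain ⟨c, _, rfl⟩ := Finset.mem_image.mp he
      rw [mk_restrict _ ξ y v a ha hav, mk_restrict _ ξ' y w b hb hbw, hpr c]

end Groth.Agent.H77.FanB
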