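import Groth.Agent.H77.FanE

/-! Topology of cones in the orthant: real injectivity of cone morphisms, closed images,
density of rational rays; applications to bounded maps and quasi-separated fans. -/

open CategoryTheory Opposite Instab

universe u

namespace Groth.Agent.H77.FanB

open Groth.Agent.H77.FanA

theorem realMap_add {k n : ICone} (φ : k ⟶ n) (v w : Fin k.dim → ℝ) :
    φ.realMap (v + w) = φ.realMap v + φ.realMap w := by
  funext j
  simp only [realMap_apply, Pi.add_apply, mul_add, Finset.sum_add_distrib]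

theorem realMap_zero {k n : ICone} (φ : k ⟶ n) : φ.realMap 0 = 0 := by
  funext j
  simp [realMap_apply]

/-- the real linear map of a cone morphism -/
def realLin {k n : ICone} (φ : k ⟶ n) : (Fin k.dim → ℝ) →ₗ[ℝ] (Fin n.dim → ℝ) where
  toFun := φ.realMap
  map_add' := realMap_add φ
  map_smul' := fun c v => realMap_smul φ c v

theorem realMap_eq_zero {k n : ICone} (φ : k ⟶ n) (v : Fin k.dim → ℝ) (h : φ.realMap v = 0) :
    v = 0 := by
  classical
  by_contra hv
  obtain ⟨d, hd, R, q, hR, hvq, hrel, hinj⟩ := rat_span_coords v hv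
  obtain ⟨N, hN, hz⟩ := exists_common_den (fun p : Fin k.dim × Fin d => q p.1 p.2)
  choose z hz using hz
  have hNQ : (N : ℚ) ≠ 0 := by exact_mod_cast hN.ne'
  have hq : ∀ i l, q i l = 0 := by
    intro i l
    have h1 : ∀ j, ∑ i, (ent φ j i : ℚ) * q i l = 0 := by
      intro j
      refine hrel (fun i => (ent φ j i : ℚ)) ?_ l
      have := congrFun h j
      rw [realMap_apply] at this
      simpa using this
    have h2 : φ.toLin (fun i => z (i, l)) = φ.toLin 0 := by
      rw [map_zero]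
      funext j
      rw [toLin_apply]
      have : ((∑ i, ent φ j i * z (i, l) : ℤ) : ℚ) = 0 := by
        push_cast
        simp_rw [hz]
        have : ∑ i, (ent φ j i : ℚ) * (N * q i l) = N * ∑ i, (ent φ j i : ℚ) * q i l := by
          rw [Finset.mul_sum]
          refine Finset.sum_congr rfl fun i _ => ?_
          ring
        rw [this, h1 j, mul_zero]
      exact_mod_cast this
    have h3 := congrFun (φ.injective h2) i
    have h4 : (z (i, l) : ℚ) = 0 := by exact_mod_cast h3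
    rw [hz] at h4
    exact (mul_eq_zero.mp h4).resolve_left hNQ
  apply hv
  funext i
  rw [hvq i]
  simp [hq]

theorem realLin_ker {k n : ICone} (φ : k ⟶ n) : LinearMap.ker (realLin φ) = ⊥ := by
  rw [LinearMap.ker_eq_bot']
  intro v hv
  exact realMap_eq_zero φ v hv

theorem realLin_isClosedEmbedding {k n : ICone} (φ : k ⟶ n) :
    Topology.IsClosedEmbedding (realLin φ) :=
  LinearMap.isClosedEmbedding_of_injective (realLin_ker φ)

theorem continuous_realMap {k n : ICone} (φ : k ⟶ n) : Continuous φ.realMap :=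
  (realLin_isClosedEmbedding φ).continuous

theorem isClosed_cone_image {k n : ICone} (φ : k ⟶ n) (Z : Set (Fin k.dim → ℝ))
    (hZ : IsClosed Z) : IsClosed {v : Fan.Orth n | ∃ y ∈ Z, v.1 = φ.realMap y} := by
  have h1 : IsClosed (realLin φ '' Z) := (realLin_isClosedEmbedding φ).isClosedMap Z hZ
  have h2 : {v : Fan.Orth n | ∃ y ∈ Z, v.1 = φ.realMap y} =
      (Subtype.val : Fan.Orth n → _) ⁻¹' (realLin φ '' Z) := by
    ext v
    simp only [Set.mem_setOf_eq, Set.mem_preimage, Set.mem_image]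
    constructor
    · rintro ⟨y, hy, h⟩; exact ⟨y, hy, h.symm⟩
    · rintro ⟨y, hy, h⟩; exact ⟨y, hy, h.symm⟩
  rw [h2]
  exact h1.preimage continuous_subtype_val

theorem isClosed_nonneg (k : ℕ) : IsClosed {y : Fin k → ℝ | ∀ i, 0 ≤ y i} := by
  have : {y : Fin k → ℝ | ∀ i, 0 ≤ y i} = ⋂ i, {y | 0 ≤ y i} := by
    ext y; simp
  rw [this]
  exact isClosed_iInter fun i => isClosed_le continuous_const (continuous_apply i)

/-- the simplicial cone of a cone morphism, as a set of points of the orthant -/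
def coneSet {k n : ICone} (φ : k ⟶ n) : Set (Fan.Orth n) :=
  {v | ∃ (y : Fan.Orth k) (a : ℝ), 0 < a ∧ v.1 = a • φ.realMap y.1}

theorem coneSet_eq {k n : ICone} (φ : k ⟶ n) :
    coneSet φ = {v : Fan.Orth n | ∃ y ∈ {y : Fin k.dim → ℝ | ∀ i, 0 ≤ y i}, v.1 = φ.realMap y} := by
  ext v
  constructor
  · rintro ⟨y, a, ha, h⟩
    refine ⟨a • y.1, fun i => mul_nonneg ha.le (y.2.1 i), ?_⟩
    rw [realMap_smul]; exact h
  · rintro ⟨y, hy, h⟩
    have hy0 : y ≠ 0 := by
      rintro rfl
      rw [realMap_zero] at h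
      exact v.2.2 h
    exact ⟨⟨y, hy, hy0⟩, 1, one_pos, by rw [one_smul]; exact h⟩

theorem isClosed_coneSet {k n : ICone} (φ : k ⟶ n) : IsClosed (coneSet φ) := by
  rw [coneSet_eq]
  exact isClosed_cone_image φ _ (isClosed_nonneg _)

/-- the integer point of the orthant -/
def intPt {n : ICone} (r : Fin n.dim → ℤ) (hr : ∀ i, 0 ≤ r i) (hr0 : r ≠ 0) : Fan.Orth n :=
  ⟨fun i => (r i : ℝ), fun i => Int.cast_nonneg (hr i), fun h => hr0 (by
    funext i
    have := congrFun h i
    simpa using this)⟩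

/-- A closed subset of the orthant that is stable under positive rescaling and contains all
integer points is everything. -/
theorem eq_univ_of_closed_of_intPt {n : ICone} (D : Set (Fan.Orth n)) (hD : IsClosed D)
    (hsc : ∀ (v : Fan.Orth n) (c : ℝ) (hc : 0 < c), v ∈ D → orthSmul c hc v ∈ D)
    (hint : ∀ (r : Fin n.dim → ℤ) (hr : ∀ i, 0 ≤ r i) (hr0 : r ≠ 0), intPt r hr hr0 ∈ D) :
    D = Set.univ := by
  classical
  rw [Set.eq_univ_iff_forall]
  intro v
  have hind : Topology.IsInducing (Subtype.val : Fan.Orth n → (Fin n.dim → ℝ)) :=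
    Topology.IsInducing.subtypeVal
  have hcl : closure D = (Subtype.val : Fan.Orth n → (Fin n.dim → ℝ)) ⁻¹'
      closure ((Subtype.val : Fan.Orth n → (Fin n.dim → ℝ)) '' D) :=
    hind.closure_eq_preimage_closure_image D
  rw [← hD.closure_eq, hcl]
  show v.1 ∈ closure ((Subtype.val : Fan.Orth n → (Fin n.dim → ℝ)) '' D)
  rw [Metric.mem_closure_iff]
  intro ε hε
  have hq : ∀ i, ∃ q : ℚ, v.1 i < (q : ℝ) ∧ (q : ℝ) < v.1 i + ε :=
    fun i => exists_rat_btwn (by linarith)
  choose q hq1 hq2 using hq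
  have hqpos : ∀ i, 0 < (q i : ℝ) := fun i => lt_of_le_of_lt (v.2.1 i) (hq1 i)
  obtain ⟨N, hN, hz⟩ := exists_common_den q
  choose z hz using hz
  have hNR : (0 : ℝ) < N := by exact_mod_cast hN
  have hzR : ∀ i, (z i : ℝ) = N * (q i : ℝ) := by
    intro i
    have := congrArg (fun r : ℚ => (r : ℝ)) (hz i)
    simpa using this
  have hzpos : ∀ i, 0 < z i := by
    intro i
    have : (0 : ℝ) < (z i : ℝ) := by rw [hzR]; exact mul_pos hNR (hqpos i)
    exact_mod_cast this
  have hz0 : z ≠ 0 := by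
    intro h
    have := hzpos ⟨0, n.dim.pos⟩
    rw [h] at this
    simp at this
  refine ⟨(orthSmul (1 / N) (by positivity) (intPt z (fun i => (hzpos i).le) hz0)).1,
    ⟨_, hsc _ _ _ (hint z _ hz0), rfl⟩, ?_⟩
  rw [dist_pi_lt_iff hε]
  intro i
  show dist (v.1 i) ((1 / (N : ℝ)) * (z i : ℝ)) < ε
  rw [hzR, Real.dist_eq]
  have e : 1 / (N : ℝ) * (N * (q i : ℝ)) = q i := by field_simp
  rw [e, abs_lt]
  constructor
  · linarith [hq2 i]
  · linarith [hq1 i]

theorem rayHom_aux {ι : Type*} (r : ι → ℤ) (hr0 : r ≠ 0) (u : Fin 1 → ℤ)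
    (hu : ∀ i, ∑ j, r i * u j = 0) : u = 0 := by
  obtain ⟨i, hi⟩ : ∃ i, r i ≠ 0 := by
    by_contra h; push Not at h; exact hr0 (funext h)
  have h1 := hu i
  rw [Fin.sum_univ_one] at h1
  funext j
  have hj : j = 0 := Subsingleton.elim _ _
  subst hj
  simpa [hi] using h1

/-- the ray morphism `[1] ⟶ [n]` of a nonzero nonnegative integer vector -/
noncomputable def rayHom {n : ICone} (r : Fin n.dim → ℤ) (hr : ∀ i, 0 ≤ r i) (hr0 : r ≠ 0) :
    Fan.one ⟶ n :=
  homOfMatrix (fun i _ => r i) (fun i _ => hr i) (fun u hu => rayHom_aux r hr0 u hu)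

theorem rayHom_realMap {n : ICone} (r : Fin n.dim → ℤ) (hr : ∀ i, 0 ≤ r i) (hr0 : r ≠ 0) :
    (rayHom r hr hr0).realMap (Fan.Orth.ones Fan.one).1 = (intPt r hr hr0).1 := by
  funext i
  rw [realMap_apply]
  simp only [rayHom, ent_homOfMatrix]
  show ∑ x : Fin 1, (r i : ℝ) * (1 : ℝ) = (r i : ℝ)
  simp

theorem mk_intPt {F : Fan.{u}} {n : ICone} (ξ : F.obj (op n)) (r : Fin n.dim → ℤ)
    (hr : ∀ i, 0 ≤ r i) (hr0 : r ≠ 0) :
    Fan.P.mk ξ (intPt r hr hr0) =
      Fan.P.mk (F.map (rayHom r hr hr0).op ξ) (Fan.Orth.ones Fan.one) :=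
  mk_restrict (rayHom r hr hr0) ξ _ _ 1 one_pos (by rw [one_smul, rayHom_realMap])

theorem range_P_map_snd {F G G' : Fan.{u}} (f : F ⟶ G) (g : G' ⟶ G) :
    Set.range (Fan.P.map (Limits.pullback.snd f g)) =
      Fan.P.map g ⁻¹' Set.range (Fan.P.map f) := by
  ext x'
  constructor
  · rintro ⟨z, rfl⟩
    refine ⟨Fan.P.map (Limits.pullback.fst f g) z, ?_⟩
    rw [← P_map_comp, ← P_map_comp, Limits.pullback.condition]
  · rintro ⟨x, hx⟩
    obtain ⟨y, _, hy⟩ := P_pullback_lift f g x x' hx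
    exact ⟨y, hy⟩

end Groth.Agent.H77.FanB
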