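import Groth.Agent.H77.FanF

/-! Bounded maps: surjectivity on rational points; quasi-separated fans: injectivity on rational
points. -/

open CategoryTheory Opposite Instab

universe u

namespace Groth.Agent.H77.FanB

theorem surjective_iff_rational {F G : Fan.{u}} (ψ : F ⟶ G) (hψ : Fan.IsBoundedMap ψ) :
    Function.Surjective (Fan.P.map ψ) ↔
      ∀ y : Fan.P G, y.IsRational → y ∈ Set.range (Fan.P.map ψ) := by
  constructor
  · intro h y _; exact h y
  · intro h y
    obtain ⟨n, ξ, v, rfl⟩ := P_exists_rep y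
    obtain ⟨t, ht⟩ := hψ n ξ
    let D : Set (Fan.Orth n) := {v | Fan.P.mk (idCone n) v ∈
      Set.range (Fan.P.map (Limits.pullback.snd ψ (Fan.coneMap ξ)))}
    have hDeq : D = ⋃ c ∈ t,
        coneSet (((Limits.pullback.snd ψ (Fan.coneMap ξ)).app _ c.2).down) := by
      ext v
      simp only [D, Set.mem_setOf_eq, Set.mem_iUnion]
      constructor
      · rintro ⟨z, hz⟩
        obtain ⟨c, hc, ⟨y, rfl⟩⟩ := ht z
        rw [P_map_mk] at hz
        obtain ⟨a, ha, hav⟩ := rep_mk_eq _ y v hz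
        exact ⟨c, hc, y, a, ha, hav⟩
      · rintro ⟨c, hc, y, a, ha, hav⟩
        refine ⟨Fan.P.mk c.2 y, ?_⟩
        rw [P_map_mk, rep_mk]
        have : v = orthSmul a ha
            (orthMap ((Limits.pullback.snd ψ (Fan.coneMap ξ)).app _ c.2).down y) :=
          Subtype.ext hav
        rw [this, mk_orthSmul]
    have hDcl : IsClosed D := by
      rw [hDeq]
      exact isClosed_biUnion_finset (fun c _ => isClosed_coneSet _)
    have hD : D = Set.univ := by
      apply eq_univ_of_closed_of_intPt D hDcl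
      · intro v c hc hv
        show Fan.P.mk (idCone n) (orthSmul c hc v) ∈
          Set.range (Fan.P.map (Limits.pullback.snd ψ (Fan.coneMap ξ)))
        rw [mk_orthSmul]; exact hv
      · intro r hr hr0
        show Fan.P.mk (idCone n) (intPt r hr hr0) ∈
          Set.range (Fan.P.map (Limits.pullback.snd ψ (Fan.coneMap ξ)))
        rw [range_P_map_snd, Set.mem_preimage, mk_intPt, P_map_mk]
        exact h _ ⟨_, rfl⟩
    have hv : v ∈ D := by rw [hD]; trivial
    have hv' : Fan.P.mk (idCone n) v ∈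
        Fan.P.map (Fan.coneMap ξ) ⁻¹' Set.range (Fan.P.map ψ) := by
      rw [← range_P_map_snd]; exact hv
    rw [Set.mem_preimage, P_map_mk, coneMap_app] at hv'
    have e : G.map (idCone.{u} n).down.op ξ = ξ := map_id_op ξ
    rw [e] at hv'
    exact hv'

theorem sum_pos_of_orth {n : ℕ} {w : Fin n → ℝ} (hw : ∀ i, 0 ≤ w i) (hw0 : w ≠ 0) :
    0 < ∑ j, w j := by
  obtain ⟨i, hi⟩ : ∃ i, w i ≠ 0 := by
    by_contra h; push Not at h; exact hw0 (funext h)
  have hipos : 0 < w i := lt_of_le_of_ne (hw i) (Ne.symm hi)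
  exact lt_of_lt_of_le hipos (Finset.single_le_sum (fun j _ => hw j) (Finset.mem_univ i))

/-- rays that are simultaneously in the image of two cone morphisms at the same parameter -/
def pairSet {m k : ICone} (α β : m ⟶ k) : Set (Fan.Orth k) :=
  {u | ∃ (y' : Fan.Orth m) (c c' : ℝ), 0 < c ∧ 0 < c' ∧
    u.1 = c • α.realMap y'.1 ∧ u.1 = c' • β.realMap y'.1}

theorem pairSet_eq {m k : ICone} (α β : m ⟶ k) :
    pairSet α β = {u : Fan.Orth k | ∃ y ∈ {y : Fin m.dim → ℝ | (∀ i, 0 ≤ y i) ∧
      (∑ j, α.realMap y j) • β.realMap y = (∑ j, β.realMap y j) • α.realMap y},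
        u.1 = α.realMap y} := by
  ext u
  constructor
  · rintro ⟨y', c, c', hc, hc', h1, h2⟩
    refine ⟨c • y'.1, ⟨fun i => mul_nonneg hc.le (y'.2.1 i), ?_⟩, ?_⟩
    · have e1 : α.realMap (c • y'.1) = u.1 := by rw [realMap_smul]; exact h1.symm
      have e2 : β.realMap (c • y'.1) = (c / c') • u.1 := by
        rw [realMap_smul, h2, smul_smul]
        congr 1
        field_simp
      rw [e1, e2]
      simp only [Pi.smul_apply, smul_eq_mul, ← Finset.mul_sum, smul_smul]
      congr 1
      ring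
    · rw [realMap_smul]; exact h1
  · rintro ⟨y, ⟨hy, hrel⟩, hu⟩
    have hy0 : y ≠ 0 := by
      rintro rfl
      rw [realMap_zero] at hu
      exact u.2.2 hu
    have hA : 0 < ∑ j, α.realMap y j :=
      sum_pos_of_orth (fun j => realMap_nonneg α hy j) (realMap_ne_zero α hy hy0)
    have hB : 0 < ∑ j, β.realMap y j :=
      sum_pos_of_orth (fun j => realMap_nonneg β hy j) (realMap_ne_zero β hy hy0)
    refine ⟨⟨y, hy, hy0⟩, 1, (∑ j, α.realMap y j) / (∑ j, β.realMap y j), one_pos,
      div_pos hA hB, by rw [one_smul]; exact hu, ?_⟩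
    have e := congrArg (fun w => (1 / ∑ j, β.realMap y j) • w) hrel
    simp only [smul_smul] at e
    rw [one_div, inv_mul_cancel₀ hB.ne', one_smul] at e
    rw [hu]
    refine e.symm.trans ?_
    congr 1
    field_simp

theorem isClosed_pairSet {m k : ICone} (α β : m ⟶ k) : IsClosed (pairSet α β) := by
  rw [pairSet_eq]
  apply isClosed_cone_image
  have hS : ∀ γ : m ⟶ k, Continuous fun y : Fin m.dim → ℝ => ∑ j, γ.realMap y j := fun γ =>
    continuous_finset_sum _ fun j _ => (continuous_apply j).comp (continuous_realMap γ)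
  have h1 : IsClosed {y : Fin m.dim → ℝ | ∀ i, 0 ≤ y i} := isClosed_nonneg _
  have h2 : IsClosed {y : Fin m.dim → ℝ |
      (∑ j, α.realMap y j) • β.realMap y = (∑ j, β.realMap y j) • α.realMap y} :=
    isClosed_eq ((hS α).smul (continuous_realMap β)) ((hS β).smul (continuous_realMap α))
  exact h1.inter h2

theorem injective_iff_rational {F G : Fan.{u}} (ψ : F ⟶ G) (hF : F.IsQuasiSeparated) :
    Function.Injective (Fan.P.map ψ) ↔
      ∀ x y : Fan.P F, x.IsRational → y.IsRational → Fan.P.map ψ x = Fan.P.map ψ y → x = y := by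
  constructor
  · intro h x y _ _ hxy; exact h hxy
  · intro h x x' hxx'
    obtain ⟨n, σ, v, rfl⟩ := P_exists_rep x
    obtain ⟨n', σ', v', rfl⟩ := P_exists_rep x'
    rw [P_map_mk, P_map_mk] at hxx'
    obtain ⟨k, φ₁, φ₂, y, c₁, c₂, hG, h1, h2, h3, h4⟩ := Rp_of_mk_eq _ _ _ _ hxx'
    have hττ' : ψ.app _ (F.map φ₁.op σ) = ψ.app _ (F.map φ₂.op σ') := by
      rw [NatTrans.naturality_apply, NatTrans.naturality_apply]; exact hG
    rw [mk_restrict φ₁ σ y v c₁ h1 h3, mk_restrict φ₂ σ' y v' c₂ h2 h4]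
    obtain ⟨s, hs1, hs2⟩ := exists_finset_subcone_pairs F hF (F.map φ₁.op σ) (F.map φ₂.op σ')
    let D : Set (Fan.Orth k) :=
      {u | Fan.P.mk (F.map φ₁.op σ) u = Fan.P.mk (F.map φ₂.op σ') u}
    have hDeq : D = ⋃ e ∈ s, pairSet e.2.1 e.2.2 := by
      ext u
      simp only [D, Set.mem_setOf_eq, Set.mem_iUnion]
      rw [hs2 u u]
      constructor
      · rintro ⟨e, he, y', c, c', hc, hc', h5, h6⟩
        exact ⟨e, he, y', c, c', hc, hc', h5, h6⟩
      · rintro ⟨e, he, y', c, c', hc, hc', h5, h6⟩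
        exact ⟨e, he, y', c, c', hc, hc', h5, h6⟩
    have hDcl : IsClosed D := by
      rw [hDeq]
      exact isClosed_biUnion_finset (fun e _ => isClosed_pairSet _ _)
    have hD : D = Set.univ := by
      apply eq_univ_of_closed_of_intPt D hDcl
      · intro u c hc hu
        show Fan.P.mk _ (orthSmul c hc u) = Fan.P.mk _ (orthSmul c hc u)
        rw [mk_orthSmul, mk_orthSmul]; exact hu
      · intro r hr hr0
        show Fan.P.mk _ (intPt r hr hr0) = Fan.P.mk _ (intPt r hr hr0)
        rw [mk_intPt, mk_intPt]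
        apply h _ _ ⟨_, rfl⟩ ⟨_, rfl⟩
        have e1 := NatTrans.naturality_apply ψ (rayHom r hr hr0).op (F.map φ₁.op σ)
        have e2 := NatTrans.naturality_apply ψ (rayHom r hr hr0).op (F.map φ₂.op σ')
        rw [P_map_mk, P_map_mk, e1, e2, hττ']
    have hy : y ∈ D := by rw [hD]; trivial
    exact hy

end Groth.Agent.H77.FanB
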