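import Groth.Agent.H77.FanG

/-! Topology of the projective realization: closed sets cell by cell, closed images. -/

open CategoryTheory Opposite Instab

universe u

namespace Groth.Agent.H77.FanB

variable {F G : Fan.{u}}

theorem isQuotientMap_mk (F : Fan.{u}) :
    Topology.IsQuotientMap (Quot.mk (Fan.Rel F) : Fan.Pt F → Fan.P F) :=
  isQuotientMap_quot_mk

theorem isClosed_iff_cells (A : Set (Fan.P F)) :
    IsClosed A ↔ ∀ (m : ICone) (τ : F.obj (op m)), IsClosed {w : Fan.Orth m | Fan.P.mk τ w ∈ A} := by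
  have h0 : IsClosed A ↔ IsClosed ((Quot.mk (Fan.Rel F) : Fan.Pt F → Fan.P F) ⁻¹' A) :=
    (isQuotientMap_mk F).isClosed_preimage.symm
  rw [h0]
  have h : IsClosed ((Quot.mk (Fan.Rel F) : Fan.Pt F → Fan.P F) ⁻¹' A) ↔
      ∀ i : (Σ n : ICone, F.obj (op n)),
        IsClosed (Sigma.mk i ⁻¹' ((Quot.mk (Fan.Rel F) : Fan.Pt F → Fan.P F) ⁻¹' A)) :=
    isClosed_sigma_iff
  rw [h]
  constructor
  · intro h m τ; exact h ⟨m, τ⟩
  · rintro h ⟨m, τ⟩; exact h m τ

theorem continuous_mk {m : ICone} (τ : F.obj (op m)) : Continuous (Fan.P.mk τ) := by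
  have h1 : Continuous (Quot.mk (Fan.Rel F) : Fan.Pt F → Fan.P F) := (isQuotientMap_mk F).continuous
  have h2 : Continuous (fun w : Fan.Orth m => (⟨⟨m, τ⟩, w⟩ : Fan.Pt F)) :=
    continuous_sigmaMk (σ := fun e : (Σ n : ICone, F.obj (op n)) => Fan.Orth e.1) (i := ⟨m, τ⟩)
  exact h1.comp h2

theorem continuous_P_map (f : F ⟶ G) : Continuous (Fan.P.map f) := by
  have h0 : Continuous (Fan.P.map f) ↔
      Continuous (Fan.P.map f ∘ (Quot.mk (Fan.Rel F) : Fan.Pt F → Fan.P F)) :=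
    (isQuotientMap_mk F).continuous_iff
  rw [h0]
  have h2 : Continuous (fun p : Fan.Pt F => (⟨⟨p.1.1, f.app _ p.1.2⟩, p.2⟩ : Fan.Pt G)) := by
    apply continuous_sigma
    rintro ⟨m, τ⟩
    exact continuous_sigmaMk (σ := fun e : (Σ n : ICone, G.obj (op n)) => Fan.Orth e.1)
      (i := ⟨m, f.app _ τ⟩)
  exact (isQuotientMap_mk G).continuous.comp h2

theorem continuous_orthMap {k n : ICone} (φ : k ⟶ n) : Continuous (orthMap φ) := by
  apply Continuous.subtype_mk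
  exact (continuous_realMap φ).comp continuous_subtype_val

/-- the image of a closed, scaling-stable set of rays under a cone morphism is closed -/
theorem isClosed_image_cone {k n : ICone} (φ : k ⟶ n) (S : Set (Fan.Orth k)) (hS : IsClosed S)
    (hsc : ∀ (v : Fan.Orth k) (c : ℝ) (hc : 0 < c), v ∈ S → orthSmul c hc v ∈ S) :
    IsClosed {v : Fan.Orth n | ∃ y ∈ S, ∃ a : ℝ, 0 < a ∧ v.1 = a • φ.realMap y.1} := by
  obtain ⟨C, hC, hCS⟩ := isClosed_induced_iff.mp hS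
  have hmem : ∀ y : Fan.Orth k, y ∈ S ↔ y.1 ∈ C := by
    intro y
    rw [← hCS]
    rfl
  let Z : Set (Fin k.dim → ℝ) := {y | (∀ i, 0 ≤ y i) ∧ (y = 0 ∨ y ∈ C)}
  have hZ : IsClosed Z := by
    have h1 : IsClosed {y : Fin k.dim → ℝ | y = 0 ∨ y ∈ C} :=
      (isClosed_singleton (x := (0 : Fin k.dim → ℝ))).union hC
    exact (isClosed_nonneg _).inter h1
  have e : {v : Fan.Orth n | ∃ y ∈ S, ∃ a : ℝ, 0 < a ∧ v.1 = a • φ.realMap y.1} =
      {v : Fan.Orth n | ∃ y ∈ Z, v.1 = φ.realMap y} := by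
    ext v
    constructor
    · rintro ⟨y, hy, a, ha, h⟩
      refine ⟨a • y.1, ⟨fun i => mul_nonneg ha.le (y.2.1 i), Or.inr ?_⟩, ?_⟩
      · exact (hmem (orthSmul a ha y)).mp (hsc y a ha hy)
      · rw [realMap_smul]; exact h
    · rintro ⟨y, ⟨hy, hy2⟩, h⟩
      have hy0 : y ≠ 0 := by
        rintro rfl
        rw [realMap_zero] at h
        exact v.2.2 h
      rcases hy2 with hy2 | hy2
      · exact absurd hy2 hy0
      · exact ⟨⟨y, hy, hy0⟩, (hmem _).mpr hy2, 1, one_pos, by rw [one_smul]; exact h⟩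
  rw [e]
  exact isClosed_cone_image φ Z hZ

end Groth.Agent.H77.FanB
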