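import Groth.Agent.H77.FanH

/-! Quasi-separated fans are coherent; bounded maps are closed with finite fibres. -/

open CategoryTheory Opposite Instab

universe u

namespace Groth.Agent.H77.FanB

variable {F G : Fan.{u}}

theorem orthMap_orthSmul {k n : ICone} (φ : k ⟶ n) (c : ℝ) (hc : 0 < c) (y : Fan.Orth k) :
    orthMap φ (orthSmul c hc y) = orthSmul c hc (orthMap φ y) :=
  Subtype.ext (realMap_smul φ c y.1)

theorem isClosed_image_mk (hF : F.IsQuasiSeparated) {n : ICone} (ξ : F.obj (op n))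
    (S : Set (Fan.Orth n)) (hS : IsClosed S)
    (hsc : ∀ v w : Fan.Orth n, v ∈ S → ∀ c : ℝ, 0 < c → w.1 = c • v.1 → w ∈ S) :
    IsClosed (Fan.P.mk ξ '' S) := by
  rw [isClosed_iff_cells]
  intro m τ
  obtain ⟨s, hs1, hs2⟩ := exists_finset_subcone_pairs F hF τ ξ
  have e : {w : Fan.Orth m | Fan.P.mk τ w ∈ Fan.P.mk ξ '' S} =
      ⋃ e ∈ s, {w : Fan.Orth m | ∃ y ∈ orthMap e.2.2 ⁻¹' S, ∃ a : ℝ, 0 < a ∧
        w.1 = a • e.2.1.realMap y.1} := by
    ext w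
    simp only [Set.mem_setOf_eq, Set.mem_iUnion, Set.mem_image]
    constructor
    · rintro ⟨v, hv, hvw⟩
      obtain ⟨e, he, y, c, c', hc, hc', h1, h2⟩ := (hs2 w v).mp hvw.symm
      refine ⟨e, he, y, ?_, c, hc, h1⟩
      refine hsc v (orthMap e.2.2 y) hv (1 / c') (by positivity) ?_
      show e.2.2.realMap y.1 = (1 / c') • v.1
      rw [h2, smul_smul, one_div, inv_mul_cancel₀ hc'.ne', one_smul]
    · rintro ⟨e, he, y, hy, a, ha, hw⟩
      refine ⟨orthMap e.2.2 y, hy, ?_⟩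
      exact ((hs2 w (orthMap e.2.2 y)).mpr
        ⟨e, he, y, a, 1, ha, one_pos, hw, by rw [one_smul]; rfl⟩).symm
  rw [e]
  refine isClosed_biUnion_finset fun e _ => ?_
  refine isClosed_image_cone e.2.1 _ (hS.preimage (continuous_orthMap e.2.2)) ?_
  intro v c hc hv
  show orthMap e.2.2 (orthSmul c hc v) ∈ S
  rw [orthMap_orthSmul]
  exact hsc _ _ hv c hc rfl

theorem isClosed_iff_inter_cell (hF : F.IsQuasiSeparated) (S : Set (Fan.P F)) :
    IsClosed S ↔ ∀ (n : ICone) (ξ : F.obj (op n)), IsClosed (S ∩ Fan.P.cell ξ) := by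
  constructor
  · intro hS n ξ
    refine hS.inter ?_
    have : Fan.P.cell ξ = Fan.P.mk ξ '' Set.univ := by
      rw [Set.image_univ]; rfl
    rw [this]
    exact isClosed_image_mk hF ξ Set.univ isClosed_univ (fun _ _ _ _ _ _ => trivial)
  · intro h
    rw [isClosed_iff_cells]
    intro m τ
    have e : {w : Fan.Orth m | Fan.P.mk τ w ∈ S} = Fan.P.mk τ ⁻¹' (S ∩ Fan.P.cell τ) := by
      ext w
      simp only [Set.mem_setOf_eq, Set.mem_preimage, Set.mem_inter_iff]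
      exact ⟨fun hw => ⟨hw, ⟨w, rfl⟩⟩, fun hw => hw.1⟩
    rw [e]
    exact (h m τ).preimage (continuous_mk τ)

/-- points of the image of a bounded map in a cell of the target -/
theorem mem_image_P_map_iff (ψ : F ⟶ G) {n : ICone} (ξ : G.obj (op n))
    (t : Finset (Σ k : ICone, (Limits.pullback ψ (Fan.coneMap ξ)).obj (op k)))
    (ht : ∀ z : Fan.P (Limits.pullback ψ (Fan.coneMap ξ)), ∃ e ∈ t, z ∈ Fan.P.cell e.2)
    (A : Set (Fan.P F)) (v : Fan.Orth n) :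
    Fan.P.mk ξ v ∈ Fan.P.map ψ '' A ↔
      ∃ c ∈ t, ∃ y : Fan.Orth c.1,
        Fan.P.mk ((Limits.pullback.fst ψ (Fan.coneMap ξ)).app _ c.2) y ∈ A ∧
        ∃ a : ℝ, 0 < a ∧
          v.1 = a • ((Limits.pullback.snd ψ (Fan.coneMap ξ)).app _ c.2).down.realMap y.1 := by
  have hξ : Fan.P.map (Fan.coneMap ξ) (Fan.P.mk (idCone n) v) = Fan.P.mk ξ v := by
    rw [P_map_mk, coneMap_app]
    have e : G.map (idCone.{u} n).down.op ξ = ξ := map_id_op ξ
    rw [e]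
  constructor
  · rintro ⟨x, hxA, hx⟩
    rw [← hξ] at hx
    obtain ⟨z, hz1, hz2⟩ := P_pullback_lift ψ (Fan.coneMap ξ) x _ hx
    obtain ⟨c, hc, ⟨y, rfl⟩⟩ := ht z
    rw [P_map_mk] at hz1 hz2
    obtain ⟨a, ha, hav⟩ := rep_mk_eq _ y v hz2
    exact ⟨c, hc, y, by rw [hz1]; exact hxA, a, ha, hav⟩
  · rintro ⟨c, hc, y, hyA, a, ha, hav⟩
    refine ⟨_, hyA, ?_⟩
    rw [P_map_mk, pullback_condition_apply, coneMap_app]
    exact (mk_restrict _ ξ y v a ha hav).symm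

theorem isClosedMap_of_isBoundedMap (ψ : F ⟶ G) (hψ : Fan.IsBoundedMap ψ) :
    IsClosedMap (Fan.P.map ψ) := by
  intro A hA
  rw [isClosed_iff_cells]
  intro n ξ
  obtain ⟨t, ht⟩ := hψ n ξ
  have e : {v : Fan.Orth n | Fan.P.mk ξ v ∈ Fan.P.map ψ '' A} =
      ⋃ c ∈ t, {v : Fan.Orth n | ∃ y ∈
        Fan.P.mk ((Limits.pullback.fst ψ (Fan.coneMap ξ)).app _ c.2) ⁻¹' A, ∃ a : ℝ, 0 < a ∧
          v.1 = a • ((Limits.pullback.snd ψ (Fan.coneMap ξ)).app _ c.2).down.realMap y.1} := by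
    ext v
    simp only [Set.mem_setOf_eq, Set.mem_iUnion]
    rw [mem_image_P_map_iff ψ ξ t ht A v]
    constructor
    · rintro ⟨c, hc, y, hy, a, ha, h⟩; exact ⟨c, hc, y, hy, a, ha, h⟩
    · rintro ⟨c, hc, y, hy, a, ha, h⟩; exact ⟨c, hc, y, hy, a, ha, h⟩
  rw [e]
  refine isClosed_biUnion_finset fun c _ => ?_
  refine isClosed_image_cone _ _ (hA.preimage (continuous_mk _)) ?_
  intro v a ha hv
  show Fan.P.mk _ (orthSmul a ha v) ∈ A
  rw [mk_orthSmul]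
  exact hv

theorem finite_fibers_of_isBoundedMap (ψ : F ⟶ G) (hψ : Fan.IsBoundedMap ψ) (y₀ : Fan.P G) :
    (Fan.P.map ψ ⁻¹' {y₀}).Finite := by
  obtain ⟨n, ξ, v, rfl⟩ := P_exists_rep y₀
  obtain ⟨t, ht⟩ := hψ n ξ
  let B : (Σ k : ICone, (Limits.pullback ψ (Fan.coneMap ξ)).obj (op k)) → Set (Fan.P F) :=
    fun c => {x | ∃ y : Fan.Orth c.1,
      Fan.P.mk ((Limits.pullback.fst ψ (Fan.coneMap ξ)).app _ c.2) y = x ∧ ∃ a : ℝ, 0 < a ∧
        v.1 = a • ((Limits.pullback.snd ψ (Fan.coneMap ξ)).app _ c.2).down.realMap y.1}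
  have hB : ∀ c, (B c).Subsingleton := by
    rintro c x ⟨y, rfl, a, ha, h1⟩ x' ⟨y', rfl, a', ha', h2⟩
    set φ := ((Limits.pullback.snd ψ (Fan.coneMap ξ)).app _ c.2).down with hφ
    have h3 : φ.realMap (a • y.1 - a' • y'.1) = 0 := by
      have : a • y.1 - a' • y'.1 = a • y.1 + (-a') • y'.1 := by
        rw [neg_smul, sub_eq_add_neg]
      rw [this, realMap_add, realMap_smul, realMap_smul, ← h1, neg_smul, ← h2, add_neg_cancel]
    have h4 := realMap_eq_zero φ _ h3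
    have h5 : y'.1 = (a / a') • y.1 := by
      have h6 : a' • y'.1 = a • y.1 := (sub_eq_zero.mp h4).symm
      have h7 := congrArg (fun w => (1 / a') • w) h6
      simp only [smul_smul] at h7
      rw [one_div, inv_mul_cancel₀ ha'.ne', one_smul] at h7
      rw [h7]
      congr 1
      field_simp
    have h8 : y' = orthSmul (a / a') (div_pos ha ha') y := Subtype.ext h5
    rw [h8, mk_orthSmul]
  have hsub : Fan.P.map ψ ⁻¹' {Fan.P.mk ξ v} ⊆ ⋃ c ∈ t, B c := by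
    intro x hx
    have hx' : Fan.P.mk ξ v ∈ Fan.P.map ψ '' {x} := ⟨x, rfl, hx⟩
    rw [mem_image_P_map_iff ψ ξ t ht {x} v] at hx'
    obtain ⟨c, hc, y, hy, a, ha, h⟩ := hx'
    simp only [Set.mem_iUnion]
    exact ⟨c, hc, y, hy, a, ha, h⟩
  exact (Set.Finite.biUnion t.finite_toSet fun c _ => (hB c).finite).subset hsub

theorem image_description_of_isBoundedMap (ψ : F ⟶ G) (hψ : Fan.IsBoundedMap ψ) (n : ICone)
    (ξ : G.obj (op n)) : ∃ s : Finset (Σ k : ICone, k ⟶ n),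
      {v : Fan.Orth n | Fan.P.mk ξ v ∈ Set.range (Fan.P.map ψ)} =
        ⋃ e ∈ s, {v : Fan.Orth n | ∃ (y : Fan.Orth e.1) (c : ℝ), 0 < c ∧
          v.1 = c • e.2.realMap y.1} := by
  classical
  obtain ⟨t, ht⟩ := hψ n ξ
  refine ⟨t.image (fun c => ⟨c.1,
    ((Limits.pullback.snd ψ (Fan.coneMap ξ)).app _ c.2).down⟩), ?_⟩
  ext v
  simp only [Set.mem_setOf_eq, Set.mem_iUnion]
  rw [← Set.image_univ, mem_image_P_map_iff ψ ξ t ht Set.univ v]
  constructor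
  · rintro ⟨c, hc, y, _, a, ha, h⟩
    exact ⟨_, Finset.mem_image_of_mem _ hc, y, a, ha, h⟩
  · rintro ⟨e, he, y, a, ha, h⟩
    obtain ⟨c, hc, rfl⟩ := Finset.mem_image.mp he
    exact ⟨c, hc, y, trivial, a, ha, h⟩

theorem isClosedEmbedding_of_isBoundedMap (ψ : F ⟶ G) (hψ : Fan.IsBoundedMap ψ)
    (hinj : ∀ n : ICone, Function.Injective (ψ.app (op n))) :
    Topology.IsClosedEmbedding (Fan.P.map ψ) :=
  Topology.IsClosedEmbedding.of_continuous_injective_isClosedMap (continuous_P_map ψ)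
    (P_map_injective ψ hinj) (isClosedMap_of_isBoundedMap ψ hψ)

end Groth.Agent.H77.FanB
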