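import Groth.Prelude.Def_W4c6instabfans3FanCvx
import Groth.Agent.H77.FanI

/-! Quasi-concave functions on convex subsets of the projective realization. -/

open CategoryTheory Opposite Instab

universe u v

namespace Groth.Agent.H77.FanB

variable {F : Fan.{u}}

/-- the point `(1, |s|)` of the punctured quadrant -/
noncomputable def segPt (s : ℝ) : Fan.Orth Fan.two :=
  ⟨fun j => if j = 0 then 1 else |s|, fun j => by
    dsimp only
    split_ifs
    exacts [zero_le_one, abs_nonneg s], fun h => by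
    have h1 := congrFun h 0
    simp at h1⟩

theorem continuous_segPt : Continuous segPt := by
  apply Continuous.subtype_mk
  apply continuous_pi
  intro j
  by_cases h : j = 0
  · simp only [h, if_true]; exact continuous_const
  · simp only [h, if_false]; exact continuous_abs

theorem segPt_zero : segPt 0 = Fan.Orth.basis Fan.two 0 := by
  apply Subtype.ext
  funext j
  show (if j = 0 then (1 : ℝ) else |(0 : ℝ)|) = if j = 0 then (1 : ℝ) else 0
  simp

theorem segPt_eq (s : ℝ) :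
    (segPt s).1 = (1 : ℝ) • (Fan.Orth.basis Fan.two 0).1 + |s| • (Fan.Orth.basis Fan.two 1).1 := by
  funext j
  show (if j = 0 then (1 : ℝ) else |s|) =
    (1 : ℝ) * (if j = 0 then (1 : ℝ) else 0) + |s| * (if j = 1 then (1 : ℝ) else 0)
  have hj : j = 0 ∨ j = 1 := by
    have : (j : ℕ) < 2 := j.2
    rcases Nat.lt_succ_iff_lt_or_eq.mp this with h | h
    · left; apply Fin.ext; simpa using h
    · right; apply Fin.ext; simpa using h
  rcases hj with rfl | rfl <;> simp

theorem basis_not_proportional :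
    ¬ ∃ c : ℝ, (Fan.Orth.basis Fan.two 1).1 = c • (Fan.Orth.basis Fan.two 0).1 := by
  rintro ⟨c, hc⟩
  have h1 := congrFun hc 1
  have : (if (1 : Fin 2) = 1 then (1 : ℝ) else 0) = c * (if (1 : Fin 2) = 0 then (1 : ℝ) else 0) :=
    h1
  simp at this

theorem rational_localMax_global (U : Set (Fan.P F)) (hU : Fan.IsConvex U) {Γ : Type v}
    [LinearOrder Γ] (Φ : U → Γ) (hΦ : Fan.IsQuasiConcaveOn U Φ)
    (hlsc : ∀ c : Γ, IsClosed {x : U | Φ x ≤ c}) (x : U) (hx : (x : Fan.P F).IsRational)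
    (hmax : IsLocalMax Φ x) (y : U) : Φ y ≤ Φ x := by
  by_contra hlt
  push Not at hlt
  obtain ⟨_, ⟨S, hS⟩, hseg⟩ := hU
  -- a rational point with larger value
  obtain ⟨y', hy'rat, hy'⟩ : ∃ y' : U, (y' : Fan.P F).IsRational ∧ Φ x < Φ y' := by
    have hyU : (y : Fan.P F) ∈ cellsOf S := by
      rw [← range_P_map_ι, ← hS]; exact y.2
    obtain ⟨n, σ, w, hσ, hyw⟩ := hyU
    have hcell : ∀ u : Fan.Orth n, Fan.P.mk σ u ∈ U := by
      intro u
      rw [hS, range_P_map_ι]
      exact ⟨n, σ, u, hσ, rfl⟩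
    let g : Fan.Orth n → U := fun u => ⟨Fan.P.mk σ u, hcell u⟩
    have hg : Continuous g := Continuous.subtype_mk (continuous_mk σ) hcell
    let D : Set (Fan.Orth n) := g ⁻¹' {z : U | Φ z ≤ Φ x}
    have hD : IsClosed D := (hlsc (Φ x)).preimage hg
    by_contra hno
    push Not at hno
    have hDuniv : D = Set.univ := by
      apply eq_univ_of_closed_of_intPt D hD
      · intro v c hc hv
        show Φ (g (orthSmul c hc v)) ≤ Φ x
        have e : g (orthSmul c hc v) = g v := Subtype.ext (mk_orthSmul σ c hc v)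
        rw [e]; exact hv
      · intro r hr hr0
        show Φ (g (intPt r hr hr0)) ≤ Φ x
        apply hno
        show (Fan.P.mk σ (intPt r hr hr0)).IsRational
        rw [mk_intPt]
        exact ⟨_, rfl⟩
    have hw : w ∈ D := by rw [hDuniv]; trivial
    have e : g w = y := Subtype.ext hyw.symm
    have : Φ y ≤ Φ x := by rw [← e]; exact hw
    exact absurd hlt (not_lt.mpr this)
  have hne : (x : Fan.P F) ≠ y' := by
    intro h
    have : x = y' := Subtype.ext h
    rw [this] at hy'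
    exact lt_irrefl _ hy'
  obtain ⟨τ, hτU, hτ0, hτ1⟩ := hseg x y' x.2 y'.2 hx hy'rat hne
  have hcellτ : ∀ u : Fan.Orth Fan.two, Fan.P.mk τ u ∈ U := fun u => hτU ⟨u, rfl⟩
  let q : ℝ → U := fun s => ⟨Fan.P.mk τ (segPt s), hcellτ _⟩
  have hq : Continuous q :=
    Continuous.subtype_mk ((continuous_mk τ).comp continuous_segPt) _
  have hq0 : q 0 = x := by
    apply Subtype.ext
    show Fan.P.mk τ (segPt 0) = x
    rw [segPt_zero, hτ0]
  have hgt : ∀ s : ℝ, s ≠ 0 → Φ x < Φ (q s) := by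
    intro s hs
    have h0 : Fan.P.mk τ (Fan.Orth.basis Fan.two 0) ∈ U := hcellτ _
    have h2 : Fan.P.mk τ (Fan.Orth.basis Fan.two 1) ∈ U := hcellτ _
    have h1 : Fan.P.mk τ (segPt s) ∈ U := hcellτ _
    obtain ⟨hmin, heq⟩ := hΦ Fan.two τ (Fan.Orth.basis Fan.two 0) (segPt s)
      (Fan.Orth.basis Fan.two 1) h0 h1 h2 basis_not_proportional
      ⟨1, |s|, one_pos, abs_pos.mpr hs, segPt_eq s⟩
    have e0 : (⟨_, h0⟩ : U) = x := Subtype.ext hτ0
    have e2 : (⟨_, h2⟩ : U) = y' := Subtype.ext hτ1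
    rw [e0, e2] at hmin heq
    rw [min_eq_left hy'.le] at hmin heq
    rcases hmin.lt_or_eq with h | h
    · exact h
    · exact absurd (heq h.symm) hy'.ne
  have hev : ∀ᶠ s in nhds (0 : ℝ), Φ (q s) ≤ Φ x := by
    have ht : Filter.Tendsto q (nhds 0) (nhds x) := by
      rw [← hq0]; exact hq.continuousAt
    exact ht.eventually hmax
  have hev' : ∀ᶠ s in nhdsWithin (0 : ℝ) {0}ᶜ, Φ (q s) ≤ Φ x ∧ s ≠ 0 :=
    (hev.filter_mono nhdsWithin_le_nhds).and self_mem_nhdsWithin
  obtain ⟨s, hs1, hs2⟩ := hev'.exists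
  exact absurd (hgt s hs2) (not_lt.mpr hs1)

theorem rational_localMax_unique (U : Set (Fan.P F)) (hU : Fan.IsConvex U) {Γ : Type v}
    [LinearOrder Γ] (Φ : U → Γ) (hΦ : Fan.IsQuasiConcaveOn U Φ)
    (hlsc : ∀ c : Γ, IsClosed {x : U | Φ x ≤ c}) (hstrict : Fan.IsStrictQuasiConcaveOn U Φ)
    (x y : U) (hx : (x : Fan.P F).IsRational) (hy : (y : Fan.P F).IsRational)
    (hmx : IsLocalMax Φ x) (hmy : IsLocalMax Φ y) : x = y := by
  by_contra hne
  have h1 := rational_localMax_global U hU Φ hΦ hlsc x hx hmx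
  have h2 := rational_localMax_global U hU Φ hΦ hlsc y hy hmy
  have hxy : Φ x = Φ y := le_antisymm (h2 x) (h1 y)
  obtain ⟨_, _, hseg⟩ := hU
  have hne' : (x : Fan.P F) ≠ y := fun h => hne (Subtype.ext h)
  obtain ⟨τ, hτU, hτ0, hτ1⟩ := hseg x y x.2 y.2 hx hy hne'
  have hcellτ : ∀ u : Fan.Orth Fan.two, Fan.P.mk τ u ∈ U := fun u => hτU ⟨u, rfl⟩
  have h0 : Fan.P.mk τ (Fan.Orth.basis Fan.two 0) ∈ U := hcellτ _
  have h2' : Fan.P.mk τ (Fan.Orth.basis Fan.two 1) ∈ U := hcellτ _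
  have h1' : Fan.P.mk τ (segPt 1) ∈ U := hcellτ _
  have hlt := hstrict Fan.two τ (Fan.Orth.basis Fan.two 0) (segPt 1)
    (Fan.Orth.basis Fan.two 1) h0 h1' h2' basis_not_proportional
    ⟨1, |1|, one_pos, by norm_num, segPt_eq 1⟩
  have e0 : (⟨_, h0⟩ : U) = x := Subtype.ext hτ0
  have e2 : (⟨_, h2'⟩ : U) = y := Subtype.ext hτ1
  rw [e0, e2, ← hxy, min_self] at hlt
  exact absurd hlt (not_lt.mpr (h1 _))

end Groth.Agent.H77.FanB
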