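import Groth.Agent.H77.FanI

/-! Convergent sequences in the projective realization of a quasi-separated fan lift to a cone. -/

open CategoryTheory Opposite Instab Filter

universe u

namespace Groth.Agent.H77.FanB

variable {F : Fan.{u}}

instance instT2Orth (n : ICone) : T2Space (Fan.Orth n) :=
  inferInstanceAs (T2Space {v : Fin n.dim → ℝ // (∀ i, 0 ≤ v i) ∧ v ≠ 0})

theorem isInducing_orth_val (n : ICone) :
    Topology.IsInducing (Subtype.val : Fan.Orth n → (Fin n.dim → ℝ)) :=
  Topology.IsInducing.subtypeVal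

/-- sum of coordinates -/
def osum {n : ICone} (w : Fan.Orth n) : ℝ := ∑ i, w.1 i

theorem osum_pos {n : ICone} (w : Fan.Orth n) : 0 < osum w := sum_pos_of_orth w.2.1 w.2.2

theorem continuous_osum {n : ICone} : Continuous (osum (n := n)) :=
  continuous_finset_sum _ fun i _ => (continuous_apply i).comp continuous_subtype_val

/-- normalisation to coordinate sum one -/
noncomputable def onorm {n : ICone} (w : Fan.Orth n) : Fan.Orth n :=
  orthSmul (1 / osum w) (by have := osum_pos w; positivity) w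

theorem onorm_val {n : ICone} (w : Fan.Orth n) : (onorm w).1 = (1 / osum w) • w.1 := rfl

theorem continuous_onorm {n : ICone} : Continuous (onorm (n := n)) := by
  apply Continuous.subtype_mk
  exact ((continuous_const.div continuous_osum (fun w => (osum_pos w).ne')).smul
    continuous_subtype_val)

theorem osum_onorm {n : ICone} (w : Fan.Orth n) : osum (onorm w) = 1 := by
  have h := osum_pos w
  unfold osum
  simp only [onorm_val, Pi.smul_apply, smul_eq_mul, ← Finset.mul_sum]
  show 1 / osum w * osum w = 1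
  field_simp

theorem mk_onorm {n : ICone} (ξ : F.obj (op n)) (w : Fan.Orth n) :
    Fan.P.mk ξ (onorm w) = Fan.P.mk ξ w :=
  mk_orthSmul ξ _ _ w

theorem onorm_eq_of_smul {n : ICone} (w k : Fan.Orth n) (c : ℝ) (hc : 0 < c)
    (h : w.1 = c • k.1) : onorm w = onorm k := by
  apply Subtype.ext
  have hs : osum w = c * osum k := by
    unfold osum
    rw [h]
    simp only [Pi.smul_apply, smul_eq_mul, ← Finset.mul_sum]
  rw [onorm_val, onorm_val, hs, h, smul_smul]
  congr 1
  have := osum_pos k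
  field_simp

theorem smul_of_onorm_eq {n : ICone} (w k : Fan.Orth n) (h : onorm w = onorm k) :
    w.1 = (osum w / osum k) • k.1 := by
  have h1 := congrArg Subtype.val h
  rw [onorm_val, onorm_val] at h1
  have hw := osum_pos w
  have hk := osum_pos k
  have h2 := congrArg (fun v => osum w • v) h1
  simp only [smul_smul] at h2
  rw [mul_one_div_cancel hw.ne', one_smul] at h2
  rw [h2]
  congr 1
  field_simp

/-- the cone over a set of points of the orthant -/
def coneOver {n : ICone} (K : Set (Fan.Orth n)) : Set (Fan.Orth n) :=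
  {w | ∃ k ∈ K, ∃ c : ℝ, 0 < c ∧ w.1 = c • k.1}

theorem coneOver_eq {n : ICone} (K : Set (Fan.Orth n)) :
    coneOver K = onorm ⁻¹' (onorm '' K) := by
  ext w
  constructor
  · rintro ⟨k, hk, c, hc, h⟩
    exact ⟨k, hk, (onorm_eq_of_smul w k c hc h).symm⟩
  · rintro ⟨k, hk, h⟩
    exact ⟨k, hk, osum w / osum k, div_pos (osum_pos w) (osum_pos k), smul_of_onorm_eq w k h.symm⟩

theorem isClosed_coneOver {n : ICone} (K : Set (Fan.Orth n)) (hK : IsCompact K) :
    IsClosed (coneOver K) := by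
  rw [coneOver_eq]
  exact (hK.image continuous_onorm).isClosed.preimage continuous_onorm

theorem coneOver_smul {n : ICone} (K : Set (Fan.Orth n)) (v w : Fan.Orth n) (hv : v ∈ coneOver K)
    (c : ℝ) (hc : 0 < c) (h : w.1 = c • v.1) : w ∈ coneOver K := by
  obtain ⟨k, hk, a, ha, hva⟩ := hv
  exact ⟨k, hk, c * a, mul_pos hc ha, by rw [h, hva, smul_smul]⟩

theorem mk_image_coneOver {n : ICone} (ξ : F.obj (op n)) (K : Set (Fan.Orth n)) :
    Fan.P.mk ξ '' coneOver K = Fan.P.mk ξ '' K := by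
  ext p
  constructor
  · rintro ⟨w, ⟨k, hk, c, hc, h⟩, rfl⟩
    refine ⟨k, hk, ?_⟩
    have : w = orthSmul c hc k := Subtype.ext h
    rw [this, mk_orthSmul]
  · rintro ⟨k, hk, rfl⟩
    exact ⟨k, ⟨k, hk, 1, one_pos, by rw [one_smul]⟩, rfl⟩

theorem isClosed_mk_image_compact (hF : F.IsQuasiSeparated) {n : ICone} (ξ : F.obj (op n))
    (K : Set (Fan.Orth n)) (hK : IsCompact K) : IsClosed (Fan.P.mk ξ '' K) := by
  rw [← mk_image_coneOver]
  exact isClosed_image_mk hF ξ _ (isClosed_coneOver K hK)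
    (fun v w hv c hc h => coneOver_smul K v w hv c hc h)

theorem t1Space_P (hF : F.IsQuasiSeparated) : T1Space (Fan.P F) := by
  refine ⟨fun p => ?_⟩
  obtain ⟨n, ξ, v, rfl⟩ := P_exists_rep p
  have := isClosed_mk_image_compact hF ξ {v} isCompact_singleton
  rwa [Set.image_singleton] at this

/-- a sequence in the orthant has a subsequence whose normalisations converge -/
theorem exists_subseq_onorm_tendsto {n : ICone} (u : ℕ → Fan.Orth n) :
    ∃ (φ : ℕ → ℕ) (v₀ : Fan.Orth n), StrictMono φ ∧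
      Tendsto (fun j => onorm (u (φ j))) atTop (nhds v₀) := by
  have hmem : ∀ j, (onorm (u j)).1 ∈ stdSimplex ℝ (Fin n.dim) :=
    fun j => ⟨(onorm (u j)).2.1, osum_onorm (u j)⟩
  obtain ⟨a, ha, φ, hφ, hlim⟩ := (isCompact_stdSimplex (𝕜 := ℝ) (ι := Fin n.dim)).tendsto_subseq hmem
  have ha0 : a ≠ 0 := by
    rintro rfl
    have := ha.2
    simp at this
  refine ⟨φ, ⟨a, ha.1, ha0⟩, hφ, ?_⟩
  exact (isInducing_orth_val n).tendsto_nhds_iff.mpr hlim

theorem exists_subseq_lift_tendsto (hF : F.IsQuasiSeparated) (x : ℕ → Fan.P F) (x₀ : Fan.P F)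
    (hx : Tendsto x atTop (nhds x₀)) :
    ∃ (n : ICone) (σ : F.obj (op n)) (r : ℕ → ℕ) (v : ℕ → Fan.Orth n) (v₀ : Fan.Orth n),
      StrictMono r ∧ (∀ j, Fan.P.mk σ (v j) = x (r j)) ∧ Fan.P.mk σ v₀ = x₀ ∧
        Tendsto v atTop (nhds v₀) := by
  classical
  haveI := t1Space_P hF
  by_cases hinf : Set.Infinite {i | x i = x₀}
  · obtain ⟨n, σ, w, rfl⟩ := P_exists_rep x₀
    haveI : Infinite {i | x i = Fan.P.mk σ w} := hinf.to_subtype
    let r := Nat.orderEmbeddingOfSet {i | x i = Fan.P.mk σ w}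
    have hr : ∀ j, x (r j) = Fan.P.mk σ w := by
      intro j
      have : r j ∈ Set.range r := ⟨j, rfl⟩
      rw [Nat.orderEmbeddingOfSet_range] at this
      exact this
    exact ⟨n, σ, r, fun _ => w, w, r.strictMono, fun j => (hr j).symm, rfl, tendsto_const_nhds⟩
  · rw [Set.not_infinite] at hinf
    obtain ⟨N, hN⟩ : ∃ N, ∀ i, N ≤ i → x i ≠ x₀ := by
      obtain ⟨M, hM⟩ := hinf.bddAbove
      refine ⟨M + 1, fun i hi h => ?_⟩
      have := hM h
      omega
    let A : Set (Fan.P F) := {p | ∃ i, N ≤ i ∧ x i = p}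
    have hx₀A : x₀ ∉ A := by
      rintro ⟨i, hi, h⟩
      exact hN i hi h
    have hcl : x₀ ∈ closure A :=
      mem_closure_of_tendsto hx (eventually_atTop.mpr ⟨N, fun i hi => ⟨i, hi, rfl⟩⟩)
    have hAnc : ¬ IsClosed A := by
      intro h
      rw [h.closure_eq] at hcl
      exact hx₀A hcl
    rw [isClosed_iff_inter_cell hF] at hAnc
    push Not at hAnc
    obtain ⟨n, ξ, hξ⟩ := hAnc
    have hSinf : Set.Infinite {i | N ≤ i ∧ x i ∈ Fan.P.cell ξ} := by
      by_contra hfin
      rw [Set.not_infinite] at hfin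
      apply hξ
      have : A ∩ Fan.P.cell ξ = x '' {i | N ≤ i ∧ x i ∈ Fan.P.cell ξ} := by
        ext p
        constructor
        · rintro ⟨⟨i, hi, rfl⟩, hp⟩
          exact ⟨i, ⟨hi, hp⟩, rfl⟩
        · rintro ⟨i, ⟨hi, hp⟩, rfl⟩
          exact ⟨⟨i, hi, rfl⟩, hp⟩
      rw [this]
      exact (hfin.image x).isClosed
    haveI : Infinite {i | N ≤ i ∧ x i ∈ Fan.P.cell ξ} := hSinf.to_subtype
    let r := Nat.orderEmbeddingOfSet {i | N ≤ i ∧ x i ∈ Fan.P.cell ξ}
    have hr : ∀ j, N ≤ r j ∧ x (r j) ∈ Fan.P.cell ξ := by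
      intro j
      have : r j ∈ Set.range r := ⟨j, rfl⟩
      rw [Nat.orderEmbeddingOfSet_range] at this
      exact this
    choose u hu using fun j => (hr j).2
    obtain ⟨φ, v₀, hφ, hlim⟩ := exists_subseq_onorm_tendsto u
    have hv : ∀ j, Fan.P.mk ξ (onorm (u (φ j))) = x (r (φ j)) := by
      intro j
      rw [mk_onorm]
      exact hu (φ j)
    have hrφ : StrictMono (fun j => r (φ j)) := r.strictMono.comp hφ
    refine ⟨n, ξ, fun j => r (φ j), fun j => onorm (u (φ j)), v₀, hrφ, hv, ?_, hlim⟩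
    -- the limit point
    let K : Set (Fan.Orth n) := insert v₀ (Set.range fun j => onorm (u (φ j)))
    have hK : IsCompact K := hlim.isCompact_insert_range
    have hB : IsClosed (Fan.P.mk ξ '' K) := isClosed_mk_image_compact hF ξ K hK
    have hsub : Tendsto (fun j => x (r (φ j))) atTop (nhds x₀) :=
      hx.comp hrφ.tendsto_atTop
    have hx₀B : x₀ ∈ Fan.P.mk ξ '' K := by
      refine hB.mem_of_tendsto hsub (Eventually.of_forall fun j => ?_)
      exact ⟨onorm (u (φ j)), Set.mem_insert_of_mem _ ⟨j, rfl⟩, hv j⟩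
    obtain ⟨k, hk, hkx⟩ := hx₀B
    rcases hk with rfl | ⟨j, rfl⟩
    · exact hkx
    · exfalso
      rw [hv j] at hkx
      exact hN _ (hr (φ j)).1 hkx

end Groth.Agent.H77.FanB
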