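import Mathlib
import Groth.Prelude.Def_SGA1

/-!
# (ALG2) for helper79 / S2920: a Galois-type dual system makes `B` a projective (hence flat)
module over the ring of invariants (helper77)
-/

set_option autoImplicit false
universe u
open CategoryTheory CategoryTheory.Limits AlgebraicGeometry

namespace Groth.Agent.H77.FreeFlat_ALG2

/-- (ALG2) -/
theorem flat_of_dual_system {A B : Type u} [CommRing A] [CommRing B] [Algebra A B]
    {G : Type u} [Group G] [Finite G]
    (σ : G → (B →+* B)) (hσ1 : σ 1 = RingHom.id B)
    (hσmul : ∀ g h : G, (σ g).comp (σ h) = σ (h * g))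
    (hA : ∀ (g : G) (a : A), σ g (algebraMap A B a) = algebraMap A B a)
    (hinj : Function.Injective (algebraMap A B))
    (hrange : ∀ b : B, (∀ g : G, σ g b = b) → b ∈ Set.range (algebraMap A B))
    (n : ℕ) (x y : Fin n → B)
    (hxy1 : ∑ j, x j * y j = 1) (hxy : ∀ h : G, h ≠ 1 → ∑ j, x j * σ h (y j) = 0) :
    Module.Flat A B := by
  classical
  cases nonempty_fintype G
  -- the trace
  have hinv : ∀ (c : B) (g : G), σ g (∑ h, σ h c) = ∑ h, σ h c := by
    intro c g
    rw [map_sum]
    have h1 : ∀ h : G, σ g (σ h c) = σ (h * g) c := fun h => by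
      rw [← hσmul g h]; rfl
    simp only [h1]
    exact Equiv.sum_comp (Equiv.mulRight g) (fun h' => σ h' c)
  have hex : ∀ c : B, ∃ a : A, algebraMap A B a = ∑ h, σ h c := fun c =>
    hrange _ (fun g => hinv c g)
  choose tr' htr' using hex
  let trL : B →ₗ[A] A :=
    { toFun := tr'
      map_add' := fun c₁ c₂ => by
        apply hinj
        rw [map_add, htr', htr', htr']
        simp only [map_add, Finset.sum_add_distrib]
      map_smul' := fun a c => by
        apply hinj
        rw [RingHom.id_apply, smul_eq_mul, map_mul, htr', htr', Finset.mul_sum]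
        refine Finset.sum_congr rfl (fun h _ => ?_)
        rw [Algebra.smul_def, map_mul, hA] }
  have htrL : ∀ c, algebraMap A B (trL c) = ∑ h, σ h c := htr'
  -- key identity
  have hkey : ∀ b : B, ∑ j, x j * algebraMap A B (trL (y j * b)) = b := by
    intro b
    simp only [htrL, map_mul, Finset.mul_sum]
    rw [Finset.sum_comm]
    have h2 : ∀ h : G, ∑ j, x j * (σ h (y j) * σ h b) = (∑ j, x j * σ h (y j)) * σ h b := by
      intro h
      rw [Finset.sum_mul]
      exact Finset.sum_congr rfl (fun j _ => (mul_assoc _ _ _).symm)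
    simp only [h2]
    rw [Finset.sum_eq_single (1 : G)]
    · rw [hσ1]
      simp only [RingHom.id_apply]
      rw [hxy1, one_mul]
    · intro h _ hne
      rw [hxy h hne, zero_mul]
    · intro h1
      exact absurd (Finset.mem_univ _) h1
  -- the splitting
  let i : B →ₗ[A] (Fin n → A) := LinearMap.pi (fun j => trL ∘ₗ LinearMap.mulLeft A (y j))
  let s : (Fin n → A) →ₗ[A] B :=
    ∑ j, (LinearMap.proj j : (Fin n → A) →ₗ[A] A).smulRight (x j)
  have hs : ∀ a : Fin n → A, s a = ∑ j, a j • x j := by
    intro a
    simp [s, LinearMap.sum_apply]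
  have hsi : s ∘ₗ i = LinearMap.id := by
    ext b
    rw [LinearMap.comp_apply, hs, LinearMap.id_apply]
    have : ∀ j, (i b) j • x j = x j * algebraMap A B (trL (y j * b)) := by
      intro j
      rw [Algebra.smul_def, mul_comm]
      rfl
    simp only [this]
    exact hkey b
  have hproj : Module.Projective A B := Module.Projective.of_split i s hsi
  infer_instance

end Groth.Agent.H77.FreeFlat_ALG2
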