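import Mathlib

/-!
# Graded bases and their counting series
-/

set_option autoImplicit false

namespace Groth.Agent.H77.GrBasis

open PowerSeries

/-- the counting series of a degree function with finite fibres -/
noncomputable def hs {ι : Type*} (deg : ι → ℕ) : PowerSeries ℤ :=
  PowerSeries.mk fun d => (Nat.card {i // deg i = d} : ℤ)

lemma coeff_hs {ι : Type*} (deg : ι → ℕ) (d : ℕ) :
    PowerSeries.coeff d (hs deg) = (Nat.card {i // deg i = d} : ℤ) := by
  simp [hs]

lemma hs_congr {ι κ : Type*} (e : ι ≃ κ) (deg : κ → ℕ) : hs (deg ∘ e) = hs deg := by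
  ext d
  rw [coeff_hs, coeff_hs]
  have : {i // (deg ∘ e) i = d} ≃ {k // deg k = d} :=
    e.subtypeEquiv (fun i => Iff.rfl)
  rw [Nat.card_congr this]

lemma finite_congr {ι κ : Type*} (e : ι ≃ κ) (deg : κ → ℕ) (h : ∀ d, Finite {k // deg k = d}) :
    ∀ d, Finite {i // (deg ∘ e) i = d} := by
  intro d
  have e' : {i // (deg ∘ e) i = d} ≃ {k // deg k = d} :=
    e.subtypeEquiv (fun i => Iff.rfl)
  haveI := h d
  exact Finite.of_equiv _ e'.symm

section sum
variable {ι κ : Type*} (deg1 : ι → ℕ) (deg2 : κ → ℕ)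
  (h1 : ∀ d, Finite {i // deg1 i = d}) (h2 : ∀ d, Finite {k // deg2 k = d})

/-- fibre of a sum -/
def sumFibEquiv (d : ℕ) :
    {s : ι ⊕ κ // Sum.elim deg1 deg2 s = d} ≃ {i // deg1 i = d} ⊕ {k // deg2 k = d} :=
  Equiv.subtypeSum (p := fun s => Sum.elim deg1 deg2 s = d)

include h1 h2 in
lemma finite_sum : ∀ d, Finite {s : ι ⊕ κ // Sum.elim deg1 deg2 s = d} := by
  intro d
  haveI := h1 d
  haveI := h2 d
  exact Finite.of_equiv _ (sumFibEquiv deg1 deg2 d).symm

include h1 h2 in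
lemma hs_sum : hs (Sum.elim deg1 deg2) = hs deg1 + hs deg2 := by
  ext d
  haveI := h1 d
  haveI := h2 d
  rw [map_add, coeff_hs, coeff_hs, coeff_hs, Nat.card_congr (sumFibEquiv deg1 deg2 d),
    Nat.card_sum]
  push_cast
  rfl

/-- fibre of a product -/
def prodFibEquiv (d : ℕ) :
    {p : ι × κ // deg1 p.1 + deg2 p.2 = d} ≃
      Σ ab : {x : ℕ × ℕ // x ∈ Finset.HasAntidiagonal.antidiagonal d},
        {i // deg1 i = ab.1.1} × {k // deg2 k = ab.1.2} where
  toFun p := ⟨⟨(deg1 p.1.1, deg2 p.1.2), Finset.HasAntidiagonal.mem_antidiagonal.2 p.2⟩, ⟨p.1.1, rfl⟩, ⟨p.1.2, rfl⟩⟩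
  invFun s := ⟨(s.2.1.1, s.2.2.1), by
    have := Finset.HasAntidiagonal.mem_antidiagonal.1 s.1.2
    rw [s.2.1.2, s.2.2.2]; exact this⟩
  left_inv p := rfl
  right_inv := by
    rintro ⟨⟨⟨a, b⟩, hab⟩, ⟨i, hi⟩, ⟨k, hk⟩⟩
    simp only at hi hk
    subst hi hk
    rfl

include h1 h2 in
lemma finite_prod : ∀ d, Finite {p : ι × κ // deg1 p.1 + deg2 p.2 = d} := by
  intro d
  haveI : ∀ ab : {x : ℕ × ℕ // x ∈ Finset.HasAntidiagonal.antidiagonal d},
      Finite ({i // deg1 i = ab.1.1} × {k // deg2 k = ab.1.2}) := by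
    intro ab
    haveI := h1 ab.1.1
    haveI := h2 ab.1.2
    infer_instance
  exact Finite.of_equiv _ (prodFibEquiv deg1 deg2 d).symm

include h1 h2 in
lemma hs_prod : hs (fun p : ι × κ => deg1 p.1 + deg2 p.2) = hs deg1 * hs deg2 := by
  ext d
  rw [coeff_mul, coeff_hs]
  haveI : ∀ ab : {x : ℕ × ℕ // x ∈ Finset.HasAntidiagonal.antidiagonal d},
      Finite ({i // deg1 i = ab.1.1} × {k // deg2 k = ab.1.2}) := by
    intro ab
    haveI := h1 ab.1.1
    haveI := h2 ab.1.2
    infer_instance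
  rw [Nat.card_congr (prodFibEquiv deg1 deg2 d), Nat.card_sigma]
  rw [← Finset.sum_coe_sort (Finset.HasAntidiagonal.antidiagonal d)
    (fun ab => coeff ab.1 (hs deg1) * coeff ab.2 (hs deg2))]
  push_cast
  refine Finset.sum_congr rfl fun ab _ => ?_
  rw [Nat.card_prod, coeff_hs, coeff_hs]
  push_cast
  rfl

end sum

lemma finite_nat_add (c : ℕ) : ∀ d, Finite {k : ℕ // k + c = d} := by
  intro d
  haveI : Subsingleton {k : ℕ // k + c = d} :=
    ⟨fun ⟨a, ha⟩ ⟨b, hb⟩ => Subtype.ext (by show a = b; omega)⟩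
  infer_instance

lemma hs_nat_add (c : ℕ) : hs (fun k : ℕ => k + c) = (X : PowerSeries ℤ) ^ c * mk 1 := by
  ext d
  rw [coeff_hs, coeff_X_pow_mul']
  by_cases h : c ≤ d
  · rw [if_pos h]
    have e : {k : ℕ // k + c = d} ≃ Unit :=
      ⟨fun _ => (), fun _ => ⟨d - c, by omega⟩, fun ⟨k, hk⟩ => Subtype.ext (by simp; omega),
        fun _ => rfl⟩
    rw [Nat.card_congr e]
    simp
  · rw [if_neg h]
    haveI : IsEmpty {k : ℕ // k + c = d} := ⟨fun ⟨k, hk⟩ => by omega⟩
    simp

lemma finite_const_zero (ι : Type*) [Finite ι] : ∀ d, Finite {i : ι // (0 : ℕ) = d} := by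
  intro d; infer_instance

lemma hs_const_zero (ι : Type*) [Fintype ι] :
    hs (fun _ : ι => (0 : ℕ)) = PowerSeries.C (Fintype.card ι : ℤ) := by
  ext d
  rw [coeff_hs, coeff_C]
  by_cases h : d = 0
  · subst h
    rw [if_pos rfl]
    have e : {i : ι // (0 : ℕ) = 0} ≃ ι := Equiv.subtypeUnivEquiv (fun _ => rfl)
    rw [Nat.card_congr e, Nat.card_eq_fintype_card]
  · rw [if_neg h]
    haveI : IsEmpty {i : ι // (0 : ℕ) = d} := ⟨fun ⟨_, hk⟩ => h hk.symm⟩
    simp

/-- In an internally graded module with a basis of homogeneous elements, the rank of a piece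
is the number of basis elements of that degree. -/
theorem finrank_piece {M : Type*} [AddCommGroup M] (pieces : ℕ → Submodule ℤ M)
    (hI : DirectSum.IsInternal pieces) {ι : Type*} (b : Module.Basis ι ℤ M) (deg : ι → ℕ)
    (hb : ∀ i, b i ∈ pieces (deg i)) (hfin : ∀ d, Finite {i // deg i = d}) (d : ℕ) :
    Module.finrank ℤ (pieces d) = Nat.card {i // deg i = d} := by
  classical
  set N : ℕ → Submodule ℤ M := fun e =>
    Submodule.span ℤ (Set.range fun i : {i // deg i = e} => b i) with hN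
  have hN_le : ∀ e, N e ≤ pieces e := by
    intro e
    apply Submodule.span_le.2
    rintro _ ⟨⟨i, hi⟩, rfl⟩
    have := hb i
    rw [hi] at this
    exact this
  have hsup : (⨆ e, N e) = ⊤ := by
    rw [eq_top_iff, ← b.span_eq]
    apply Submodule.span_le.2
    rintro _ ⟨i, rfl⟩
    exact (le_iSup N (deg i)) (Submodule.subset_span ⟨⟨i, rfl⟩, rfl⟩)
  have hind := hI.submodule_iSupIndep
  have key : pieces d ≤ N d := by
    intro x hx
    have hx' : x ∈ ⨆ e, N e := by rw [hsup]; trivial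
    rw [iSup_split_single N d] at hx'
    obtain ⟨y, hy, z, hz, rfl⟩ := Submodule.mem_sup.1 hx'
    have hz' : z ∈ ⨆ (e : ℕ) (_ : e ≠ d), pieces e := by
      refine (iSup_mono fun e => iSup_mono fun _ => hN_le e) hz
    have hzd : z ∈ pieces d := by
      have : z = (y + z) - y := by abel
      rw [this]
      exact Submodule.sub_mem _ hx (hN_le d hy)
    have hz0 : z = 0 := (Submodule.disjoint_def.1 (hind d)) z hzd hz'
    rw [hz0, add_zero]
    exact hy
  have heq : pieces d = N d := le_antisymm key (hN_le d)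
  rw [heq]
  haveI := hfin d
  haveI : Fintype {i // deg i = d} := Fintype.ofFinite _
  have hli : LinearIndependent ℤ (fun i : {i // deg i = d} => b i) :=
    b.linearIndependent.comp _ Subtype.val_injective
  rw [hN, finrank_span_eq_card hli, Nat.card_eq_fintype_card]

end Groth.Agent.H77.GrBasis
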