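import Groth.Agent.H77.GrSyzUniq

set_option linter.style.longLine false
set_option linter.unusedSectionVars false
set_option linter.unusedVariables false

universe u v

namespace Groth.Agent.H77.GrSyzHB

open GrSyz DirectSum Module Matrix Groth.Agent.H77.GrSyzLib Groth.Agent.H77.GrSyzStrand

section Block
variable {R : Type*} [CommRing R] {m n : Type*} [Fintype m] [Fintype n] [DecidableEq m]
  [DecidableEq n]

/-- the block map: extend by zero from `J`, multiply, restrict to `L` -/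
noncomputable def blockMap (D : Matrix m n R) (J : Finset n) (L : Finset m) :
    (J → R) →ₗ[R] (L → R) :=
  (LinearMap.funLeft R R (Subtype.val : L → m)) ∘ₗ D.mulVecLin ∘ₗ
    (Function.ExtendByZero.linearMap R (Subtype.val : J → n))

theorem extend_apply_mem (J : Finset n) (w : J → R) (j : n) (hj : j ∈ J) :
    Function.ExtendByZero.linearMap R (Subtype.val : J → n) w j = w ⟨j, hj⟩ := by
  show Function.extend Subtype.val w 0 j = w ⟨j, hj⟩
  exact Subtype.val_injective.extend_apply w 0 ⟨j, hj⟩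

theorem extend_apply_notMem (J : Finset n) (w : J → R) (j : n) (hj : j ∉ J) :
    Function.ExtendByZero.linearMap R (Subtype.val : J → n) w j = 0 := by
  show Function.extend Subtype.val w 0 j = 0
  rw [Function.extend_apply' _ _ _ (by rintro ⟨a, rfl⟩; exact hj a.2)]
  rfl

theorem mulVec_extend_apply_notMem (D : Matrix m n R) (J : Finset n) (L : Finset m)
    (h0 : ∀ j ∈ J, ∀ l ∉ L, D l j = 0) (w : J → R) (l : m) (hl : l ∉ L) :
    (D *ᵥ (Function.ExtendByZero.linearMap R (Subtype.val : J → n) w)) l = 0 := by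
  simp only [Matrix.mulVec, dotProduct]
  refine Finset.sum_eq_zero (fun j _ => ?_)
  by_cases hj : j ∈ J
  · rw [h0 j hj l hl, zero_mul]
  · rw [extend_apply_notMem J w j hj, mul_zero]

theorem blockMap_injective (D : Matrix m n R) (hinj : Function.Injective D.mulVecLin)
    (J : Finset n) (L : Finset m) (h0 : ∀ j ∈ J, ∀ l ∉ L, D l j = 0) :
    Function.Injective (blockMap D J L) := by
  rw [← LinearMap.ker_eq_bot, LinearMap.ker_eq_bot']
  intro w hw
  have h1 : D *ᵥ (Function.ExtendByZero.linearMap R (Subtype.val : J → n) w) = 0 := by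
    funext l
    by_cases hl : l ∈ L
    · exact congrFun hw ⟨l, hl⟩
    · exact mulVec_extend_apply_notMem D J L h0 w l hl
  have h2 : Function.ExtendByZero.linearMap R (Subtype.val : J → n) w = 0 := by
    apply hinj
    rw [map_zero]
    exact h1
  funext j
  have := congrFun h2 j.1
  rw [extend_apply_mem J w j.1 j.2] at this
  exact this

theorem card_le_of_zero_block [Nontrivial R] (D : Matrix m n R)
    (hinj : Function.Injective D.mulVecLin)
    (J : Finset n) (L : Finset m) (h0 : ∀ j ∈ J, ∀ l ∉ L, D l j = 0) : J.card ≤ L.card := by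
  have := card_le_of_injective R (blockMap D J L) (blockMap_injective D hinj J L h0)
  rwa [Fintype.card_coe, Fintype.card_coe] at this

theorem exists_mulVec_eq_smul_single [IsDomain R] (D : Matrix m n R)
    (hinj : Function.Injective D.mulVecLin)
    (J : Finset n) (L : Finset m) (h0 : ∀ j ∈ J, ∀ l ∉ L, D l j = 0)
    (hcard : J.card = L.card) (l0 : m) (hl0 : l0 ∈ L) :
    ∃ c : R, c ≠ 0 ∧ ∃ w : n → R, D *ᵥ w = c • (Pi.single l0 1 : m → R) := by
  classical
  have hc : Fintype.card J = Fintype.card L := by rw [Fintype.card_coe, Fintype.card_coe, hcard]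
  let e : J ≃ L := Fintype.equivOfCardEq hc
  let f' : (L → R) →ₗ[R] (L → R) := blockMap D J L ∘ₗ LinearMap.funLeft R R e
  have hf' : Function.Injective f' := by
    refine (blockMap_injective D hinj J L h0).comp ?_
    exact LinearMap.funLeft_injective_of_surjective R R e e.surjective
  let N : Matrix L L R := LinearMap.toMatrix' f'
  have hN : ∀ v, N *ᵥ v = f' v := fun v => by
    rw [← Matrix.toLin'_apply, Matrix.toLin'_toMatrix']
  have hdet : N.det ≠ 0 := by
    intro h
    obtain ⟨v, hv, hv0⟩ := Matrix.exists_mulVec_eq_zero_iff.2 h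
    rw [hN] at hv0
    exact hv (hf' (by rw [hv0, map_zero]))
  refine ⟨N.det, hdet, ?_⟩
  let v : L → R := N.adjugate *ᵥ (Pi.single ⟨l0, hl0⟩ 1)
  have hv : f' v = N.det • (Pi.single ⟨l0, hl0⟩ 1 : L → R) := by
    rw [← hN, Matrix.mulVec_mulVec, Matrix.mul_adjugate, Matrix.smul_mulVec, Matrix.one_mulVec]
  refine ⟨Function.ExtendByZero.linearMap R (Subtype.val : J → n) (LinearMap.funLeft R R e v), ?_⟩
  funext l
  by_cases hl : l ∈ L
  · have := congrFun hv ⟨l, hl⟩
    have h3 : f' v ⟨l, hl⟩ = (D *ᵥ (Function.ExtendByZero.linearMap R (Subtype.val : J → n)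
        (LinearMap.funLeft R R e v))) l := rfl
    rw [← h3, this]
    simp only [Pi.smul_apply, Pi.single_apply, Subtype.mk.injEq]
  · rw [mulVec_extend_apply_notMem D J L h0 _ l hl]
    have : l ≠ l0 := fun h => hl (h ▸ hl0)
    simp [Pi.single_apply, this]

end Block


section GrMap
variable {k : Type u} [Field k] {A : Type u} [CommRing A] [Algebra k A]
  {𝒜 : ℤ → Submodule k A} [GradedAlgebra 𝒜]
variable {M : Type u} [AddCommGroup M] [Module k M] [Module A M] [IsScalarTower k A M]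
  {ℳ : ℤ → Submodule k M} [DirectSum.Decomposition ℳ] [SetLike.GradedSMul 𝒜 ℳ]

theorem decompose_map (f : A →ₗ[A] M) (hf : ∀ n a, a ∈ 𝒜 n → f a ∈ ℳ n) (x : A) (n : ℤ) :
    (decompose ℳ (f x) n : M) = f (decompose 𝒜 x n) := by
  classical
  have h : ∀ i : ℤ, (decompose ℳ (f (decompose 𝒜 x i : A)) n : M) =
      if i = n then f (decompose 𝒜 x i : A) else 0 := by
    intro i
    have hmem := hf i _ (SetLike.coe_mem (decompose 𝒜 x i))
    split_ifs with hin
    · rw [← hin]; exact decompose_of_mem_same ℳ hmem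
    · exact decompose_of_mem_ne ℳ hmem hin
  calc (decompose ℳ (f x) n : M)
      = compHom ℳ n (f (∑ i ∈ (decompose 𝒜 x).support, (decompose 𝒜 x i : A))) := by
        rw [sum_support_decompose 𝒜 x]; rfl
    _ = ∑ i ∈ (decompose 𝒜 x).support, compHom ℳ n (f (decompose 𝒜 x i : A)) := by
        rw [map_sum, map_sum]
    _ = ∑ i ∈ (decompose 𝒜 x).support, if i = n then f (decompose 𝒜 x i : A) else 0 :=
        Finset.sum_congr rfl (fun i _ => by rw [compHom_apply, h i])
    _ = f (decompose 𝒜 x n) := by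
        rw [Finset.sum_ite_eq']
        split_ifs with hs
        · rfl
        · rw [DFinsupp.notMem_support_iff] at hs
          rw [hs]; simp

theorem exists_preimage_mem (f : A →ₗ[A] M) (hf : ∀ n a, a ∈ 𝒜 n → f a ∈ ℳ n)
    (hsurj : Function.Surjective f) {d : ℤ} {x : M} (hx : x ∈ ℳ d) : ∃ p ∈ 𝒜 d, f p = x := by
  obtain ⟨q, rfl⟩ := hsurj x
  refine ⟨decompose 𝒜 q d, SetLike.coe_mem _, ?_⟩
  rw [← decompose_map f hf q d, decompose_of_mem_same ℳ hx]

end GrMap

section Std
variable {k : Type u} [Field k] {r : ℕ}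
variable {M : Type u} [AddCommGroup M] [Module k M] [Module (MvPolynomial (Fin (r + 1)) k) M]
  [IsScalarTower k (MvPolynomial (Fin (r + 1)) k) M]
  {ℳ : ℤ → Submodule k M} [DirectSum.Decomposition ℳ]
  [SetLike.GradedSMul (stdGr k (Fin (r + 1))) ℳ]

theorem isHomogeneous_of_mem_stdGr {σ : Type*} {p : MvPolynomial σ k} {m : ℕ}
    (hp : p ∈ stdGr k σ (m : ℤ)) : p.IsHomogeneous m := by
  intro d hd
  have h1 := (mem_stdGr_iff k σ _ p).1 hp hd
  have h2 : Finsupp.weight (fun _ : σ => (1 : ℤ)) d =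
      ((Finsupp.weight (1 : σ → ℕ) d : ℕ) : ℤ) := by
    simp [Finsupp.weight_apply, Finsupp.sum]
  rw [h2] at h1
  exact_mod_cast h1

theorem zero_of_deg_le (F : FreeRes (stdGr k (Fin (r + 1))) ℳ)
    (hF : F.IsMinimal (irrel (stdGr k (Fin (r + 1)))).toIdeal) (i : ℕ) (l : Fin (F.rk i))
    (j : Fin (F.rk (i + 1))) (h : F.deg (i + 1) j ≤ F.deg i l) : F.d i l j = 0 := by
  by_contra h0
  have := pos_of_mem_irrel (F.d_mem i l j) (hF i l j) h0
  omega

theorem hb_card_lt (F : FreeRes (stdGr k (Fin (r + 1))) ℳ)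
    (hF : F.IsMinimal (irrel (stdGr k (Fin (r + 1)))).toIdeal) (i : ℕ)
    (hinj : Function.Injective (F.dLin (i + 1)))
    (J : Finset (Fin (F.rk (i + 1 + 1)))) (L : Finset (Fin (F.rk (i + 1))))
    (h0 : ∀ j ∈ J, ∀ l ∉ L, F.d (i + 1) l j = 0) (hJ : J.Nonempty) : J.card < L.card := by
  by_contra hlt
  push Not at hlt
  have hle := card_le_of_zero_block (F.d (i + 1)) hinj J L h0
  have hcard : J.card = L.card := le_antisymm hle hlt
  have hLne : L.Nonempty := by
    rw [← Finset.card_pos, ← hcard]; exact Finset.card_pos.2 hJ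
  obtain ⟨l0, hl0⟩ := hLne
  obtain ⟨c, hc, w, hw⟩ := exists_mulVec_eq_smul_single (F.d (i + 1)) hinj J L h0 hcard l0 hl0
  have h1 : F.d i *ᵥ (c • (Pi.single l0 1 : Fin (F.rk (i + 1)) → MvPolynomial (Fin (r + 1)) k)) = 0 := by
    rw [← hw, Matrix.mulVec_mulVec, GrSyzUniq.d_mul_d, Matrix.zero_mulVec]
  rw [Matrix.mulVec_smul] at h1
  have h2 : F.d i *ᵥ (Pi.single l0 1 : Fin (F.rk (i + 1)) → MvPolynomial (Fin (r + 1)) k) = 0 := by
    funext a
    have := congrFun h1 a
    simp only [Pi.smul_apply, smul_eq_mul, Pi.zero_apply, mul_eq_zero] at this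
    rcases this with h | h
    · exact absurd h hc
    · exact h
  have h3 : (Pi.single l0 1 : Fin (F.rk (i + 1)) → MvPolynomial (Fin (r + 1)) k) ∈
      LinearMap.ker (F.dLin i) := h2
  have h4 := mem_of_mem_ker_dLin F hF i h3 l0
  rw [Pi.single_eq_same] at h4
  exact one_notMem_irrel h4

theorem hb_deg (F : FreeRes (stdGr k (Fin (r + 1))) ℳ)
    (hF : F.IsMinimal (irrel (stdGr k (Fin (r + 1)))).toIdeal) (i : ℕ)
    (hinj : Function.Injective (F.dLin (i + 1)))
    (j0 : Fin (F.rk (i + 1 + 1))) (l0 : Fin (F.rk (i + 1)))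
    (hanti1 : ∀ l l' : Fin (F.rk (i + 1)), l ≤ l' → F.deg (i + 1) l' ≤ F.deg (i + 1) l)
    (hanti2 : ∀ j j' : Fin (F.rk (i + 1 + 1)), j ≤ j' → F.deg (i + 1 + 1) j' ≤ F.deg (i + 1 + 1) j)
    (hcard : F.rk (i + 1) - 1 - l0 ≤ F.rk (i + 1 + 1) - j0) :
    1 ≤ F.deg (i + 1 + 1) j0 - F.deg (i + 1) l0 := by
  by_contra hlt
  push Not at hlt
  have hle : F.deg (i + 1 + 1) j0 ≤ F.deg (i + 1) l0 := by omega
  have h0 : ∀ j ∈ Finset.Ici j0, ∀ l ∉ Finset.Ioi l0, F.d (i + 1) l j = 0 := by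
    intro j hj l hl
    rw [Finset.mem_Ici] at hj
    rw [Finset.mem_Ioi, not_lt] at hl
    apply zero_of_deg_le F hF
    have := hanti2 j0 j hj
    have := hanti1 l l0 hl
    omega
  have := hb_card_lt F hF i hinj (Finset.Ici j0) (Finset.Ioi l0) h0 ⟨j0, Finset.mem_Ici.2 le_rfl⟩
  rw [Fin.card_Ici, Fin.card_Ioi] at this
  omega

/-- the Hilbert function of the coordinate ring of a finite set of points is bounded -/
theorem finrank_piece_le_card (Z : Finset (Fin (r + 1) → k))
    (f : MvPolynomial (Fin (r + 1)) k →ₗ[MvPolynomial (Fin (r + 1)) k] M)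
    (hf : ∀ n a, a ∈ stdGr k (Fin (r + 1)) n → f a ∈ ℳ n) (hsurj : Function.Surjective f)
    (hker : ∀ d p, p ∈ stdGr k (Fin (r + 1)) d → (∀ z ∈ Z, MvPolynomial.eval z p = 0) → f p = 0)
    (d : ℤ) : finrank k (ℳ d) ≤ Z.card := by
  haveI : Module.Finite k (stdGr k (Fin (r + 1)) d) := finite_stdGr r d
  let ψ : stdGr k (Fin (r + 1)) d →ₗ[k] ℳ d :=
    (f.restrictScalars k).restrict (p := stdGr k (Fin (r + 1)) d) (q := ℳ d) (fun p hp => hf d p hp)
  let ev : stdGr k (Fin (r + 1)) d →ₗ[k] (Z → k) :=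
    (LinearMap.pi (fun z : Z => (MvPolynomial.aeval (z.1 : Fin (r + 1) → k)).toLinearMap)) ∘ₗ
      (stdGr k (Fin (r + 1)) d).subtype
  have hψ : LinearMap.range ψ = ⊤ := by
    rw [LinearMap.range_eq_top]
    rintro ⟨x, hx⟩
    obtain ⟨p, hp, hpx⟩ := exists_preimage_mem f hf hsurj hx
    exact ⟨⟨p, hp⟩, Subtype.ext hpx⟩
  have hle : LinearMap.ker ev ≤ LinearMap.ker ψ := by
    rintro ⟨p, hp⟩ hpe
    rw [LinearMap.mem_ker] at hpe ⊢
    apply Subtype.ext
    show f p = 0
    apply hker d p hp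
    intro z hz
    have := congrFun hpe ⟨z, hz⟩
    exact this
  have h1 := LinearMap.finrank_range_add_finrank_ker ψ
  have h2 := LinearMap.finrank_range_add_finrank_ker ev
  have h3 := Submodule.finrank_mono hle
  rw [hψ, finrank_top] at h1
  have h4 : finrank k (LinearMap.range ev) ≤ finrank k (Z → k) := Submodule.finrank_le _
  rw [Module.finrank_fintype_fun_eq_card, Fintype.card_coe] at h4
  omega

theorem finrank_stdGr_two_succ_sub (N : ℤ) (hN : 0 ≤ N) :
    (finrank k (stdGr k (Fin 3) (N + 1)) : ℤ) - finrank k (stdGr k (Fin 3) N) = N + 2 := by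
  obtain ⟨m, rfl⟩ := Int.eq_ofNat_of_zero_le hN
  have h1 : finrank k (stdGr k (Fin 3) ((m : ℤ) + 1)) = Nat.choose (2 + (m + 1)) 2 := by
    have := finrank_stdGr (k := k) 2 ((m : ℤ) + 1)
    rw [if_pos (by omega)] at this
    rw [this]
    congr 2
  have h2 : finrank k (stdGr k (Fin 3) (m : ℤ)) = Nat.choose (2 + m) 2 := by
    have := finrank_stdGr (k := k) 2 (m : ℤ)
    rw [if_pos (by omega)] at this
    rw [this]
    congr 2
  rw [h1, h2]
  have h3 : Nat.choose (2 + (m + 1)) 2 = Nat.choose (2 + m) 1 + Nat.choose (2 + m) 2 :=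
    Nat.choose_succ_succ (2 + m) 1
  rw [h3, Nat.choose_one_right]
  push_cast
  ring

end Std

section Euler
variable {k : Type u} [Field k]
variable {M : Type u} [AddCommGroup M] [Module k M] [Module (MvPolynomial (Fin 3) k) M]
  [IsScalarTower k (MvPolynomial (Fin 3) k) M]
  {ℳ : ℤ → Submodule k M} [DirectSum.Decomposition ℳ]
  [SetLike.GradedSMul (stdGr k (Fin 3)) ℳ]

/-- if the Hilbert function of a graded module over `k[x,y,z]` with a resolution of length `≤ 2`
is bounded, then the alternating sums of ranks and of generator degrees vanish -/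
theorem euler_identities (F : FreeRes (stdGr k (Fin 3)) ℳ) (hlen : F.HasLengthLE 2) (z : ℕ)
    (hz : ∀ d, finrank k (ℳ d) ≤ z) :
    ((F.rk 0 : ℤ) - F.rk 1 + F.rk 2 = 0) ∧
      (∑ b, F.deg 0 b) - (∑ b, F.deg 1 b) + ∑ b, F.deg 2 b = 0 := by
  classical
  have hfin : ∀ n, Module.Finite k (stdGr k (Fin 3) n) := fun n => finite_stdGr 2 n
  obtain ⟨T, hT⟩ : ∃ T : ℕ → ℤ → ℤ, ∀ i d, T i d =
      ∑ b : Fin (F.rk i), (finrank k (stdGr k (Fin 3) (d - F.deg i b)) : ℤ) := ⟨_, fun _ _ => rfl⟩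
  obtain ⟨u, hu'⟩ : ∃ u : ℤ → ℤ, ∀ d, u d = (finrank k (ℳ d) : ℤ) := ⟨_, fun _ => rfl⟩
  have hu : ∀ d, u d = T 0 d - T 1 d + T 2 d := by
    intro d
    have := finrank_piece F hfin 2 hlen d
    rw [hu', this, hT, hT, hT]
    simp only [Finset.sum_range_succ, Finset.sum_range_zero]
    ring
  obtain ⟨D0, hD0⟩ : ∃ D0 : ℤ, ∀ i, i ≤ 2 → ∀ b : Fin (F.rk i), F.deg i b ≤ D0 := by
    refine ⟨∑ i ∈ Finset.range 3, ∑ b : Fin (F.rk i), |F.deg i b|, fun i hi b => ?_⟩
    calc F.deg i b ≤ |F.deg i b| := le_abs_self _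
      _ ≤ ∑ b : Fin (F.rk i), |F.deg i b| :=
        Finset.single_le_sum (f := fun b => |F.deg i b|) (fun _ _ => abs_nonneg _)
          (Finset.mem_univ b)
      _ ≤ _ := Finset.single_le_sum (f := fun i => ∑ b : Fin (F.rk i), |F.deg i b|)
          (fun _ _ => Finset.sum_nonneg (fun _ _ => abs_nonneg _))
          (Finset.mem_range.2 (by omega))
  have hTd : ∀ i, i ≤ 2 → ∀ d, D0 ≤ d →
      T i (d + 1) - T i d = (F.rk i : ℤ) * (d + 2) - ∑ b, F.deg i b := by
    intro i hi d hd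
    rw [hT, hT, ← Finset.sum_sub_distrib]
    have : ∀ b : Fin (F.rk i), (finrank k (stdGr k (Fin 3) (d + 1 - F.deg i b)) : ℤ) -
        finrank k (stdGr k (Fin 3) (d - F.deg i b)) = (d + 2) - F.deg i b := by
      intro b
      have e : d + 1 - F.deg i b = (d - F.deg i b) + 1 := by ring
      rw [e, finrank_stdGr_two_succ_sub _ (by have := hD0 i hi b; omega)]
      ring
    rw [Finset.sum_congr rfl (fun b _ => this b), Finset.sum_sub_distrib, Finset.sum_const,
      Finset.card_univ, Fintype.card_fin, nsmul_eq_mul]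
  obtain ⟨α, hα⟩ : ∃ α : ℤ, α = (F.rk 0 : ℤ) - F.rk 1 + F.rk 2 := ⟨_, rfl⟩
  obtain ⟨B, hB⟩ : ∃ B : ℤ, B = (∑ b, F.deg 0 b) - (∑ b, F.deg 1 b) + ∑ b, F.deg 2 b :=
    ⟨_, rfl⟩
  rw [← hα, ← hB]
  have hu0 : ∀ d, 0 ≤ u d := fun d => by rw [hu']; exact Int.natCast_nonneg _
  have huz : ∀ d, u d ≤ z := fun d => by rw [hu']; exact_mod_cast hz d
  have hg : ∀ d, D0 ≤ d → u (d + 1) - u d = α * (d + 2) - B := by
    intro d hd
    rw [hu (d + 1), hu d]
    have h0 := hTd 0 (by omega) d hd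
    have h1 := hTd 1 (by omega) d hd
    have h2 := hTd 2 (by omega) d hd
    rw [hα, hB]
    linear_combination h0 - h1 + h2
  have hz0 : (0 : ℤ) ≤ 2 * z + 1 := by positivity
  have hα0 : α = 0 := by
    have e1 := hg D0 le_rfl
    have e2 := hg (D0 + (2 * z + 1)) (by omega)
    have e3 : α * (2 * z + 1) = (u (D0 + (2 * z + 1) + 1) - u (D0 + (2 * z + 1))) -
        (u (D0 + 1) - u D0) := by
      rw [e1, e2]; ring
    have b1 := hu0 (D0 + (2 * z + 1) + 1)
    have b2 := huz (D0 + (2 * z + 1) + 1)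
    have b3 := hu0 (D0 + (2 * z + 1))
    have b4 := huz (D0 + (2 * z + 1))
    have b5 := hu0 (D0 + 1)
    have b6 := huz (D0 + 1)
    have b7 := hu0 D0
    have b8 := huz D0
    by_contra hne
    rcases lt_or_gt_of_ne hne with h | h
    · have h' : α ≤ -1 := by omega
      have := mul_le_mul_of_nonneg_right h' hz0
      linarith
    · have h' : 1 ≤ α := by omega
      have := mul_le_mul_of_nonneg_right h' hz0
      linarith
  refine ⟨hα0, ?_⟩
  have hg' : ∀ d, D0 ≤ d → u (d + 1) - u d = -B := by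
    intro d hd
    rw [hg d hd, hα0]; ring
  have hind : ∀ m : ℕ, u (D0 + m) = u D0 - m * B := by
    intro m
    induction m with
    | zero => simp
    | succ m ih =>
      have := hg' (D0 + m) (by omega)
      push_cast
      rw [← add_assoc]
      linarith
  have e := hind (z + 1)
  have b1 := hu0 (D0 + ((z + 1 : ℕ) : ℤ))
  have b2 := huz (D0 + ((z + 1 : ℕ) : ℤ))
  have b3 := hu0 D0
  have b4 := huz D0
  have hz1 : (0 : ℤ) ≤ ((z + 1 : ℕ) : ℤ) := Int.natCast_nonneg _
  by_contra hne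
  rcases lt_or_gt_of_ne hne with h | h
  · have h' : B ≤ -1 := by omega
    have := mul_le_mul_of_nonneg_left h' hz1
    push_cast at *
    linarith
  · have h' : 1 ≤ B := by omega
    have := mul_le_mul_of_nonneg_left h' hz1
    push_cast at *
    linarith

end Euler

end Groth.Agent.H77.GrSyzHB
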