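import Groth.Agent.H77.GrSyzStrand

set_option linter.style.longLine false
set_option linter.unusedSectionVars false
set_option linter.unusedVariables false
set_option linter.style.haveILetI false

universe u v

namespace Groth.Agent.H77.GrSyzMin

open GrSyz DirectSum Module Groth.Agent.H77.GrSyzLib Groth.Agent.H77.GrSyzStrand

section
variable {k : Type u} [Field k] {A : Type u} [CommRing A] [Algebra k A]
  (𝒜 : ℤ → Submodule k A) [GradedAlgebra 𝒜]

theorem mem_of_coe_decompose_eq {x : A} {n : ℤ} (h : (decompose 𝒜 x n : A) = x) : x ∈ 𝒜 n := by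
  rw [← h]; exact SetLike.coe_mem _

/-- abstract grading data on a module: component projections -/
structure GrData (N : Type u) [AddCommGroup N] [Module A N] where
  π : ℤ → N →+ N
  sum : ∀ x, ∃ T : Finset ℤ, ∑ d ∈ T, π d x = x
  smul : ∀ (c : A) (x : N) (e d : ℤ), π e x = x →
    π d (c • x) = (decompose 𝒜 c (d - e) : A) • x
  idem : ∀ e x, π e (π e x) = π e x

/-- grading data of a graded module -/
noncomputable def GrData.ofDecomposition {M : Type u} [AddCommGroup M] [Module k M] [Module A M]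
    [IsScalarTower k A M] (ℳ : ℤ → Submodule k M) [DirectSum.Decomposition ℳ]
    [SetLike.GradedSMul 𝒜 ℳ] : GrData 𝒜 M where
  π := compHom ℳ
  sum x := by classical exact ⟨(decompose ℳ x).support, sum_support_decompose ℳ x⟩
  smul c x e d h := by
    have hx : x ∈ ℳ e := by
      have h' : (decompose ℳ x e : M) = x := h
      rw [← h']; exact SetLike.coe_mem _
    exact decompose_smul_of_mem 𝒜 hx c d
  idem e x := decompose_of_mem_same ℳ (SetLike.coe_mem _)

/-- grading data of a free module with shifts -/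
noncomputable def freeGr {n : ℕ} (s : Fin n → ℤ) : GrData 𝒜 (Fin n → A) where
  π d :=
    { toFun := fun w b => (decompose 𝒜 (w b) (d - s b) : A)
      map_zero' := by funext b; simp
      map_add' := fun x y => by funext b; simp [decompose_add] }
  sum w := by
    classical
    refine ⟨Finset.univ.biUnion (fun b => (decompose 𝒜 (w b)).support.image (· + s b)), ?_⟩
    funext b
    rw [Finset.sum_apply]
    show ∑ d ∈ _, (decompose 𝒜 (w b) (d - s b) : A) = w b
    have hsub : (decompose 𝒜 (w b)).support.image (· + s b) ⊆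
        Finset.univ.biUnion (fun b => (decompose 𝒜 (w b)).support.image (· + s b)) :=
      Finset.subset_biUnion_of_mem (fun b => (decompose 𝒜 (w b)).support.image (· + s b))
        (Finset.mem_univ b)
    rw [← Finset.sum_subset hsub]
    · rw [Finset.sum_image (fun x _ y _ h => add_right_cancel h)]
      refine (Finset.sum_congr rfl (fun x _ => ?_)).trans (sum_support_decompose 𝒜 (w b))
      show (decompose 𝒜 (w b) (x + s b - s b) : A) = _
      rw [add_sub_cancel_right]
    · intro d _ hd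
      by_contra hne
      apply hd
      refine Finset.mem_image.2 ⟨d - s b, ?_, sub_add_cancel _ _⟩
      rw [DFinsupp.mem_support_iff]
      intro h0
      apply hne
      rw [h0]; rfl
  smul c x e d h := by
    funext b
    have hx : x b ∈ 𝒜 (e - s b) := mem_of_coe_decompose_eq 𝒜 (congrFun h b)
    show (decompose 𝒜 (c * x b) (d - s b) : A) = (decompose 𝒜 c (d - e) : A) * x b
    have e' : d - s b = (d - e) + (e - s b) := by ring
    rw [e', coe_decompose_mul_add_of_right_mem 𝒜 hx]
  idem e x := by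
    funext b
    exact decompose_of_mem_same 𝒜 (SetLike.coe_mem _)

variable {𝒜}

theorem exists_homog_gens {N : Type u} [AddCommGroup N] [Module A N] (G : GrData 𝒜 N)
    (K : Submodule A N) (hK : ∀ x ∈ K, ∀ d, G.π d x ∈ K) (hfg : K.FG) :
    ∃ (n : ℕ) (e : Fin n → ℤ) (g : Fin n → N), (∀ j, G.π (e j) (g j) = g j) ∧
      Submodule.span A (Set.range g) = K := by
  classical
  obtain ⟨s, hs⟩ := hfg
  choose T hT using G.sum
  let U : Finset (ℤ × N) := s.biUnion (fun x => (T x).image (fun d => (d, G.π d x)))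
  refine ⟨U.card, fun j => (U.equivFin.symm j).1.1, fun j => (U.equivFin.symm j).1.2, ?_, ?_⟩
  · intro j
    obtain ⟨x, hx, hmem⟩ := Finset.mem_biUnion.1 (U.equivFin.symm j).2
    obtain ⟨d, hd, hdx⟩ := Finset.mem_image.1 hmem
    show G.π ((U.equivFin.symm j).1.1) ((U.equivFin.symm j).1.2) = (U.equivFin.symm j).1.2
    rw [← hdx]
    exact G.idem d x
  · apply le_antisymm
    · rw [Submodule.span_le]
      rintro _ ⟨j, rfl⟩
      obtain ⟨x, hx, hmem⟩ := Finset.mem_biUnion.1 (U.equivFin.symm j).2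
      obtain ⟨d, hd, hdx⟩ := Finset.mem_image.1 hmem
      show ((U.equivFin.symm j).1).2 ∈ K
      rw [← hdx]
      have hxK : x ∈ K := by rw [← hs]; exact Submodule.subset_span hx
      exact hK x hxK d
    · rw [← hs, Submodule.span_le]
      intro x hx
      rw [SetLike.mem_coe, ← hT x]
      refine Submodule.sum_mem _ (fun d hd => Submodule.subset_span ?_)
      have hmemU : (d, G.π d x) ∈ U :=
        Finset.mem_biUnion.2 ⟨x, hx, Finset.mem_image.2 ⟨d, hd, rfl⟩⟩
      exact ⟨U.equivFin ⟨_, hmemU⟩, by simp⟩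

theorem exists_min_gens (𝔪 : Ideal A) (H : ∀ c : A, c ∉ 𝔪 → IsUnit (decompose 𝒜 c 0 : A))
    {N : Type u} [AddCommGroup N] [Module A N] (G : GrData 𝒜 N)
    (K : Submodule A N) (hK : ∀ x ∈ K, ∀ d, G.π d x ∈ K) (hfg : K.FG) :
    ∃ (n : ℕ) (e : Fin n → ℤ) (g : Fin n → N), (∀ j, G.π (e j) (g j) = g j) ∧
      Submodule.span A (Set.range g) = K ∧
      ∀ c : Fin n → A, ∑ j, c j • g j = 0 → ∀ j, c j ∈ 𝔪 := by
  classical
  let P : ℕ → Prop := fun n => ∃ (e : Fin n → ℤ) (g : Fin n → N),
    (∀ j, G.π (e j) (g j) = g j) ∧ Submodule.span A (Set.range g) = K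
  have hex : ∃ n, P n := exists_homog_gens G K hK hfg
  obtain ⟨n, ⟨e, g, hg, hspan⟩, hmin⟩ : ∃ n, P n ∧ ∀ n' < n, ¬ P n' :=
    ⟨Nat.find hex, Nat.find_spec hex, fun n' h => Nat.find_min hex h⟩
  refine ⟨n, e, g, hg, hspan, ?_⟩
  intro c hc j0
  by_contra hnot
  have hu := H (c j0) hnot
  have h1 : ∑ j, (decompose 𝒜 (c j) (e j0 - e j) : A) • g j = 0 := by
    have := congrArg (G.π (e j0)) hc
    rw [map_sum, map_zero] at this
    rw [← this]
    exact Finset.sum_congr rfl (fun j _ => (G.smul (c j) (g j) (e j) (e j0) (hg j)).symm)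
  have h2 : g j0 ∈ Submodule.span A (g '' {j | j ≠ j0}) :=
    mem_span_image_of_isUnit g (fun j => (decompose 𝒜 (c j) (e j0 - e j) : A)) h1 j0
      (by
        show IsUnit (decompose 𝒜 (c j0) (e j0 - e j0) : A)
        have h0 : e j0 - e j0 = 0 := sub_self _
        rw [h0]; exact hu)
  obtain ⟨n', rfl⟩ : ∃ n', n = n' + 1 :=
    Nat.exists_eq_succ_of_ne_zero (by rintro rfl; exact j0.elim0)
  apply hmin n' (Nat.lt_succ_self n')
  refine ⟨e ∘ j0.succAbove, g ∘ j0.succAbove, fun j => hg _, ?_⟩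
  rw [← hspan]
  have hrange : Set.range (g ∘ j0.succAbove) = g '' {j | j ≠ j0} := by
    rw [Set.range_comp, Fin.range_succAbove]; rfl
  rw [hrange]
  apply le_antisymm (Submodule.span_mono (Set.image_subset_range _ _))
  rw [Submodule.span_le]
  rintro _ ⟨j, rfl⟩
  by_cases hj : j = j0
  · rw [hj]; exact h2
  · exact Submodule.subset_span ⟨j, hj, rfl⟩

theorem mulVecLin_of {n n' : ℕ} (g : Fin n' → (Fin n → A)) :
    Matrix.mulVecLin (Matrix.of (fun a b => g b a)) = Fintype.linearCombination A g := by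
  apply LinearMap.ext
  intro c
  funext a
  rw [Matrix.mulVecLin_apply, Fintype.linearCombination_apply]
  simp only [Matrix.mulVec, dotProduct, Matrix.of_apply, Finset.sum_apply, Pi.smul_apply,
    smul_eq_mul]
  exact Finset.sum_congr rfl (fun b _ => mul_comm _ _)

variable (𝒜) (𝔪 : Ideal A)

/-- a stage of the recursive construction: a free module with shifts and a homogeneous submodule
contained in `𝔪` times the free module -/
structure Stage where
  n : ℕ
  s : Fin n → ℤ
  K : Submodule A (Fin n → A)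
  hom : ∀ x ∈ K, ∀ d, (freeGr 𝒜 s).π d x ∈ K
  min : ∀ x ∈ K, ∀ b, x b ∈ 𝔪

/-- minimal homogeneous generators of the submodule of a stage -/
structure NextData (σ : Stage 𝒜 𝔪) where
  n : ℕ
  s : Fin n → ℤ
  g : Fin n → (Fin σ.n → A)
  hom : ∀ j, (freeGr 𝒜 σ.s).π (s j) (g j) = g j
  span : Submodule.span A (Set.range g) = σ.K
  ker : ∀ c : Fin n → A, ∑ j, c j • g j = 0 → ∀ j, c j ∈ 𝔪

variable {𝒜 𝔪}

theorem nonempty_nextData [IsNoetherianRing A]
    (H : ∀ c : A, c ∉ 𝔪 → IsUnit (decompose 𝒜 c 0 : A)) (σ : Stage 𝒜 𝔪) :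
    Nonempty (NextData 𝒜 𝔪 σ) := by
  obtain ⟨n, e, g, h1, h2, h3⟩ :=
    exists_min_gens 𝔪 H (freeGr 𝒜 σ.s) σ.K σ.hom (IsNoetherian.noetherian _)
  exact ⟨⟨n, e, g, h1, h2, h3⟩⟩

/-- build a stage from homogeneous elements with relations in `𝔪` -/
noncomputable def mkStage {N : Type u} [AddCommGroup N] [Module A N] (G : GrData 𝒜 N) (n : ℕ)
    (s : Fin n → ℤ) (g : Fin n → N) (hg : ∀ j, G.π (s j) (g j) = g j)
    (hker : ∀ c : Fin n → A, ∑ j, c j • g j = 0 → ∀ j, c j ∈ 𝔪) : Stage 𝒜 𝔪 where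
  n := n
  s := s
  K := LinearMap.ker (Fintype.linearCombination A g)
  hom := by
    intro c hc d
    rw [LinearMap.mem_ker, Fintype.linearCombination_apply] at hc ⊢
    have := congrArg (G.π d) hc
    rw [map_sum, map_zero] at this
    rw [← this]
    exact Finset.sum_congr rfl (fun j _ => (G.smul (c j) (g j) (s j) d (hg j)).symm)
  min := by
    intro c hc b
    rw [LinearMap.mem_ker, Fintype.linearCombination_apply] at hc
    exact hker c hc b

noncomputable def nextStage (σ : Stage 𝒜 𝔪) (ν : NextData 𝒜 𝔪 σ) : Stage 𝒜 𝔪 :=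
  mkStage (freeGr 𝒜 σ.s) ν.n ν.s ν.g ν.hom ν.ker

variable [IsNoetherianRing A] (H : ∀ c : A, c ∉ 𝔪 → IsUnit (decompose 𝒜 c 0 : A))

noncomputable def nd (σ : Stage 𝒜 𝔪) : NextData 𝒜 𝔪 σ :=
  Classical.choice (nonempty_nextData H σ)

noncomputable def st (σ0 : Stage 𝒜 𝔪) (i : ℕ) : Stage 𝒜 𝔪 :=
  Nat.rec σ0 (fun _ σ => nextStage σ (nd H σ)) i

theorem st_succ (σ0 : Stage 𝒜 𝔪) (i : ℕ) :
    st H σ0 (i + 1) = nextStage (st H σ0 i) (nd H (st H σ0 i)) := rfl

include H in
theorem exists_minimal_freeRes {M : Type u} [AddCommGroup M] [Module k M] [Module A M]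
    [IsScalarTower k A M] [Module.Finite A M] (ℳ : ℤ → Submodule k M)
    [DirectSum.Decomposition ℳ] [SetLike.GradedSMul 𝒜 ℳ] :
    ∃ F : FreeRes 𝒜 ℳ, F.IsMinimal 𝔪 := by
  classical
  obtain ⟨n0, e0, g0, hg0, hspan0, hker0⟩ :=
    exists_min_gens 𝔪 H (GrData.ofDecomposition 𝒜 ℳ) ⊤ (fun _ _ _ => Submodule.mem_top)
      Module.Finite.fg_top
  let σ0 : Stage 𝒜 𝔪 := mkStage (GrData.ofDecomposition 𝒜 ℳ) n0 e0 g0 hg0 hker0
  refine ⟨{ rk := fun i => (st H σ0 i).n
            deg := fun i => (st H σ0 i).s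
            d := fun i => Matrix.of (fun a b => (nd H (st H σ0 i)).g b a)
            aug := g0
            d_mem := ?_
            aug_mem := ?_
            aug_surjective := ?_
            exact_zero := ?_
            exact_succ := ?_ }, ?_⟩
  · intro i a b
    exact mem_of_coe_decompose_eq 𝒜 (congrFun ((nd H (st H σ0 i)).hom b) a)
  · intro b
    have h' : (decompose ℳ (g0 b) (e0 b) : M) = g0 b := hg0 b
    rw [← h']; exact SetLike.coe_mem _
  · refine LinearMap.range_eq_top.1 ?_
    rw [Fintype.range_linearCombination]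
    exact hspan0
  · rw [mulVecLin_of, Fintype.range_linearCombination]
    exact ((nd H (st H σ0 0)).span).symm
  · intro i
    rw [mulVecLin_of, mulVecLin_of, Fintype.range_linearCombination]
    exact ((nd H (st H σ0 (i + 1))).span).symm
  · intro i a b
    refine (st H σ0 i).min _ ?_ a
    rw [← (nd H (st H σ0 i)).span]
    exact Submodule.subset_span ⟨b, rfl⟩

end

section Std
variable {k : Type u} [Field k] {σ : Type v}

theorem isUnit_decompose_zero_of_notMem_irrel (c : MvPolynomial σ k)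
    (hc : c ∉ (irrel (stdGr k σ)).toIdeal) :
    IsUnit (decompose (stdGr k σ) c 0 : MvPolynomial σ k) := by
  classical
  have : ∃ n, (decompose (stdGr k σ) c n : MvPolynomial σ k) ∉ (irrel (stdGr k σ)).toIdeal := by
    by_contra hall
    push Not at hall
    apply hc
    rw [← sum_support_decompose (stdGr k σ) c]
    exact Ideal.sum_mem _ (fun n _ => hall n)
  obtain ⟨n, hn⟩ := this
  obtain ⟨hn0, -⟩ := eq_C_of_notMem_irrel (SetLike.coe_mem _) hn
  subst hn0
  exact isUnit_of_notMem_irrel (SetLike.coe_mem _) hn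

end Std

end Groth.Agent.H77.GrSyzMin
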