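import Groth.Agent.H77.GrSyzLib

set_option linter.style.longLine false
set_option linter.unusedSectionVars false
set_option linter.unusedVariables false
set_option linter.style.haveILetI false

universe u v

namespace Groth.Agent.H77.GrSyzStrand

open GrSyz DirectSum Module Groth.Agent.H77.GrSyzLib

section General
variable {k : Type u} [Field k] {A : Type u} [CommRing A] [Algebra k A]
  {𝒜 : ℤ → Submodule k A} [GradedAlgebra 𝒜]
variable {M : Type u} [AddCommGroup M] [Module k M] [Module A M] [IsScalarTower k A M]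
  {ℳ : ℤ → Submodule k M} [DirectSum.Decomposition ℳ] [SetLike.GradedSMul 𝒜 ℳ]

/-- the component map as an additive hom -/
noncomputable def compHom (ℳ : ℤ → Submodule k M) [DirectSum.Decomposition ℳ] (n : ℤ) : M →+ M :=
  (AddSubmonoidClass.subtype (ℳ n)).comp
    ((DFinsupp.evalAddMonoidHom n).comp (DirectSum.decomposeAddEquiv ℳ).toAddMonoidHom)

theorem compHom_apply (n : ℤ) (x : M) : compHom ℳ n x = (decompose ℳ x n : M) := rfl

theorem decompose_smul_of_mem (𝒜 : ℤ → Submodule k A) [GradedAlgebra 𝒜] [SetLike.GradedSMul 𝒜 ℳ]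
    {m : M} {j : ℤ} (hm : m ∈ ℳ j) (x : A) (n : ℤ) :
    (decompose ℳ (x • m) n : M) = (decompose 𝒜 x (n - j) : A) • m := by
  classical
  have h : ∀ i : ℤ, (decompose ℳ ((decompose 𝒜 x i : A) • m) n : M) =
      if i = n - j then (decompose 𝒜 x i : A) • m else 0 := by
    intro i
    have hmem : (decompose 𝒜 x i : A) • m ∈ ℳ (i + j) := by
      have := SetLike.GradedSMul.smul_mem (A := 𝒜) (B := ℳ)
        (SetLike.coe_mem (decompose 𝒜 x i)) hm
      simpa [vadd_eq_add] using this
    split_ifs with hij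
    · have : i + j = n := by omega
      rw [← this]; exact decompose_of_mem_same ℳ hmem
    · exact decompose_of_mem_ne ℳ hmem (by omega)
  calc (decompose ℳ (x • m) n : M)
      = compHom ℳ n ((∑ i ∈ (decompose 𝒜 x).support, (decompose 𝒜 x i : A)) • m) := by
        rw [sum_support_decompose 𝒜 x]; rfl
    _ = ∑ i ∈ (decompose 𝒜 x).support, compHom ℳ n ((decompose 𝒜 x i : A) • m) := by
        rw [Finset.sum_smul, map_sum]
    _ = ∑ i ∈ (decompose 𝒜 x).support, if i = n - j then (decompose 𝒜 x i : A) • m else 0 :=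
        Finset.sum_congr rfl (fun i _ => by rw [compHom_apply, h i])
    _ = (decompose 𝒜 x (n - j) : A) • m := by
        rw [Finset.sum_ite_eq']
        split_ifs with hs
        · rfl
        · rw [DFinsupp.notMem_support_iff] at hs
          rw [hs]; simp

variable (F : FreeRes 𝒜 ℳ)

/-- the degree-`d` strand of the `i`-th term -/
def strand (i : ℕ) (d : ℤ) : Submodule k (Fin (F.rk i) → A) :=
  Submodule.pi Set.univ (fun b => 𝒜 (d - F.deg i b))

theorem mem_strand {i : ℕ} {d : ℤ} {v : Fin (F.rk i) → A} :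
    v ∈ strand F i d ↔ ∀ b, v b ∈ 𝒜 (d - F.deg i b) := by
  simp [strand, Submodule.mem_pi]

theorem dLin_mem_strand {i : ℕ} {d : ℤ} {v : Fin (F.rk (i + 1)) → A}
    (hv : v ∈ strand F (i + 1) d) : F.dLin i v ∈ strand F i d := by
  rw [mem_strand] at hv ⊢
  intro a
  rw [Matrix.mulVecLin_apply]
  simp only [Matrix.mulVec, dotProduct]
  refine Submodule.sum_mem _ (fun b _ => ?_)
  have := SetLike.mul_mem_graded (F.d_mem i a b) (hv b)
  have e : F.deg (i + 1) b - F.deg i a + (d - F.deg (i + 1) b) = d - F.deg i a := by ring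
  rwa [e] at this

theorem augLin_mem {d : ℤ} {v : Fin (F.rk 0) → A} (hv : v ∈ strand F 0 d) :
    F.augLin v ∈ ℳ d := by
  rw [mem_strand] at hv
  rw [Fintype.linearCombination_apply]
  refine Submodule.sum_mem _ (fun b _ => ?_)
  have := SetLike.GradedSMul.smul_mem (A := 𝒜) (B := ℳ) (hv b) (F.aug_mem b)
  simpa [vadd_eq_add] using this

/-- projection to the strand -/
noncomputable def proj (i : ℕ) (d : ℤ) (w : Fin (F.rk i) → A) : Fin (F.rk i) → A :=
  fun b => (decompose 𝒜 (w b) (d - F.deg i b) : A)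

theorem proj_mem (i : ℕ) (d : ℤ) (w : Fin (F.rk i) → A) : proj F i d w ∈ strand F i d :=
  (mem_strand F).2 (fun b => SetLike.coe_mem _)

theorem proj_eq_self {i : ℕ} {d : ℤ} {v : Fin (F.rk i) → A} (hv : v ∈ strand F i d) :
    proj F i d v = v :=
  funext fun b => decompose_of_mem_same 𝒜 ((mem_strand F).1 hv b)

theorem dLin_proj (i : ℕ) (d : ℤ) (w : Fin (F.rk (i + 1)) → A) :
    F.dLin i (proj F (i + 1) d w) = proj F i d (F.dLin i w) := by
  funext a
  show (F.dLin i (proj F (i + 1) d w)) a = (decompose 𝒜 ((F.dLin i w) a) (d - F.deg i a) : A)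
  rw [Matrix.mulVecLin_apply, Matrix.mulVecLin_apply]
  simp only [Matrix.mulVec, dotProduct]
  rw [← GradedRing.proj_apply, map_sum]
  refine Finset.sum_congr rfl (fun b _ => ?_)
  rw [GradedRing.proj_apply]
  have e : d - F.deg i a = (F.deg (i + 1) b - F.deg i a) + (d - F.deg (i + 1) b) := by ring
  rw [e, coe_decompose_mul_add_of_left_mem 𝒜 (F.d_mem i a b)]
  rfl

theorem augLin_proj (d : ℤ) (w : Fin (F.rk 0) → A) :
    F.augLin (proj F 0 d w) = (decompose ℳ (F.augLin w) d : M) := by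
  rw [Fintype.linearCombination_apply, Fintype.linearCombination_apply, ← compHom_apply, map_sum]
  refine Finset.sum_congr rfl (fun b _ => ?_)
  rw [compHom_apply, decompose_smul_of_mem 𝒜 (F.aug_mem b)]
  rfl

theorem strand_exact_succ (i : ℕ) (d : ℤ) {v : Fin (F.rk (i + 1)) → A}
    (hv : v ∈ strand F (i + 1) d) (hk : F.dLin i v = 0) :
    ∃ w ∈ strand F (i + 1 + 1) d, F.dLin (i + 1) w = v := by
  have h : v ∈ LinearMap.ker (F.dLin i) := hk
  rw [F.exact_succ i] at h
  obtain ⟨w, hw⟩ := h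
  refine ⟨proj F (i + 1 + 1) d w, proj_mem F _ d w, ?_⟩
  rw [dLin_proj]
  show proj F (i + 1) d (F.dLin (i + 1) w) = v
  have hw' : F.dLin (i + 1) w = v := hw
  rw [hw', proj_eq_self F hv]

theorem strand_exact_zero (d : ℤ) {v : Fin (F.rk 0) → A}
    (hv : v ∈ strand F 0 d) (hk : F.augLin v = 0) :
    ∃ w ∈ strand F (0 + 1) d, F.dLin 0 w = v := by
  have h : v ∈ LinearMap.ker F.augLin := hk
  rw [F.exact_zero] at h
  obtain ⟨w, hw⟩ := h
  refine ⟨proj F (0 + 1) d w, proj_mem F _ d w, ?_⟩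
  rw [dLin_proj]
  have hw' : F.dLin 0 w = v := hw
  rw [hw', proj_eq_self F hv]

theorem strand_aug_surj (d : ℤ) {x : M} (hx : x ∈ ℳ d) :
    ∃ v ∈ strand F 0 d, F.augLin v = x := by
  obtain ⟨w, hw⟩ := F.aug_surjective x
  refine ⟨proj F 0 d w, proj_mem F 0 d w, ?_⟩
  have hw' : F.augLin w = x := hw
  rw [augLin_proj, hw', decompose_of_mem_same ℳ hx]

/-- the differential on strands -/
noncomputable def dS (i : ℕ) (d : ℤ) : strand F (i + 1) d →ₗ[k] strand F i d :=
  ((F.dLin i).restrictScalars k).restrict (fun v hv => dLin_mem_strand F hv)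

/-- the augmentation on strands -/
noncomputable def augS (d : ℤ) : strand F 0 d →ₗ[k] ℳ d :=
  (F.augLin.restrictScalars k).restrict (fun v hv => augLin_mem F hv)

theorem dLin_comp_eq_zero (i : ℕ) (w : Fin (F.rk (i + 1 + 1)) → A) :
    F.dLin i (F.dLin (i + 1) w) = 0 := by
  have : F.dLin (i + 1) w ∈ LinearMap.ker (F.dLin i) := by
    rw [F.exact_succ i]; exact ⟨w, rfl⟩
  exact this

theorem augLin_comp_eq_zero (w : Fin (F.rk (0 + 1)) → A) :
    F.augLin (F.dLin 0 w) = 0 := by
  have : F.dLin 0 w ∈ LinearMap.ker F.augLin := by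
    rw [F.exact_zero]; exact ⟨w, rfl⟩
  exact this

theorem range_dS_succ (i : ℕ) (d : ℤ) :
    LinearMap.range (dS F (i + 1) d) = LinearMap.ker (dS F i d) := by
  ext ⟨v, hv⟩
  constructor
  · rintro ⟨⟨w, hw⟩, h⟩
    rw [LinearMap.mem_ker]
    apply Subtype.ext
    have h' : F.dLin (i + 1) w = v := congrArg Subtype.val h
    show F.dLin i v = 0
    rw [← h']
    exact dLin_comp_eq_zero F i w
  · intro h
    have h' : F.dLin i v = 0 := congrArg Subtype.val h
    obtain ⟨w, hw, hwv⟩ := strand_exact_succ F i d hv h'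
    exact ⟨⟨w, hw⟩, Subtype.ext hwv⟩

theorem range_dS_zero (d : ℤ) :
    LinearMap.range (dS F 0 d) = LinearMap.ker (augS F d) := by
  ext ⟨v, hv⟩
  constructor
  · rintro ⟨⟨w, hw⟩, h⟩
    rw [LinearMap.mem_ker]
    apply Subtype.ext
    have h' : F.dLin 0 w = v := congrArg Subtype.val h
    show F.augLin v = 0
    rw [← h']
    exact augLin_comp_eq_zero F w
  · intro h
    have h' : F.augLin v = 0 := congrArg Subtype.val h
    obtain ⟨w, hw, hwv⟩ := strand_exact_zero F d hv h'
    exact ⟨⟨w, hw⟩, Subtype.ext hwv⟩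

theorem range_augS (d : ℤ) : LinearMap.range (augS F d) = ⊤ := by
  rw [LinearMap.range_eq_top]
  rintro ⟨x, hx⟩
  obtain ⟨v, hv, hvx⟩ := strand_aug_surj F d hx
  exact ⟨⟨v, hv⟩, Subtype.ext hvx⟩

/-- the strand is a product of pieces -/
noncomputable def strandEquiv (i : ℕ) (d : ℤ) :
    strand F i d ≃ₗ[k] (∀ b : Fin (F.rk i), 𝒜 (d - F.deg i b)) where
  toFun v b := ⟨v.1 b, (mem_strand F).1 v.2 b⟩
  invFun w := ⟨fun b => (w b).1, (mem_strand F).2 (fun b => (w b).2)⟩
  map_add' _ _ := rfl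
  map_smul' _ _ := rfl
  left_inv _ := rfl
  right_inv _ := rfl

theorem finite_strand (hfin : ∀ n, Module.Finite k (𝒜 n)) (i : ℕ) (d : ℤ) :
    Module.Finite k (strand F i d) := by
  haveI := hfin
  exact Module.Finite.equiv (strandEquiv F i d).symm

theorem finrank_strand (hfin : ∀ n, Module.Finite k (𝒜 n)) (i : ℕ) (d : ℤ) :
    finrank k (strand F i d) = ∑ b, finrank k (𝒜 (d - F.deg i b)) := by
  haveI := hfin
  rw [LinearEquiv.finrank_eq (strandEquiv F i d), Module.finrank_pi_fintype]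

theorem finrank_piece (hfin : ∀ n, Module.Finite k (𝒜 n)) (m : ℕ) (hF : F.HasLengthLE m)
    (d : ℤ) :
    (finrank k (ℳ d) : ℤ) = ∑ i ∈ Finset.range (m + 1), (-1 : ℤ) ^ i *
      ∑ b : Fin (F.rk i), (finrank k (𝒜 (d - F.deg i b)) : ℤ) := by
  haveI : ∀ i, Module.Finite k (strand F i d) := fun i => finite_strand F hfin i d
  obtain ⟨z, hz⟩ : ∃ z : ℕ → ℕ, ∀ i, z i = finrank k (LinearMap.range (dS F i d)) :=
    ⟨_, fun _ => rfl⟩
  have ha : finrank k (strand F 0 d) = finrank k (ℳ d) + z 0 := by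
    have h := LinearMap.finrank_range_add_finrank_ker (augS F d)
    rw [range_augS, finrank_top, ← range_dS_zero, ← hz] at h
    exact h.symm
  have hb : ∀ i, finrank k (strand F (i + 1) d) = z i + z (i + 1) := by
    intro i
    have h := LinearMap.finrank_range_add_finrank_ker (dS F i d)
    rw [← range_dS_succ, ← hz, ← hz] at h
    exact h.symm
  have hc : ∀ i, m ≤ i → z i = 0 := by
    intro i hi
    have hemp : IsEmpty (Fin (F.rk (i + 1))) := by
      rw [hF (i + 1) (by omega)]; infer_instance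
    have hss : Subsingleton (strand F (i + 1) d) :=
      ⟨fun a b => Subtype.ext (Subsingleton.elim _ _)⟩
    have h0 : finrank k (strand F (i + 1) d) = 0 := Module.finrank_zero_of_subsingleton
    have := hb i
    omega
  have hd : ∀ n, ∑ i ∈ Finset.range (n + 1), (-1 : ℤ) ^ i * (finrank k (strand F i d) : ℤ) =
      (finrank k (ℳ d) : ℤ) + (-1) ^ n * (z n : ℤ) := by
    intro n
    induction n with
    | zero => simp [ha]
    | succ n ih =>
      rw [Finset.sum_range_succ, ih, hb n]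
      push_cast
      ring
  have hm := hd m
  rw [hc m le_rfl] at hm
  simp only [Nat.cast_zero, mul_zero, add_zero] at hm
  rw [← hm]
  refine Finset.sum_congr rfl (fun i _ => ?_)
  rw [finrank_strand F hfin i d]
  push_cast
  rfl

end General

section Std
variable {k : Type u} [Field k]

theorem finrank_stdGr_eq_natCard (σ : Type v) (n : ℤ) :
    finrank k (stdGr k σ n) =
      Nat.card {m : σ →₀ ℕ // Finsupp.weight (fun _ : σ => (1 : ℤ)) m = n} := by
  have e : stdGr k σ n =
      AddMonoidAlgebra.supported k k {d | Finsupp.weight (fun _ : σ => (1 : ℤ)) d = n} :=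
    MvPolynomial.weightedHomogeneousSubmodule_eq_finsupp_supported k _ n
  rw [LinearEquiv.finrank_eq (LinearEquiv.ofEq _ _ e),
    LinearEquiv.finrank_eq (AddMonoidAlgebra.supportedEquivFinsupp _),
    Module.finrank_eq_nat_card_basis (Finsupp.basisSingleOne)]
  rfl

theorem natCard_weight (r : ℕ) (n : ℤ) :
    Nat.card {m : Fin (r + 1) →₀ ℕ // Finsupp.weight (fun _ => (1 : ℤ)) m = n} =
      if 0 ≤ n then Nat.choose (r + n.toNat) r else 0 := by
  split_ifs with hn
  · obtain ⟨N, rfl⟩ := Int.eq_ofNat_of_zero_le hn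
    have hiff : ∀ m : Fin (r + 1) →₀ ℕ, Finsupp.weight (fun _ => (1 : ℤ)) m = (N : ℤ) ↔
        m ∈ Finset.univ.finsuppAntidiag N := by
      intro m
      rw [Finset.mem_finsuppAntidiag, Finsupp.weight_eq_sum]
      simp only [Finset.subset_univ, and_true, nsmul_eq_mul, mul_one]
      constructor
      · intro h; exact_mod_cast h
      · intro h; exact_mod_cast h
    rw [Nat.card_congr (Equiv.subtypeEquivRight hiff), Nat.card_eq_fintype_card,
      Fintype.card_coe, Finset.card_finsuppAntidiag_nat_eq_choose]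
    simp only [Finset.card_univ, Fintype.card_fin, Int.toNat_natCast]
    have : r + 1 + N - 1 = N + r := by omega
    rw [this, Nat.choose_symm_add, Nat.add_comm]
  · haveI : IsEmpty {m : Fin (r + 1) →₀ ℕ // Finsupp.weight (fun _ => (1 : ℤ)) m = n} :=
      ⟨fun ⟨m, hm⟩ => hn (hm ▸ weight_one_nonneg m)⟩
    exact Nat.card_of_isEmpty

theorem finrank_stdGr (r : ℕ) (n : ℤ) :
    finrank k (stdGr k (Fin (r + 1)) n) = if 0 ≤ n then Nat.choose (r + n.toNat) r else 0 := by
  rw [finrank_stdGr_eq_natCard, natCard_weight]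

theorem finite_weight (r : ℕ) (n : ℤ) :
    Finite {m : Fin (r + 1) →₀ ℕ // Finsupp.weight (fun _ => (1 : ℤ)) m = n} := by
  by_cases hn : 0 ≤ n
  · apply Nat.finite_of_card_ne_zero
    rw [natCard_weight, if_pos hn]
    exact (Nat.choose_pos (Nat.le_add_right _ _)).ne'
  · haveI : IsEmpty {m : Fin (r + 1) →₀ ℕ // Finsupp.weight (fun _ => (1 : ℤ)) m = n} :=
      ⟨fun ⟨m, hm⟩ => hn (hm ▸ weight_one_nonneg m)⟩
    infer_instance

theorem finite_stdGr (r : ℕ) (n : ℤ) : Module.Finite k (stdGr k (Fin (r + 1)) n) := by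
  have e : stdGr k (Fin (r + 1)) n =
      AddMonoidAlgebra.supported k k
        {d | Finsupp.weight (fun _ : Fin (r + 1) => (1 : ℤ)) d = n} :=
    MvPolynomial.weightedHomogeneousSubmodule_eq_finsupp_supported k _ n
  haveI : Finite ↑{d : Fin (r + 1) →₀ ℕ | Finsupp.weight (fun _ : Fin (r + 1) => (1 : ℤ)) d = n} :=
    finite_weight r n
  exact Module.Finite.equiv
    ((LinearEquiv.ofEq _ _ e).trans (AddMonoidAlgebra.supportedEquivFinsupp _)).symm

theorem choose_eq_eval (r : ℕ) (a d : ℤ) (h : a - r ≤ d) :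
    (((if a ≤ d then ((Nat.choose (r + (d - a).toNat) r : ℕ) : ℤ) else 0 : ℤ)) : ℚ) =
      (1 / (r.factorial : ℚ)) * (ascPochhammer ℚ r).eval ((d : ℚ) - (a : ℚ) + 1) := by
  have hr : (r.factorial : ℚ) ≠ 0 := by exact_mod_cast r.factorial_ne_zero
  by_cases hle : a ≤ d
  · rw [if_pos hle]
    obtain ⟨N, hN⟩ := Int.eq_ofNat_of_zero_le (sub_nonneg.2 hle)
    rw [hN, Int.toNat_natCast]
    have h1 : (d : ℚ) - a + 1 = ((N + 1 : ℕ) : ℚ) := by
      have := congrArg (Int.cast : ℤ → ℚ) hN
      push_cast at this ⊢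
      linarith
    rw [h1, ← ascPochhammer_eval_cast, ascPochhammer_nat_eq_ascFactorial,
      Nat.ascFactorial_eq_factorial_mul_choose]
    push_cast
    rw [add_comm r N]
    field_simp
  · rw [if_neg hle]
    push Not at hle
    obtain ⟨K, hK⟩ : ∃ K : ℕ, a - d - 1 = K := Int.eq_ofNat_of_zero_le (by omega)
    have hKr : K < r := by omega
    have h1 : (d : ℚ) - a + 1 = -(K : ℚ) := by
      have := congrArg (Int.cast : ℤ → ℚ) hK
      push_cast at this ⊢
      linarith
    rw [h1, ascPochhammer_eval_neg_coe_nat_of_lt hKr]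
    simp

end Std

end Groth.Agent.H77.GrSyzStrand
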