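-- helper77: rings with involution, quadratic etale algebras (Prelude namespace RInv)
import Groth.Prelude.Def_W4c2azumayainvolQEt
import Mathlib

set_option autoImplicit false
set_option linter.style.haveILetI false
universe u v w

namespace Groth.Agent.H77

open RInv

section Basic
variable {S : Type u} {R : Type v} [CommRing S] [CommRing R] [Algebra S R] (lam : R ≃+* R)

theorem lam_algebraMap (hS : IsFixedRing S R lam) (s : S) : lam (algebraMap S R s) = algebraMap S R s :=
  (hS.2 _).mpr ⟨s, rfl⟩

theorem exists_of_fixed (hS : IsFixedRing S R lam) {x : R} (hx : lam x = x) :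
    ∃ s : S, algebraMap S R s = x := (hS.2 x).mp hx

theorem tr_fixed (hlam : Function.Involutive lam) (x : R) : lam (x + lam x) = x + lam x := by
  rw [map_add, hlam x, add_comm]

theorem nm_fixed (hlam : Function.Involutive lam) (x : R) : lam (x * lam x) = x * lam x := by
  rw [map_mul, hlam x, mul_comm]

/-- If `r - lam r` is a unit then `R` is free over `S` with basis `1, r`. -/
theorem decomp_of_isUnit (hlam : Function.Involutive lam) (hS : IsFixedRing S R lam) (r : R)
    (hr : IsUnit (r - lam r)) (x : R) :
    ∃ a b : S, x = algebraMap S R a + algebraMap S R b * r := by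
  obtain ⟨w, hw⟩ := hr.exists_right_inv
  have hlw : lam w = - w := by
    have h1 : lam (r - lam r) * lam w = 1 := by rw [← map_mul, hw, map_one]
    rw [map_sub, hlam r] at h1
    have h2 : (r - lam r) * (- lam w) = 1 := by rw [← h1]; ring
    calc lam w = lam w * ((r - lam r) * w) := by rw [hw, mul_one]
      _ = - (((r - lam r) * (- lam w)) * w) := by ring
      _ = - w := by rw [h2, one_mul]
  have hb : lam ((x - lam x) * w) = (x - lam x) * w := by
    rw [map_mul, map_sub, hlam x, hlw]; ring
  obtain ⟨b, hb'⟩ := exists_of_fixed lam hS hb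
  have ha : lam (x - (x - lam x) * w * r) = x - (x - lam x) * w * r := by
    rw [map_sub, map_mul, hb]
    have : (x - lam x) * w * (r - lam r) = x - lam x := by
      rw [mul_assoc, mul_comm w, hw, mul_one]
    linear_combination this
  obtain ⟨a, ha'⟩ := exists_of_fixed lam hS ha
  exact ⟨a, b, by rw [ha', hb']; ring⟩

theorem indep_of_isUnit (hS : IsFixedRing S R lam) (r : R)
    (hr : IsUnit (r - lam r)) (a b : S) (h : algebraMap S R a + algebraMap S R b * r = 0) :
    a = 0 ∧ b = 0 := by
  have h2 : algebraMap S R a + algebraMap S R b * lam r = 0 := by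
    have := congrArg lam h
    rwa [map_add, map_mul, lam_algebraMap lam hS, lam_algebraMap lam hS, map_zero] at this
  have h3 : algebraMap S R b * (r - lam r) = 0 := by linear_combination h - h2
  have hb : algebraMap S R b = 0 := by
    obtain ⟨w, hw⟩ := hr.exists_right_inv
    calc algebraMap S R b = algebraMap S R b * (r - lam r) * w := by rw [mul_assoc, hw, mul_one]
      _ = 0 := by rw [h3, zero_mul]
  have hb0 : b = 0 := hS.1 (by rw [hb, map_zero])
  have ha : algebraMap S R a = 0 := by rw [hb, zero_mul, add_zero] at h; exact h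
  exact ⟨hS.1 (by rw [ha, map_zero]), hb0⟩

/-- The basis `1, r`. -/
noncomputable def basisOfIsUnit (hlam : Function.Involutive lam) (hS : IsFixedRing S R lam) (r : R)
    (hr : IsUnit (r - lam r)) : Module.Basis (Fin 2) S R :=
  Module.Basis.mk (v := ![1, r]) (by
    rw [LinearIndependent.pair_iff]
    intro s t h
    apply indep_of_isUnit lam hS r hr s t
    simpa [Algebra.smul_def] using h) (by
    intro x _
    obtain ⟨a, b, hx⟩ := decomp_of_isUnit lam hlam hS r hr x
    rw [Submodule.mem_span_range_iff_exists_fun]
    refine ⟨![a, b], ?_⟩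
    rw [Fin.sum_univ_two, hx]
    simp [Algebra.smul_def])

theorem isQuadEtale_of_isUnit (hlam : Function.Involutive lam) (hS : IsFixedRing S R lam) (r : R)
    (hr : IsUnit (r - lam r)) : IsQuadEtale S R := by
  have B := basisOfIsUnit lam hlam hS r hr
  haveI : Module.Free S R := Module.Free.of_basis B
  haveI : Module.Finite S R := Module.Finite.of_basis B
  refine ⟨inferInstance, inferInstance, ⟨?_⟩, fun p => ?_⟩
  · -- Kaehler differentials vanish
    have hD : ∀ x : R, KaehlerDifferential.D S R x = 0 := by
      have hDr : KaehlerDifferential.D S R r = 0 := by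
        obtain ⟨t, ht⟩ := exists_of_fixed lam hS (tr_fixed lam hlam r)
        obtain ⟨n, hn⟩ := exists_of_fixed lam hS (nm_fixed lam hlam r)
        have hrr : r * r = algebraMap S R t * r - algebraMap S R n := by rw [ht, hn]; ring
        have h1 := congrArg (KaehlerDifferential.D S R) hrr
        rw [Derivation.leibniz, map_sub, Derivation.leibniz, Derivation.map_algebraMap,
          Derivation.map_algebraMap, smul_zero, add_zero, sub_zero] at h1
        have h2 : (r - lam r) • KaehlerDifferential.D S R r = 0 := by
          have : r - lam r = r + r - algebraMap S R t := by rw [ht]; ring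
          rw [this, sub_smul, add_smul, h1, sub_self]
        obtain ⟨w, hw⟩ := hr.exists_right_inv
        calc KaehlerDifferential.D S R r = (w * (r - lam r)) • KaehlerDifferential.D S R r := by
              rw [mul_comm, hw, one_smul]
          _ = 0 := by rw [mul_smul, h2, smul_zero]
      intro x
      obtain ⟨a, b, hx⟩ := decomp_of_isUnit lam hlam hS r hr x
      rw [hx, map_add, Derivation.leibniz, Derivation.map_algebraMap, Derivation.map_algebraMap,
        hDr, smul_zero, smul_zero, add_zero, add_zero]
    refine ⟨fun x y => ?_⟩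
    have hx : ∀ z : Ω[R⁄S], z = 0 := by
      intro z
      have hz : z ∈ Submodule.span R (Set.range (KaehlerDifferential.D S R)) := by
        rw [KaehlerDifferential.span_range_derivation]; trivial
      induction hz using Submodule.span_induction with
      | mem z hz => obtain ⟨x, rfl⟩ := hz; exact hD x
      | zero => rfl
      | add a b _ _ ha hb => rw [ha, hb, add_zero]
      | smul c a _ ha => rw [ha, smul_zero]
    rw [hx x, hx y]
  · haveI : Nontrivial S :=
      ⟨⟨0, 1, fun h => p.2.ne_top ((Ideal.eq_top_iff_one _).mpr (h ▸ p.asIdeal.zero_mem))⟩⟩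
    rw [Module.rankAtStalk_eq_finrank_of_free, Module.finrank_eq_card_basis B]
    simp

end Basic

section Local
variable {S : Type u} {R : Type v} [CommRing S] [CommRing R] [Algebra S R] (lam : R ≃+* R)

/-- A scalar that becomes a unit in `R` is a unit. -/
theorem isUnit_of_isUnit_algebraMap (hS : IsFixedRing S R lam) (s : S)
    (h : IsUnit (algebraMap S R s)) : IsUnit s := by
  obtain ⟨v, hv⟩ := h.exists_right_inv
  have hlv : lam v = v := by
    have h1 : algebraMap S R s * lam v = 1 := by
      have := congrArg lam hv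
      rwa [map_mul, lam_algebraMap lam hS, map_one] at this
    calc lam v = lam v * (algebraMap S R s * v) := by rw [hv, mul_one]
      _ = (algebraMap S R s * lam v) * v := by ring
      _ = v := by rw [h1, one_mul]
  obtain ⟨s', hs'⟩ := exists_of_fixed lam hS hlv
  refine IsUnit.of_mul_eq_one s' (hS.1 ?_)
  rw [map_mul, hs', hv, map_one]

variable [IsLocalRing S]

/-- The image of the maximal ideal lies in the Jacobson radical. -/
theorem algebraMap_mem_jacobson (hlam : Function.Involutive lam) (hS : IsFixedRing S R lam)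
    (s : S) (hs : s ∈ IsLocalRing.maximalIdeal S) : algebraMap S R s ∈ Ring.jacobson R := by
  rw [← Ideal.jacobson_bot, Ideal.mem_jacobson_bot]
  intro y
  obtain ⟨t, ht⟩ := exists_of_fixed lam hS (tr_fixed lam hlam y)
  obtain ⟨n, hn⟩ := exists_of_fixed lam hS (nm_fixed lam hlam y)
  have hN : (algebraMap S R s * y + 1) * (algebraMap S R s * lam y + 1) =
      algebraMap S R (s * (s * n + t) + 1) := by
    rw [map_add, map_mul, map_add, map_mul, map_one, hn, ht]; ring
  have hu : IsUnit (s * (s * n + t) + 1) := by
    have hmem : s * (s * n + t) ∈ IsLocalRing.maximalIdeal S := Ideal.mul_mem_right _ _ hs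
    have := IsLocalRing.isUnit_one_sub_self_of_mem_nonunits (- (s * (s * n + t)))
      (by rw [← IsLocalRing.mem_maximalIdeal]; exact neg_mem hmem)
    simpa [add_comm] using this
  have hu' : IsUnit ((algebraMap S R s * y + 1) * (algebraMap S R s * lam y + 1)) := by
    rw [hN]; exact hu.map _
  exact isUnit_of_mul_isUnit_left hu'

/-- A non-unit `x` has norm `x * lam x` in the Jacobson radical. -/
theorem mul_lam_mem_jacobson_of_not_isUnit (hlam : Function.Involutive lam)
    (hS : IsFixedRing S R lam) (x : R) (hx : ¬ IsUnit x) : x * lam x ∈ Ring.jacobson R := by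
  obtain ⟨n, hn⟩ := exists_of_fixed lam hS (nm_fixed lam hlam x)
  rw [← hn]
  apply algebraMap_mem_jacobson lam hlam hS
  rw [IsLocalRing.mem_maximalIdeal]
  intro hu
  apply hx
  have : IsUnit (x * lam x) := by rw [← hn]; exact hu.map _
  exact isUnit_of_mul_isUnit_left this

/-- An element `d` with `lam d = -d` is a unit or lies in the Jacobson radical. -/
theorem isUnit_or_mem_jacobson_of_anti (hlam : Function.Involutive lam)
    (hS : IsFixedRing S R lam) (d : R) (hd : lam d = - d) : IsUnit d ∨ d ∈ Ring.jacobson R := by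
  by_cases hu : IsUnit d
  · exact Or.inl hu
  · right
    have h1 := mul_lam_mem_jacobson_of_not_isUnit lam hlam hS d hu
    rw [hd] at h1
    have h2 : d ^ 2 ∈ Ring.jacobson R := by
      have : d ^ 2 = - (d * -d) := by ring
      rw [this]; exact neg_mem h1
    rw [← Ideal.jacobson_bot] at h2 ⊢
    exact (Ideal.isRadical_jacobson ⊥) ⟨2, h2⟩

end Local

section QuadEtale
variable {S : Type u} {R : Type v} [CommRing S] [CommRing R] [Algebra S R]

/-- change of basis: if the `0`-coordinate of `1` is a unit, `1, B 1` is a basis. -/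
theorem exists_basis_of_isUnit_repr (B : Module.Basis (Fin 2) S R) (hα : IsUnit (B.repr 1 0)) :
    ∃ B' : Module.Basis (Fin 2) S R, B' 0 = 1 := by
  have h1 : (1 : R) = B.repr 1 0 • B 0 + B.repr 1 1 • B 1 := by
    conv_lhs => rw [← B.sum_repr 1, Fin.sum_univ_two]
  have hli : LinearIndependent S ![1, B 1] := by
    rw [LinearIndependent.pair_iff]
    intro s t h
    have h0 := congrArg (fun x => B.repr x 0) h
    simp only [map_add, map_smul, Finsupp.add_apply, Finsupp.smul_apply, Module.Basis.repr_self,
      map_zero, Finsupp.zero_apply, smul_eq_mul] at h0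
    rw [Finsupp.single_apply, if_neg (by decide), mul_zero, add_zero] at h0
    have hs : s = 0 := by
      obtain ⟨w, hw⟩ := hα.exists_right_inv
      calc s = s * (B.repr 1 0 * w) := by rw [hw, mul_one]
        _ = 0 := by rw [← mul_assoc, h0, zero_mul]
    refine ⟨hs, ?_⟩
    rw [hs, zero_smul, zero_add] at h
    have h1' := congrArg (fun x => B.repr x 1) h
    simpa using h1'
  have hsp : ⊤ ≤ Submodule.span S (Set.range ![1, B 1]) := by
    intro x _
    have hB1 : B 1 ∈ Submodule.span S (Set.range ![1, B 1]) :=
      Submodule.subset_span ⟨1, by simp⟩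
    have h11 : (1 : R) ∈ Submodule.span S (Set.range ![1, B 1]) :=
      Submodule.subset_span ⟨0, by simp⟩
    have hB0 : B 0 ∈ Submodule.span S (Set.range ![(1 : R), B 1]) := by
      obtain ⟨w, hw⟩ := hα.exists_right_inv
      have : B 0 = w • ((1 : R) - B.repr 1 1 • B 1) := by
        have h2 : (1 : R) - B.repr 1 1 • B 1 = B.repr 1 0 • B 0 := by
          rw [sub_eq_iff_eq_add]; exact h1
        rw [h2, smul_smul, mul_comm, hw, one_smul]
      rw [this]
      exact Submodule.smul_mem _ _ (Submodule.sub_mem _ h11 (Submodule.smul_mem _ _ hB1))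
    have hx : x = B.repr x 0 • B 0 + B.repr x 1 • B 1 := by
      conv_lhs => rw [← B.sum_repr x, Fin.sum_univ_two]
    rw [hx]
    exact Submodule.add_mem _ (Submodule.smul_mem _ _ hB0) (Submodule.smul_mem _ _ hB1)
  exact ⟨Module.Basis.mk hli hsp, by rw [Module.Basis.mk_apply]; rfl⟩

variable [IsLocalRing S]

/-- Over a local ring, a quadratic etale algebra has a basis of the form `1, e`. -/
theorem exists_basis_one (hq : IsQuadEtale S R) : ∃ B : Module.Basis (Fin 2) S R, B 0 = 1 := by
  obtain ⟨hfin, hproj, hunr, hrank⟩ := hq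
  haveI : Module.Free S R := Module.free_of_flat_of_isLocalRing
  have h2 : Module.finrank S R = 2 := by
    have := hrank (IsLocalRing.closedPoint S)
    rw [Module.rankAtStalk_eq_finrank_of_free] at this
    simpa using this
  let B := Module.finBasisOfFinrankEq S R h2
  have h1 : (1 : R) = B.repr 1 0 • B 0 + B.repr 1 1 • B 1 := by
    conv_lhs => rw [← B.sum_repr 1, Fin.sum_univ_two]
  by_cases hα : IsUnit (B.repr 1 0)
  · exact exists_basis_of_isUnit_repr B hα
  · by_cases hβ : IsUnit (B.repr 1 1)
    · refine exists_basis_of_isUnit_repr (B.reindex (Equiv.swap 0 1)) ?_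
      simpa [Module.Basis.repr_reindex_apply] using hβ
    · exfalso
      have hαm : B.repr 1 0 ∈ IsLocalRing.maximalIdeal S := hα
      have hβm : B.repr 1 1 ∈ IsLocalRing.maximalIdeal S := hβ
      have h3 : B 0 = B.repr 1 0 • (B 0 * B 0) + B.repr 1 1 • (B 0 * B 1) := by
        conv_lhs => rw [← mul_one (B 0), h1]
        rw [mul_add, mul_smul_comm, mul_smul_comm]
      have h4 := congrArg (fun x => B.repr x 0) h3
      simp only [Module.Basis.repr_self, Finsupp.single_eq_same, map_add, map_smul, Finsupp.add_apply,
        Finsupp.smul_apply, smul_eq_mul] at h4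
      have : (1 : S) ∈ IsLocalRing.maximalIdeal S := by
        rw [h4]
        exact add_mem (Ideal.mul_mem_right _ _ hαm) (Ideal.mul_mem_right _ _ hβm)
      exact (IsLocalRing.maximalIdeal.isMaximal S).ne_top ((Ideal.eq_top_iff_one _).mpr this)

omit [IsLocalRing S] in
/-- For a basis `1, e` of a formally unramified algebra with `e * e = n + c e`, `2 e - c` is a unit. -/
theorem isUnit_two_mul_sub (hunr : Algebra.FormallyUnramified S R) (B : Module.Basis (Fin 2) S R)
    (hB0 : B 0 = 1) : IsUnit (2 * B 1 - algebraMap S R (B.repr (B 1 * B 1) 1)) := by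
  set e := B 1 with he
  set c := B.repr (e * e) 1 with hc
  set n := B.repr (e * e) 0 with hn
  have hx : ∀ x : R, x = algebraMap S R (B.repr x 0) + algebraMap S R (B.repr x 1) * e := by
    intro x
    conv_lhs => rw [← B.sum_repr x, Fin.sum_univ_two, hB0]
    rw [Algebra.smul_def, Algebra.smul_def, mul_one]
  have hee : e * e = algebraMap S R n + algebraMap S R c * e := hx (e * e)
  have hq : ∀ a b : S, B.repr (algebraMap S R a + algebraMap S R b * e) 1 = b := by
    intro a b
    have : algebraMap S R a + algebraMap S R b * e = a • B 0 + b • B 1 := by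
      rw [hB0, Algebra.smul_def, Algebra.smul_def, mul_one]
    rw [this]
    simp
  by_contra hnu
  obtain ⟨M, hM, hmem⟩ := exists_max_ideal_of_mem_nonunits hnu
  -- the derivation
  let D₀ : R →ₗ[S] R ⧸ M :=
    (Ideal.Quotient.mkₐ S M).toLinearMap ∘ₗ (Algebra.linearMap S R) ∘ₗ (B.coord 1)
  have hD₀ : ∀ x, D₀ x = Ideal.Quotient.mk M (algebraMap S R (B.repr x 1)) := fun x => rfl
  have hleib : ∀ a b : R, D₀ (a * b) = a • D₀ b + b • D₀ a := by
    intro a b
    obtain ⟨a0, a1, rfl⟩ : ∃ a0 a1 : S, a = algebraMap S R a0 + algebraMap S R a1 * e :=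
      ⟨_, _, hx a⟩
    obtain ⟨b0, b1, rfl⟩ : ∃ b0 b1 : S, b = algebraMap S R b0 + algebraMap S R b1 * e :=
      ⟨_, _, hx b⟩
    have hab : (algebraMap S R a0 + algebraMap S R a1 * e) *
        (algebraMap S R b0 + algebraMap S R b1 * e) =
        algebraMap S R (a0 * b0 + a1 * b1 * n) +
        algebraMap S R (a0 * b1 + a1 * b0 + a1 * b1 * c) * e := by
      simp only [map_add, map_mul]
      linear_combination (algebraMap S R a1 * algebraMap S R b1) * hee
    rw [hD₀, hD₀, hD₀, hab, hq, hq, hq]
    rw [Algebra.smul_def, Algebra.smul_def, Ideal.Quotient.algebraMap_eq, ← map_mul, ← map_mul,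
      ← map_add, Ideal.Quotient.eq]
    have : algebraMap S R (a0 * b1 + a1 * b0 + a1 * b1 * c) -
        ((algebraMap S R a0 + algebraMap S R a1 * e) * algebraMap S R b1 +
          (algebraMap S R b0 + algebraMap S R b1 * e) * algebraMap S R a1) =
        - (algebraMap S R a1 * algebraMap S R b1) * (2 * e - algebraMap S R c) := by
      simp only [map_add, map_mul]
      ring
    rw [this]
    exact Ideal.mul_mem_left _ _ hmem
  let D : Derivation S R (R ⧸ M) := Derivation.mk' D₀ hleib
  have hDe : D e = 1 := by
    show D₀ e = 1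
    rw [hD₀, he, Module.Basis.repr_self]
    simp
  have hzero : D e = 0 := by
    rw [← Derivation.liftKaehlerDifferential_comp_D D e, Subsingleton.elim (KaehlerDifferential.D S R e) 0,
      map_zero]
  rw [hDe] at hzero
  have : (1 : R) ∈ M := by
    rw [← Ideal.Quotient.eq_zero_iff_mem, map_one]; exact hzero
  exact hM.ne_top ((Ideal.eq_top_iff_one _).mpr this)

/-- Over a local fixed ring, a quadratic etale algebra with involution has `r - lam r` a unit. -/
theorem exists_isUnit_sub_of_isQuadEtale (lam : R ≃+* R) (hlam : Function.Involutive lam)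
    (hS : IsFixedRing S R lam) (hq : IsQuadEtale S R) : ∃ r : R, IsUnit (r - lam r) := by
  obtain ⟨B, hB0⟩ := exists_basis_one hq
  have hu := isUnit_two_mul_sub hq.2.2.1 B hB0
  refine ⟨B 1, ?_⟩
  obtain ⟨t, ht⟩ := exists_of_fixed lam hS (tr_fixed lam hlam (B 1))
  obtain ⟨n, hn⟩ := exists_of_fixed lam hS (nm_fixed lam hlam (B 1))
  have hee : B 1 * B 1 = (-n) • B 0 + t • B 1 := by
    rw [hB0, Algebra.smul_def, Algebra.smul_def, mul_one, map_neg, ht, hn]; ring
  have hc : B.repr (B 1 * B 1) 1 = t := by
    rw [hee]; simp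
  rw [hc, ht] at hu
  convert hu using 1
  ring

end QuadEtale

section Local2
variable {S : Type u} {R : Type v} [CommRing S] [CommRing R] [Algebra S R] (lam : R ≃+* R)
  [IsLocalRing S]

theorem not_isUnit_of_mem_jacobson [Nontrivial R] (x : R) (hx : x ∈ Ring.jacobson R) : ¬ IsUnit x := by
  intro hu
  have : Ring.jacobson R = ⊤ := Ideal.eq_top_of_isUnit_mem _ hx hu
  rw [← Ideal.jacobson_bot, Ideal.jacobson_eq_top_iff] at this
  exact bot_ne_top this

theorem isLocalRing_of_forall_mem_jacobson (hlam : Function.Involutive lam)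
    (hS : IsFixedRing S R lam) (h : ∀ r : R, lam r - r ∈ Ring.jacobson R) : IsLocalRing R := by
  haveI : Nontrivial R := hS.1.nontrivial
  have key : ∀ a : R, ¬ IsUnit a → a ∈ Ring.jacobson R := by
    intro a ha
    have h1 := mul_lam_mem_jacobson_of_not_isUnit lam hlam hS a ha
    have h2 : a ^ 2 ∈ Ring.jacobson R := by
      have : a ^ 2 = a * lam a - a * (lam a - a) := by ring
      rw [this]
      exact sub_mem h1 (Ideal.mul_mem_left _ _ (h a))
    rw [← Ideal.jacobson_bot] at h2 ⊢
    exact (Ideal.isRadical_jacobson ⊥) ⟨2, h2⟩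
  refine IsLocalRing.of_nonunits_add (fun a b ha hb => ?_)
  exact not_isUnit_of_mem_jacobson _ (add_mem (key a ha) (key b hb))

theorem not_isQuadEtale_of_forall_mem_jacobson (hlam : Function.Involutive lam)
    (hS : IsFixedRing S R lam) (h : ∀ r : R, lam r - r ∈ Ring.jacobson R) : ¬ IsQuadEtale S R := by
  haveI : Nontrivial R := hS.1.nontrivial
  intro hq
  obtain ⟨r, hr⟩ := exists_isUnit_sub_of_isQuadEtale lam hlam hS hq
  refine not_isUnit_of_mem_jacobson (r - lam r) ?_ hr
  have : r - lam r = - (lam r - r) := by ring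
  rw [this]
  exact neg_mem (h r)

end Local2

end Groth.Agent.H77
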