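-- helper77: (ε, lam)-hermitian matrices over a ring with involution — congruence toolkit
import Groth.Agent.H77.RInv
import Mathlib

set_option autoImplicit false
set_option linter.style.haveILetI false
universe u v w

namespace Groth.Agent.H77.Herm

open RInv Matrix

section Basic
variable {A : Type v} [CommRing A] (lam : A ≃+* A) {ι : Type w} [Fintype ι] [DecidableEq ι]

/-- conjugate transpose -/
def ct (v : Matrix ι ι A) : Matrix ι ι A := (v.map lam)ᵀ

theorem ct_apply (v : Matrix ι ι A) (a b : ι) : ct lam v a b = lam (v b a) := rfl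

theorem ct_one : ct lam (1 : Matrix ι ι A) = 1 := by
  ext a b
  rw [ct_apply, Matrix.one_apply, Matrix.one_apply]
  by_cases h : a = b
  · rw [if_pos h, if_pos h.symm, map_one]
  · rw [if_neg h, if_neg (Ne.symm h), map_zero]

theorem ct_add (v w : Matrix ι ι A) : ct lam (v + w) = ct lam v + ct lam w := by
  ext a b
  simp only [ct_apply, Matrix.add_apply, map_add]

theorem ct_mul (v w : Matrix ι ι A) : ct lam (v * w) = ct lam w * ct lam v := by
  ext a b
  simp only [ct_apply, Matrix.mul_apply, map_sum, map_mul]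
  exact Finset.sum_congr rfl (fun k _ => mul_comm _ _)

theorem ct_ct (hlam : Function.Involutive lam) (v : Matrix ι ι A) : ct lam (ct lam v) = v := by
  ext a b
  simp only [ct_apply]
  exact hlam _

theorem isUnit_ct {v : Matrix ι ι A} (hv : IsUnit v) : IsUnit (ct lam v) := by
  obtain ⟨w, hw⟩ := hv.exists_right_inv
  have : ct lam w * ct lam v = 1 := by rw [← ct_mul, hw, ct_one]
  exact (Matrix.isUnit_iff_isUnit_det _).2 (Matrix.isUnit_det_of_left_inverse this)

/-- congruence of matrices w.r.t. the involution -/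
def Cong (G G' : Matrix ι ι A) : Prop := ∃ w : Matrix ι ι A, IsUnit w ∧ G' = ct lam w * G * w

theorem Cong.refl (G : Matrix ι ι A) : Cong lam G G :=
  ⟨1, isUnit_one, by rw [ct_one, Matrix.one_mul, Matrix.mul_one]⟩

theorem Cong.trans {G G' G'' : Matrix ι ι A} (h1 : Cong lam G G') (h2 : Cong lam G' G'') :
    Cong lam G G'' := by
  obtain ⟨w1, hw1, rfl⟩ := h1
  obtain ⟨w2, hw2, rfl⟩ := h2
  refine ⟨w1 * w2, hw1.mul hw2, ?_⟩
  rw [ct_mul]; simp only [Matrix.mul_assoc]

theorem Cong.isUnit {G G' : Matrix ι ι A} (h : Cong lam G G') (hG : IsUnit G) : IsUnit G' := by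
  obtain ⟨w, hw, rfl⟩ := h
  exact ((isUnit_ct lam hw).mul hG).mul hw

/-- `(ε, lam)`-hermitian -/
def IsHerm (ε : A) (G : Matrix ι ι A) : Prop := ε • ct lam G = G

theorem Cong.herm (hlam : Function.Involutive lam) {ε : A} {G G' : Matrix ι ι A}
    (h : Cong lam G G') (hG : IsHerm lam ε G) : IsHerm lam ε G' := by
  obtain ⟨w, hw, rfl⟩ := h
  unfold IsHerm at *
  rw [ct_mul, ct_mul, ct_ct lam hlam, ← Matrix.mul_assoc]
  conv_rhs => rw [← hG]
  simp only [Matrix.mul_smul, Matrix.smul_mul]

theorem IsHerm.apply {ε : A} {G : Matrix ι ι A} (hG : IsHerm lam ε G) (a b : ι) :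
    G a b = ε * lam (G b a) := by
  have := congrFun (congrFun hG a) b
  rw [Matrix.smul_apply, ct_apply, smul_eq_mul] at this
  exact this.symm

theorem IsHerm.diag {ε : A} (hε : ε = 1 ∨ ε = -1) {G : Matrix ι ι A} (hG : IsHerm lam ε G) (i : ι) :
    lam (G i i) = ε * G i i := by
  have h := hG.apply lam i i
  have hee : ε * ε = 1 := by rcases hε with rfl | rfl <;> ring
  calc lam (G i i) = (ε * ε) * lam (G i i) := by rw [hee, one_mul]
    _ = ε * (ε * lam (G i i)) := by ring
    _ = ε * G i i := by rw [← h]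

/-- the rank one nilpotent with row `r` equal to `c` -/
def N (r : ι) (c : ι → A) : Matrix ι ι A := Matrix.of fun a b => if a = r then c b else 0

/-- elementary matrix `1 + e_r cᵀ` -/
def U (r : ι) (c : ι → A) : Matrix ι ι A := 1 + N r c

theorem N_apply (r : ι) (c : ι → A) (a b : ι) : N r c a b = if a = r then c b else 0 := rfl

theorem mul_N (X : Matrix ι ι A) (r : ι) (c : ι → A) (a b : ι) :
    (X * N r c) a b = X a r * c b := by
  rw [Matrix.mul_apply, Finset.sum_eq_single r]
  · rw [N_apply, if_pos rfl]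
  · intro k _ hk; rw [N_apply, if_neg hk, mul_zero]
  · intro h; exact absurd (Finset.mem_univ r) h

theorem ctN_mul (X : Matrix ι ι A) (r : ι) (c : ι → A) (a b : ι) :
    (ct lam (N r c) * X) a b = lam (c a) * X r b := by
  rw [Matrix.mul_apply, Finset.sum_eq_single r]
  · rw [ct_apply, N_apply, if_pos rfl]
  · intro k _ hk; rw [ct_apply, N_apply, if_neg hk, map_zero, zero_mul]
  · intro h; exact absurd (Finset.mem_univ r) h

theorem mul_U (X : Matrix ι ι A) (r : ι) (c : ι → A) (a b : ι) :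
    (X * U r c) a b = X a b + X a r * c b := by
  rw [U, Matrix.mul_add, Matrix.mul_one, Matrix.add_apply, mul_N]

theorem congU (G : Matrix ι ι A) (r : ι) (c : ι → A) (a b : ι) :
    (ct lam (U r c) * G * U r c) a b =
      G a b + G a r * c b + lam (c a) * (G r b + G r r * c b) := by
  have h1 : ct lam (U r c) = 1 + ct lam (N r c) := by rw [U, ct_add, ct_one]
  rw [Matrix.mul_assoc, h1, Matrix.add_mul, Matrix.one_mul, Matrix.add_apply, ctN_mul, mul_U,
    mul_U]

theorem isUnit_U (r : ι) (c : ι → A) (hc : c r = 0) : IsUnit (U r c) := by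
  have : U r c * U r (fun b => - c b) = 1 := by
    ext a b
    rw [mul_U]
    simp only [U, Matrix.add_apply, N_apply, Matrix.one_apply]
    by_cases har : a = r
    · simp only [if_pos har, hc]; ring
    · simp only [if_neg har]; ring
  exact (Matrix.isUnit_iff_isUnit_det _).2 (Matrix.isUnit_det_of_right_inverse this)

theorem cong_U (G : Matrix ι ι A) (r : ι) (c : ι → A) (hc : c r = 0) :
    Cong lam G (ct lam (U r c) * G * U r c) := ⟨U r c, isUnit_U r c hc, rfl⟩

theorem jac_lam (x : A) (hx : x ∈ Ring.jacobson A) : lam x ∈ Ring.jacobson A := by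
  rw [← Ideal.jacobson_bot, Ideal.mem_jacobson_bot] at hx ⊢
  intro y
  have := (hx (lam.symm y)).map lam
  rwa [map_add, map_mul, map_one, RingEquiv.apply_symm_apply] at this

omit [Fintype ι] [DecidableEq ι] in
theorem isUnit_add_jac {u x : A} (hu : IsUnit u) (hx : x ∈ Ring.jacobson A) : IsUnit (u + x) := by
  rw [← Ideal.jacobson_bot, Ideal.mem_jacobson_bot] at hx
  obtain ⟨ui, hui⟩ := hu.exists_right_inv
  have h1 := hx ui
  have : u + x = u * (x * ui + 1) := by
    calc u + x = u + x * (u * ui) := by rw [hui, mul_one]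
      _ = u * (x * ui + 1) := by ring
  rw [this]; exact hu.mul h1

theorem isUnit_add_nonunit [IsLocalRing A] {u x : A} (hu : IsUnit u) (hx : ¬ IsUnit x) :
    IsUnit (u + x) := by
  by_contra h
  have hnx : ¬ IsUnit (-x) := fun h' => hx (by simpa using h'.neg)
  have := IsLocalRing.nonunits_add (show u + x ∈ nonunits A from h)
    (show -x ∈ nonunits A from hnx)
  rw [add_neg_cancel_right] at this
  exact this hu

theorem sum_unit_local [IsLocalRing A] {s : Finset ι} {f : ι → A}
    (h : IsUnit (∑ j ∈ s, f j)) : ∃ j ∈ s, IsUnit (f j) := by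
  by_contra hcon
  push Not at hcon
  have : ∑ j ∈ s, f j ∈ IsLocalRing.maximalIdeal A :=
    Ideal.sum_mem _ (fun j hj => (IsLocalRing.mem_maximalIdeal _).2 (hcon j hj))
  exact (IsLocalRing.mem_maximalIdeal _).1 this h

/-- the invariant: rows and columns indexed by `S` vanish off the diagonal -/
def Inv (S : Finset ι) (G : Matrix ι ι A) : Prop :=
  ∀ a b, a ≠ b → (a ∈ S ∨ b ∈ S) → G a b = 0

theorem inv_empty (G : Matrix ι ι A) : Inv (∅ : Finset ι) G := by
  intro a b _ h
  rcases h with h | h <;> exact absurd h (Finset.notMem_empty _)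

theorem Inv.mono {S S' : Finset ι} (h : S ⊆ S') {G : Matrix ι ι A} (hI : Inv S' G) : Inv S G :=
  fun a b hab hS => hI a b hab (hS.imp (fun x => h x) (fun x => h x))

theorem Inv.diag {G : Matrix ι ι A} (hI : Inv (Finset.univ : Finset ι) G) :
    G = Matrix.diagonal (fun i => G i i) := by
  ext a b
  by_cases hab : a = b
  · rw [hab, Matrix.diagonal_apply_eq]
  · rw [Matrix.diagonal_apply_ne _ hab]
    exact hI a b hab (Or.inl (Finset.mem_univ a))

theorem inv_congU {S : Finset ι} {G : Matrix ι ι A} (hI : Inv S G) {r : ι} (hr : r ∉ S)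
    {c : ι → A} (hc : ∀ s ∈ S, c s = 0) : Inv S (ct lam (U r c) * G * U r c) := by
  intro a b hab hS
  rw [congU]
  rcases hS with ha | hb
  · have har : a ≠ r := by rintro rfl; exact hr ha
    rw [hI a b hab (Or.inl ha), hI a r har (Or.inl ha), hc a ha, map_zero]; ring
  · have hrb : r ≠ b := by rintro rfl; exact hr hb
    rw [hI a b hab (Or.inr hb), hc b hb, hI r b hrb (Or.inr hb)]; ring

/-- clearing row and column `r` using a unit diagonal entry -/
theorem update (hlam : Function.Involutive lam) {ε : A} {G : Matrix ι ι A}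
    (hG : IsHerm lam ε G) {S : Finset ι} (hI : Inv S G) {r : ι} (hr : r ∉ S) (ui : A)
    (hui : G r r * ui = 1) :
    ∃ G', Cong lam G G' ∧ Inv (insert r S) G' ∧
      (∀ a b, b ≠ r → G' a b = G a b - ui * G a r * G r b) ∧ G' r r = G r r := by
  obtain ⟨c, hcdef⟩ : ∃ c : ι → A, ∀ b, c b = if b = r then 0 else -(ui * G r b) :=
    ⟨_, fun _ => rfl⟩
  have hcr : c r = 0 := by rw [hcdef, if_pos rfl]
  have hcS : ∀ s ∈ S, c s = 0 := by
    intro s hs
    have hsr : s ≠ r := by rintro rfl; exact hr hs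
    rw [hcdef, if_neg hsr, hI r s (Ne.symm hsr) (Or.inr hs), mul_zero, neg_zero]
  have hcong : Cong lam G (ct lam (U r c) * G * U r c) := cong_U lam G r c hcr
  have hform : ∀ a b, b ≠ r →
      (ct lam (U r c) * G * U r c) a b = G a b - ui * G a r * G r b := by
    intro a b hb
    rw [congU]
    have hcb : c b = -(ui * G r b) := by rw [hcdef, if_neg hb]
    have h0 : G r b + G r r * c b = 0 := by
      rw [hcb]
      calc G r b + G r r * -(ui * G r b) = G r b - (G r r * ui) * G r b := by ring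
        _ = 0 := by rw [hui]; ring
    rw [h0, mul_zero, add_zero, hcb]; ring
  have hG' := hcong.herm lam hlam hG
  refine ⟨_, hcong, ?_, hform, ?_⟩
  · have hIS := inv_congU lam hI hr hcS
    have hrow : ∀ b, b ≠ r → (ct lam (U r c) * G * U r c) r b = 0 := by
      intro b hb
      rw [hform r b hb]
      calc G r b - ui * G r r * G r b = G r b - (G r r * ui) * G r b := by ring
        _ = 0 := by rw [hui]; ring
    intro a b hab hS
    by_cases har : a = r
    · rw [har]; exact hrow b (fun h => hab (har.trans h.symm))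
    · by_cases hbr : b = r
      · rw [hbr, hG'.apply lam a r, hrow a har, map_zero, mul_zero]
      · apply hIS a b hab
        rcases hS with h | h
        · left; exact (Finset.mem_insert.1 h).resolve_left har
        · right; exact (Finset.mem_insert.1 h).resolve_left hbr
  · rw [congU, hcr, map_zero]; ring

theorem row_sum {G : Matrix ι ι A} (hG : IsUnit G) :
    ∃ Y : Matrix ι ι A, ∀ i, ∑ j, G i j * Y j i = 1 := by
  obtain ⟨Y, hY⟩ := hG.exists_right_inv
  refine ⟨Y, fun i => ?_⟩
  have := congrFun (congrFun hY i) i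
  rwa [Matrix.mul_apply, Matrix.one_apply_eq] at this

end Basic

section Fixed
variable {B : Type u} {A : Type v} [CommRing B] [CommRing A] [Algebra B A] (lam : A ≃+* A)
  {ι : Type w} [Fintype ι] [DecidableEq ι] [IsLocalRing B]

omit [Fintype ι] [DecidableEq ι] in
/-- dichotomy: an `ε`-symmetric element is a unit or lies in the Jacobson radical. -/
theorem dich (hlam : Function.Involutive lam) (hB : IsFixedRing B A lam) {ε : A}
    (hε : ε = 1 ∨ ε = -1) (x : A) (hx : lam x = ε * x) : IsUnit x ∨ x ∈ Ring.jacobson A := by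
  rcases hε with rfl | rfl
  · rw [one_mul] at hx
    obtain ⟨b, rfl⟩ := exists_of_fixed lam hB hx
    by_cases hb : IsUnit b
    · exact Or.inl (hb.map _)
    · exact Or.inr (algebraMap_mem_jacobson lam hlam hB b
        ((IsLocalRing.mem_maximalIdeal b).2 hb))
  · rw [neg_one_mul] at hx
    exact isUnit_or_mem_jacobson_of_anti lam hlam hB x hx

/-- In the non-local cases one can always produce a unit diagonal entry outside `S`. -/
theorem fix (hlam : Function.Involutive lam) (hB : IsFixedRing B A lam) {ε : A}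
    (hε : ε = 1 ∨ ε = -1)
    (hcase : (∃ a : A, lam a - a ∉ Ring.jacobson A) ∨ ε + 1 ∉ Ring.jacobson A)
    {G : Matrix ι ι A} (hG : IsHerm lam ε G) (hGu : IsUnit G) {S : Finset ι} (hI : Inv S G)
    (i : ι) (hi : i ∉ S) :
    ∃ G', Cong lam G G' ∧ Inv S G' ∧ ∃ i', i' ∉ S ∧ IsUnit (G' i' i') := by
  classical
  by_cases h1 : ∃ j, j ∉ S ∧ IsUnit (G j j)
  · obtain ⟨j, hj, hju⟩ := h1
    exact ⟨G, Cong.refl lam G, hI, j, hj, hju⟩
  have hdiag : ∀ j, j ∉ S → G j j ∈ Ring.jacobson A := by
    intro j hj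
    rcases dich lam hlam hB hε (G j j) (hG.diag lam hε j) with h | h
    · exact absurd ⟨j, hj, h⟩ h1
    · exact h
  have hεε : ε * ε = 1 := by rcases hε with rfl | rfl <;> ring
  have hlε : lam ε = ε := by
    rcases hε with rfl | rfl
    · exact map_one lam
    · rw [map_neg, map_one]
  have hT : ∀ c : A, IsUnit (c + ε * lam c) ∨ c + ε * lam c ∈ Ring.jacobson A := by
    intro c
    apply dich lam hlam hB hε
    rw [map_add, map_mul, hlε, hlam c]
    calc lam c + ε * c = (ε * ε) * lam c + ε * c := by rw [hεε, one_mul]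
      _ = ε * (c + ε * lam c) := by ring
  by_cases h2 : ∃ j, j ∉ S ∧ j ≠ i ∧ ∃ a : A, IsUnit (a * G i j + ε * lam (a * G i j))
  · obtain ⟨j, hjS, hji, a, hau⟩ := h2
    obtain ⟨c, hc⟩ : ∃ c : ι → A, ∀ b, c b = if b = i then a else 0 := ⟨_, fun _ => rfl⟩
    have hcj : c j = 0 := by rw [hc, if_neg hji]
    have hcS : ∀ s ∈ S, c s = 0 := by
      intro s hs
      rw [hc, if_neg]
      rintro rfl; exact hi hs
    refine ⟨ct lam (U j c) * G * U j c, cong_U lam G j c hcj, inv_congU lam hI hjS hcS, i, hi, ?_⟩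
    rw [congU, hc i, if_pos rfl]
    have hji' : G j i = ε * lam (G i j) := hG.apply lam j i
    have : G i i + G i j * a + lam a * (G j i + G j j * a) =
        (a * G i j + ε * lam (a * G i j)) + (G i i + lam a * a * G j j) := by
      rw [hji', map_mul]; ring
    rw [this]
    exact isUnit_add_jac hau (add_mem (hdiag i hi) (Ideal.mul_mem_left _ _ (hdiag j hjS)))
  · exfalso
    push Not at h2
    have hTJ : ∀ j, ∀ a : A, a * G i j + ε * lam (a * G i j) ∈ Ring.jacobson A := by
      intro j a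
      by_cases hjS : j ∈ S
      · have hij : i ≠ j := by rintro rfl; exact hi hjS
        rw [hI i j hij (Or.inr hjS), mul_zero, map_zero, mul_zero, add_zero]
        exact zero_mem _
      · by_cases hji : j = i
        · rw [hji]
          have h3 : a * G i i ∈ Ring.jacobson A := Ideal.mul_mem_left _ _ (hdiag i hi)
          exact add_mem h3 (Ideal.mul_mem_left _ _ (jac_lam lam _ h3))
        · rcases hT (a * G i j) with h | h
          · exact absurd h (h2 j hjS hji a)
          · exact h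
    obtain ⟨Y, hY⟩ := row_sum hGu
    have hTall : ∀ a : A, a + ε * lam a ∈ Ring.jacobson A := by
      intro a
      have ha : a = ∑ j, (a * Y j i) * G i j := by
        calc a = a * ∑ j, G i j * Y j i := by rw [hY i, mul_one]
          _ = ∑ j, (a * Y j i) * G i j := by
            rw [Finset.mul_sum]; exact Finset.sum_congr rfl (fun j _ => by ring)
      have : a + ε * lam a =
          ∑ j, ((a * Y j i) * G i j + ε * lam ((a * Y j i) * G i j)) := by
        rw [Finset.sum_add_distrib, ← Finset.mul_sum, ← map_sum lam, ← ha]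
      rw [this]
      exact Ideal.sum_mem _ (fun j _ => hTJ j (a * Y j i))
    have h1ε : ε + 1 ∈ Ring.jacobson A := by
      have := hTall 1
      rwa [map_one, mul_one, add_comm] at this
    rcases hcase with ⟨a, ha⟩ | h
    · apply ha
      have h4 : (ε + 1) * lam a ∈ Ring.jacobson A := Ideal.mul_mem_right _ _ h1ε
      have h5 := hTall a
      have : lam a - a = (ε + 1) * lam a - (a + ε * lam a) := by ring
      rw [this]; exact sub_mem h4 h5
    · exact h h1ε

/-- step in the non-local cases -/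
theorem nlStep (hlam : Function.Involutive lam) (hB : IsFixedRing B A lam) {ε : A}
    (hε : ε = 1 ∨ ε = -1)
    (hcase : (∃ a : A, lam a - a ∉ Ring.jacobson A) ∨ ε + 1 ∉ Ring.jacobson A)
    {G : Matrix ι ι A} (hG : IsHerm lam ε G) (hGu : IsUnit G) {S : Finset ι} (hI : Inv S G)
    {r : ι} (hr : r ∉ S) (hu : IsUnit (G r r)) :
    ∃ G' S', Cong lam G G' ∧ S ⊂ S' ∧ Inv S' G' ∧
      (S' = Finset.univ ∨ ∃ i, i ∉ S' ∧ IsUnit (G' i i)) := by
  obtain ⟨ui, hui⟩ := hu.exists_right_inv
  obtain ⟨G1, hc1, hI1, -, -⟩ := update lam hlam hG hI hr ui hui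
  by_cases hfull : insert r S = Finset.univ
  · exact ⟨G1, insert r S, hc1, Finset.ssubset_insert hr, hI1, Or.inl hfull⟩
  obtain ⟨j1, hj1⟩ : ∃ j1, j1 ∉ insert r S := by
    by_contra hcon; push Not at hcon
    exact hfull (Finset.eq_univ_iff_forall.2 hcon)
  obtain ⟨G2, hc2, hI2, i', hi', hi'u⟩ := fix lam hlam hB hε hcase (hc1.herm lam hlam hG)
    (hc1.isUnit lam hGu) hI1 j1 hj1
  exact ⟨G2, insert r S, hc1.trans lam hc2, Finset.ssubset_insert hr, hI2,
    Or.inr ⟨i', hi', hi'u⟩⟩

end Fixed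

section LocalCase
variable {A : Type v} [CommRing A] (lam : A ≃+* A) {ι : Type w} [Fintype ι] [DecidableEq ι]

/-- step when `A` is local -/
theorem locStep [IsLocalRing A] (hlam : Function.Involutive lam) {ε : A}
    (hε : ε = 1 ∨ ε = -1)
    {G : Matrix ι ι A} (hG : IsHerm lam ε G) (hGu : IsUnit G) {S : Finset ι} (hI : Inv S G)
    {r : ι} (hr : r ∉ S) (hu : IsUnit (G r r)) :
    ∃ G' S', Cong lam G G' ∧ S ⊂ S' ∧ Inv S' G' ∧
      (S' = Finset.univ ∨ ∃ i, i ∉ S' ∧ IsUnit (G' i i)) := by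
  obtain ⟨ui, hui⟩ := hu.exists_right_inv
  obtain ⟨G1, hc1, hI1, hf1, hrr1⟩ := update lam hlam hG hI hr ui hui
  have hG1 := hc1.herm lam hlam hG
  have hG1u := hc1.isUnit lam hGu
  have hSS1 : S ⊂ insert r S := Finset.ssubset_insert hr
  by_cases hfull : insert r S = Finset.univ
  · exact ⟨G1, insert r S, hc1, hSS1, hI1, Or.inl hfull⟩
  by_cases hex : ∃ j, j ∉ insert r S ∧ IsUnit (G1 j j)
  · exact ⟨G1, insert r S, hc1, hSS1, hI1, Or.inr hex⟩
  push Not at hex
  obtain ⟨j1, hj1⟩ : ∃ j1, j1 ∉ insert r S := by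
    by_contra hcon; push Not at hcon
    exact hfull (Finset.eq_univ_iff_forall.2 hcon)
  have hrS1 : r ∈ insert r S := Finset.mem_insert_self r S
  have hj1r : j1 ≠ r := by rintro rfl; exact hj1 hrS1
  have hj1S : j1 ∉ S := fun h => hj1 (Finset.mem_insert_of_mem h)
  obtain ⟨Y, hY⟩ := row_sum hG1u
  obtain ⟨j2, -, hj2u⟩ := sum_unit_local (s := Finset.univ)
    (f := fun j => G1 j1 j * Y j j1) (by rw [hY j1]; exact isUnit_one)
  have hj2u' : IsUnit (G1 j1 j2) := isUnit_of_mul_isUnit_left hj2u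
  have hj21 : j2 ≠ j1 := by rintro rfl; exact hex j2 hj1 hj2u'
  have hj2 : j2 ∉ insert r S := by
    intro h
    have := hI1 j1 j2 (Ne.symm hj21) (Or.inr h)
    rw [this] at hj2u'
    exact not_isUnit_zero hj2u'
  have hj2r : j2 ≠ r := by rintro rfl; exact hj2 hrS1
  have hj2S : j2 ∉ S := fun h => hj2 (Finset.mem_insert_of_mem h)
  obtain ⟨c, hc⟩ : ∃ c : ι → A, ∀ b, c b = if b = j1 then 1 else 0 := ⟨_, fun _ => rfl⟩
  have hcr : c r = 0 := by rw [hc, if_neg (Ne.symm hj1r)]
  have hcS : ∀ s ∈ S, c s = 0 := by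
    intro s hs
    rw [hc, if_neg]
    rintro rfl; exact hj1S hs
  obtain ⟨G2, hG2def⟩ : ∃ G2, G2 = ct lam (U r c) * G1 * U r c := ⟨_, rfl⟩
  have hc2 : Cong lam G1 G2 := by rw [hG2def]; exact cong_U lam G1 r c hcr
  have hI2 : Inv S G2 := by
    rw [hG2def]; exact inv_congU lam (hI1.mono (Finset.subset_insert r S)) hr hcS
  have hG2 := hc2.herm lam hlam hG1
  have e11 : G2 j1 j1 = G1 j1 j1 + G r r := by
    rw [hG2def, congU, hc j1, if_pos rfl, map_one, hI1 j1 r hj1r (Or.inr hrS1),
      hI1 r j1 (Ne.symm hj1r) (Or.inl hrS1), hrr1]; ring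
  have e12 : G2 j1 j2 = G1 j1 j2 := by
    rw [hG2def, congU, hc j2, if_neg hj21, hc j1, if_pos rfl,
      hI1 r j2 (Ne.symm hj2r) (Or.inl hrS1)]; ring
  have e22 : G2 j2 j2 = G1 j2 j2 := by
    rw [hG2def, congU, hc j2, if_neg hj21, map_zero]; ring
  have hw : IsUnit (G2 j1 j1) := by
    rw [e11, add_comm]; exact isUnit_add_nonunit hu (hex j1 hj1)
  obtain ⟨wi, hwi⟩ := hw.exists_right_inv
  obtain ⟨G3, hc3, hI3, hf3, -⟩ := update lam hlam hG2 hI2 hj1S wi hwi
  refine ⟨G3, insert j1 S, (hc1.trans lam hc2).trans lam hc3, Finset.ssubset_insert hj1S, hI3,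
    Or.inr ⟨j2, ?_, ?_⟩⟩
  · intro h
    rcases Finset.mem_insert.1 h with h | h
    · exact hj21 h
    · exact hj2S h
  · rw [hf3 j2 j2 hj21, e22]
    have h21 : G2 j2 j1 = ε * lam (G2 j1 j2) := hG2.apply lam j2 j1
    have hεu : IsUnit ε := by
      rcases hε with rfl | rfl
      · exact isUnit_one
      · exact isUnit_one.neg
    have hwiu : IsUnit wi := IsUnit.of_mul_eq_one (G2 j1 j1) (by rw [mul_comm]; exact hwi)
    have hprod : IsUnit (-(wi * G2 j2 j1 * G2 j1 j2)) := by
      rw [h21, e12]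
      exact (((hwiu.mul (hεu.mul (hj2u'.map lam))).mul hj2u')).neg
    rw [sub_eq_add_neg, add_comm]
    exact isUnit_add_nonunit hprod (hex j2 hj2)

/-- the generic induction -/
theorem main (hlam : Function.Involutive lam) {ε : A}
    (step : ∀ (G : Matrix ι ι A), IsHerm lam ε G → IsUnit G → ∀ (S : Finset ι), Inv S G →
      ∀ r, r ∉ S → IsUnit (G r r) →
      ∃ G' S', Cong lam G G' ∧ S ⊂ S' ∧ Inv S' G' ∧
        (S' = Finset.univ ∨ ∃ i, i ∉ S' ∧ IsUnit (G' i i))) :
    ∀ (k : ℕ) (S : Finset ι), (Sᶜ).card ≤ k → ∀ G : Matrix ι ι A, IsHerm lam ε G → IsUnit G →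
      Inv S G → (S = Finset.univ ∨ ∃ i, i ∉ S ∧ IsUnit (G i i)) →
      ∃ G' d, Cong lam G G' ∧ G' = Matrix.diagonal d := by
  intro k
  induction k with
  | zero =>
    intro S hk G hG hGu hI hgood
    rcases hgood with hS | ⟨i, hi, hiu⟩
    · rw [hS] at hI
      exact ⟨G, _, Cong.refl lam G, hI.diag⟩
    · exfalso
      have : 0 < (Sᶜ).card := Finset.card_pos.2 ⟨i, Finset.mem_compl.2 hi⟩
      omega
  | succ k ih =>
    intro S hk G hG hGu hI hgood
    rcases hgood with hS | ⟨i, hi, hiu⟩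
    · rw [hS] at hI
      exact ⟨G, _, Cong.refl lam G, hI.diag⟩
    · obtain ⟨G', S', hc, hSS, hI', hgood'⟩ := step G hG hGu S hI i hi hiu
      have hcard : (S'ᶜ).card ≤ k := by
        have := Finset.card_lt_card (Finset.compl_ssubset_compl.2 hSS)
        omega
      obtain ⟨G'', d, hc', hd⟩ := ih S' hcard G' (hc.herm lam hlam hG) (hc.isUnit lam hGu) hI'
        hgood'
      exact ⟨G'', d, hc.trans lam hc', hd⟩

/-- an alternating matrix of odd size has determinant zero -/
theorem det_eq_zero_of_alt {k : Type*} [CommRing k] (hodd : Odd (Fintype.card ι))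
    (M : Matrix ι ι k) (hM : ∀ i j, M i j = - M j i) (hd : ∀ i, M i i = 0) : M.det = 0 := by
  rw [Matrix.det_apply']
  refine Finset.sum_ninvolution (fun σ => σ⁻¹) ?_ ?_ (fun _ => Finset.mem_univ _)
    (fun σ => inv_inv σ)
  · intro σ
    have h1 : ∏ i, M (σ⁻¹ i) i = ∏ j, M j (σ j) :=
      (Fintype.prod_equiv σ (fun j => M j (σ j)) (fun i => M (σ⁻¹ i) i)
        (fun j => by simp)).symm
    have h2 : ∏ j, M j (σ j) = ∏ j, -M (σ j) j :=
      Finset.prod_congr rfl (fun j _ => hM j (σ j))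
    have h3 : ∏ j : ι, -M (σ j) j = - ∏ j, M (σ j) j := by
      rw [Finset.prod_neg, Finset.card_univ, hodd.neg_one_pow]; ring
    rw [Equiv.Perm.sign_inv, h1, h2, h3]; ring
  · intro σ hne hσ
    apply hne
    have hs2 : σ ^ 2 = 1 := by
      rw [pow_two]
      nth_rewrite 1 [← hσ]
      exact inv_mul_cancel σ
    have h2 := Equiv.Perm.two_dvd_card_support hs2
    obtain ⟨i, hi⟩ : ∃ i, σ i = i := by
      by_contra hcon
      push Not at hcon
      have : σ.support = Finset.univ :=
        Finset.eq_univ_iff_forall.2 (fun i => Equiv.Perm.mem_support.2 (hcon i))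
      rw [this, Finset.card_univ] at h2
      exact (Nat.not_even_iff_odd.2 hodd) (even_iff_two_dvd.2 h2)
    rw [Finset.prod_eq_zero (Finset.mem_univ i) (by rw [hi]; exact hd i), mul_zero]

/-- odd size, local, `lam ≡ id`, `ε ≡ -1`: some diagonal entry is a unit -/
theorem exists_unit_diag_of_odd [IsLocalRing A] (hodd : Odd (Fintype.card ι)) {ε : A}
    (hε1 : ε + 1 ∈ Ring.jacobson A) (hid : ∀ a : A, lam a - a ∈ Ring.jacobson A)
    {G : Matrix ι ι A} (hG : IsHerm lam ε G) (hGu : IsUnit G) : ∃ i, IsUnit (G i i) := by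
  by_contra hcon
  push Not at hcon
  have hJm : Ring.jacobson A = IsLocalRing.maximalIdeal A := by
    rw [← Ideal.jacobson_bot]; exact IsLocalRing.jacobson_eq_maximalIdeal ⊥ bot_ne_top
  have hdet : ((Ideal.Quotient.mk (IsLocalRing.maximalIdeal A)).mapMatrix G).det = 0 := by
    apply det_eq_zero_of_alt hodd
    · intro i j
      show Ideal.Quotient.mk (IsLocalRing.maximalIdeal A) (G i j) =
        - Ideal.Quotient.mk (IsLocalRing.maximalIdeal A) (G j i)
      rw [eq_neg_iff_add_eq_zero, ← map_add]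
      apply Ideal.Quotient.eq_zero_iff_mem.2
      rw [← hJm, hG.apply lam i j]
      have : ε * lam (G j i) + G j i = (ε + 1) * lam (G j i) - (lam (G j i) - G j i) := by ring
      rw [this]; exact sub_mem (Ideal.mul_mem_right _ _ hε1) (hid _)
    · intro i
      show Ideal.Quotient.mk (IsLocalRing.maximalIdeal A) (G i i) = 0
      exact Ideal.Quotient.eq_zero_iff_mem.2 ((IsLocalRing.mem_maximalIdeal _).2 (hcon i))
  rw [← RingHom.map_det] at hdet
  have hdm : G.det ∈ IsLocalRing.maximalIdeal A := Ideal.Quotient.eq_zero_iff_mem.1 hdet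
  exact (IsLocalRing.mem_maximalIdeal _).1 hdm ((Matrix.isUnit_iff_isUnit_det G).1 hGu)

end LocalCase

end Groth.Agent.H77.Herm
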