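import Mathlib
import Groth.Agent.H21.TrdegDim

/-!
# A lower bound for the Hilbert function of a graded quotient of a polynomial ring
-/

namespace Groth.Agent.H77.HilbLower

open MvPolynomial

universe u

theorem finrank_bound {k : Type u} [Field k] (m d : ℕ) (hd : 1 ≤ d) (hdm : d + 1 ≤ m)
    (I : Ideal (MvPolynomial (Fin (m + 1)) k))
    (hdim : ringKrullDim (MvPolynomial (Fin (m + 1)) k ⧸ I) = ((m + 1 - d : ℕ) : WithBot ℕ∞)) :
    m + 1 + Module.finrank k
        ↥(homogeneousSubmodule (Fin (m + 1)) k (d + 1) ⊓ Submodule.restrictScalars k I)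
      ≤ Module.finrank k ↥(homogeneousSubmodule (Fin (m + 1)) k (d + 1)) := by
  classical
  obtain ⟨δ, hδ⟩ : ∃ δ : ℕ, δ = m + 1 - d := ⟨_, rfl⟩
  rw [← hδ] at hdim
  have hδ2 : 2 ≤ δ := by omega
  -- algebraically independent variables
  haveI hAft : Algebra.FiniteType k (MvPolynomial (Fin (m + 1)) k ⧸ I) :=
    Algebra.FiniteType.of_surjective (Ideal.Quotient.mkₐ k I) (Ideal.Quotient.mkₐ_surjective k I)
  have hgen : Algebra.adjoin k
      (Set.range fun i : Fin (m + 1) => Ideal.Quotient.mk I (X i : MvPolynomial (Fin (m + 1)) k)) = ⊤ := by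
    have h1 : Algebra.adjoin k (Set.range (X : Fin (m + 1) → MvPolynomial (Fin (m + 1)) k)) = ⊤ :=
      MvPolynomial.adjoin_range_X
    have h2 := congrArg (Subalgebra.map (Ideal.Quotient.mkₐ k I)) h1
    rw [AlgHom.map_adjoin, Algebra.map_top, ← Set.range_comp,
      (AlgHom.range_eq_top _).2 (Ideal.Quotient.mkₐ_surjective k I)] at h2
    exact h2
  obtain ⟨x, hxG, hx⟩ := Groth.Agent.H21.SegreDim.exists_algebraicIndependent_of_le_ringKrullDim
    (k := k) _ hgen δ (le_of_eq hdim.symm)
  choose τ hτ using hxG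
  have hτinj : Function.Injective τ := by
    intro i j hij
    apply hx.injective
    rw [← hτ i, ← hτ j, hij]
  have haeval : (aeval x : MvPolynomial (Fin δ) k →ₐ[k] _) =
      (Ideal.Quotient.mkₐ k I).comp (rename τ) := by
    apply MvPolynomial.algHom_ext
    intro i
    simp [hτ]
  have hinj : Function.Injective (aeval x : MvPolynomial (Fin δ) k →ₐ[k] _) := hx
  have hdisj : ∀ Q : MvPolynomial (Fin δ) k, rename τ Q ∈ I → Q = 0 := by
    intro Q hQ
    apply hinj
    rw [map_zero, haeval]
    exact Ideal.Quotient.eq_zero_iff_mem.2 hQ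
  -- the monomials
  let z0 : Fin δ := ⟨0, by omega⟩
  let z1 : Fin δ := ⟨1, by omega⟩
  let zk : Fin (δ - 2) → Fin δ := fun k => ⟨k + 2, by omega⟩
  have h01 : z0 ≠ z1 := by
    intro h
    have := congrArg Fin.val h
    simp [z0, z1] at this
  have hk0 : ∀ k, zk k ≠ z0 := by
    intro k h
    have := congrArg Fin.val h
    simp [z0, zk] at this
  have hk1 : ∀ k, zk k ≠ z1 := by
    intro k h
    have := congrArg Fin.val h
    simp [z1, zk] at this
  have hkinj : Function.Injective zk := by
    intro k k' h
    have := congrArg Fin.val h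
    simp [zk] at this
    exact Fin.ext this
  let ε : Fin (d + 2) ⊕ Fin (δ - 2) → (Fin δ →₀ ℕ) := Sum.elim
    (fun j => Finsupp.single z0 (d + 1 - j) + Finsupp.single z1 (j : ℕ))
    (fun k => Finsupp.single z0 d + Finsupp.single (zk k) 1)
  have hεdeg : ∀ i, (ε i).degree = d + 1 := by
    rintro (j | k)
    · show (Finsupp.single z0 (d + 1 - j) + Finsupp.single z1 (j : ℕ)).degree = d + 1
      rw [map_add, Finsupp.degree_single, Finsupp.degree_single]
      have := j.2
      omega
    · show (Finsupp.single z0 d + Finsupp.single (zk k) 1).degree = d + 1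
      rw [map_add, Finsupp.degree_single, Finsupp.degree_single]
  have hεinj : Function.Injective ε := by
    rintro (j | k) (j' | k') h
    · have h1 := DFunLike.congr_fun h z1
      simp only [ε, Sum.elim_inl, Finsupp.add_apply, Finsupp.single_apply, if_neg h01, if_pos rfl,
        zero_add] at h1
      exact congrArg Sum.inl (Fin.ext h1)
    · exfalso
      have h1 := DFunLike.congr_fun h (zk k')
      simp only [ε, Sum.elim_inl, Sum.elim_inr, Finsupp.add_apply, Finsupp.single_apply,
        if_neg (hk0 k').symm, if_neg (hk1 k').symm, if_pos rfl, zero_add] at h1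
      exact absurd h1 (by norm_num)
    · exfalso
      have h1 := DFunLike.congr_fun h (zk k)
      simp only [ε, Sum.elim_inl, Sum.elim_inr, Finsupp.add_apply, Finsupp.single_apply,
        if_neg (hk0 k).symm, if_neg (hk1 k).symm, if_pos rfl, zero_add] at h1
      exact absurd h1 (by norm_num)
    · have h1 := DFunLike.congr_fun h (zk k)
      simp only [ε, Sum.elim_inr, Finsupp.add_apply, Finsupp.single_apply,
        if_neg (hk0 k).symm, if_pos rfl, zero_add] at h1
      by_cases hkk : zk k' = zk k
      · exact congrArg Sum.inr (hkinj hkk).symm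
      · rw [if_neg hkk] at h1
        exact absurd h1 (by norm_num)
  have hN : LinearIndependent k (fun i => (monomial (ε i) (1 : k) : MvPolynomial (Fin δ) k)) := by
    have h1 := (basisMonomials (Fin δ) k).linearIndependent.comp ε hεinj
    rw [coe_basisMonomials] at h1
    exact h1
  have hM : LinearIndependent k
      (fun i => (rename τ (monomial (ε i) (1 : k)) : MvPolynomial (Fin (m + 1)) k)) :=
    hN.map' (rename τ : MvPolynomial (Fin δ) k →ₐ[k] MvPolynomial (Fin (m + 1)) k).toLinearMap
      (LinearMap.ker_eq_bot.2 (rename_injective τ hτinj))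
  set W : Submodule k (MvPolynomial (Fin (m + 1)) k) := Submodule.span k
    (Set.range fun i => (rename τ (monomial (ε i) (1 : k)) : MvPolynomial (Fin (m + 1)) k)) with hW
  have hWrank : Module.finrank k ↥W = m + 1 := by
    rw [hW, finrank_span_eq_card hM, Fintype.card_sum, Fintype.card_fin, Fintype.card_fin]
    omega
  have hWle : W ≤ homogeneousSubmodule (Fin (m + 1)) k (d + 1) := by
    rw [hW, Submodule.span_le]
    rintro _ ⟨i, rfl⟩
    exact (isHomogeneous_monomial (1 : k) (hεdeg i)).rename_isHomogeneous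
  have hWrange : W ≤ LinearMap.range
      (rename τ : MvPolynomial (Fin δ) k →ₐ[k] MvPolynomial (Fin (m + 1)) k).toLinearMap := by
    rw [hW, Submodule.span_le]
    rintro _ ⟨i, rfl⟩
    exact ⟨_, rfl⟩
  set I' : Submodule k (MvPolynomial (Fin (m + 1)) k) :=
    homogeneousSubmodule (Fin (m + 1)) k (d + 1) ⊓ Submodule.restrictScalars k I with hI'
  have hbot : W ⊓ I' = ⊥ := by
    rw [eq_bot_iff]
    rintro w ⟨hw1, hw2⟩
    obtain ⟨Q, rfl⟩ := hWrange hw1
    have hQI : rename τ Q ∈ I := hw2.2
    rw [hdisj Q hQI]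
    simp
  haveI hfd : FiniteDimensional k ↥(homogeneousSubmodule (Fin (m + 1)) k (d + 1)) :=
    Module.Finite.iff_fg.2 (homogeneousSubmodule_fg _ _ _)
  haveI : FiniteDimensional k ↥I' := Submodule.finiteDimensional_of_le inf_le_left
  haveI : FiniteDimensional k ↥W := Submodule.finiteDimensional_of_le hWle
  have h1 := Submodule.finrank_sup_add_finrank_inf_eq W I'
  rw [hbot, finrank_bot, add_zero] at h1
  have h2 : Module.finrank k ↥(W ⊔ I') ≤
      Module.finrank k ↥(homogeneousSubmodule (Fin (m + 1)) k (d + 1)) :=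
    Submodule.finrank_mono (sup_le hWle inf_le_left)
  omega

end Groth.Agent.H77.HilbLower
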