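import Mathlib

/-!
# Quotients of a free module by one vector: freeness criteria

Helper lemmas for S15100.
-/

namespace Groth.Agent.H77.KaehlerNF

universe u

/-- If `Ω = M / A w` with `M` finite free over a local ring and some functional takes the value
`1` on `w`, then `Ω` is free. -/
theorem free_of_functional {A : Type*} [CommRing A] [IsLocalRing A]
    {M Ω : Type*} [AddCommGroup M] [Module A M] [AddCommGroup Ω] [Module A Ω]
    [Module.Free A M] [Module.Finite A M]
    (w : M) (π : M →ₗ[A] Ω) (hπ : Function.Surjective π)
    (hker : LinearMap.ker π = Submodule.span A {w})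
    (l : M →ₗ[A] A) (hl : l w = 1) : Module.Free A Ω := by
  let ρ : M →ₗ[A] M := LinearMap.id - l.smulRight w
  have hρ : LinearMap.ker π ≤ LinearMap.ker ρ := by
    rw [hker, Submodule.span_le, Set.singleton_subset_iff]
    show ρ w = 0
    simp [ρ, hl]
  let σ : Ω →ₗ[A] M :=
    (Submodule.liftQ _ ρ hρ) ∘ₗ (π.quotKerEquivOfSurjective hπ).symm.toLinearMap
  have hσ : ∀ m, σ (π m) = ρ m := by
    intro m
    have h1 : (π.quotKerEquivOfSurjective hπ).symm (π m) = Submodule.Quotient.mk m := by
      rw [LinearEquiv.symm_apply_eq]
      rfl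
    simp only [σ, LinearMap.comp_apply, LinearEquiv.coe_coe, h1, Submodule.liftQ_apply]
  have hw : π w = 0 := by
    have : w ∈ LinearMap.ker π := by
      rw [hker]
      exact Submodule.mem_span_singleton_self w
    exact this
  have hsplit : π ∘ₗ σ = LinearMap.id := by
    ext ω
    obtain ⟨m, rfl⟩ := hπ ω
    simp [hσ, ρ, hw]
  haveI : Module.Projective A Ω := Module.Projective.of_split σ π hsplit
  haveI : Module.Finite A Ω := Module.Finite.of_surjective π hπ
  exact Module.free_of_flat_of_isLocalRing

/-- If `Ω = M / A w` with `M` free over a domain, the coordinates of `w` lie in the prime `P`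
and `Ω_P` is projective over `A_P`, then `w = 0`. -/
theorem eq_zero_of_projective_localization {A : Type*} [CommRing A] [IsDomain A]
    (P : Ideal A) [P.IsPrime]
    {M Ω : Type*} [AddCommGroup M] [Module A M] [AddCommGroup Ω] [Module A Ω]
    {ι : Type*} [Fintype ι] (e : Module.Basis ι A M) (w : M) (hw : ∀ i, e.repr w i ∈ P)
    (π : M →ₗ[A] Ω) (hπ : Function.Surjective π)
    (hker : LinearMap.ker π = Submodule.span A {w})
    [Module.Projective (Localization.AtPrime P) (LocalizedModule P.primeCompl Ω)] : w = 0 := by
  classical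
  have hπw : π w = 0 := by
    have : w ∈ LinearMap.ker π := by
      rw [hker]
      exact Submodule.mem_span_singleton_self w
    exact this
  let π' : LocalizedModule P.primeCompl M →ₗ[Localization P.primeCompl]
      LocalizedModule P.primeCompl Ω := LocalizedModule.map P.primeCompl π
  have hπ' : Function.Surjective π' := LocalizedModule.map_surjective P.primeCompl π hπ
  obtain ⟨s, hs⟩ := Module.projective_lifting_property π' LinearMap.id hπ'
  let x₀ : LocalizedModule P.primeCompl M := LocalizedModule.mk w 1
  have hA : ∀ x : LocalizedModule P.primeCompl M, π' x = 0 →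
      ∃ c : Localization P.primeCompl, x = c • x₀ := by
    intro x
    induction x using LocalizedModule.induction_on with
    | _ m t =>
      intro hx
      rw [LocalizedModule.map_mk, ← LocalizedModule.zero_mk 1, LocalizedModule.mk_eq] at hx
      obtain ⟨t', ht'⟩ := hx
      have h1 : π ((t' : A) • m) = 0 := by
        rw [map_smul]
        simpa [Submonoid.smul_def] using ht'
      have h2 : (t' : A) • m ∈ Submodule.span A {w} := by
        rw [← hker]
        exact h1
      obtain ⟨c, hc⟩ := Submodule.mem_span_singleton.1 h2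
      refine ⟨Localization.mk c (t' * t), ?_⟩
      rw [LocalizedModule.mk_smul_mk, mul_one, hc,
        ← LocalizedModule.mk_cancel_common_left t' t m]
      rfl
  let ρ : LocalizedModule P.primeCompl M →ₗ[Localization P.primeCompl]
      LocalizedModule P.primeCompl M := LinearMap.id - s ∘ₗ π'
  have hρ : ∀ x, π' (ρ x) = 0 := by
    intro x
    have := LinearMap.congr_fun hs (π' x)
    simp only [LinearMap.comp_apply, LinearMap.id_apply] at this
    simp [ρ, this]
  choose c hc using fun i => hA (ρ (LocalizedModule.mk (e i) 1)) (hρ _)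
  have hx₀ : x₀ = ∑ i, algebraMap A (Localization P.primeCompl) (e.repr w i) •
      (LocalizedModule.mk (e i) 1 : LocalizedModule P.primeCompl M) := by
    have h1 : x₀ = LocalizedModule.mkLinearMap P.primeCompl M w := rfl
    rw [h1]
    conv_lhs => rw [← e.sum_repr w]
    rw [map_sum]
    refine Finset.sum_congr rfl fun i _ => ?_
    rw [map_smul, LocalizedModule.mkLinearMap_apply, algebraMap_smul]
  have hρx₀ : ρ x₀ = x₀ := by
    have : π' x₀ = 0 := by
      show LocalizedModule.map P.primeCompl π (LocalizedModule.mk w 1) = 0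
      rw [LocalizedModule.map_mk, hπw, LocalizedModule.zero_mk]
    simp [ρ, this]
  set z : Localization P.primeCompl :=
    ∑ i, algebraMap A (Localization P.primeCompl) (e.repr w i) * c i with hz
  have hzx : ρ x₀ = z • x₀ := by
    conv_lhs => rw [hx₀]
    rw [map_sum, hz, Finset.sum_smul]
    refine Finset.sum_congr rfl fun i _ => ?_
    rw [map_smul, hc i, smul_smul]
  have hzmem : z ∈ IsLocalRing.maximalIdeal (Localization.AtPrime P) := by
    refine Ideal.sum_mem _ fun i _ => Ideal.mul_mem_right _ _ ?_
    exact (IsLocalization.AtPrime.to_map_mem_maximal_iff _ P _).2 (hw i)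
  have hunit : IsUnit (1 - z) :=
    IsLocalRing.isUnit_one_sub_self_of_mem_nonunits z
      ((IsLocalRing.mem_maximalIdeal z).1 hzmem)
  have h0 : (1 - z) • x₀ = 0 := by
    rw [sub_smul, one_smul, ← hzx, hρx₀, sub_self]
  have hx0 : x₀ = 0 := (hunit.smul_eq_zero).1 h0
  have h2 : (LocalizedModule.mk w 1 : LocalizedModule P.primeCompl M) =
      LocalizedModule.mk 0 1 := by
    rw [LocalizedModule.zero_mk]
    exact hx0
  rw [LocalizedModule.mk_eq] at h2
  obtain ⟨t, ht⟩ := h2
  have ht0 : (t : A) ≠ 0 := by
    intro h
    exact t.2 (h ▸ P.zero_mem)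
  have ht' : (t : A) • w = 0 := by simpa [Submonoid.smul_def] using ht
  apply e.repr.injective
  ext i
  have h3 : e.repr ((t : A) • w) i = 0 := by rw [ht']; simp
  rw [map_smul, Finsupp.smul_apply, smul_eq_mul] at h3
  simpa using (mul_eq_zero.1 h3).resolve_left ht0

end Groth.Agent.H77.KaehlerNF
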