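-- helper77: lemmas on Kronecker modules (Prelude namespace KronMod)
import Groth.Prelude.Def_W4c2quivmodsheafKron
import Mathlib.LinearAlgebra.FiniteDimensional.Basic
import Mathlib.LinearAlgebra.FiniteDimensional.Lemmas
import Mathlib.LinearAlgebra.Dimension.Constructions
import Mathlib.LinearAlgebra.Pi
import Mathlib.Tactic.Ring
import Mathlib.Tactic.Linarith

set_option autoImplicit false
universe u v w

namespace Groth.Agent.H77

open KronMod Module

variable {K : Type u} [Field K] {V : Type v} {W : Type w}
  [AddCommGroup V] [Module K V] [AddCommGroup W] [Module K W] {n : ℕ}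

/-- The map `(v_j) ↦ ∑ f_j v_j`. -/
noncomputable def sumMap (f : Fin n → (V →ₗ[K] W)) : (Fin n → V) →ₗ[K] W :=
  LinearMap.lsum K (fun _ : Fin n => V) K f

theorem sumMap_apply (f : Fin n → (V →ₗ[K] W)) (v : Fin n → V) :
    sumMap f v = ∑ j, f j (v j) := by
  simp [sumMap, LinearMap.lsum_apply]

/-- The map `v ↦ (f_j v)_j`. -/
noncomputable def piMap (f : Fin n → (V →ₗ[K] W)) : V →ₗ[K] (Fin n → W) :=
  LinearMap.pi f

theorem piMap_apply (f : Fin n → (V →ₗ[K] W)) (v : V) (j : Fin n) :
    piMap f v j = f j v := rfl

theorem isSubrep_iff (f : Fin n → (V →ₗ[K] W)) (V' : Submodule K V) (W' : Submodule K W) :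
    IsSubrep f V' W' ↔ ∀ j, ∀ v ∈ V', f j v ∈ W' := by
  unfold IsSubrep
  constructor
  · intro h j v hv
    exact h j (Submodule.mem_map_of_mem hv)
  · intro h j
    rw [Submodule.map_le_iff_le_comap]
    intro v hv
    exact h j v hv

theorem isSubrep_top_range (f : Fin n → (V →ₗ[K] W)) :
    IsSubrep f ⊤ (LinearMap.range (sumMap f)) := by
  classical
  rw [isSubrep_iff]
  intro j v _
  refine ⟨Pi.single j v, ?_⟩
  rw [sumMap_apply, Finset.sum_eq_single j]
  · simp
  · intro b _ hb
    simp [Pi.single_eq_of_ne hb]
  · intro h
    exact absurd (Finset.mem_univ j) h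

theorem isSubrep_ker_bot (f : Fin n → (V →ₗ[K] W)) :
    IsSubrep f (LinearMap.ker (piMap f)) ⊥ := by
  rw [isSubrep_iff]
  intro j v hv
  rw [LinearMap.mem_ker] at hv
  have := congrFun hv j
  simpa [piMap_apply] using this

variable [FiniteDimensional K V] [FiniteDimensional K W]

theorem finrank_fun (M : Type*) [AddCommGroup M] [Module K M] [FiniteDimensional K M] :
    finrank K (Fin n → M) = n * finrank K M := by
  rw [Module.finrank_pi_fintype]
  simp

theorem finrank_range_sumMap_le (f : Fin n → (V →ₗ[K] W)) :
    finrank K (LinearMap.range (sumMap f)) ≤ n * finrank K V := by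
  rw [← finrank_fun (K := K) (n := n) V]
  exact LinearMap.finrank_range_le _

theorem finrank_le_ker_piMap (f : Fin n → (V →ₗ[K] W)) :
    finrank K V ≤ finrank K (LinearMap.ker (piMap f)) + n * finrank K W := by
  have h1 := LinearMap.finrank_range_add_finrank_ker (piMap f)
  have h2 : finrank K (LinearMap.range (piMap f)) ≤ n * finrank K W := by
    rw [← finrank_fun (K := K) (n := n) W]
    exact Submodule.finrank_le _
  omega

/-- If `(V', W')` is a subrepresentation and `sumMap f` is injective then `n * dim V' ≤ dim W'`. -/
theorem mul_finrank_le_of_sumMap_injective (f : Fin n → (V →ₗ[K] W))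
    (hinj : Function.Injective (sumMap f)) (V' : Submodule K V) (W' : Submodule K W)
    (h : IsSubrep f V' W') : n * finrank K V' ≤ finrank K W' := by
  rw [isSubrep_iff] at h
  rw [← finrank_fun (K := K) (n := n) V']
  let g : (Fin n → V') →ₗ[K] W' :=
    LinearMap.codRestrict W' ((sumMap f).comp (LinearMap.pi fun j => V'.subtype.comp (LinearMap.proj j)))
      (by
        intro v
        simp only [LinearMap.comp_apply, sumMap_apply]
        refine Submodule.sum_mem _ fun j _ => ?_
        exact h j _ (v j).2)
  refine LinearMap.finrank_le_finrank_of_injective (f := g) ?_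
  intro a b hab
  have h1 := congrArg Subtype.val hab
  simp only [g, LinearMap.codRestrict_apply, LinearMap.comp_apply] at h1
  have h2 := hinj h1
  funext j
  apply Subtype.ext
  have := congrFun h2 j
  simpa using this

/-- If `(V', W')` is a subrepresentation and `piMap f` is injective then `dim V' ≤ n * dim W'`. -/
theorem finrank_le_mul_of_piMap_injective (f : Fin n → (V →ₗ[K] W))
    (hinj : Function.Injective (piMap f)) (V' : Submodule K V) (W' : Submodule K W)
    (h : IsSubrep f V' W') : finrank K V' ≤ n * finrank K W' := by
  rw [isSubrep_iff] at h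
  rw [← finrank_fun (K := K) (n := n) W']
  let g : V' →ₗ[K] (Fin n → W') :=
    LinearMap.pi fun j => LinearMap.codRestrict W' ((f j).comp V'.subtype) (fun v => h j _ v.2)
  refine LinearMap.finrank_le_finrank_of_injective (f := g) ?_
  intro a b hab
  apply Subtype.ext
  apply hinj
  funext j
  have := congrArg Subtype.val (congrFun hab j)
  simpa [g, piMap_apply] using this

theorem top_ne_bot_of_finrank_pos (M : Type*) [AddCommGroup M] [Module K M]
    (h : 0 < finrank K M) : (⊤ : Submodule K M) ≠ ⊥ := by
  intro e
  have h1 : finrank K (⊤ : Submodule K M) = finrank K M := finrank_top K M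
  rw [e, finrank_bot] at h1
  omega

end Groth.Agent.H77

namespace Groth.Agent.H77

open KronMod Module

variable {K : Type u} [Field K] {V : Type v} {W : Type w}
  [AddCommGroup V] [Module K V] [AddCommGroup W] [Module K W] {n : ℕ}
  [FiniteDimensional K V] [FiniteDimensional K W]

/-- For `dim W = n * dim V`, semistability is bijectivity of `sumMap f`. -/
theorem isSemistable_iff_sumMap_bijective (f : Fin n → (V →ₗ[K] W))
    (hV : 0 < finrank K V) (hW : finrank K W = n * finrank K V) :
    IsSemistable f ↔ Function.Bijective (sumMap f) := by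
  have hdim : finrank K (Fin n → V) = finrank K W := by rw [finrank_fun, hW]
  constructor
  · rintro ⟨_, hss⟩
    have hsurj : Function.Surjective (sumMap f) := by
      rw [← LinearMap.range_eq_top]
      by_contra hne
      have := hss ⊤ _ (isSubrep_top_range f)
        (fun h' => top_ne_bot_of_finrank_pos V hV h'.1) (fun h' => hne h'.2)
      rw [finrank_top, mul_comm] at this
      have h3 : finrank K W ≤ finrank K (LinearMap.range (sumMap f)) :=
        Nat.le_of_mul_le_mul_left this hV
      exact hne (Submodule.eq_top_of_finrank_eq (le_antisymm (Submodule.finrank_le _) h3))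
    exact ⟨(LinearMap.injective_iff_surjective_of_finrank_eq_finrank hdim).2 hsurj, hsurj⟩
  · rintro ⟨hinj, _⟩
    refine ⟨by omega, fun V' W' hsub _ _ => ?_⟩
    have := mul_finrank_le_of_sumMap_injective f hinj V' W' hsub
    rw [hW]
    calc n * finrank K V * finrank K V' = finrank K V * (n * finrank K V') := by ring
      _ ≤ finrank K V * finrank K W' := Nat.mul_le_mul_left _ this

/-- For `dim V = n * dim W`, semistability is bijectivity of `piMap f`. -/
theorem isSemistable_iff_piMap_bijective (f : Fin n → (V →ₗ[K] W))
    (hW : 0 < finrank K W) (hV : finrank K V = n * finrank K W) :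
    IsSemistable f ↔ Function.Bijective (piMap f) := by
  have hdim : finrank K V = finrank K (Fin n → W) := by rw [finrank_fun, hV]
  constructor
  · rintro ⟨_, hss⟩
    have hinj : Function.Injective (piMap f) := by
      rw [← LinearMap.ker_eq_bot]
      by_contra hne
      have := hss _ ⊥ (isSubrep_ker_bot f)
        (fun h' => hne h'.1) (fun h' => top_ne_bot_of_finrank_pos W hW h'.2.symm)
      rw [finrank_bot, mul_zero] at this
      have h3 : finrank K (LinearMap.ker (piMap f)) = 0 := by
        rcases Nat.eq_zero_or_pos (finrank K (LinearMap.ker (piMap f))) with h | h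
        · exact h
        · have := Nat.mul_pos hW h
          omega
      exact hne (Submodule.finrank_eq_zero.mp h3)
    exact ⟨hinj, (LinearMap.injective_iff_surjective_of_finrank_eq_finrank hdim).1 hinj⟩
  · rintro ⟨hinj, _⟩
    refine ⟨by omega, fun V' W' hsub _ _ => ?_⟩
    have := finrank_le_mul_of_piMap_injective f hinj V' W' hsub
    rw [hV]
    calc finrank K W * finrank K V' ≤ finrank K W * (n * finrank K W') :=
          Nat.mul_le_mul_left _ this
      _ = n * finrank K W * finrank K W' := by ring

end Groth.Agent.H77

namespace Groth.Agent.H77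

open KronMod Module

variable {K : Type u} [Field K] {V : Type v} {W : Type w}
  [AddCommGroup V] [Module K V] [AddCommGroup W] [Module K W] {n : ℕ}

theorem sumMap_single (f : Fin n → (V →ₗ[K] W)) (j : Fin n) (v : V) :
    sumMap f (Pi.single j v) = f j v := by
  classical
  rw [sumMap_apply, Finset.sum_eq_single j]
  · simp
  · intro b _ hb
    simp [Pi.single_eq_of_ne hb]
  · intro h
    exact absurd (Finset.mem_univ j) h

variable [FiniteDimensional K V] [FiniteDimensional K W]

theorem exists_semistable_and_unique_of_finrank_eq_mul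
    (hV : 0 < finrank K V) (hW : finrank K W = n * finrank K V) :
    (∃ f : Fin n → (V →ₗ[K] W), IsSemistable f) ∧
    ∀ f f' : Fin n → (V →ₗ[K] W), IsSemistable f → IsSemistable f' → AreIso f f' := by
  classical
  have hdim : finrank K (Fin n → V) = finrank K W := by rw [finrank_fun, hW]
  constructor
  · let e : (Fin n → V) ≃ₗ[K] W := LinearEquiv.ofFinrankEq _ _ hdim
    refine ⟨fun j => (e : (Fin n → V) →ₗ[K] W).comp (LinearMap.single K (fun _ => V) j), ?_⟩
    rw [isSemistable_iff_sumMap_bijective _ hV hW]
    have : ⇑(sumMap fun j => (e : (Fin n → V) →ₗ[K] W).comp (LinearMap.single K (fun _ => V) j))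
        = ⇑e := by
      funext v
      rw [sumMap_apply]
      simp only [LinearMap.comp_apply, LinearEquiv.coe_coe, LinearMap.single_apply]
      rw [← map_sum]
      congr 1
      funext i
      simp [Finset.sum_apply, Pi.single_apply]
    rw [this]
    exact e.bijective
  · intro f f' hf hf'
    rw [isSemistable_iff_sumMap_bijective _ hV hW] at hf hf'
    refine ⟨LinearEquiv.refl K V,
      (LinearEquiv.ofBijective _ hf).symm.trans (LinearEquiv.ofBijective _ hf'), fun j => ?_⟩
    ext v
    simp only [LinearMap.comp_apply, LinearEquiv.coe_coe, LinearEquiv.trans_apply,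
      LinearEquiv.refl_apply]
    have : (LinearEquiv.ofBijective (sumMap f) hf).symm (f j v) = Pi.single j v := by
      rw [LinearEquiv.symm_apply_eq, LinearEquiv.ofBijective_apply, sumMap_single]
    rw [this, LinearEquiv.ofBijective_apply, sumMap_single]

theorem exists_semistable_and_unique_of_finrank_eq_mul'
    (hW : 0 < finrank K W) (hV : finrank K V = n * finrank K W) :
    (∃ f : Fin n → (V →ₗ[K] W), IsSemistable f) ∧
    ∀ f f' : Fin n → (V →ₗ[K] W), IsSemistable f → IsSemistable f' → AreIso f f' := by
  have hdim : finrank K V = finrank K (Fin n → W) := by rw [finrank_fun, hV]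
  constructor
  · let e : V ≃ₗ[K] (Fin n → W) := LinearEquiv.ofFinrankEq _ _ hdim
    refine ⟨fun j => (LinearMap.proj j).comp (e : V →ₗ[K] (Fin n → W)), ?_⟩
    rw [isSemistable_iff_piMap_bijective _ hW hV]
    have : ⇑(piMap fun j => (LinearMap.proj j).comp (e : V →ₗ[K] (Fin n → W))) = ⇑e := by
      funext v j
      rfl
    rw [this]
    exact e.bijective
  · intro f f' hf hf'
    rw [isSemistable_iff_piMap_bijective _ hW hV] at hf hf'
    refine ⟨(LinearEquiv.ofBijective _ hf).trans (LinearEquiv.ofBijective _ hf').symm,
      LinearEquiv.refl K W, fun j => ?_⟩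
    ext v
    simp only [LinearMap.comp_apply, LinearEquiv.coe_coe, LinearEquiv.trans_apply,
      LinearEquiv.refl_apply]
    have h1 : piMap f' ((LinearEquiv.ofBijective (piMap f') hf').symm
        ((LinearEquiv.ofBijective (piMap f) hf) v)) = piMap f v := by
      have := (LinearEquiv.ofBijective (piMap f') hf').apply_symm_apply
        ((LinearEquiv.ofBijective (piMap f) hf) v)
      simpa using this
    have := congrFun h1 j
    simpa [piMap_apply] using this.symm

end Groth.Agent.H77

namespace Groth.Agent.H77

open KronMod Module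

variable {K : Type u} [Field K] {V : Type v} {W : Type w}
  [AddCommGroup V] [Module K V] [AddCommGroup W] [Module K W] {n : ℕ}
  [FiniteDimensional K V] [FiniteDimensional K W]

theorem isSemistable_of_isStable {f : Fin n → (V →ₗ[K] W)} (h : IsStable f) : IsSemistable f :=
  ⟨h.1, fun V' W' a b c => (h.2 V' W' a b c).le⟩

theorem isStable_iff_of_finrank_eq_mul (f : Fin n → (V →ₗ[K] W))
    (hV : 0 < finrank K V) (hW : finrank K W = n * finrank K V) :
    IsStable f ↔ (IsSemistable f ∧ finrank K V = 1) := by
  constructor
  · intro hst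
    refine ⟨isSemistable_of_isStable hst, ?_⟩
    by_contra hne
    have h2 : 2 ≤ finrank K V := by omega
    obtain ⟨v, hv⟩ := Module.finrank_pos_iff_exists_ne_zero.mp hV
    have hV' : finrank K (K ∙ v) = 1 := finrank_span_singleton hv
    have hW' : finrank K (Submodule.span K (Set.range fun j => f j v)) ≤ n := by
      have := finrank_range_le_card (R := K) (fun j => f j v)
      rw [Fintype.card_fin] at this
      exact this
    have hsub : IsSubrep f (K ∙ v) (Submodule.span K (Set.range fun j => f j v)) := by
      rw [isSubrep_iff]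
      intro j x hx
      obtain ⟨a, rfl⟩ := Submodule.mem_span_singleton.mp hx
      rw [map_smul]
      exact Submodule.smul_mem _ _ (Submodule.subset_span ⟨j, rfl⟩)
    have := hst.2 _ _ hsub
      (fun h' => by rw [h'.1, finrank_bot] at hV'; omega)
      (fun h' => by rw [h'.1, finrank_top] at hV'; omega)
    rw [hV', mul_one, hW] at this
    have h3 : finrank K V * finrank K (Submodule.span K (Set.range fun j => f j v))
        ≤ finrank K V * n := Nat.mul_le_mul_left _ hW'
    exact absurd (lt_of_lt_of_le this (h3.trans (le_of_eq (mul_comm _ _)))) (lt_irrefl _)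
  · rintro ⟨hss, h1⟩
    have hbij := (isSemistable_iff_sumMap_bijective f hV hW).1 hss
    refine ⟨hss.1, fun V' W' hsub hb ht => ?_⟩
    have hle := mul_finrank_le_of_sumMap_injective f hbij.1 V' W' hsub
    rw [hW, h1, mul_one, one_mul]
    have hV' : finrank K V' ≤ 1 := h1 ▸ Submodule.finrank_le V'
    rcases Nat.eq_zero_or_pos (finrank K V') with h0 | hpos
    · rw [h0, mul_zero]
      have hVb : V' = ⊥ := Submodule.finrank_eq_zero.mp h0
      have : W' ≠ ⊥ := fun h => hb ⟨hVb, h⟩
      rcases Nat.eq_zero_or_pos (finrank K W') with h | h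
      · exact absurd (Submodule.finrank_eq_zero.mp h) this
      · exact h
    · exfalso
      have hv1 : finrank K V' = 1 := by omega
      have hVt : V' = ⊤ := Submodule.eq_top_of_finrank_eq (by omega)
      have hWle : finrank K W' ≤ finrank K W := Submodule.finrank_le W'
      rw [hW, h1] at hWle
      rw [hv1] at hle
      have hWt : W' = ⊤ := Submodule.eq_top_of_finrank_eq (by rw [hW, h1]; omega)
      exact ht ⟨hVt, hWt⟩

theorem isStable_iff_of_finrank_eq_mul' (f : Fin n → (V →ₗ[K] W))
    (hW : 0 < finrank K W) (hV : finrank K V = n * finrank K W) :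
    IsStable f ↔ (IsSemistable f ∧ finrank K W = 1) := by
  constructor
  · intro hst
    refine ⟨isSemistable_of_isStable hst, ?_⟩
    by_contra hne
    have h2 : 2 ≤ finrank K W := by omega
    obtain ⟨w, hw⟩ := Module.finrank_pos_iff_exists_ne_zero.mp hW
    obtain ⟨W', hc⟩ := Submodule.exists_isCompl (K ∙ w)
    have hW' : 1 + finrank K W' = finrank K W := by
      rw [← finrank_span_singleton (K := K) hw]
      exact Submodule.finrank_add_eq_of_isCompl hc
    -- the map `V → (Fin n → W ⧸ W')`
    let ψ : V →ₗ[K] (Fin n → W ⧸ W') := LinearMap.pi fun j => W'.mkQ.comp (f j)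
    have hq : finrank K (W ⧸ W') = 1 := by
      have := W'.finrank_quotient_add_finrank
      omega
    have hker : finrank K V ≤ finrank K (LinearMap.ker ψ) + n := by
      have h1 := LinearMap.finrank_range_add_finrank_ker ψ
      have h3 : finrank K (LinearMap.range ψ) ≤ n * finrank K (W ⧸ W') := by
        rw [← finrank_fun (K := K) (n := n) (W ⧸ W')]
        exact Submodule.finrank_le _
      rw [hq, mul_one] at h3
      omega
    have hsub : IsSubrep f (LinearMap.ker ψ) W' := by
      rw [isSubrep_iff]
      intro j x hx
      rw [LinearMap.mem_ker] at hx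
      have := congrFun hx j
      simpa [ψ] using this
    have := hst.2 _ _ hsub
      (fun h' => by rw [h'.2, finrank_bot] at hW'; omega)
      (fun h' => by rw [h'.2, finrank_top] at hW'; omega)
    rw [hV] at this hker
    have h5 : finrank K W * (n * finrank K W') ≤ finrank K W * finrank K (LinearMap.ker ψ) := by
      apply Nat.mul_le_mul_left
      have : n * finrank K W = n * finrank K W' + n := by rw [← hW']; ring
      omega
    have h6 : finrank K W * (n * finrank K W') = n * finrank K W * finrank K W' := by ring
    omega
  · rintro ⟨hss, h1⟩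
    have hbij := (isSemistable_iff_piMap_bijective f hW hV).1 hss
    refine ⟨hss.1, fun V' W' hsub hb ht => ?_⟩
    have hle := finrank_le_mul_of_piMap_injective f hbij.1 V' W' hsub
    rw [hV, h1, mul_one, one_mul]
    have hW' : finrank K W' ≤ 1 := h1 ▸ Submodule.finrank_le W'
    rcases Nat.eq_zero_or_pos (finrank K W') with h0 | hpos
    · exfalso
      rw [h0, mul_zero] at hle
      exact hb ⟨Submodule.finrank_eq_zero.mp (by omega), Submodule.finrank_eq_zero.mp h0⟩
    · have hw1 : finrank K W' = 1 := by omega
      have hWt : W' = ⊤ := Submodule.eq_top_of_finrank_eq (by omega)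
      have hVt : V' ≠ ⊤ := fun h => ht ⟨h, hWt⟩
      have hVle : finrank K V' ≤ finrank K V := Submodule.finrank_le V'
      have : finrank K V' ≠ finrank K V := fun h => hVt (Submodule.eq_top_of_finrank_eq h)
      rw [hw1, mul_one]
      rw [hV, h1, mul_one] at hVle this
      omega

end Groth.Agent.H77
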