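-- helper77: more lemmas on Kronecker modules (eigenvector arguments)
import Groth.Agent.H77.Kron
import Mathlib.LinearAlgebra.Eigenspace.Triangularizable

set_option autoImplicit false
universe u v w

namespace Groth.Agent.H77

open KronMod Module

variable {K : Type u} [Field K] {V : Type v} {W : Type w}
  [AddCommGroup V] [Module K V] [AddCommGroup W] [Module K W] {n : ℕ}
  [FiniteDimensional K V] [FiniteDimensional K W]

theorem finrank_span_singleton_le_one (w : W) : finrank K (K ∙ w) ≤ 1 := by
  by_cases hw : w = 0
  · subst hw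
    rw [Submodule.span_zero_singleton, finrank_bot]
    omega
  · rw [finrank_span_singleton hw]

/-- A nonzero vector all of whose images lie on one line destabilises `f` when
`2 ≤ dim V ≤ dim W`... stated here for `dim V = dim W = k ≥ 2`. -/
theorem not_isStable_of_common_line (f : Fin n → (V →ₗ[K] W)) (k : ℕ) (hk : 2 ≤ k)
    (hV : finrank K V = k) (hW : finrank K W = k)
    (v : V) (hv : v ≠ 0) (w : W) (h : ∀ j, f j v ∈ K ∙ w) : ¬ IsStable f := by
  rintro ⟨_, hst⟩
  have hV' : finrank K (K ∙ v) = 1 := finrank_span_singleton hv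
  have hW' : finrank K (K ∙ w) ≤ 1 := finrank_span_singleton_le_one w
  have hsub : IsSubrep f (K ∙ v) (K ∙ w) := by
    rw [isSubrep_iff]
    intro j x hx
    obtain ⟨a, rfl⟩ := Submodule.mem_span_singleton.mp hx
    rw [map_smul]
    exact Submodule.smul_mem _ _ (h j)
  have := hst _ _ hsub
    (fun h' => by rw [h'.1, finrank_bot] at hV'; omega)
    (fun h' => by rw [h'.1, finrank_top] at hV'; omega)
  rw [hV', hV, hW, mul_one] at this
  have h3 : k * finrank K (K ∙ w) ≤ k * 1 := Nat.mul_le_mul_left _ hW'
  omega

theorem not_isStable_two_arrows [IsAlgClosed K] (f : Fin 2 → (V →ₗ[K] W)) (k : ℕ) (hk : 2 ≤ k)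
    (hV : finrank K V = k) (hW : finrank K W = k) : ¬ IsStable f := by
  by_cases hinj : Function.Injective (f 0)
  · have hdim : finrank K V = finrank K W := by rw [hV, hW]
    have hbij : Function.Bijective (f 0) :=
      ⟨hinj, (LinearMap.injective_iff_surjective_of_finrank_eq_finrank hdim).1 hinj⟩
    let e : V ≃ₗ[K] W := LinearEquiv.ofBijective (f 0) hbij
    haveI : Nontrivial V := Module.nontrivial_of_finrank_pos (R := K) (by omega)
    obtain ⟨c, hc⟩ := Module.End.exists_eigenvalue ((e.symm : W →ₗ[K] V).comp (f 1))
    obtain ⟨v, hv⟩ := hc.exists_hasEigenvector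
    have hv1 : e.symm (f 1 v) = c • v := by
      have := hv.apply_eq_smul
      simpa using this
    have hv2 : f 1 v = c • f 0 v := by
      have := congrArg e hv1
      rw [LinearEquiv.apply_symm_apply, map_smul] at this
      exact this
    refine not_isStable_of_common_line f k hk hV hW v hv.2 (f 0 v) ?_
    intro j
    fin_cases j
    · exact Submodule.mem_span_singleton_self _
    · show f 1 v ∈ _
      rw [hv2]
      exact Submodule.smul_mem _ _ (Submodule.mem_span_singleton_self _)
  · rw [← LinearMap.ker_eq_bot, Submodule.eq_bot_iff] at hinj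
    push Not at hinj
    obtain ⟨v, hvk, hv⟩ := hinj
    refine not_isStable_of_common_line f k hk hV hW v hv (f 1 v) ?_
    intro j
    fin_cases j
    · show f 0 v ∈ _
      rw [LinearMap.mem_ker.mp hvk]
      exact Submodule.zero_mem _
    · exact Submodule.mem_span_singleton_self _

end Groth.Agent.H77
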