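-- helper77: duality for Kronecker modules
import Groth.Agent.H77.Kron
import Mathlib.LinearAlgebra.Dual.Lemmas

set_option autoImplicit false
universe u v w

namespace Groth.Agent.H77

open KronMod Module

variable {K : Type u} [Field K] {V : Type v} {W : Type w}
  [AddCommGroup V] [Module K V] [AddCommGroup W] [Module K W] {n : ℕ}

/-- Common generalisation of `IsSemistable` (`R = (· ≤ ·)`) and `IsStable` (`R = (· < ·)`). -/
def GenStable (R : ℕ → ℕ → Prop) (f : Fin n → (V →ₗ[K] W)) : Prop :=
  0 < finrank K V + finrank K W ∧
  ∀ (V' : Submodule K V) (W' : Submodule K W), IsSubrep f V' W' →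
    ¬ (V' = ⊥ ∧ W' = ⊥) → ¬ (V' = ⊤ ∧ W' = ⊤) →
    R (finrank K W * finrank K V') (finrank K V * finrank K W')

theorem isSemistable_iff_genStable (f : Fin n → (V →ₗ[K] W)) :
    IsSemistable f ↔ GenStable (· ≤ ·) f := Iff.rfl

theorem isStable_iff_genStable (f : Fin n → (V →ₗ[K] W)) :
    IsStable f ↔ GenStable (· < ·) f := Iff.rfl

variable [FiniteDimensional K V] [FiniteDimensional K W]

theorem genStable_dual_iff (R : ℕ → ℕ → Prop)
    (hR : ∀ a b c : ℕ, b ≤ a → c ≤ a → (R (a - b) (a - c) ↔ R c b))
    (f : Fin n → (V →ₗ[K] W)) :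
    GenStable R f ↔ GenStable R (fun j => (f j).dualMap) := by
  have hdV : finrank K (Dual K V) = finrank K V := Subspace.dual_finrank_eq
  have hdW : finrank K (Dual K W) = finrank K W := Subspace.dual_finrank_eq
  constructor
  · rintro ⟨h0, h⟩
    refine ⟨by rw [hdV, hdW]; omega, fun A B hsub hb ht => ?_⟩
    rw [isSubrep_iff] at hsub
    have hα := Subspace.finrank_add_finrank_dualCoannihilator_eq A
    have hβ := Subspace.finrank_add_finrank_dualCoannihilator_eq B
    have hsub' : IsSubrep f B.dualCoannihilator A.dualCoannihilator := by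
      rw [isSubrep_iff]
      intro j v hv
      rw [Submodule.mem_dualCoannihilator] at hv ⊢
      intro φ hφ
      have := hv _ (hsub j φ hφ)
      simpa using this
    have key := h _ _ hsub'
      (fun h' => ht ⟨Submodule.eq_top_of_finrank_eq (by
          have := h'.2; rw [this, finrank_bot] at hα; omega),
        Submodule.eq_top_of_finrank_eq (by
          have := h'.1; rw [this, finrank_bot] at hβ; omega)⟩)
      (fun h' => hb ⟨Submodule.finrank_eq_zero.mp (by
          have := h'.2; rw [this, finrank_top] at hα; omega),
        Submodule.finrank_eq_zero.mp (by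
          have := h'.1; rw [this, finrank_top] at hβ; omega)⟩)
    rw [hdV, hdW]
    have e1 : finrank K B.dualCoannihilator = finrank K V - finrank K B := by omega
    have e2 : finrank K A.dualCoannihilator = finrank K W - finrank K A := by omega
    rw [e1, e2, Nat.mul_sub, Nat.mul_sub, mul_comm (finrank K W) (finrank K V)] at key
    have hAle : finrank K A ≤ finrank K W := by omega
    have hBle : finrank K B ≤ finrank K V := by omega
    exact (hR _ _ _ (Nat.mul_le_mul_left _ (by omega : finrank K B ≤ finrank K V) |>.trans
      (le_of_eq (mul_comm _ _))) (Nat.mul_le_mul_left _ hAle)).1 key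
  · rintro ⟨h0, h⟩
    refine ⟨by rw [hdV, hdW] at h0; omega, fun V' W' hsub hb ht => ?_⟩
    rw [isSubrep_iff] at hsub
    have hα := Subspace.finrank_add_finrank_dualAnnihilator_eq V'
    have hβ := Subspace.finrank_add_finrank_dualAnnihilator_eq W'
    have hsub' : IsSubrep (fun j => (f j).dualMap) W'.dualAnnihilator V'.dualAnnihilator := by
      rw [isSubrep_iff]
      intro j φ hφ
      rw [Submodule.mem_dualAnnihilator] at hφ ⊢
      intro v hv
      exact hφ _ (hsub j v hv)
    have key := h _ _ hsub'
      (fun h' => ht ⟨Submodule.eq_top_of_finrank_eq (by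
          have := h'.2; rw [this, finrank_bot] at hα; omega),
        Submodule.eq_top_of_finrank_eq (by
          have := h'.1; rw [this, finrank_bot] at hβ; omega)⟩)
      (fun h' => hb ⟨Submodule.finrank_eq_zero.mp (by
          have := h'.2; rw [this, finrank_top, hdV] at hα; omega),
        Submodule.finrank_eq_zero.mp (by
          have := h'.1; rw [this, finrank_top, hdW] at hβ; omega)⟩)
    rw [hdV, hdW] at key
    have e1 : finrank K V'.dualAnnihilator = finrank K V - finrank K V' := by omega
    have e2 : finrank K W'.dualAnnihilator = finrank K W - finrank K W' := by omega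
    rw [e1, e2, Nat.mul_sub, Nat.mul_sub, mul_comm (finrank K W) (finrank K V)] at key
    have hVle : finrank K V' ≤ finrank K V := by omega
    have hWle : finrank K W' ≤ finrank K W := by omega
    exact (hR _ _ _ (Nat.mul_le_mul_left _ hWle) (Nat.mul_le_mul_left _ hVle |>.trans
      (le_of_eq (mul_comm _ _)))).1 key

theorem isSemistable_dual_iff (f : Fin n → (V →ₗ[K] W)) :
    IsSemistable f ↔ IsSemistable (fun j => (f j).dualMap) :=
  genStable_dual_iff (· ≤ ·) (fun a b c hb hc => by omega) f

theorem isStable_dual_iff (f : Fin n → (V →ₗ[K] W)) :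
    IsStable f ↔ IsStable (fun j => (f j).dualMap) :=
  genStable_dual_iff (· < ·) (fun a b c hb hc => by omega) f

end Groth.Agent.H77
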