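-- helper77: a semistable Kronecker module of dimension vector (2,2) has a bijective combination
import Groth.Agent.H77.Kron2

set_option autoImplicit false
universe u v w

namespace Groth.Agent.H77

open KronMod Module

variable {K : Type u} [Field K] {V : Type v} {W : Type w}
  [AddCommGroup V] [Module K V] [AddCommGroup W] [Module K W] {n : ℕ}

/-- The linear combinations of the arrows. -/
def comb (f : Fin n → (V →ₗ[K] W)) : Submodule K (V →ₗ[K] W) :=
  Submodule.span K (Set.range f)

theorem mem_comb_iff (f : Fin n → (V →ₗ[K] W)) (g : V →ₗ[K] W) :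
    g ∈ comb f ↔ ∃ z : Fin n → K, g = ∑ j, z j • f j := by
  unfold comb
  rw [Submodule.mem_span_range_iff_exists_fun]
  constructor
  · rintro ⟨z, rfl⟩; exact ⟨z, rfl⟩
  · rintro ⟨z, rfl⟩; exact ⟨z, rfl⟩

/-- Key 2-dimensional lemma.  Let `u, v` span `V`, `g u = 0`, `g v = w ≠ 0`, and suppose `g + t • h` is never
injective.  Then `h u ∈ K ∙ w`, and `h u = 0` or `h v ∈ K ∙ w`. -/
theorem key_two (s : K) (hs0 : s ≠ 0) (hs1 : s ≠ 1)
    (g h : V →ₗ[K] W) (u v : V) (w : W) (hw : w ≠ 0)
    (hspan : ∀ x : V, ∃ α β : K, x = α • u + β • v)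
    (hgu : g u = 0) (hgv : g v = w)
    (hsing : ∀ t : K, ¬ Function.Injective (g + t • h)) :
    h u ∈ K ∙ w ∧ (h u = 0 ∨ h v ∈ K ∙ w) := by
  -- a kernel vector for each `t`
  have hker : ∀ t : K, ∃ α β : K, (α ≠ 0 ∨ β ≠ 0) ∧ (α * t) • h u + β • w + (β * t) • h v = 0 := by
    intro t
    have := hsing t
    rw [← LinearMap.ker_eq_bot, Submodule.eq_bot_iff] at this
    push Not at this
    obtain ⟨x, hx, hx0⟩ := this
    obtain ⟨α, β, rfl⟩ := hspan x
    refine ⟨α, β, ?_, ?_⟩
    · by_contra hc
      push Not at hc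
      apply hx0
      rw [hc.1, hc.2]
      simp
    · rw [LinearMap.mem_ker] at hx
      simp only [LinearMap.add_apply, LinearMap.smul_apply, map_add, map_smul, hgu, hgv,
        zero_add] at hx
      rw [← hx]
      simp only [smul_add, smul_smul]
      abel
  have hA : h u ∈ K ∙ w := by
    by_contra hnot
    -- for each `t ≠ 0`: `h v = λ • h u - t⁻¹ • w`
    have hform : ∀ t : K, t ≠ 0 → ∃ l : K, h v = l • h u - t⁻¹ • w := by
      intro t ht
      obtain ⟨α, β, hab, he⟩ := hker t
      have hβ : β ≠ 0 := by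
        intro hβ
        rw [hβ] at he
        simp only [zero_smul, zero_mul, add_zero] at he
        rcases hab with hα | hβ'
        · have : h u = 0 := by
            rcases smul_eq_zero.mp he with h1 | h1
            · exact absurd h1 (mul_ne_zero hα ht)
            · exact h1
          exact hnot (this ▸ Submodule.zero_mem _)
        · exact hβ' hβ
      refine ⟨-(α / β), ?_⟩
      have h2 : (β * t) • h v = -((α * t) • h u) - β • w := by
        rw [eq_sub_iff_add_eq, eq_neg_iff_add_eq_zero]
        rw [← he]; abel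
      have h3 : h v = (β * t)⁻¹ • (-((α * t) • h u) - β • w) := by
        rw [← h2, smul_smul, inv_mul_cancel₀ (mul_ne_zero hβ ht), one_smul]
      rw [h3, smul_sub, smul_neg, smul_smul, smul_smul]
      congr 1
      · rw [neg_smul]
        congr 2
        field_simp
      · congr 1
        field_simp
    obtain ⟨l1, h1⟩ := hform 1 one_ne_zero
    obtain ⟨l2, h2⟩ := hform s hs0
    have h3 : (l1 - l2) • h u = (1 - s⁻¹) • w := by
      have : l1 • h u - (1 : K)⁻¹ • w = l2 • h u - s⁻¹ • w := by rw [← h1, ← h2]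
      rw [inv_one, one_smul] at this
      rw [sub_smul, sub_smul, one_smul]
      rw [sub_eq_sub_iff_add_eq_add] at this ⊢
      rw [this, add_comm]
    by_cases hl : l1 = l2
    · rw [hl, sub_self, zero_smul] at h3
      have h4 : (1 - s⁻¹) = 0 := by
        rcases smul_eq_zero.mp h3.symm with h5 | h5
        · exact h5
        · exact absurd h5 hw
      apply hs1
      have : s⁻¹ = 1 := by
        rw [sub_eq_zero] at h4
        exact h4.symm
      rw [inv_eq_one] at this
      exact this
    · apply hnot
      have : h u = (l1 - l2)⁻¹ • ((1 - s⁻¹) • w) := by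
        rw [← h3, smul_smul, inv_mul_cancel₀ (sub_ne_zero.mpr hl), one_smul]
      rw [this]
      exact Submodule.smul_mem _ _ (Submodule.smul_mem _ _ (Submodule.mem_span_singleton_self _))
  refine ⟨hA, ?_⟩
  by_cases hu0 : h u = 0
  · exact Or.inl hu0
  · right
    obtain ⟨a, ha⟩ := Submodule.mem_span_singleton.mp hA
    obtain ⟨α, β, hab, he⟩ := hker 1
    simp only [mul_one] at he
    have hβ : β ≠ 0 := by
      intro hβ
      rw [hβ] at he
      simp only [zero_smul, add_zero] at he
      rcases hab with hα | hβ'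
      · rcases smul_eq_zero.mp he with h1 | h1
        · exact hα h1
        · exact hu0 h1
      · exact hβ' hβ
    have h2 : β • h v = -(α • h u) - β • w := by
      rw [eq_sub_iff_add_eq, eq_neg_iff_add_eq_zero]
      rw [← he]; abel
    have h3 : h v = β⁻¹ • (-(α • h u) - β • w) := by
      rw [← h2, smul_smul, inv_mul_cancel₀ hβ, one_smul]
    rw [h3, ← ha]
    refine Submodule.smul_mem _ _ (Submodule.sub_mem _ (Submodule.neg_mem _ ?_) ?_)
    · exact Submodule.smul_mem _ _ (Submodule.smul_mem _ _ (Submodule.mem_span_singleton_self _))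
    · exact Submodule.smul_mem _ _ (Submodule.mem_span_singleton_self _)

variable [FiniteDimensional K V] [FiniteDimensional K W]

/-- Two linearly independent vectors of a 2-dimensional space span it. -/
theorem span_pair_of_finrank_two (hV : finrank K V = 2) (u v : V)
    (hind : ∀ s t : K, s • u + t • v = 0 → s = 0 ∧ t = 0) :
    ∀ x : V, ∃ α β : K, x = α • u + β • v := by
  have hli : LinearIndependent K ![u, v] := LinearIndependent.pair_iff.mpr hind
  have h1 : finrank K (Submodule.span K (Set.range ![u, v])) = 2 := by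
    rw [finrank_span_eq_card hli]; simp
  have h2 : Submodule.span K (Set.range ![u, v]) = ⊤ :=
    Submodule.eq_top_of_finrank_eq (by rw [h1, hV])
  intro x
  have hx : x ∈ Submodule.span K (Set.range ![u, v]) := by rw [h2]; trivial
  have hr : Set.range ![u, v] = {u, v} := by
    ext y
    simp [eq_comm]
    exact or_comm
  rw [hr, Submodule.mem_span_pair] at hx
  obtain ⟨a, b, hab⟩ := hx
  exact ⟨a, b, hab.symm⟩

theorem exists_bijective_comb_of_isSemistable [IsAlgClosed K] (f : Fin n → (V →ₗ[K] W))
    (hV : finrank K V = 2) (hW : finrank K W = 2) (hf : IsSemistable f) :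
    ∃ z : Fin n → K, Function.Bijective ((∑ j, z j • f j : V →ₗ[K] W) : V → W) := by
  classical
  by_contra hno
  push Not at hno
  have hdim : finrank K V = finrank K W := by rw [hV, hW]
  -- no member of `comb f` is injective
  have hL : ∀ g ∈ comb f, ¬ Function.Injective g := by
    intro g hg hinj
    obtain ⟨z, rfl⟩ := (mem_comb_iff f g).mp hg
    exact hno z ⟨hinj, (LinearMap.injective_iff_surjective_of_finrank_eq_finrank hdim).1 hinj⟩
  have hfmem : ∀ j, f j ∈ comb f := fun j => Submodule.subset_span ⟨j, rfl⟩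
  obtain ⟨_, hss⟩ := hf
  -- (i) no common kernel vector
  have hi : ∀ x : V, x ≠ 0 → ∃ g ∈ comb f, g x ≠ 0 := by
    intro x hx
    by_contra hc
    push Not at hc
    have hsub : IsSubrep f (K ∙ x) ⊥ := by
      rw [isSubrep_iff]
      intro j y hy
      obtain ⟨a, rfl⟩ := Submodule.mem_span_singleton.mp hy
      rw [map_smul, hc _ (hfmem j), smul_zero]
      exact Submodule.zero_mem _
    have h1 : finrank K (K ∙ x) = 1 := finrank_span_singleton hx
    have := hss _ _ hsub (fun h' => by rw [h'.1, finrank_bot] at h1; omega)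
      (fun h' => by rw [h'.1, finrank_top] at h1; omega)
    rw [h1, finrank_bot, hW] at this
    omega
  -- (ii) no common image line
  have hii : ∀ w : W, ∃ g ∈ comb f, ∃ x : V, g x ∉ K ∙ w := by
    intro w
    by_contra hc
    push Not at hc
    have hsub : IsSubrep f ⊤ (K ∙ w) := by
      rw [isSubrep_iff]
      intro j y _
      exact hc _ (hfmem j) y
    have h1 : finrank K (K ∙ w) ≤ 1 := finrank_span_singleton_le_one w
    have := hss _ _ hsub
      (fun h' => top_ne_bot_of_finrank_pos V (by omega) h'.1)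
      (fun h' => by rw [h'.2, finrank_top] at h1; omega)
    rw [finrank_top, hV, hW] at this
    omega
  haveI : Nontrivial V := Module.nontrivial_of_finrank_pos (R := K) (by omega)
  obtain ⟨x0, hx0⟩ := exists_ne (0 : V)
  obtain ⟨g, hg, hgx⟩ := hi x0 hx0
  have hginj := hL g hg
  rw [← LinearMap.ker_eq_bot, Submodule.eq_bot_iff] at hginj
  push Not at hginj
  obtain ⟨u, hu, hu0⟩ := hginj
  rw [LinearMap.mem_ker] at hu
  have hspan := span_pair_of_finrank_two hV u x0 (by
    intro s t hst
    have h1 := congrArg g hst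
    rw [map_add, map_smul, map_smul, hu, smul_zero, zero_add, map_zero] at h1
    have ht : t = 0 := by
      rcases smul_eq_zero.mp h1 with h | h
      · exact h
      · exact absurd h hgx
    rw [ht, zero_smul, add_zero] at hst
    have hs : s = 0 := by
      rcases smul_eq_zero.mp hst with h | h
      · exact h
      · exact absurd h hu0
    exact ⟨hs, ht⟩)
  obtain ⟨s, hs⟩ := Infinite.exists_notMem_finset ({0, 1} : Finset K)
  have hs0 : s ≠ 0 := fun h => hs (by simp [h])
  have hs1 : s ≠ 1 := fun h => hs (by simp [h])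
  have hkey : ∀ h ∈ comb f, h u ∈ K ∙ g x0 ∧ (h u = 0 ∨ h x0 ∈ K ∙ g x0) := by
    intro h hh
    exact key_two s hs0 hs1 g h u x0 (g x0) hgx hspan hu rfl
      (fun t => hL _ (Submodule.add_mem _ hg (Submodule.smul_mem _ t hh)))
  obtain ⟨h1, hh1, h1u⟩ := hi u hu0
  obtain ⟨h2, hh2, x, h2x⟩ := hii (g x0)
  have h2v : h2 x0 ∉ K ∙ g x0 := by
    intro hmem
    apply h2x
    obtain ⟨α, β, rfl⟩ := hspan x
    rw [map_add, map_smul, map_smul]
    exact Submodule.add_mem _ (Submodule.smul_mem _ _ (hkey h2 hh2).1)
      (Submodule.smul_mem _ _ hmem)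
  have h2u : h2 u = 0 := (hkey h2 hh2).2.resolve_right h2v
  have h1v : h1 x0 ∈ K ∙ g x0 := (hkey h1 hh1).2.resolve_left h1u
  have h12 := hkey (h1 + h2) (Submodule.add_mem _ hh1 hh2)
  have h12u : (h1 + h2) u ≠ 0 := by
    rw [LinearMap.add_apply, h2u, add_zero]
    exact h1u
  have h12v : (h1 + h2) x0 ∈ K ∙ g x0 := h12.2.resolve_left h12u
  apply h2v
  have : h2 x0 = (h1 + h2) x0 - h1 x0 := by
    rw [LinearMap.add_apply]; abel
  rw [this]
  exact Submodule.sub_mem _ h12v h1v

end Groth.Agent.H77
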