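import Mathlib
import Groth.Agent.H93.NilPull
import Groth.Agent.H93.IdealComap
set_option autoImplicit false
universe u
open CategoryTheory CategoryTheory.Limits AlgebraicGeometry

namespace Groth.Agent.H77.MR_KER
open Groth.Agent.H93

/-- (KER) functions on an affine `T` vanishing on `T ×_S S₀` lie in the extended ideal. -/
theorem mem_map_of_pullback_fst_appTop_eq_zero {S S₀ T : Scheme.{u}} (i₀ : S₀ ⟶ S)
    [IsClosedImmersion i₀] [IsAffine T] (t : T ⟶ S) (V : S.Opens) (hV : IsAffineOpen V)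
    (hle : ⊤ ≤ t ⁻¹ᵁ V) (f : Γ(T, ⊤)) (hf : (pullback.fst t i₀).appTop f = 0) :
    f ∈ (i₀.ker.ideal ⟨V, hV⟩).map (t.appLE V ⊤ hle).hom := by
  haveI : IsAffine V.toScheme := hV
  have hrange : Set.range t ⊆ Set.range V.ι := by
    rintro _ ⟨x, rfl⟩
    rw [Scheme.Opens.range_ι]
    exact hle (show x ∈ (⊤ : T.Opens) from trivial)
  obtain ⟨t', rfl⟩ : ∃ t' : T ⟶ V.toScheme, t' ≫ V.ι = t :=
    ⟨IsOpenImmersion.lift V.ι t hrange, IsOpenImmersion.lift_fac _ _ _⟩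
  suffices key : ∀ (W : S.Opens) (hW : IsAffineOpen W) (hle' : ⊤ ≤ (t' ≫ V.ι) ⁻¹ᵁ W),
      W = V.ι ''ᵁ ⊤ →
      f ∈ (i₀.ker.ideal ⟨W, hW⟩).map ((t' ≫ V.ι).appLE W ⊤ hle').hom from
    key V hV hle V.ι_image_top.symm
  rintro W hW hle' rfl
  have h1 : f ∈ RingHom.ker (pullback.fst (t' ≫ V.ι) i₀).appTop.hom := hf
  rw [← IdealComap.ideal_top_ker, Scheme.IdealSheafData.ker_fst_of_isClosedImmersion,
    Scheme.IdealSheafData.comap_comp, IdealComap.ideal_top_comap,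
    Scheme.IdealSheafData.ideal_comap_of_isOpenImmersion] at h1
  have e0 : (V.ι.appIso ⊤).inv ≫ (t' ≫ V.ι).appLE (V.ι ''ᵁ ⊤) ⊤ hle' = t'.appTop := by
    rw [← Scheme.Hom.appLE_comp_appLE t' V.ι (V.ι ''ᵁ ⊤) ⊤ ⊤ (by simp) (by simp),
      ← Category.assoc, Scheme.Hom.appIso_inv_appLE]
    simp [Scheme.Hom.appLE]
    exact Category.id_comp (Scheme.Hom.app t' ⊤)
  refine (?_ : Ideal.map _ _ ≤ _) h1
  rw [Ideal.map_le_iff_le_comap]
  intro x hx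
  rw [Ideal.mem_comap] at hx ⊢
  have e1 : t'.appTop.hom x =
      ((t' ≫ V.ι).appLE (V.ι ''ᵁ ⊤) ⊤ hle').hom ((V.ι.appIso ⊤).inv.hom x) := by
    rw [← e0]
    rfl
  rw [e1]
  exact Ideal.mem_map_of_mem _ hx

end Groth.Agent.H77.MR_KER
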