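import Mathlib
import Groth.Agent.H93.NilPull
import Groth.Agent.H93.IdealComap
set_option autoImplicit false
universe u
open CategoryTheory CategoryTheory.Limits AlgebraicGeometry

namespace Groth.Agent.H77.MR_NIL
open Groth.Agent.H93

theorem comap_comap_iso {R R' : CommRingCat.{u}} (e : R ≅ R') (I : Ideal R) :
    (I.comap e.inv.hom).comap e.hom.hom = I := by
  ext x
  rw [Ideal.mem_comap, Ideal.mem_comap]
  have : e.inv.hom (e.hom.hom x) = x := by
    rw [← CommRingCat.comp_apply, Iso.hom_inv_id]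
    rfl
  rw [this]

/-- (NIL) local nilpotency of the ideal of a closed immersion is stable under base change. -/
theorem nil_pullback {S S₀ S' : Scheme.{u}} (i₀ : S₀ ⟶ S) [IsClosedImmersion i₀]
    (hnil : ∀ x : S, ∃ U : S.affineOpens, x ∈ (U : S.Opens) ∧ IsNilpotent (i₀.ker.ideal U))
    (f : S' ⟶ S) :
    ∀ x : S', ∃ U : S'.affineOpens, x ∈ (U : S'.Opens) ∧
      IsNilpotent ((pullback.snd i₀ f).ker.ideal U) := by
  intro x
  obtain ⟨V, hxV, hVnil⟩ := hnil (f x)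
  obtain ⟨W, hW, hxW, hWV⟩ :=
    exists_isAffineOpen_mem_and_subset (X := S') (x := x) (U := f ⁻¹ᵁ V.1) hxV
  refine ⟨⟨W, hW⟩, hxW, ?_⟩
  haveI : IsAffine W.toScheme := hW
  haveI : IsAffine V.1.toScheme := V.2
  rw [NilPull.ker_eq_comap_of_isPullback (IsPullback.of_hasPullback i₀ f).flip]
  have hfac : W.ι ≫ f = f.resLE V.1 W hWV ≫ V.1.ι := (Scheme.Hom.resLE_comp_ι f hWV).symm
  have h1 : ((i₀.ker.comap f).comap W.ι).ideal ⟨⊤, isAffineOpen_top _⟩ =
      ((i₀.ker.comap V.1.ι).ideal ⟨⊤, isAffineOpen_top _⟩).map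
        (f.resLE V.1 W hWV).appTop.hom := by
    rw [← Scheme.IdealSheafData.comap_comp, hfac, Scheme.IdealSheafData.comap_comp,
      IdealComap.ideal_top_comap]
  rw [Scheme.IdealSheafData.ideal_comap_of_isOpenImmersion _ W.ι,
    Scheme.IdealSheafData.ideal_comap_of_isOpenImmersion _ V.1.ι] at h1
  have keyV : ∀ V' : S.affineOpens, V' = V → IsNilpotent (i₀.ker.ideal V') := by
    rintro _ rfl
    exact hVnil
  have hV' := keyV ⟨V.1.ι ''ᵁ ⊤, (isAffineOpen_top _).image_of_isOpenImmersion V.1.ι⟩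
    (Subtype.ext (Scheme.Opens.ι_image_top _))
  have h2 := NilPull.nil_comap_iso (V.1.ι.appIso ⊤) _ hV'
  have h2' : IsNilpotent (((i₀.ker.ideal ⟨V.1.ι ''ᵁ ⊤,
      (isAffineOpen_top _).image_of_isOpenImmersion V.1.ι⟩).comap
      (V.1.ι.appIso ⊤).inv.hom).map (f.resLE V.1 W hWV).appTop.hom) := by
    obtain ⟨m, hm⟩ := h2
    refine ⟨m, ?_⟩
    rw [← Ideal.map_pow, hm, Ideal.zero_eq_bot, Ideal.map_bot]
    rfl
  have h3 : IsNilpotent (((i₀.ker.comap f).ideal ⟨W.ι ''ᵁ ⊤,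
      (isAffineOpen_top _).image_of_isOpenImmersion W.ι⟩).comap (W.ι.appIso ⊤).inv.hom) := by
    convert h2' using 1
  have h4 := NilPull.nil_comap_iso (W.ι.appIso ⊤).symm _ h3
  rw [Iso.symm_inv, comap_comap_iso] at h4
  have keyW : ∀ W' : S'.affineOpens, W' = ⟨W, hW⟩ → IsNilpotent ((i₀.ker.comap f).ideal W') →
      IsNilpotent ((i₀.ker.comap f).ideal ⟨W, hW⟩) := by
    rintro _ rfl h
    exact h
  exact keyW _ (Subtype.ext (Scheme.Opens.ι_image_top _)) h4

end Groth.Agent.H77.MR_NIL
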