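import Mathlib
import Groth.Prelude.Def_W4c2conddiscmodels

set_option autoImplicit false

/-! Multigraphs: spanning trees as rooted arborescences; parity arguments. -/

namespace Groth.Agent.H77.MT

open Finset LabGraph

universe u
variable {V E : Type u} [Fintype V] [Fintype E] [DecidableEq V] [DecidableEq E]

section basic
variable (ends : E → V × V)

/-- signed incidence vector of an edge. -/
def chi (e : E) (v : V) : ℤ :=
  (if (ends e).1 = v then 1 else 0) - (if (ends e).2 = v then 1 else 0)

/-- the other endpoint. -/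
def other (e : E) (v : V) : V := if (ends e).1 = v then (ends e).2 else (ends e).1

/-- adjacency through an edge of `S`. -/
def AdjS (S : Finset E) (a b : V) : Prop := ∃ e ∈ S, ends e = (a, b) ∨ ends e = (b, a)

def ConnS (S : Finset E) : Prop := ∀ v w : V, Relation.ReflTransGen (AdjS ends S) v w

def NoEven (S : Finset E) : Prop :=
  ∀ C : Finset E, C ⊆ S → C.Nonempty → ∃ v : V, ¬ Even (endCount ends C v)

theorem adjS_symm (S : Finset E) {a b : V} (h : AdjS ends S a b) : AdjS ends S b a := by
  obtain ⟨e, he, h⟩ := h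
  exact ⟨e, he, h.symm⟩

theorem chi_ne_zero {e : E} {v : V} (h : chi ends e v ≠ 0) :
    (ends e = (v, other ends e v) ∨ ends e = (other ends e v, v)) ∧ other ends e v ≠ v := by
  unfold chi at h
  unfold other
  by_cases h1 : (ends e).1 = v
  · by_cases h2 : (ends e).2 = v
    · simp [h1, h2] at h
    · rw [if_pos h1]
      exact ⟨Or.inl (Prod.ext h1 rfl), h2⟩
  · by_cases h2 : (ends e).2 = v
    · rw [if_neg h1]
      exact ⟨Or.inr (Prod.ext rfl h2), h1⟩
    · simp [h1, h2] at h

theorem chi_smul_chi {e : E} {v : V} (h : chi ends e v ≠ 0) (w : V) :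
    chi ends e v * chi ends e w =
      (if v = w then 1 else 0) - (if other ends e v = w then 1 else 0) := by
  obtain ⟨h1, h2⟩ := chi_ne_zero ends h
  rcases h1 with h1 | h1
  · have ha : (ends e).1 = v := by rw [h1]
    have hb : (ends e).2 = other ends e v := by rw [h1]
    unfold chi
    rw [ha, hb]
    simp only [if_true]
    rw [if_neg h2]
    ring
  · have ha : (ends e).1 = other ends e v := by rw [h1]
    have hb : (ends e).2 = v := by rw [h1]
    unfold chi
    rw [ha, hb]
    simp only [if_true]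
    rw [if_neg h2]
    ring

end basic

section circuits

theorem exists_circuit_subset {E' : Type u} [Fintype E'] [DecidableEq E'] (ends' : E' → V × V) :
    ∀ C : Finset E', C.Nonempty → (∀ v, Even (endCount ends' C v)) →
      ∃ C' : Finset E', C' ⊆ C ∧ IsCircuit ends' C' := by
  intro C
  induction C using Finset.strongInduction with
  | H C ih =>
    intro hne hev
    by_cases hc : IsCircuit ends' C
    · exact ⟨C, Subset.refl _, hc⟩
    · have : ∃ C' : Finset E', C' ⊂ C ∧ C'.Nonempty ∧ ∀ v, Even (endCount ends' C' v) := by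
        by_contra hcon
        apply hc
        refine ⟨hne, hev, fun C' hC' hne' => ?_⟩
        by_contra hv
        push Not at hv
        exact hcon ⟨C', hC', hne', hv⟩
      obtain ⟨C', hC', hne', hev'⟩ := this
      obtain ⟨C'', hsub, hcirc⟩ := ih C' hC' hne' hev'
      exact ⟨C'', hsub.trans hC'.subset, hcirc⟩

variable (ends : E → V × V)

theorem endCount_map (T : Finset E) (C' : Finset ↥T) (v : V) :
    endCount (fun e : ↥T => ends e.1) C' v =
      endCount ends (C'.map (Function.Embedding.subtype _)) v := by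
  unfold endCount
  rw [Finset.sum_map]
  rfl

theorem isSpanningTree_iff (T : Finset E) :
    IsSpanningTree ends T ↔ (Nonempty V ∧ ConnS ends T) ∧ NoEven ends T := by
  unfold IsSpanningTree DualGr.IsTree LabGraph.Connected DualGr.IsForest
  constructor
  · rintro ⟨⟨hne, hconn⟩, hfor⟩
    refine ⟨⟨hne, fun v w => ?_⟩, ?_⟩
    · have hle : Adj (fun e : ↥T => ends e.1) ≤ AdjS ends T := by
        rintro a b ⟨e, h⟩
        exact ⟨e.1, e.2, h⟩
      exact Relation.ReflTransGen.mono hle v w (hconn v w)
    · intro C hCT hne'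
      by_contra hcon
      push Not at hcon
      obtain ⟨C', hC'⟩ : ∃ C' : Finset ↥T, C' = C.subtype (· ∈ T) := ⟨_, rfl⟩
      have hmap : C'.map (Function.Embedding.subtype _) = C := by
        rw [hC']
        exact Finset.subtype_map_of_mem hCT
      have hne'' : C'.Nonempty := by
        rw [← hmap] at hne'
        exact (Finset.map_nonempty).1 hne'
      have hev : ∀ v, Even (endCount (fun e : ↥T => ends e.1) C' v) := by
        intro v
        rw [endCount_map, hmap]
        exact hcon v
      obtain ⟨C'', -, hcirc⟩ := exists_circuit_subset (fun e : ↥T => ends e.1) C' hne'' hev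
      exact hfor C'' hcirc
  · rintro ⟨⟨hne, hconn⟩, hfor⟩
    refine ⟨⟨hne, fun v w => ?_⟩, ?_⟩
    · have hle : AdjS ends T ≤ Adj (fun e : ↥T => ends e.1) := by
        rintro a b ⟨e, he, h⟩
        exact ⟨⟨e, he⟩, h⟩
      exact Relation.ReflTransGen.mono hle v w (hconn v w)
    · intro C' hcirc
      obtain ⟨hne', hev, -⟩ := hcirc
      have hsub : C'.map (Function.Embedding.subtype _) ⊆ T := by
        intro e he
        obtain ⟨e', -, rfl⟩ := Finset.mem_map.1 he
        exact e'.2
      obtain ⟨v, hv⟩ := hfor _ hsub ((Finset.map_nonempty).2 hne')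
      apply hv
      rw [← endCount_map]
      exact hev v

end circuits

section parity

variable (ends : E → V × V)

/-- incidence vector mod 2. -/
def inc (e : E) : V → ZMod 2 := Pi.single (ends e).1 1 + Pi.single (ends e).2 1

theorem endCount_cast (C : Finset E) (v : V) :
    ((endCount ends C v : ℕ) : ZMod 2) = (∑ e ∈ C, inc ends e) v := by
  unfold endCount inc
  rw [Finset.sum_apply]
  push_cast
  refine Finset.sum_congr rfl fun e _ => ?_
  simp only [Pi.add_apply, Pi.single_apply]
  congr 1
  · by_cases h : (ends e).1 = v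
    · rw [if_pos h, if_pos h.symm]
    · rw [if_neg h, if_neg (Ne.symm h)]
  · by_cases h : (ends e).2 = v
    · rw [if_pos h, if_pos h.symm]
    · rw [if_neg h, if_neg (Ne.symm h)]

theorem even_iff_cast (k : ℕ) : Even k ↔ ((k : ℕ) : ZMod 2) = 0 := by
  rw [ZMod.natCast_eq_zero_iff, even_iff_two_dvd]

theorem sum_coords_inc (e : E) : ∑ v, inc ends e v = 0 := by
  unfold inc
  simp only [Pi.add_apply, Finset.sum_add_distrib, Finset.sum_pi_single', Finset.mem_univ,
    if_true]
  decide

theorem zmod2_cases : ∀ x : ZMod 2, x = 0 ∨ x = 1 := by decide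

theorem linearIndependent_of_noEven (S : Finset E) (h : NoEven ends S) :
    LinearIndependent (ZMod 2) (fun e : ↥S => inc ends e.1) := by
  rw [linearIndependent_iff']
  intro s g hsum i hi
  obtain ⟨C', hC'⟩ : ∃ C' : Finset ↥S, C' = s.filter (fun i => g i = 1) := ⟨_, rfl⟩
  obtain ⟨C, hC⟩ : ∃ C : Finset E, C = C'.map (Function.Embedding.subtype _) := ⟨_, rfl⟩
  have hCS : C ⊆ S := by
    intro e he
    rw [hC] at he
    obtain ⟨e', -, rfl⟩ := Finset.mem_map.1 he
    exact e'.2
  have hsumC : ∑ e ∈ C, inc ends e = 0 := by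
    rw [hC, Finset.sum_map, hC', Finset.sum_filter]
    refine Eq.trans ?_ hsum
    refine Finset.sum_congr rfl fun j _ => ?_
    rcases zmod2_cases (g j) with h0 | h1
    · rw [h0]; simp
    · rw [h1]; simp
  have hCe : C = ∅ := by
    by_contra hne
    obtain ⟨v, hv⟩ := h C hCS (Finset.nonempty_iff_ne_empty.2 hne)
    apply hv
    rw [even_iff_cast, endCount_cast, hsumC]
    rfl
  rcases zmod2_cases (g i) with h0 | h1
  · exact h0
  · exfalso
    have : (i : E) ∈ C := by
      rw [hC, hC']
      exact Finset.mem_map.2 ⟨i, Finset.mem_filter.2 ⟨hi, h1⟩, rfl⟩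
    rw [hCe] at this
    exact Finset.notMem_empty _ this

theorem card_le_of_noEven (v₀ : V) (S : Finset E) (h : NoEven ends S) :
    S.card + 1 ≤ Fintype.card V := by
  have hli := linearIndependent_of_noEven ends S h
  -- all the `inc` lie in the hyperplane `∑ = 0`, which misses `δ_{v₀}`
  obtain ⟨φ, hφ⟩ : ∃ φ : (V → ZMod 2) →ₗ[ZMod 2] ZMod 2, ∀ x, φ x = ∑ v, x v :=
    ⟨∑ v, LinearMap.proj v, fun x => by simp⟩
  have hspan : Submodule.span (ZMod 2) (Set.range fun e : ↥S => inc ends e.1) ≤
      LinearMap.ker φ := by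
    refine Submodule.span_le.2 ?_
    rintro _ ⟨e, rfl⟩
    show φ (inc ends e.1) = 0
    rw [hφ]
    exact sum_coords_inc ends e.1
  have hnot : (Pi.single v₀ 1 : V → ZMod 2) ∉
      Submodule.span (ZMod 2) (Set.range fun e : ↥S => inc ends e.1) := by
    intro hmem
    have h0 : φ (Pi.single v₀ 1) = 0 := hspan hmem
    rw [hφ, Finset.sum_pi_single'] at h0
    simp at h0
  have hli2 := (linearIndependent_option' (K := ZMod 2)
    (v := fun e : ↥S => inc ends e.1) (x := (Pi.single v₀ 1 : V → ZMod 2))).2 ⟨hli, hnot⟩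
  have hcard := hli2.fintype_card_le_finrank
  rw [Fintype.card_option, Fintype.card_coe, Module.finrank_fintype_fun_eq_card] at hcard
  exact hcard

end parity

section arb

variable (ends : E → V × V) (v₀ : V)

/-- every non-root vertex picks a non-loop edge at it. -/
def Valid (f : {v : V // v ≠ v₀} → E) : Prop := ∀ v, chi ends (f v) v.1 ≠ 0

/-- the parent function. -/
def gh (f : {v : V // v ≠ v₀} → E) (v : V) : V :=
  if h : v = v₀ then v₀ else other ends (f ⟨v, h⟩) v

def Acyclic (f : {v : V // v ≠ v₀} → E) : Prop :=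
  ∀ v : V, ∃ k : ℕ, (gh ends v₀ f)^[k] v = v₀

variable {ends v₀}
variable {f : {v : V // v ≠ v₀} → E}

theorem gh_root : gh ends v₀ f v₀ = v₀ := by
  unfold gh
  rw [dif_pos rfl]

theorem gh_of_ne {v : V} (h : v ≠ v₀) : gh ends v₀ f v = other ends (f ⟨v, h⟩) v := by
  unfold gh
  rw [dif_neg h]

theorem iterate_root (k : ℕ) : (gh ends v₀ f)^[k] v₀ = v₀ :=
  Function.iterate_fixed gh_root k

theorem valid_ends (hf : Valid ends v₀ f) (v : {v : V // v ≠ v₀}) :
    (ends (f v) = (v.1, gh ends v₀ f v.1) ∨ ends (f v) = (gh ends v₀ f v.1, v.1)) ∧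
      gh ends v₀ f v.1 ≠ v.1 := by
  have := chi_ne_zero ends (hf v)
  rw [gh_of_ne v.2]
  exact this

open Classical in
/-- distance to the root along the parent function. -/
noncomputable def depth (hac : Acyclic ends v₀ f) (v : V) : ℕ := Nat.find (hac v)

theorem depth_spec (hac : Acyclic ends v₀ f) (v : V) :
    (gh ends v₀ f)^[depth hac v] v = v₀ := by
  classical
  exact Nat.find_spec (hac v)

theorem depth_le (hac : Acyclic ends v₀ f) {v : V} {k : ℕ}
    (h : (gh ends v₀ f)^[k] v = v₀) : depth hac v ≤ k := by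
  classical
  exact Nat.find_min' (hac v) h

theorem depth_gh (hac : Acyclic ends v₀ f) {v : V} (h : v ≠ v₀) :
    depth hac (gh ends v₀ f v) + 1 = depth hac v := by
  have h1 := depth_spec hac v
  have hpos : depth hac v ≠ 0 := by
    intro h0
    rw [h0] at h1
    exact h h1
  obtain ⟨k, hk⟩ := Nat.exists_eq_succ_of_ne_zero hpos
  rw [hk, Function.iterate_succ_apply] at h1
  have h2 := depth_le hac h1
  have h3 : (gh ends v₀ f)^[depth hac (gh ends v₀ f v) + 1] v = v₀ := by
    rw [Function.iterate_succ_apply]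
    exact depth_spec hac _
  have h4 := depth_le hac h3
  omega

theorem valid_acyclic_injective (hf : Valid ends v₀ f) (hac : Acyclic ends v₀ f) :
    Function.Injective f := by
  intro v v' hvv
  by_contra hne
  have hne' : v.1 ≠ v'.1 := fun h => hne (Subtype.ext h)
  obtain ⟨h1, h1'⟩ := valid_ends hf v
  obtain ⟨h2, h2'⟩ := valid_ends hf v'
  rw [hvv] at h1
  have hg : gh ends v₀ f v.1 = v'.1 ∧ gh ends v₀ f v'.1 = v.1 := by
    rcases h1 with h1 | h1 <;> rcases h2 with h2 | h2
    · rw [h1] at h2
      exact absurd (Prod.mk.inj h2).1 hne'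
    · rw [h1] at h2
      exact ⟨(Prod.mk.inj h2).2, ((Prod.mk.inj h2).1).symm⟩
    · rw [h1] at h2
      exact ⟨(Prod.mk.inj h2).1, ((Prod.mk.inj h2).2).symm⟩
    · rw [h1] at h2
      exact absurd (Prod.mk.inj h2).2 hne'
  have d1 := depth_gh hac v.2
  have d2 := depth_gh hac v'.2
  rw [hg.1] at d1
  rw [hg.2] at d2
  omega

theorem conn_image (hf : Valid ends v₀ f) (hac : Acyclic ends v₀ f) :
    ConnS ends (Finset.univ.image f) := by
  have hsymm : ∀ a b : V, Relation.ReflTransGen (AdjS ends (Finset.univ.image f)) a b →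
      Relation.ReflTransGen (AdjS ends (Finset.univ.image f)) b a := by
    intro a b h
    induction h with
    | refl => exact Relation.ReflTransGen.refl
    | tail _ hbc ih => exact Relation.ReflTransGen.head (adjS_symm ends _ hbc) ih
  have hroot : ∀ k : ℕ, ∀ v : V, (gh ends v₀ f)^[k] v = v₀ →
      Relation.ReflTransGen (AdjS ends (Finset.univ.image f)) v v₀ := by
    intro k
    induction k with
    | zero =>
      intro v hv
      rw [Function.iterate_zero, id] at hv
      rw [hv]
    | succ k ih =>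
      intro v hv
      by_cases hv0 : v = v₀
      · rw [hv0]
      · rw [Function.iterate_succ_apply] at hv
        refine Relation.ReflTransGen.head ?_ (ih _ hv)
        obtain ⟨h1, -⟩ := valid_ends hf ⟨v, hv0⟩
        exact ⟨f ⟨v, hv0⟩, Finset.mem_image_of_mem _ (Finset.mem_univ _), h1⟩
  intro v w
  obtain ⟨k, hk⟩ := hac v
  obtain ⟨j, hj⟩ := hac w
  exact (hroot k v hk).trans (hsymm _ _ (hroot j w hj))

theorem noEven_image (hf : Valid ends v₀ f) (hac : Acyclic ends v₀ f) :
    NoEven ends (Finset.univ.image f) := by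
  intro C hCT hne
  have hinj := valid_acyclic_injective hf hac
  obtain ⟨S, hS⟩ : ∃ S : Finset {v : V // v ≠ v₀}, S = Finset.univ.filter (fun y => f y ∈ C) :=
    ⟨_, rfl⟩
  have hSC : S.image f = C := by
    ext e
    constructor
    · intro he
      obtain ⟨y, hy, rfl⟩ := Finset.mem_image.1 he
      rw [hS] at hy
      exact (Finset.mem_filter.1 hy).2
    · intro he
      obtain ⟨y, -, rfl⟩ := Finset.mem_image.1 (hCT he)
      refine Finset.mem_image.2 ⟨y, ?_, rfl⟩
      rw [hS]
      exact Finset.mem_filter.2 ⟨Finset.mem_univ _, he⟩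
  have hSne : S.Nonempty := by
    rw [← hSC] at hne
    exact (Finset.image_nonempty).1 hne
  obtain ⟨x, hxS, hxmax⟩ := Finset.exists_max_image S (fun y => depth hac y.1) hSne
  refine ⟨x.1, ?_⟩
  have hcount : endCount ends C x.1 = 1 := by
    unfold endCount
    rw [← hSC, Finset.sum_image (fun a _ b _ h => hinj h)]
    rw [Finset.sum_eq_single x]
    · obtain ⟨h1, h2⟩ := valid_ends hf x
      rcases h1 with h1 | h1
      · rw [h1]
        simp only [if_true]
        rw [if_neg h2]
      · rw [h1]
        simp only [if_true]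
        rw [if_neg h2]
    · intro y hy hyx
      obtain ⟨h1, h2⟩ := valid_ends hf y
      have hyx' : y.1 ≠ x.1 := fun h => hyx (Subtype.ext h)
      have hgy : gh ends v₀ f y.1 ≠ x.1 := by
        intro hg
        have d := depth_gh hac y.2
        rw [hg] at d
        have := hxmax y hy
        omega
      rcases h1 with h1 | h1
      · rw [h1]
        simp [hyx', hgy]
      · rw [h1]
        simp [hyx', hgy]
    · intro hx
      exact absurd hxS hx
  rw [hcount]
  decide

theorem isSpanningTree_image (hf : Valid ends v₀ f) (hac : Acyclic ends v₀ f) :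
    IsSpanningTree ends (Finset.univ.image f) :=
  (isSpanningTree_iff ends _).2 ⟨⟨⟨v₀⟩, conn_image hf hac⟩, noEven_image hf hac⟩

theorem eq_of_image_eq {f' : {v : V // v ≠ v₀} → E}
    (hf : Valid ends v₀ f) (hac : Acyclic ends v₀ f)
    (hf' : Valid ends v₀ f') (hac' : Acyclic ends v₀ f')
    (him : Finset.univ.image f = Finset.univ.image f') : f = f' := by
  by_contra hne
  have hinj := valid_acyclic_injective hf hac
  have hinj' := valid_acyclic_injective hf' hac'
  obtain ⟨Y, hY⟩ : ∃ Y : Finset {v : V // v ≠ v₀}, Y = Finset.univ.filter (fun y => f y ≠ f' y) :=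
    ⟨_, rfl⟩
  have hYne : Y.Nonempty := by
    by_contra hemp
    rw [Finset.not_nonempty_iff_eq_empty] at hemp
    apply hne
    funext y
    by_contra hy
    have : y ∈ Y := by rw [hY]; exact Finset.mem_filter.2 ⟨Finset.mem_univ _, hy⟩
    rw [hemp] at this
    exact Finset.notMem_empty _ this
  obtain ⟨y, hyY, hymin⟩ := Finset.exists_min_image Y (fun y => depth hac y.1) hYne
  have hy : f y ≠ f' y := by
    rw [hY] at hyY
    exact (Finset.mem_filter.1 hyY).2
  -- the edge `f y` is `f' z` for some `z`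
  have hmem : f y ∈ Finset.univ.image f' := by
    rw [← him]
    exact Finset.mem_image_of_mem _ (Finset.mem_univ _)
  obtain ⟨z, -, hz⟩ := Finset.mem_image.1 hmem
  obtain ⟨h1, h1'⟩ := valid_ends hf y
  obtain ⟨h2, h2'⟩ := valid_ends hf' z
  rw [hz] at h2
  have hzy : z ≠ y := by
    intro h
    rw [h] at hz
    exact hy hz.symm
  have hzy' : z.1 ≠ y.1 := fun h => hzy (Subtype.ext h)
  have hzg : z.1 = gh ends v₀ f y.1 := by
    rcases h1 with h1 | h1 <;> rcases h2 with h2 | h2
    · rw [h1] at h2
      exact absurd ((Prod.mk.inj h2).1).symm hzy'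
    · rw [h1] at h2
      exact ((Prod.mk.inj h2).2).symm
    · rw [h1] at h2
      exact ((Prod.mk.inj h2).1).symm
    · rw [h1] at h2
      exact absurd ((Prod.mk.inj h2).2).symm hzy'
  -- `z` is in `Y` and has smaller depth
  have hzY : z ∈ Y := by
    rw [hY]
    refine Finset.mem_filter.2 ⟨Finset.mem_univ _, ?_⟩
    intro h
    rw [hz] at h
    exact hzy (hinj h)
  have d := depth_gh hac y.2
  rw [← hzg] at d
  have := hymin z hzY
  omega

end arb

section bfs

variable (ends : E → V × V) (v₀ : V) (S : Finset E)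

open Classical in
/-- vertices within distance `k` of the root in the graph `(V, S)`. -/
noncomputable def reach : ℕ → Finset V
  | 0 => {v₀}
  | k + 1 => reach k ∪ Finset.univ.filter (fun w => ∃ v ∈ reach k, AdjS ends S v w)

theorem mem_reach_zero (w : V) : w ∈ reach ends v₀ S 0 ↔ w = v₀ := by
  show w ∈ ({v₀} : Finset V) ↔ _
  exact Finset.mem_singleton

theorem mem_reach_succ (k : ℕ) (w : V) : w ∈ reach ends v₀ S (k + 1) ↔
    w ∈ reach ends v₀ S k ∨ ∃ v ∈ reach ends v₀ S k, AdjS ends S v w := by
  classical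
  show w ∈ reach ends v₀ S k ∪ Finset.univ.filter _ ↔ _
  rw [Finset.mem_union, Finset.mem_filter]
  simp

theorem reach_total (hconn : ConnS ends S) (v : V) : ∃ k, v ∈ reach ends v₀ S k := by
  have h := hconn v₀ v
  induction h with
  | refl => exact ⟨0, (mem_reach_zero ends v₀ S _).2 rfl⟩
  | tail _ hbc ih =>
    obtain ⟨k, hk⟩ := ih
    exact ⟨k + 1, (mem_reach_succ ends v₀ S k _).2 (Or.inr ⟨_, hk, hbc⟩)⟩

theorem exists_arb (hconn : ConnS ends S) :
    ∃ f : {v : V // v ≠ v₀} → E, Valid ends v₀ f ∧ Acyclic ends v₀ f ∧ ∀ v, f v ∈ S := by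
  classical
  obtain ⟨dp, hdp⟩ : ∃ dp : V → ℕ, ∀ v, dp v = Nat.find (reach_total ends v₀ S hconn v) :=
    ⟨_, fun _ => rfl⟩
  have hdp_mem : ∀ v, v ∈ reach ends v₀ S (dp v) := fun v => by
    rw [hdp]; exact Nat.find_spec (reach_total ends v₀ S hconn v)
  have hdp_le : ∀ v k, v ∈ reach ends v₀ S k → dp v ≤ k := fun v k h => by
    rw [hdp]; exact Nat.find_min' (reach_total ends v₀ S hconn v) h
  -- each non-root vertex has a neighbour of smaller `dp`
  have hstep : ∀ v : {v : V // v ≠ v₀}, ∃ e ∈ S, ∃ u : V, dp u < dp v.1 ∧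
      (ends e = (u, v.1) ∨ ends e = (v.1, u)) := by
    intro v
    have hpos : dp v.1 ≠ 0 := by
      intro h0
      have := hdp_mem v.1
      rw [h0] at this
      exact v.2 ((mem_reach_zero ends v₀ S _).1 this)
    obtain ⟨k, hk⟩ := Nat.exists_eq_succ_of_ne_zero hpos
    have hmem := hdp_mem v.1
    rw [hk] at hmem
    have hnot : v.1 ∉ reach ends v₀ S k := by
      intro h
      have := hdp_le v.1 k h
      omega
    rcases (mem_reach_succ ends v₀ S k _).1 hmem with h | h
    · exact absurd h hnot
    · obtain ⟨u, hu, e, he, hadj⟩ := h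
      refine ⟨e, he, u, ?_, hadj⟩
      have := hdp_le u k hu
      omega
  choose f hfS u hu hfu using hstep
  have hne : ∀ v : {v : V // v ≠ v₀}, u v ≠ v.1 := by
    intro v h
    have := hu v
    rw [h] at this
    exact lt_irrefl _ this
  have hchi : ∀ v : {v : V // v ≠ v₀}, chi ends (f v) v.1 ≠ 0 ∧ other ends (f v) v.1 = u v := by
    intro v
    unfold chi other
    rcases hfu v with h | h
    · rw [h]
      simp only
      refine ⟨?_, ?_⟩
      · rw [if_neg (hne v)]; simp
      · rw [if_neg (hne v)]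
    · rw [h]
      simp only
      refine ⟨?_, ?_⟩
      · rw [if_neg (hne v)]; simp
      · simp
  have hgh : ∀ v : {v : V // v ≠ v₀}, gh ends v₀ f v.1 = u v := by
    intro v
    rw [gh_of_ne v.2]
    exact (hchi v).2
  refine ⟨f, fun v => (hchi v).1, ?_, hfS⟩
  -- acyclic, by strong induction on `dp`
  have hacy : ∀ n : ℕ, ∀ v : V, dp v = n → ∃ k : ℕ, (gh ends v₀ f)^[k] v = v₀ := by
    intro n
    induction n using Nat.strong_induction_on with
    | _ n ih =>
      intro v hv
      by_cases hv0 : v = v₀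
      · exact ⟨0, hv0⟩
      · have hlt := hu ⟨v, hv0⟩
        obtain ⟨k, hk⟩ := ih (dp (u ⟨v, hv0⟩)) (by rw [← hv]; exact hlt) _ rfl
        refine ⟨k + 1, ?_⟩
        rw [Function.iterate_succ_apply, hgh ⟨v, hv0⟩]
        exact hk
  exact fun v => hacy _ v rfl

theorem exists_of_isSpanningTree (T : Finset E) (hT : IsSpanningTree ends T) :
    ∃ f : {v : V // v ≠ v₀} → E, Valid ends v₀ f ∧ Acyclic ends v₀ f ∧
      Finset.univ.image f = T := by
  obtain ⟨⟨-, hconn⟩, hno⟩ := (isSpanningTree_iff ends T).1 hT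
  obtain ⟨f, hf, hac, hfT⟩ := exists_arb ends v₀ T hconn
  refine ⟨f, hf, hac, ?_⟩
  have hsub : Finset.univ.image f ⊆ T := by
    intro e he
    obtain ⟨v, -, rfl⟩ := Finset.mem_image.1 he
    exact hfT v
  refine Finset.eq_of_subset_of_card_le hsub ?_
  rw [Finset.card_image_of_injective _ (valid_acyclic_injective hf hac), Finset.card_univ]
  have h1 := card_le_of_noEven ends v₀ T hno
  have h2 : Fintype.card {v : V // v ≠ v₀} = Fintype.card V - 1 := by
    rw [Fintype.card_subtype_compl, Fintype.card_subtype_eq]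
  omega

end bfs

end Groth.Agent.H77.MT
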