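import Groth.Agent.H77.MT1

set_option autoImplicit false

/-! The weighted matrix-tree theorem for multigraphs. -/

namespace Groth.Agent.H77.MT

open Finset LabGraph Matrix

universe u
variable {V E : Type u} [Fintype V] [Fintype E] [DecidableEq V] [DecidableEq E]
variable {K : Type*} [Field K]

theorem det_one_sub_of_isNilpotent {n : Type*} [Fintype n] [DecidableEq n] (M : Matrix n n K)
    (hM : IsNilpotent M) : (1 - M).det = 1 := by
  have hu := Matrix.isUnit_charpolyRev_of_isNilpotent hM
  obtain ⟨r, -, hrp⟩ := Polynomial.isUnit_iff.1 hu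
  have h0 : r = 1 := by
    have := Matrix.eval_charpolyRev (M := M)
    rw [← hrp, Polynomial.eval_C] at this
    exact this
  have h1 : Polynomial.eval 1 M.charpolyRev = (1 - M).det := by
    rw [Matrix.charpolyRev, ← Polynomial.coe_evalRingHom, RingHom.map_det]
    have : (Polynomial.evalRingHom (1 : K)).mapMatrix
        (1 - (Polynomial.X : Polynomial K) • M.map Polynomial.C) = 1 - M := by
      ext i j
      rcases eq_or_ne i j with hij | hij <;> simp [hij, Matrix.one_apply]
    rw [this]
  rw [← h1, ← hrp, h0]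
  simp

theorem det_sum_smul {n ι R : Type*} [CommRing R] [Fintype n] [DecidableEq n] [Fintype ι]
    (a : ι → n → R) (r : ι → n → R) :
    det (Matrix.of fun v w => ∑ e, a e v * r e w) =
      ∑ f : n → ι, (∏ v, a (f v) v) * det (Matrix.of fun v w => r (f v) w) := by
  have h : (Matrix.of fun v w => ∑ e, a e v * r e w) = fun v => ∑ e, a e v • r e := by
    funext v w
    simp [Finset.sum_apply, Pi.smul_apply]
  have h2 := MultilinearMap.map_sum (Matrix.detRowAlternating (R := R) (n := n)).toMultilinearMap
    (fun v e => a e v • r e)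
  show (Matrix.detRowAlternating (R := R) (n := n)).toMultilinearMap
    (Matrix.of fun v w => ∑ e, a e v * r e w) = _
  rw [h, h2]
  refine Finset.sum_congr rfl fun f _ => ?_
  rw [MultilinearMap.map_smul_univ]
  rfl

section

variable (ends : E → V × V) (v₀ : V)

/-- parent matrix of a choice function. -/
def Pm (f : {v : V // v ≠ v₀} → E) : Matrix {v : V // v ≠ v₀} {v : V // v ≠ v₀} K :=
  fun v w => if gh ends v₀ f v.1 = w.1 then 1 else 0

variable {ends v₀}
variable (f : {v : V // v ≠ v₀} → E)

theorem Pm_pow (k : ℕ) (v w : {v : V // v ≠ v₀}) :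
    ((Pm ends v₀ f : Matrix _ _ K) ^ k) v w =
      if (gh ends v₀ f)^[k] v.1 = w.1 then 1 else 0 := by
  induction k generalizing v with
  | zero =>
    rw [pow_zero, Matrix.one_apply, Function.iterate_zero, id]
    by_cases h : v = w
    · rw [if_pos h, if_pos (congrArg Subtype.val h)]
    · rw [if_neg h, if_neg (fun h' => h (Subtype.ext h'))]
  | succ k ih =>
    rw [pow_succ', Matrix.mul_apply, Function.iterate_succ_apply]
    by_cases hg : gh ends v₀ f v.1 = v₀
    · rw [hg, iterate_root, if_neg (Ne.symm w.2)]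
      refine Finset.sum_eq_zero fun u _ => ?_
      have : (Pm ends v₀ f : Matrix _ _ K) v u = 0 := by
        unfold Pm
        rw [if_neg]
        rw [hg]
        exact Ne.symm u.2
      rw [this, zero_mul]
    · rw [Finset.sum_eq_single (⟨gh ends v₀ f v.1, hg⟩ : {v : V // v ≠ v₀})]
      · rw [ih]
        unfold Pm
        rw [if_pos rfl, one_mul]
      · intro u _ hu
        have : (Pm ends v₀ f : Matrix _ _ K) v u = 0 := by
          unfold Pm
          rw [if_neg]
          intro h
          exact hu (Subtype.ext h.symm)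
        rw [this, zero_mul]
      · intro h
        exact absurd (Finset.mem_univ _) h

theorem det_one_sub_Pm_of_acyclic (hac : Acyclic ends v₀ f) :
    (1 - (Pm ends v₀ f : Matrix _ _ K)).det = 1 := by
  apply det_one_sub_of_isNilpotent
  obtain ⟨N, hN⟩ : ∃ N, N = Finset.univ.sup (fun v : V => depth hac v) := ⟨_, rfl⟩
  refine ⟨N, ?_⟩
  ext v w
  rw [Pm_pow, Matrix.zero_apply]
  have hle : depth hac v.1 ≤ N := by
    rw [hN]
    exact Finset.le_sup (f := fun v : V => depth hac v) (Finset.mem_univ v.1)
  obtain ⟨j, hj⟩ := Nat.exists_eq_add_of_le hle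
  have : (gh ends v₀ f)^[N] v.1 = v₀ := by
    rw [hj, Nat.add_comm, Function.iterate_add_apply, depth_spec, iterate_root]
  rw [this, if_neg (Ne.symm w.2)]

theorem det_one_sub_Pm_of_not_acyclic (hac : ¬ Acyclic ends v₀ f) :
    (1 - (Pm ends v₀ f : Matrix _ _ K)).det = 0 := by
  classical
  rw [← Matrix.exists_mulVec_eq_zero_iff]
  obtain ⟨x, hx⟩ : ∃ x : {v : V // v ≠ v₀} → K,
      x = fun v => if (∀ k : ℕ, (gh ends v₀ f)^[k] v.1 ≠ v₀) then 1 else 0 := ⟨_, rfl⟩
  refine ⟨x, ?_, ?_⟩
  · unfold Acyclic at hac
    push Not at hac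
    obtain ⟨v, hv⟩ := hac
    have hv0 : v ≠ v₀ := by
      intro h
      exact hv 0 h
    intro h0
    have := congrFun h0 ⟨v, hv0⟩
    rw [hx] at this
    simp only [Pi.zero_apply] at this
    rw [if_pos hv] at this
    exact one_ne_zero this
  · funext v
    rw [Matrix.sub_mulVec, Matrix.one_mulVec, Pi.sub_apply, Pi.zero_apply, Matrix.mulVec,
      dotProduct]
    by_cases hg : gh ends v₀ f v.1 = v₀
    · have h1 : ∑ u, (Pm ends v₀ f : Matrix _ _ K) v u * x u = 0 := by
        refine Finset.sum_eq_zero fun u _ => ?_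
        have : (Pm ends v₀ f : Matrix _ _ K) v u = 0 := by
          unfold Pm
          rw [if_neg]
          rw [hg]
          exact Ne.symm u.2
        rw [this, zero_mul]
      rw [h1, sub_zero, hx]
      simp only
      rw [if_neg]
      push Not
      exact ⟨1, by rw [Function.iterate_one]; exact hg⟩
    · have h1 : ∑ u, (Pm ends v₀ f : Matrix _ _ K) v u * x u =
          x ⟨gh ends v₀ f v.1, hg⟩ := by
        rw [Finset.sum_eq_single (⟨gh ends v₀ f v.1, hg⟩ : {v : V // v ≠ v₀})]
        · unfold Pm
          rw [if_pos rfl, one_mul]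
        · intro u _ hu
          have : (Pm ends v₀ f : Matrix _ _ K) v u = 0 := by
            unfold Pm
            rw [if_neg]
            intro h
            exact hu (Subtype.ext h.symm)
          rw [this, zero_mul]
        · intro h
          exact absurd (Finset.mem_univ _) h
      rw [h1, hx]
      simp only
      have hiff : (∀ k : ℕ, (gh ends v₀ f)^[k] v.1 ≠ v₀) ↔
          (∀ k : ℕ, (gh ends v₀ f)^[k] (gh ends v₀ f v.1) ≠ v₀) := by
        constructor
        · intro h k
          have := h (k + 1)
          rwa [Function.iterate_succ_apply] at this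
        · intro h k
          cases k with
          | zero => exact v.2
          | succ k =>
            rw [Function.iterate_succ_apply]
            exact h k
      by_cases hv : ∀ k : ℕ, (gh ends v₀ f)^[k] v.1 ≠ v₀
      · rw [if_pos hv, if_pos (hiff.1 hv), sub_self]
      · rw [if_neg hv, if_neg (fun h => hv (hiff.2 h)), sub_self]

theorem det_rows_chi (hf : Valid ends v₀ f) :
    (∏ v : {v : V // v ≠ v₀}, (chi ends (f v) v.1 : K)) *
      det (Matrix.of fun v w : {v : V // v ≠ v₀} => (chi ends (f v) w.1 : K)) =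
      (1 - (Pm ends v₀ f : Matrix _ _ K)).det := by
  rw [← Matrix.det_mul_column]
  congr 1
  ext v w
  rw [Matrix.of_apply, Matrix.of_apply, Matrix.sub_apply, Matrix.one_apply]
  have h := chi_smul_chi ends (hf v) w.1
  rw [← gh_of_ne v.2] at h
  have h' : (chi ends (f v) v.1 : K) * (chi ends (f v) w.1 : K) =
      ((if v.1 = w.1 then 1 else 0 : ℤ) : K) - ((if gh ends v₀ f v.1 = w.1 then 1 else 0 : ℤ) : K) := by
    rw [← Int.cast_mul, h, Int.cast_sub]
  rw [h']
  unfold Pm
  by_cases h1 : v = w
  · rw [if_pos h1, if_pos (congrArg Subtype.val h1)]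
    by_cases h2 : gh ends v₀ f v.1 = w.1
    · rw [if_pos h2, if_pos h2]; simp
    · rw [if_neg h2, if_neg h2]; simp
  · rw [if_neg h1, if_neg (fun h' => h1 (Subtype.ext h'))]
    by_cases h2 : gh ends v₀ f v.1 = w.1
    · rw [if_pos h2, if_pos h2]; simp
    · rw [if_neg h2, if_neg h2]; simp

end

open Classical in
/-- the weighted matrix-tree theorem. -/
theorem matrix_tree (ends : E → V × V) (v₀ : V) (c : E → K) :
    det (Matrix.of fun v w : {v : V // v ≠ v₀} =>
      ∑ e, c e * (chi ends e v.1 : K) * (chi ends e w.1 : K)) =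
    ∑ T ∈ Finset.univ.powerset.filter (fun T : Finset E => IsSpanningTree ends T),
      ∏ e ∈ T, c e := by
  rw [det_sum_smul (fun e (v : {v : V // v ≠ v₀}) => c e * (chi ends e v.1 : K))
    (fun e (w : {v : V // v ≠ v₀}) => (chi ends e w.1 : K))]
  -- evaluate each term
  have hterm : ∀ f : {v : V // v ≠ v₀} → E,
      (∏ v, (c (f v) * (chi ends (f v) v.1 : K))) *
        det (Matrix.of fun v w : {v : V // v ≠ v₀} => (chi ends (f v) w.1 : K)) =
      if Valid ends v₀ f ∧ Acyclic ends v₀ f then ∏ v, c (f v) else 0 := by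
    intro f
    rw [Finset.prod_mul_distrib, mul_assoc]
    by_cases hf : Valid ends v₀ f
    · rw [det_rows_chi f hf]
      by_cases hac : Acyclic ends v₀ f
      · rw [if_pos ⟨hf, hac⟩, det_one_sub_Pm_of_acyclic f hac, mul_one]
      · rw [if_neg (fun h => hac h.2), det_one_sub_Pm_of_not_acyclic f hac, mul_zero]
    · rw [if_neg (fun h => hf h.1)]
      unfold Valid at hf
      push Not at hf
      obtain ⟨v, hv⟩ := hf
      have : ∏ v : {v : V // v ≠ v₀}, (chi ends (f v) v.1 : K) = 0 :=
        Finset.prod_eq_zero (Finset.mem_univ v) (by rw [hv]; simp)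
      rw [this, zero_mul, mul_zero]
  rw [Finset.sum_congr rfl (fun f _ => hterm f), ← Finset.sum_filter]
  -- reindex by spanning trees
  have himage : Finset.univ.powerset.filter (fun T : Finset E => IsSpanningTree ends T) =
      (Finset.univ.filter (fun f : {v : V // v ≠ v₀} → E =>
        Valid ends v₀ f ∧ Acyclic ends v₀ f)).image (fun f => Finset.univ.image f) := by
    ext T
    constructor
    · intro hT
      obtain ⟨f, hf, hac, hfT⟩ := exists_of_isSpanningTree ends v₀ T (Finset.mem_filter.1 hT).2
      exact Finset.mem_image.2 ⟨f, Finset.mem_filter.2 ⟨Finset.mem_univ _, hf, hac⟩, hfT⟩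
    · intro hT
      obtain ⟨f, hf, rfl⟩ := Finset.mem_image.1 hT
      obtain ⟨-, hf, hac⟩ := Finset.mem_filter.1 hf
      exact Finset.mem_filter.2 ⟨Finset.mem_powerset.2 (Finset.subset_univ _),
        isSpanningTree_image hf hac⟩
  rw [himage, Finset.sum_image]
  · refine Finset.sum_congr rfl fun f hf => ?_
    obtain ⟨-, hf, hac⟩ := Finset.mem_filter.1 hf
    rw [Finset.prod_image (fun a _ b _ h => valid_acyclic_injective hf hac h)]
  · intro f hf f' hf' h
    obtain ⟨-, hf, hac⟩ := Finset.mem_filter.1 hf
    obtain ⟨-, hf', hac'⟩ := Finset.mem_filter.1 hf'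
    exact eq_of_image_eq hf hac hf' hac' h

end Groth.Agent.H77.MT
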