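import Groth.Agent.H77.MT2

set_option autoImplicit false

/-! The multiplicity matrix of a labelled multigraph as a weighted Laplacian. -/

namespace Groth.Agent.H77.MT

open Finset LabGraph Matrix

universe u
variable {V E : Type u} [Fintype V] [Fintype E] [DecidableEq V] [DecidableEq E]
variable (ends : E → V × V) (β : V → ℤ)

/-- edge weight. -/
def cw (e : E) : ℤ := β (ends e).1 * β (ends e).2

theorem edgeMult_eq_sum (v w : V) : (edgeMult ends v w : ℤ) =
    ∑ e, if (ends e = (v, w) ∨ ends e = (w, v)) then (1 : ℤ) else 0 := by
  unfold edgeMult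
  rw [Finset.card_filter]
  push_cast
  rfl

theorem edgeMult_comm (v w : V) : edgeMult ends v w = edgeMult ends w v := by
  unfold edgeMult
  congr 1
  refine Finset.filter_congr fun e _ => ?_
  exact or_comm

theorem lap_term_ne (e : E) {v w : V} (hvw : v ≠ w) :
    cw ends β e * chi ends e v * chi ends e w =
      -(β v * β w * (if (ends e = (v, w) ∨ ends e = (w, v)) then (1 : ℤ) else 0)) := by
  unfold cw chi
  rcases hab : ends e with ⟨a, b⟩
  simp only [Prod.mk.injEq]
  by_cases h1 : a = v
  · subst h1
    have h3 : ¬ a = w := hvw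
    by_cases h4 : b = w
    · subst h4
      have h2 : ¬ b = a := Ne.symm hvw
      simp [h2, h3]
    · simp [h3, h4]
  · by_cases h2 : b = v
    · subst h2
      have h4 : ¬ b = w := hvw
      by_cases h3 : a = w
      · subst h3
        simp [h1, h4]
        ring
      · simp [h1, h3, h4]
    · simp [h1, h2]

theorem lap_term_eq (e : E) (v : V) :
    cw ends β e * chi ends e v * chi ends e v =
      β v * ∑ u ∈ Finset.univ.erase v,
        β u * (if (ends e = (v, u) ∨ ends e = (u, v)) then (1 : ℤ) else 0) := by
  unfold cw chi
  rcases hab : ends e with ⟨a, b⟩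
  simp only [Prod.mk.injEq]
  by_cases h1 : a = v
  · subst h1
    by_cases h2 : b = a
    · subst h2
      simp only [if_true, sub_self, mul_zero]
      symm
      rw [mul_eq_zero]
      right
      refine Finset.sum_eq_zero fun u hu => ?_
      have hu' : u ≠ b := (Finset.mem_erase.1 hu).1
      rw [if_neg, mul_zero]
      rintro (h | h)
      · exact hu' h.2.symm
      · exact hu' h.1.symm
    · rw [Finset.sum_eq_single b]
      · simp [h2]
      · intro u hu hub
        have hu' : u ≠ a := (Finset.mem_erase.1 hu).1
        rw [if_neg, mul_zero]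
        rintro (h | h)
        · exact hub h.2.symm
        · exact hu' h.1.symm
      · intro h
        exact absurd (Finset.mem_erase.2 ⟨h2, Finset.mem_univ _⟩) h
  · by_cases h2 : b = v
    · subst h2
      rw [Finset.sum_eq_single a]
      · simp [h1]
        ring
      · intro u hu hua
        have hu' : u ≠ b := (Finset.mem_erase.1 hu).1
        rw [if_neg, mul_zero]
        rintro (h | h)
        · exact h1 h.1
        · exact hua h.1.symm
      · intro h
        exact absurd (Finset.mem_erase.2 ⟨h1, Finset.mem_univ _⟩) h
    · simp only [if_neg h1, if_neg h2, sub_self, mul_zero]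
      symm
      rw [mul_eq_zero]
      right
      refine Finset.sum_eq_zero fun u _ => ?_
      rw [if_neg, mul_zero]
      rintro (h | h)
      · exact h1 h.1
      · exact h2 h.2

variable {ends β}

theorem mf_diag_mul (hβ : IsMultFn ends β) (v : V) :
    mfMatrix ends β v v * β v =
      -(∑ u ∈ Finset.univ.erase v, β u * (edgeMult ends v u : ℤ)) := by
  unfold mfMatrix
  rw [if_pos rfl]
  exact Int.ediv_mul_cancel ((dvd_neg).2 (hβ v).2)

theorem mf_off {v w : V} (h : v ≠ w) : mfMatrix ends β v w = (edgeMult ends v w : ℤ) := by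
  unfold mfMatrix
  rw [if_neg h]

theorem mf_symm (v w : V) : mfMatrix ends β v w = mfMatrix ends β w v := by
  by_cases h : v = w
  · rw [h]
  · rw [mf_off h, mf_off (Ne.symm h), edgeMult_comm]

theorem mf_mulVec_beta (hβ : IsMultFn ends β) (v : V) :
    ∑ w, mfMatrix ends β v w * β w = 0 := by
  rw [← Finset.add_sum_erase _ _ (Finset.mem_univ v), mf_diag_mul hβ v]
  have : ∑ w ∈ Finset.univ.erase v, mfMatrix ends β v w * β w =
      ∑ u ∈ Finset.univ.erase v, β u * (edgeMult ends v u : ℤ) := by
    refine Finset.sum_congr rfl fun u hu => ?_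
    rw [mf_off (Ne.symm (Finset.mem_erase.1 hu).1), mul_comm]
  rw [this]
  ring

theorem lap_entry (hβ : IsMultFn ends β) (v w : V) :
    ∑ e, cw ends β e * chi ends e v * chi ends e w =
      -(β v * mfMatrix ends β v w * β w) := by
  by_cases hvw : v = w
  · subst hvw
    rw [Finset.sum_congr rfl (fun e _ => lap_term_eq ends β e v), ← Finset.mul_sum,
      Finset.sum_comm]
    have h1 : ∑ u ∈ Finset.univ.erase v, ∑ e,
        β u * (if (ends e = (v, u) ∨ ends e = (u, v)) then (1 : ℤ) else 0) =
        ∑ u ∈ Finset.univ.erase v, β u * (edgeMult ends v u : ℤ) := by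
      refine Finset.sum_congr rfl fun u _ => ?_
      rw [← Finset.mul_sum, edgeMult_eq_sum]
    rw [h1]
    have h2 := mf_diag_mul hβ v
    rw [mul_assoc, h2]
    ring
  · rw [Finset.sum_congr rfl (fun e _ => lap_term_ne ends β e hvw), Finset.sum_neg_distrib,
      ← Finset.mul_sum, ← edgeMult_eq_sum, mf_off hvw]
    ring

/-- the product of the edge weights of `T` is the product of `β v ^ (degree of v in T)`. -/
theorem prod_cw_eq (T : Finset E) :
    ∏ e ∈ T, cw ends β e = ∏ v, β v ^ (endCount ends T v) := by
  unfold cw endCount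
  have h1 : ∀ e : E, β (ends e).1 * β (ends e).2 =
      ∏ v, β v ^ ((if (ends e).1 = v then 1 else 0) + (if (ends e).2 = v then 1 else 0)) := by
    intro e
    simp_rw [pow_add]
    rw [Finset.prod_mul_distrib]
    congr 1
    · rw [Finset.prod_eq_single (ends e).1]
      · simp
      · intro b _ hb
        rw [if_neg (Ne.symm hb), pow_zero]
      · intro h
        exact absurd (Finset.mem_univ _) h
    · rw [Finset.prod_eq_single (ends e).2]
      · simp
      · intro b _ hb
        rw [if_neg (Ne.symm hb), pow_zero]
      · intro h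
        exact absurd (Finset.mem_univ _) h
  rw [Finset.prod_congr rfl (fun e _ => h1 e), Finset.prod_comm]
  refine Finset.prod_congr rfl fun v _ => ?_
  rw [Finset.prod_pow_eq_pow_sum]

/-- in a forest the number of edge-ends at `v` is the number of neighbours. -/
theorem endCount_eq_nbrCount (T : Finset E) (hT : NoEven ends T) (v : V) :
    endCount ends T v = nbrCount ends T v := by
  classical
  -- no loops in `T`
  have hloop : ∀ e ∈ T, (ends e).1 ≠ (ends e).2 := by
    intro e he hl
    obtain ⟨x, hx⟩ := hT {e} (Finset.singleton_subset_iff.2 he) (Finset.singleton_nonempty e)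
    apply hx
    unfold endCount
    rw [Finset.sum_singleton, ← hl]
    by_cases h : (ends e).1 = x
    · rw [if_pos h]; decide
    · rw [if_neg h]; decide
  -- no parallel edges in `T`
  have hpar : ∀ e ∈ T, ∀ e' ∈ T, e ≠ e' → ∀ a b : V,
      (ends e = (a, b) ∨ ends e = (b, a)) → (ends e' = (a, b) ∨ ends e' = (b, a)) → False := by
    intro e he e' he' hne a b h h'
    obtain ⟨x, hx⟩ := hT {e, e'} (by
      intro y hy
      rcases Finset.mem_insert.1 hy with rfl | hy
      · exact he
      · rw [Finset.mem_singleton.1 hy]; exact he') (Finset.insert_nonempty _ _)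
    apply hx
    unfold endCount
    rw [Finset.sum_pair hne]
    have hab : a ≠ b := by
      intro hab
      apply hloop e he
      rcases h with h | h <;> rw [h, hab]
    rcases h with h | h <;> rcases h' with h' | h' <;> rw [h, h'] <;> simp only <;>
      by_cases h1 : a = x <;> by_cases h2 : b = x <;>
      simp [h1, h2] <;> (try (exfalso; exact hab (h1.trans h2.symm))) <;> decide
  -- count
  have h1 : endCount ends T v =
      (T.filter (fun e => (ends e).1 = v ∨ (ends e).2 = v)).card := by
    unfold endCount
    rw [Finset.card_filter]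
    refine Finset.sum_congr rfl fun e he => ?_
    have hl := hloop e he
    by_cases ha : (ends e).1 = v
    · have hb : ¬ (ends e).2 = v := fun hb => hl (ha.trans hb.symm)
      rw [if_pos ha, if_neg hb, if_pos (Or.inl ha)]
    · by_cases hb : (ends e).2 = v
      · rw [if_neg ha, if_pos hb, if_pos (Or.inr hb)]
      · rw [if_neg ha, if_neg hb, if_neg (by tauto)]
  rw [h1]
  unfold nbrCount
  refine Finset.card_bij (fun e _ => other ends e v) ?_ ?_ ?_
  · intro e he
    obtain ⟨heT, hev⟩ := Finset.mem_filter.1 he
    have hl := hloop e heT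
    refine Finset.mem_filter.2 ⟨Finset.mem_univ _, ?_, e, heT, ?_⟩
    · unfold other
      by_cases ha : (ends e).1 = v
      · rw [if_pos ha]
        intro h
        exact hl (ha.trans h.symm)
      · rw [if_neg ha]
        exact ha
    · unfold other
      by_cases ha : (ends e).1 = v
      · rw [if_pos ha]
        exact Or.inl (Prod.ext ha rfl)
      · rw [if_neg ha]
        have hb : (ends e).2 = v := hev.resolve_left ha
        exact Or.inr (Prod.ext rfl hb)
  · intro e he e' he' hoo
    obtain ⟨heT, hev⟩ := Finset.mem_filter.1 he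
    obtain ⟨heT', hev'⟩ := Finset.mem_filter.1 he'
    by_contra hne
    have key : ∀ e₁ : E, e₁ ∈ T → ((ends e₁).1 = v ∨ (ends e₁).2 = v) →
        (ends e₁ = (v, other ends e₁ v) ∨ ends e₁ = (other ends e₁ v, v)) := by
      intro e₁ _ h
      unfold other
      by_cases ha : (ends e₁).1 = v
      · rw [if_pos ha]
        exact Or.inl (Prod.ext ha rfl)
      · rw [if_neg ha]
        exact Or.inr (Prod.ext rfl (h.resolve_left ha))
    have k1 := key e heT hev
    have k2 := key e' heT' hev'
    rw [← hoo] at k2
    exact hpar e heT e' heT' hne _ _ k1 k2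
  · intro w hw
    obtain ⟨-, hwv, e, heT, hj⟩ := Finset.mem_filter.1 hw
    refine ⟨e, Finset.mem_filter.2 ⟨heT, ?_⟩, ?_⟩
    · rcases hj with h | h
      · left; rw [h]
      · right; rw [h]
    · unfold other
      rcases hj with h | h
      · rw [h]
        simp
      · rw [h]
        simp only
        rw [if_neg hwv]

end Groth.Agent.H77.MT
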