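import Groth.Agent.H77.MT3

set_option autoImplicit false

/-! Order of the component group of a labelled multigraph. -/

namespace Groth.Agent.H77.MT

open Finset LabGraph Matrix

universe u
variable {V E : Type u} [Fintype V] [Fintype E] [DecidableEq V] [DecidableEq E]

theorem exists_bezout (s : Finset V) (β : V → ℤ) :
    ∃ w : V → ℤ, ∑ v ∈ s, w v * β v = s.gcd β := by
  classical
  induction s using Finset.induction_on with
  | empty => exact ⟨0, by simp⟩
  | insert a s ha ih =>
    obtain ⟨w, hw⟩ := ih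
    rw [Finset.gcd_insert]
    obtain ⟨x, y, hxy⟩ : ∃ x y : ℤ, x * β a + y * s.gcd β = gcd (β a) (s.gcd β) := by
      have := Int.gcd_eq_gcd_ab (β a) (s.gcd β)
      refine ⟨Int.gcdA (β a) (s.gcd β), Int.gcdB (β a) (s.gcd β), ?_⟩
      rw [← Int.coe_gcd, this]
      ring
    refine ⟨fun v => if v = a then x else y * w v, ?_⟩
    rw [Finset.sum_insert ha]
    have h1 : ∑ v ∈ s, (if v = a then x else y * w v) * β v = y * ∑ v ∈ s, w v * β v := by
      rw [Finset.mul_sum]
      refine Finset.sum_congr rfl fun v hv => ?_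
      rw [if_neg (fun h : v = a => ha (h ▸ hv))]
      ring
    show (if a = a then x else y * w a) * β a +
      ∑ v ∈ s, (if v = a then x else y * w v) * β v = _
    rw [if_pos rfl, h1, hw, hxy]

section detA

variable (M : Matrix V V ℤ) (β w : V → ℤ) (m : ℤ) (v₀ : V)

theorem det_rank_one_update (hM1 : ∀ v, ∑ u, M v u * β u = 0)
    (hM2 : ∀ u, ∑ v, β v * M v u = 0) (hw : ∑ v, w v * β v = m) :
    β v₀ ^ 2 * (M + Matrix.vecMulVec w w).det =
      m ^ 2 * (M.submatrix (Subtype.val : {v // v ≠ v₀} → V) Subtype.val).det := by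
  obtain ⟨A, hA⟩ : ∃ A : Matrix V V ℤ, A = M + Matrix.vecMulVec w w := ⟨_, rfl⟩
  obtain ⟨N, hN⟩ : ∃ N : Matrix V V ℤ, N = M.updateCol v₀ w := ⟨_, rfl⟩
  rw [← hA]
  have hAe : ∀ v u, A v u = M v u + w v * w u := by
    intro v u
    rw [hA, Matrix.add_apply, Matrix.vecMulVec_apply]
  -- S1
  have S1 : A * (1 : Matrix V V ℤ).updateCol v₀ β = A.updateCol v₀ (m • w) := by
    ext v u
    rw [Matrix.mul_apply]
    by_cases hu : u = v₀
    · subst hu
      simp only [Matrix.updateCol_self]
      have : ∑ x, A v x * β x = ∑ x, M v x * β x + w v * ∑ x, w x * β x := by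
        rw [Finset.mul_sum, ← Finset.sum_add_distrib]
        refine Finset.sum_congr rfl fun x _ => ?_
        rw [hAe]
        ring
      rw [this, hM1, hw, zero_add, Pi.smul_apply, smul_eq_mul, mul_comm]
    · simp only [Matrix.updateCol_ne hu]
      rw [Finset.sum_eq_single u]
      · rw [Matrix.one_apply_eq, mul_one]
      · intro x _ hx
        rw [Matrix.one_apply_ne hx, mul_zero]
      · intro h
        exact absurd (Finset.mem_univ _) h
  -- S2
  have S2 : ((1 : Matrix V V ℤ).updateCol v₀ β).det = β v₀ := by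
    rw [← Matrix.cramer_apply, Matrix.cramer_one]
    rfl
  -- S3, S4
  have S4 : (A.updateCol v₀ w).det = N.det := by
    rw [hN, ← Matrix.det_transpose, ← Matrix.det_transpose (M.updateCol v₀ w)]
    refine Matrix.det_eq_of_forall_row_eq_smul_add_const (fun i => if i = v₀ then 0 else w i) v₀
      (if_pos rfl) ?_
    intro i j
    simp only [Matrix.transpose_apply, Matrix.updateCol_apply]
    by_cases hi : i = v₀
    · simp [hi]
    · simp only [hi, ↓reduceIte]
      rw [hAe]
      ring
  have E1 : β v₀ * A.det = m * N.det := by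
    have := congrArg Matrix.det S1
    rw [Matrix.det_mul, S2, Matrix.det_updateCol_smul, S4] at this
    rw [mul_comm]
    exact this
  -- S5
  have S5 : (1 : Matrix V V ℤ).updateRow v₀ β * N = N.updateRow v₀ (Pi.single v₀ m) := by
    ext v u
    rw [Matrix.mul_apply]
    by_cases hv : v = v₀
    · subst hv
      simp only [Matrix.updateRow_self]
      by_cases hu : u = v
      · subst hu
        rw [Pi.single_eq_same, ← hw]
        refine Finset.sum_congr rfl fun x _ => ?_
        rw [hN, Matrix.updateCol_self, mul_comm]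
      · rw [Pi.single_eq_of_ne hu, ← hM2 u]
        refine Finset.sum_congr rfl fun x _ => ?_
        rw [hN, Matrix.updateCol_ne hu]
    · simp only [Matrix.updateRow_ne hv]
      rw [Finset.sum_eq_single v]
      · rw [Matrix.one_apply_eq, one_mul]
      · intro x _ hx
        rw [Matrix.one_apply_ne (Ne.symm hx), zero_mul]
      · intro h
        exact absurd (Finset.mem_univ _) h
  have S6 : ((1 : Matrix V V ℤ).updateRow v₀ β).det = β v₀ := by
    have : (1 : Matrix V V ℤ).updateRow v₀ β = ((1 : Matrix V V ℤ).updateCol v₀ β)ᵀ := by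
      rw [← Matrix.updateRow_transpose, Matrix.transpose_one]
    rw [this, Matrix.det_transpose, S2]
  -- S7
  have S7 : (N.updateRow v₀ (Pi.single v₀ m)).det =
      (M.submatrix (Subtype.val : {v // v ≠ v₀} → V) Subtype.val).det * m := by
    rw [Matrix.twoBlockTriangular_det _ (fun v => v ≠ v₀)]
    · congr 1
      · congr 1
        ext v u
        rw [Matrix.toSquareBlockProp_def, Matrix.of_apply, Matrix.submatrix_apply,
          Matrix.updateRow_ne v.2, hN, Matrix.updateCol_ne u.2]
      · have hsub : Subsingleton {v // ¬ v ≠ v₀} :=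
          ⟨fun a b => Subtype.ext ((not_not.1 a.2).trans (not_not.1 b.2).symm)⟩
        rw [Matrix.det_eq_elem_of_subsingleton _ (⟨v₀, not_not.2 rfl⟩ : {v // ¬ v ≠ v₀}),
          Matrix.toSquareBlockProp_def, Matrix.of_apply, Matrix.updateRow_self,
          Pi.single_eq_same]
    · intro i hi j hj
      have hi' : i = v₀ := not_not.1 hi
      rw [hi', Matrix.updateRow_self, Pi.single_eq_of_ne hj]
  have E2 : β v₀ * N.det =
      (M.submatrix (Subtype.val : {v // v ≠ v₀} → V) Subtype.val).det * m := by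
    have := congrArg Matrix.det S5
    rw [Matrix.det_mul, S6, S7] at this
    exact this
  calc β v₀ ^ 2 * A.det = β v₀ * (β v₀ * A.det) := by ring
    _ = β v₀ * (m * N.det) := by rw [E1]
    _ = m * (β v₀ * N.det) := by ring
    _ = m ^ 2 * (M.submatrix (Subtype.val : {v // v ≠ v₀} → V) Subtype.val).det := by
        rw [E2]; ring

end detA

theorem card_quot_range (A : Matrix V V ℤ) (hA : A.det ≠ 0) :
    Nat.card ((V → ℤ) ⧸ LinearMap.range A.mulVecLin) = A.det.natAbs := by
  have hinj : Function.Injective A.mulVecLin := by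
    rw [injective_iff_map_eq_zero]
    intro x hx
    exact Matrix.eq_zero_of_mulVec_eq_zero hA hx
  have h := Submodule.natAbs_det_equiv (LinearMap.range A.mulVecLin)
    (LinearEquiv.ofInjective A.mulVecLin hinj)
  rw [← h]
  congr 1
  have : (LinearMap.range A.mulVecLin).subtype ∘ₗ AddMonoidHom.toIntLinearMap
      ((LinearEquiv.ofInjective A.mulVecLin hinj : (V → ℤ) →+ LinearMap.range A.mulVecLin)) =
      A.mulVecLin := by
    apply LinearMap.ext
    intro x
    rfl
  rw [this, ← Matrix.toLin'_apply', LinearMap.det_toLin']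

section comp

variable {ends : E → V × V} {β : V → ℤ}

theorem betaHom_apply (x : V → ℤ) : betaHom β x = ∑ v, x v * β v := by
  unfold betaHom
  rw [Fintype.linearCombination_apply]
  rfl

theorem card_compGrp (hβ : IsMultFn ends β) (w : V → ℤ) (m : ℤ) (hm : m ≠ 0)
    (hmβ : ∀ v, m ∣ β v) (hw : ∑ v, w v * β v = m)
    (hdet : (mfMatrix ends β + Matrix.vecMulVec w w).det ≠ 0) :
    Nat.card (CompGrp ends β) = (mfMatrix ends β + Matrix.vecMulVec w w).det.natAbs := by
  obtain ⟨Mm, hMm⟩ : ∃ Mm : Matrix V V ℤ, Mm = mfMatrix ends β := ⟨_, rfl⟩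
  obtain ⟨A, hA⟩ : ∃ A : Matrix V V ℤ, A = Mm + Matrix.vecMulVec w w := ⟨_, rfl⟩
  have hM1 : ∀ v, ∑ u, Mm v u * β u = 0 := by
    intro v; rw [hMm]; exact mf_mulVec_beta hβ v
  have hM2 : ∀ u, ∑ v, β v * Mm v u = 0 := by
    intro u
    rw [← hM1 u]
    refine Finset.sum_congr rfl fun v _ => ?_
    rw [hMm, mf_symm, mul_comm]
  have hAx : ∀ x : V → ℤ, A *ᵥ x = Mm *ᵥ x + (∑ u, w u * x u) • w := by
    intro x
    funext v
    rw [hA]
    simp only [Matrix.mulVec, dotProduct, Matrix.add_apply, Matrix.vecMulVec_apply, Pi.add_apply,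
      Pi.smul_apply, smul_eq_mul]
    rw [Finset.sum_mul, ← Finset.sum_add_distrib]
    refine Finset.sum_congr rfl fun u _ => ?_
    ring
  have hbM : ∀ x : V → ℤ, betaHom β (Mm *ᵥ x) = 0 := by
    intro x
    rw [betaHom_apply]
    simp only [Matrix.mulVec, dotProduct]
    have : ∑ v, (∑ u, Mm v u * x u) * β v = ∑ u, x u * ∑ v, β v * Mm v u := by
      simp_rw [Finset.sum_mul, Finset.mul_sum]
      rw [Finset.sum_comm]
      refine Finset.sum_congr rfl fun u _ => Finset.sum_congr rfl fun v _ => ?_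
      ring
    rw [this]
    refine Finset.sum_eq_zero fun u _ => ?_
    rw [hM2, mul_zero]
  have hbw : betaHom β w = m := by rw [betaHom_apply, hw]
  have hbA : ∀ x : V → ℤ, betaHom β (A *ᵥ x) = (∑ u, w u * x u) * m := by
    intro x
    rw [hAx, map_add, map_smul, hbM, hbw, zero_add, smul_eq_mul]
  obtain ⟨b, hb⟩ : ∃ b : V → ℤ, ∀ v, β v = m * b v :=
    ⟨fun v => β v / m, fun v => (Int.mul_ediv_cancel' (hmβ v)).symm⟩
  have hwb : ∑ u, w u * b u = 1 := by
    have : m * ∑ u, w u * b u = m := by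
      calc m * ∑ u, w u * b u = ∑ u, w u * (m * b u) := by
            rw [Finset.mul_sum]
            exact Finset.sum_congr rfl (fun u _ => by ring)
        _ = ∑ u, w u * β u := Finset.sum_congr rfl (fun u _ => by rw [← hb u])
        _ = m := hw
    exact mul_left_cancel₀ hm (this.trans (mul_one m).symm)
  have hMb : Mm *ᵥ b = 0 := by
    funext v
    have : m * (Mm *ᵥ b) v = m * 0 := by
      rw [mul_zero, ← hM1 v]
      simp only [Matrix.mulVec, dotProduct]
      rw [Finset.mul_sum]
      refine Finset.sum_congr rfl fun u _ => ?_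
      rw [hb u]
      ring
    exact mul_left_cancel₀ hm this
  have hAb : A *ᵥ b = w := by
    rw [hAx, hMb, hwb, one_smul, zero_add]
  -- the three submodules
  obtain ⟨K, hK⟩ : ∃ K : Submodule ℤ (V → ℤ), K = LinearMap.ker (betaHom β) := ⟨_, rfl⟩
  obtain ⟨R, hR⟩ : ∃ R : Submodule ℤ (V → ℤ), R = LinearMap.range Mm.mulVecLin := ⟨_, rfl⟩
  obtain ⟨RA, hRA⟩ : ∃ RA : Submodule ℤ (V → ℤ), RA = LinearMap.range A.mulVecLin := ⟨_, rfl⟩
  have hwRA : w ∈ RA := by
    rw [hRA]
    exact ⟨b, hAb⟩
  have hF7 : ∀ y ∈ K, y ∈ RA ↔ y ∈ R := by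
    intro y hy
    rw [hK, LinearMap.mem_ker] at hy
    constructor
    · intro h
      rw [hRA] at h
      obtain ⟨x, rfl⟩ := h
      rw [Matrix.mulVecLin_apply, hbA] at hy
      have h0 : ∑ u, w u * x u = 0 := by
        rcases mul_eq_zero.1 hy with h | h
        · exact h
        · exact absurd h hm
      rw [hR]
      refine ⟨x, ?_⟩
      rw [Matrix.mulVecLin_apply, Matrix.mulVecLin_apply, hAx, h0, zero_smul, add_zero]
    · intro h
      rw [hR] at h
      obtain ⟨x, rfl⟩ := h
      rw [hRA]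
      refine ⟨x - (∑ u, w u * x u) • b, ?_⟩
      rw [Matrix.mulVecLin_apply, Matrix.mulVecLin_apply, Matrix.mulVec_sub, Matrix.mulVec_smul,
        hAb, hAx]
      abel
  obtain ⟨ψ, hψ⟩ : ∃ ψ : K →ₗ[ℤ] (V → ℤ) ⧸ RA, ψ = RA.mkQ ∘ₗ K.subtype := ⟨_, rfl⟩
  have hsurj : Function.Surjective ψ := by
    intro q
    obtain ⟨x, rfl⟩ := Submodule.Quotient.mk_surjective RA q
    have hdvd : m ∣ betaHom β x := by
      rw [betaHom_apply]
      exact Finset.dvd_sum fun v _ => Dvd.dvd.mul_left (hmβ v) _
    obtain ⟨t, ht⟩ := hdvd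
    have hyK : x - t • w ∈ K := by
      rw [hK, LinearMap.mem_ker, map_sub, map_smul, hbw, ht, smul_eq_mul]
      ring
    refine ⟨⟨x - t • w, hyK⟩, ?_⟩
    rw [hψ]
    show Submodule.Quotient.mk (x - t • w) = Submodule.Quotient.mk x
    rw [Submodule.Quotient.eq]
    have : x - t • w - x = -(t • w) := by abel
    rw [this]
    exact RA.neg_mem (RA.smul_mem t hwRA)
  have hker : LinearMap.ker ψ = R.comap K.subtype := by
    ext y
    rw [LinearMap.mem_ker, Submodule.mem_comap, hψ]
    show Submodule.Quotient.mk (y : V → ℤ) = 0 ↔ _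
    rw [Submodule.Quotient.mk_eq_zero]
    exact hF7 y.1 y.2
  have e := LinearMap.quotKerEquivOfSurjective ψ hsurj
  have hc1 : Nat.card (CompGrp ends β) = Nat.card (K ⧸ R.comap K.subtype) := by
    rw [hK, hR, hMm]
  rw [hc1, ← hker, Nat.card_congr e.toEquiv, hRA, card_quot_range A (by rw [hA, hMm]; exact hdet),
    hA, hMm]

end comp

end Groth.Agent.H77.MT
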