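import Groth.Agent.H77.MT4

set_option autoImplicit false

/-! The order of the component group as a weighted count of spanning trees. -/

namespace Groth.Agent.H77.MT

open Finset LabGraph Matrix

universe u

theorem connS_univ {V E : Type u} [Fintype V] [Fintype E] [DecidableEq V] [DecidableEq E]
    (ends : E → V × V) (hG : LabGraph.Connected ends) : ConnS ends Finset.univ := by
  intro v w
  have hle : Adj ends ≤ AdjS ends Finset.univ := by
    rintro a b ⟨e, h⟩
    exact ⟨e, Finset.mem_univ _, h⟩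
  exact Relation.ReflTransGen.mono hle v w (hG.2 v w)

open Classical in
theorem card_compGrp_eq {V E : Type u} [Fintype V] [Fintype E] [DecidableEq V] [DecidableEq E]
    (ends : E → V × V) (β : V → ℤ) (hβ : LabGraph.IsMultFn ends β)
    (hG : LabGraph.Connected ends) :
    (Nat.card (LabGraph.CompGrp ends β) : ℚ) =
      ((univ.gcd β : ℤ) : ℚ) ^ 2 *
        ∑ T ∈ univ.powerset.filter (fun T : Finset E => LabGraph.IsSpanningTree ends T),
          ∏ v : V, ((β v : ℚ) ^ ((LabGraph.nbrCount ends T v : ℤ) - 2)) := by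
  have hconn := connS_univ ends hG
  obtain ⟨⟨v₀⟩, -⟩ := hG
  obtain ⟨m, hm⟩ : ∃ m : ℤ, m = univ.gcd β := ⟨_, rfl⟩
  have hmβ : ∀ v, m ∣ β v := fun v => by rw [hm]; exact Finset.gcd_dvd (Finset.mem_univ v)
  have hβpos : ∀ v, 0 < β v := fun v => (hβ v).1
  have hβq : ∀ v, (0 : ℚ) < (β v : ℚ) := fun v => by exact_mod_cast hβpos v
  have hm0 : m ≠ 0 := by
    intro h0
    have := hmβ v₀
    rw [h0, zero_dvd_iff] at this
    exact absurd this (ne_of_gt (hβpos v₀))
  obtain ⟨w, hw⟩ := exists_bezout Finset.univ β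
  rw [← hm] at hw ⊢
  obtain ⟨Mm, hMm⟩ : ∃ Mm : Matrix V V ℤ, Mm = mfMatrix ends β := ⟨_, rfl⟩
  have hM1 : ∀ v, ∑ u, Mm v u * β u = 0 := by
    intro v; rw [hMm]; exact mf_mulVec_beta hβ v
  have hM2 : ∀ u, ∑ v, β v * Mm v u = 0 := by
    intro u
    rw [← hM1 u]
    refine Finset.sum_congr rfl fun v _ => ?_
    rw [hMm, mf_symm, mul_comm]
  have hdetA := det_rank_one_update Mm β w m v₀ hM1 hM2 hw
  obtain ⟨M', hM'⟩ : ∃ M' : Matrix {v // v ≠ v₀} {v // v ≠ v₀} ℤ,
      M' = Mm.submatrix (Subtype.val : {v // v ≠ v₀} → V) Subtype.val := ⟨_, rfl⟩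
  rw [← hM'] at hdetA
  obtain ⟨dA, hdA⟩ : ∃ dA : ℤ, dA = (Mm + Matrix.vecMulVec w w).det := ⟨_, rfl⟩
  rw [← hdA] at hdetA
  -- the matrix-tree theorem
  have hMT := matrix_tree (K := ℚ) ends v₀ (fun e => (cw ends β e : ℚ))
  obtain ⟨S, hS⟩ : ∃ S : ℚ, S = ∑ T ∈ Finset.univ.powerset.filter
      (fun T : Finset E => IsSpanningTree ends T), ∏ e ∈ T, (cw ends β e : ℚ) := ⟨_, rfl⟩
  rw [← hS] at hMT
  obtain ⟨P', hP'⟩ : ∃ P' : ℚ, P' = ∏ v : {v // v ≠ v₀}, (β v.1 : ℚ) := ⟨_, rfl⟩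
  have hP'pos : 0 < P' := by
    rw [hP']
    exact Finset.prod_pos fun v _ => hβq v.1
  -- the Laplacian is `- D M' D`
  have hL : (Matrix.of fun v w : {v // v ≠ v₀} =>
      ∑ e, (cw ends β e : ℚ) * (chi ends e v.1 : ℚ) * (chi ends e w.1 : ℚ)) =
      Matrix.of fun v w : {v // v ≠ v₀} => (-(β v.1 : ℚ)) *
        ((Matrix.of fun v w : {v // v ≠ v₀} => (β w.1 : ℚ) *
          ((Int.castRingHom ℚ).mapMatrix M') v w) v w) := by
    ext v w
    rw [Matrix.of_apply, Matrix.of_apply, Matrix.of_apply]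
    have h := lap_entry hβ v.1 w.1
    have h' : ∑ e, (cw ends β e : ℚ) * (chi ends e v.1 : ℚ) * (chi ends e w.1 : ℚ) =
        ((∑ e, cw ends β e * chi ends e v.1 * chi ends e w.1 : ℤ) : ℚ) := by
      push_cast
      rfl
    rw [h', h, hM', RingHom.mapMatrix_apply, Matrix.map_apply, Matrix.submatrix_apply, hMm]
    simp only [eq_intCast]
    push_cast
    ring
  have hdetL : S = (-1) ^ (Fintype.card {v // v ≠ v₀}) * P' * P' * (M'.det : ℚ) := by
    rw [← hMT, hL, Matrix.det_mul_column, Matrix.det_mul_row, ← RingHom.map_det,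
      Finset.prod_neg, ← hP', Finset.card_univ]
    simp only [eq_intCast]
    ring
  -- positivity of `S`
  have hSpos : 0 < S := by
    rw [hS]
    obtain ⟨f, hf, hac, -⟩ := exists_arb ends v₀ Finset.univ hconn
    refine Finset.sum_pos' (fun T _ => Finset.prod_nonneg fun e _ => ?_)
      ⟨Finset.univ.image f, Finset.mem_filter.2 ⟨Finset.mem_powerset.2 (Finset.subset_univ _),
        isSpanningTree_image hf hac⟩, Finset.prod_pos fun e _ => ?_⟩
    · unfold cw
      push_cast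
      exact le_of_lt (mul_pos (hβq _) (hβq _))
    · unfold cw
      push_cast
      exact mul_pos (hβq _) (hβq _)
  have hM'abs : S = P' * P' * |(M'.det : ℚ)| := by
    have h1 : |S| = P' * P' * |(M'.det : ℚ)| := by
      rw [hdetL, abs_mul, abs_mul, abs_mul, abs_pow, abs_neg, abs_one, one_pow, one_mul,
        abs_of_pos hP'pos]
    rwa [abs_of_pos hSpos] at h1
  have hM'ne : M'.det ≠ 0 := by
    intro h0
    rw [h0, Int.cast_zero, abs_zero, mul_zero] at hM'abs
    exact absurd hM'abs (ne_of_gt hSpos)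
  have hdA0 : dA ≠ 0 := by
    intro h0
    rw [h0, mul_zero] at hdetA
    rcases mul_eq_zero.1 hdetA.symm with h | h
    · exact hm0 ((pow_eq_zero_iff (two_ne_zero)).1 h)
    · exact hM'ne h
  -- the component group
  have hcard := card_compGrp hβ w m hm0 hmβ hw (by rw [← hMm, ← hdA]; exact hdA0)
  rw [← hMm, ← hdA] at hcard
  have hcardq : (Nat.card (CompGrp ends β) : ℚ) = |(dA : ℚ)| := by
    rw [hcard, Nat.cast_natAbs, Int.cast_abs]
  have hdetAq : (β v₀ : ℚ) ^ 2 * |(dA : ℚ)| = (m : ℚ) ^ 2 * |(M'.det : ℚ)| := by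
    have h1 : ((β v₀ : ℚ) ^ 2 * (dA : ℚ)) = (m : ℚ) ^ 2 * (M'.det : ℚ) := by exact_mod_cast hdetA
    have h2 := congrArg abs h1
    rwa [abs_mul, abs_mul, abs_of_nonneg (sq_nonneg (β v₀ : ℚ)),
      abs_of_nonneg (sq_nonneg (m : ℚ))] at h2
  -- the product of all `β`
  have hPall : ∏ v : V, (β v : ℚ) = (β v₀ : ℚ) * P' := by
    rw [hP', ← Finset.mul_prod_erase Finset.univ _ (Finset.mem_univ v₀)]
    congr 1
    exact Finset.prod_subtype (Finset.univ.erase v₀) (fun x => by simp) (fun v => (β v : ℚ))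
  -- rewrite the right-hand side
  have hRHS : ∑ T ∈ univ.powerset.filter (fun T : Finset E => LabGraph.IsSpanningTree ends T),
      ∏ v : V, ((β v : ℚ) ^ ((LabGraph.nbrCount ends T v : ℤ) - 2)) =
      S / ((β v₀ : ℚ) * P') ^ 2 := by
    rw [hS, Finset.sum_div]
    refine Finset.sum_congr rfl fun T hT => ?_
    have hTree := (Finset.mem_filter.1 hT).2
    have hno := ((isSpanningTree_iff ends T).1 hTree).2
    have h1 : ∏ e ∈ T, (cw ends β e : ℚ) = ∏ v : V, (β v : ℚ) ^ (nbrCount ends T v) := by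
      have := prod_cw_eq (ends := ends) (β := β) T
      have h2 : ((∏ e ∈ T, cw ends β e : ℤ) : ℚ) = ((∏ v, β v ^ (endCount ends T v) : ℤ) : ℚ) := by
        rw [this]
      push_cast at h2
      rw [h2]
      refine Finset.prod_congr rfl fun v _ => ?_
      rw [endCount_eq_nbrCount T hno v]
    rw [h1, ← hPall, ← Finset.prod_pow, ← Finset.prod_div_distrib]
    refine Finset.prod_congr rfl fun v _ => ?_
    rw [zpow_sub₀ (ne_of_gt (hβq v)), zpow_natCast]
    rfl
  rw [hRHS, hcardq]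
  have hβ0 : (β v₀ : ℚ) ≠ 0 := ne_of_gt (hβq v₀)
  have hP'0 : P' ≠ 0 := ne_of_gt hP'pos
  rw [mul_div_assoc', eq_div_iff (pow_ne_zero 2 (mul_ne_zero hβ0 hP'0)), hM'abs]
  calc |(dA : ℚ)| * ((β v₀ : ℚ) * P') ^ 2 = ((β v₀ : ℚ) ^ 2 * |(dA : ℚ)|) * (P' * P') := by ring
    _ = (m : ℚ) ^ 2 * |(M'.det : ℚ)| * (P' * P') := by rw [hdetAq]
    _ = (m : ℚ) ^ 2 * (P' * P' * |(M'.det : ℚ)|) := by ring

end Groth.Agent.H77.MT
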