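import Groth.Agent.H77.MT1

set_option autoImplicit false

/-! A vertex lies on a circuit iff some spanning tree misses an edge at it. -/

namespace Groth.Agent.H77.MT

open Finset LabGraph

universe u
variable {V E : Type u} [Fintype V] [Fintype E] [DecidableEq V] [DecidableEq E]

theorem reflTransGen_adjS_symm (ends : E → V × V) (S : Finset E) {a b : V}
    (h : Relation.ReflTransGen (AdjS ends S) a b) :
    Relation.ReflTransGen (AdjS ends S) b a := by
  induction h with
  | refl => exact Relation.ReflTransGen.refl
  | tail _ hbc ih => exact Relation.ReflTransGen.head (adjS_symm ends _ hbc) ih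

theorem reachable_of_even (ends : E → V × V) (C : Finset E)
    (hev : ∀ v, Even (endCount ends C v)) (e : E) (he : e ∈ C) :
    Relation.ReflTransGen (AdjS ends (C.erase e)) (ends e).1 (ends e).2 := by
  classical
  by_contra hnot
  obtain ⟨R, hR⟩ : ∃ R : Finset V, R = Finset.univ.filter
      (fun w => Relation.ReflTransGen (AdjS ends (C.erase e)) (ends e).1 w) := ⟨_, rfl⟩
  have hmem : ∀ w, w ∈ R ↔ Relation.ReflTransGen (AdjS ends (C.erase e)) (ends e).1 w := by
    intro w; rw [hR]; simp
  have h1 : Even (∑ w ∈ R, endCount ends C w) := Finset.even_sum _ (fun w _ => hev w)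
  have h2 : ∑ w ∈ R, endCount ends C w =
      ∑ e' ∈ C, ((if (ends e').1 ∈ R then 1 else 0) + (if (ends e').2 ∈ R then 1 else 0)) := by
    unfold endCount
    rw [Finset.sum_comm]
    refine Finset.sum_congr rfl fun e' _ => ?_
    rw [Finset.sum_add_distrib, Finset.sum_ite_eq, Finset.sum_ite_eq]
  rw [h2, ← Finset.add_sum_erase C _ he] at h1
  have ha : (ends e).1 ∈ R := (hmem _).2 Relation.ReflTransGen.refl
  have hb : (ends e).2 ∉ R := fun h => hnot ((hmem _).1 h)
  rw [if_pos ha, if_neg hb] at h1
  have h3 : Even (∑ e' ∈ C.erase e,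
      ((if (ends e').1 ∈ R then 1 else 0) + (if (ends e').2 ∈ R then 1 else 0))) := by
    refine Finset.even_sum _ fun e' he' => ?_
    have hiff : (ends e').1 ∈ R ↔ (ends e').2 ∈ R := by
      rw [hmem, hmem]
      constructor
      · intro h
        exact Relation.ReflTransGen.tail h ⟨e', he', Or.inl rfl⟩
      · intro h
        exact Relation.ReflTransGen.tail h ⟨e', he', Or.inr rfl⟩
    by_cases hx : (ends e').1 ∈ R
    · rw [if_pos hx, if_pos (hiff.1 hx)]; decide
    · rw [if_neg hx, if_neg (fun h => hx (hiff.2 h))]; decide
  rw [Nat.even_add] at h1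
  exact absurd (h1.2 h3) (by decide)

theorem circuit_iff_tree (ends : E → V × V) (hG : LabGraph.Connected ends) (v : V) :
    (∃ C : Finset E, IsCircuit ends C ∧ endCount ends C v ≠ 0) ↔
      ∃ T : Finset E, IsSpanningTree ends T ∧
        ∃ e : E, e ∉ T ∧ ((ends e).1 = v ∨ (ends e).2 = v) := by
  constructor
  · rintro ⟨C, ⟨-, hev, -⟩, hv⟩
    obtain ⟨e, heC, hterm⟩ := Finset.exists_ne_zero_of_sum_ne_zero hv
    have hev' : (ends e).1 = v ∨ (ends e).2 = v := by
      by_contra hcon
      push Not at hcon
      apply hterm
      rw [if_neg hcon.1, if_neg hcon.2]; rfl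
    have hpath := reachable_of_even ends C hev e heC
    have hpath' : Relation.ReflTransGen (AdjS ends (Finset.univ.erase e))
        (ends e).1 (ends e).2 := by
      have hle : AdjS ends (C.erase e) ≤ AdjS ends (Finset.univ.erase e) := by
        rintro a b ⟨e', he', h⟩
        exact ⟨e', Finset.mem_erase.2 ⟨(Finset.mem_erase.1 he').1, Finset.mem_univ _⟩, h⟩
      exact Relation.ReflTransGen.mono hle _ _ hpath
    have hconn : ConnS ends (Finset.univ.erase e) := by
      intro x y
      have h := hG.2 x y
      induction h with
      | refl => exact Relation.ReflTransGen.refl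
      | tail _ hbc ih =>
        refine ih.trans ?_
        obtain ⟨e', h⟩ := hbc
        by_cases hee : e' = e
        · rw [hee] at h
          rcases h with h | h
          · have h4 := hpath'
            rw [h] at h4
            exact h4
          · have h4 := hpath'
            rw [h] at h4
            exact reflTransGen_adjS_symm ends _ h4
        · exact Relation.ReflTransGen.single
            ⟨e', Finset.mem_erase.2 ⟨hee, Finset.mem_univ _⟩, h⟩
    obtain ⟨f, hf, hac, hfS⟩ := exists_arb ends v (Finset.univ.erase e) hconn
    refine ⟨Finset.univ.image f, isSpanningTree_image hf hac, e, ?_, hev'⟩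
    intro hmem
    obtain ⟨y, -, hy⟩ := Finset.mem_image.1 hmem
    have h5 := hfS y
    rw [hy] at h5
    exact (Finset.mem_erase.1 h5).1 rfl
  · rintro ⟨T, hT, e, heT, hev⟩
    obtain ⟨⟨-, -⟩, hno⟩ := (isSpanningTree_iff ends T).1 hT
    obtain ⟨f, hf, hac, him⟩ := exists_of_isSpanningTree ends v T hT
    have h2 : Fintype.card {v' : V // v' ≠ v} = Fintype.card V - 1 := by
      rw [Fintype.card_subtype_compl, Fintype.card_subtype_eq]
    have hcardT : T.card + 1 = Fintype.card V := by
      rw [← him, Finset.card_image_of_injective _ (valid_acyclic_injective hf hac),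
        Finset.card_univ, h2]
      have : 0 < Fintype.card V := Fintype.card_pos_iff.2 ⟨v⟩
      omega
    have hnot : ¬ NoEven ends (insert e T) := by
      intro h
      have h6 := card_le_of_noEven ends v (insert e T) h
      rw [Finset.card_insert_of_notMem heT] at h6
      omega
    unfold NoEven at hnot
    push Not at hnot
    obtain ⟨D, hDT, hDne, hDev⟩ := hnot
    obtain ⟨C, hCD, hcirc⟩ := exists_circuit_subset ends D hDne hDev
    have heC : e ∈ C := by
      by_contra hcon
      have hCT : C ⊆ T := by
        intro x hx
        have h7 := hDT (hCD hx)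
        rcases Finset.mem_insert.1 h7 with h | h
        · rw [h] at hx; exact absurd hx hcon
        · exact h
      obtain ⟨w, hw⟩ := hno C hCT hcirc.1
      exact hw (hcirc.2.1 w)
    refine ⟨C, hcirc, ?_⟩
    intro h0
    unfold endCount at h0
    have h8 := (Finset.sum_eq_zero_iff.1 h0) e heC
    rcases hev with h | h
    · rw [if_pos h] at h8
      have := (Nat.add_eq_zero_iff.1 h8).1
      exact one_ne_zero this
    · rw [if_pos h] at h8
      have := (Nat.add_eq_zero_iff.1 h8).2
      exact one_ne_zero this

end Groth.Agent.H77.MT
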