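import Mathlib
import Groth.Prelude.Def_W4c5spincurvestfNode

set_option autoImplicit false
universe u

namespace Groth.Agent.H77.NodePS

open MvPowerSeries

variable {R : Type u} [CommRing R]

noncomputable def ix (a b : ℕ) : Fin 2 →₀ ℕ := Finsupp.single 0 a + Finsupp.single 1 b

@[simp] theorem ix_zero (a b : ℕ) : ix a b 0 = a := by simp [ix]
@[simp] theorem ix_one (a b : ℕ) : ix a b 1 = b := by simp [ix]

theorem eq_ix (d : Fin 2 →₀ ℕ) : d = ix (d 0) (d 1) := by
  ext i; fin_cases i <;> simp [ix]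

theorem le_iff (d : Fin 2 →₀ ℕ) : ix 1 1 ≤ d ↔ 1 ≤ d 0 ∧ 1 ≤ d 1 := by
  rw [Finsupp.le_def]
  constructor
  · intro h
    exact ⟨by simpa using h 0, by simpa using h 1⟩
  · rintro ⟨h0, h1⟩ i
    fin_cases i
    · simpa using h0
    · simpa using h1

theorem XX_eq : (X 0 * X 1 : MvPowerSeries (Fin 2) R) = monomial (ix 1 1) 1 := by
  simp only [X, monomial_mul_monomial, ix, mul_one]

theorem coeff_rel_mul (π : R) (G : MvPowerSeries (Fin 2) R) (d : Fin 2 →₀ ℕ) :
    coeff d ((X 0 * X 1 - C π) * G) =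
      (if 1 ≤ d 0 ∧ 1 ≤ d 1 then coeff (ix (d 0 - 1) (d 1 - 1)) G else 0) - π * coeff d G := by
  rw [sub_mul, map_sub, XX_eq, coeff_monomial_mul, coeff_C_mul]
  congr 1
  by_cases h : 1 ≤ d 0 ∧ 1 ≤ d 1
  · have hsub : d - ix 1 1 = ix (d 0 - 1) (d 1 - 1) := by
      ext i
      fin_cases i <;> simp [ix]
    rw [if_pos h, if_pos ((le_iff d).2 h), one_mul, hsub]
  · rw [if_neg h, if_neg (fun h' => h ((le_iff d).1 h'))]

theorem coeff_toMv0 (f : PowerSeries R) (d : Fin 2 →₀ ℕ) :
    coeff d (PowerSeries.toMvPowerSeries (σ := Fin 2) 0 f) =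
      if d 1 = 0 then PowerSeries.coeff (d 0) f else 0 := by
  split_ifs with h
  · have hd : d = Finsupp.embDomain (Function.Embedding.punit (0 : Fin 2))
        (Finsupp.single PUnit.unit (d 0)) := by
      rw [Finsupp.embDomain_single]
      have h0 : (Function.Embedding.punit (0 : Fin 2)) PUnit.unit = 0 := rfl
      rw [h0]
      ext i
      fin_cases i <;> simp [h]
    conv_lhs => rw [hd]
    exact coeff_embDomain_rename (Function.Embedding.punit (0 : Fin 2)) f _
  · apply coeff_rename_eq_zero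
    rintro ⟨e, he⟩
    apply h
    rw [← he]
    exact Finsupp.mapDomain_notin_range _ _ (by simp)

theorem coeff_toMv1 (g : PowerSeries R) (d : Fin 2 →₀ ℕ) :
    coeff d (PowerSeries.toMvPowerSeries (σ := Fin 2) 1 g) =
      if d 0 = 0 then PowerSeries.coeff (d 1) g else 0 := by
  split_ifs with h
  · have hd : d = Finsupp.embDomain (Function.Embedding.punit (1 : Fin 2))
        (Finsupp.single PUnit.unit (d 1)) := by
      rw [Finsupp.embDomain_single]
      have h0 : (Function.Embedding.punit (1 : Fin 2)) PUnit.unit = 1 := rfl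
      rw [h0]
      ext i
      fin_cases i <;> simp [h]
    conv_lhs => rw [hd]
    exact coeff_embDomain_rename (Function.Embedding.punit (1 : Fin 2)) g _
  · apply coeff_rename_eq_zero
    rintro ⟨e, he⟩
    apply h
    rw [← he]
    exact Finsupp.mapDomain_notin_range _ _ (by simp)

theorem mem_smul_top_iff (I : Ideal R) (n : ℕ) (x : R) :
    x ∈ (I ^ n • ⊤ : Submodule R R) ↔ x ∈ I ^ n := by
  show x ∈ I ^ n * ⊤ ↔ _
  rw [Ideal.mul_top]

section NF

variable (π : R) (F : MvPowerSeries (Fin 2) R)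

noncomputable def S (a b n : ℕ) : R :=
  ∑ k ∈ Finset.range n, π ^ k * coeff (ix (a + k) (b + k)) F

theorem S_succ (a b n : ℕ) :
    S π F a b (n + 1) = coeff (ix a b) F + π * S π F (a + 1) (b + 1) n := by
  unfold S
  rw [Finset.sum_range_succ', Finset.mul_sum]
  simp only [pow_zero, one_mul, Nat.add_zero]
  rw [add_comm]
  congr 1
  apply Finset.sum_congr rfl
  intro k _
  have e1 : a + (k + 1) = a + 1 + k := by omega
  have e2 : b + (k + 1) = b + 1 + k := by omega
  rw [e1, e2, pow_succ]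
  ring

theorem S_cauchy (I : Ideal R) (hπ : π ∈ I) (a b : ℕ) {m n : ℕ} (h : m ≤ n) :
    S π F a b m - S π F a b n ∈ I ^ m := by
  unfold S
  rw [← Finset.sum_range_add_sum_Ico _ h, sub_add_cancel_left]
  apply Ideal.neg_mem_iff _ |>.2
  apply Ideal.sum_mem
  intro k hk
  rw [Finset.mem_Ico] at hk
  exact Ideal.mul_mem_right _ _ (Ideal.pow_le_pow_right hk.1 (Ideal.pow_mem_pow hπ k))

theorem NF_exists (I : Ideal R) [IsAdicComplete I R] (hπ : π ∈ I) :
    ∃ (f g : PowerSeries R) (G : MvPowerSeries (Fin 2) R),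
      F = PowerSeries.toMvPowerSeries (σ := Fin 2) 0 f + PowerSeries.toMvPowerSeries (σ := Fin 2) 1 g
        + (X 0 * X 1 - C π) * G := by
  have hex : ∀ ab : ℕ × ℕ, ∃ L : R, ∀ n, S π F ab.1 ab.2 n - L ∈ I ^ n := by
    intro ab
    obtain ⟨L, hL⟩ := IsPrecomplete.prec (inferInstance : IsPrecomplete I R)
      (f := fun n => S π F ab.1 ab.2 n) (by
        intro m n hmn
        rw [SModEq.sub_mem, mem_smul_top_iff]
        exact S_cauchy π F I hπ ab.1 ab.2 hmn)
    refine ⟨L, fun n => ?_⟩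
    have := hL n
    rw [SModEq.sub_mem, mem_smul_top_iff] at this
    exact this
  choose L hL using hex
  have hrec : ∀ a b, L (a, b) = coeff (ix a b) F + π * L (a + 1, b + 1) := by
    intro a b
    rw [IsHausdorff.eq_iff_smodEq (I := I)]
    intro n
    rw [SModEq.sub_mem, mem_smul_top_iff]
    have h1 := hL (a, b) (n + 1)
    have h2 := hL (a + 1, b + 1) n
    have h1' : S π F a b (n + 1) - L (a, b) ∈ I ^ n := Ideal.pow_le_pow_right (Nat.le_succ n) h1
    have : L (a, b) - (coeff (ix a b) F + π * L (a + 1, b + 1)) =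
        -(S π F a b (n + 1) - L (a, b)) + π * (S π F (a + 1) (b + 1) n - L (a + 1, b + 1)) := by
      rw [S_succ]; ring
    rw [this]
    exact Ideal.add_mem _ ((Ideal.neg_mem_iff _).2 h1') (Ideal.mul_mem_left _ _ h2)
  refine ⟨PowerSeries.mk (fun a => L (a, 0)), PowerSeries.mk (fun b => if b = 0 then 0 else L (0, b)),
    (fun d => L (d 0 + 1, d 1 + 1) : (Fin 2 →₀ ℕ) → R), ?_⟩
  ext d
  rw [map_add, map_add, coeff_toMv0, coeff_toMv1, coeff_rel_mul, PowerSeries.coeff_mk,
    PowerSeries.coeff_mk]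
  have hG : ∀ e : Fin 2 →₀ ℕ, coeff e ((fun d => L (d 0 + 1, d 1 + 1) : (Fin 2 →₀ ℕ) → R) :
      MvPowerSeries (Fin 2) R) = L (e 0 + 1, e 1 + 1) := fun e => rfl
  rw [hG, hG, ix_zero, ix_one]
  have hd : coeff d F = coeff (ix (d 0) (d 1)) F := by rw [← eq_ix]
  rw [hd]
  have hr := hrec (d 0) (d 1)
  by_cases h0 : d 0 = 0
  · by_cases h1 : d 1 = 0
    · have hn : ¬ (1 ≤ d 0 ∧ 1 ≤ d 1) := by omega
      rw [if_pos h1, if_pos h0, if_pos h1, if_neg hn]
      rw [h0, h1] at hr ⊢
      linear_combination -hr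
    · have hn : ¬ (1 ≤ d 0 ∧ 1 ≤ d 1) := by omega
      rw [if_neg h1, if_pos h0, if_neg h1, if_neg hn]
      rw [h0] at hr ⊢
      linear_combination -hr
  · by_cases h1 : d 1 = 0
    · have hn : ¬ (1 ≤ d 0 ∧ 1 ≤ d 1) := by omega
      rw [if_pos h1, if_neg h0, if_neg hn]
      rw [h1] at hr ⊢
      linear_combination -hr
    · have hp : 1 ≤ d 0 ∧ 1 ≤ d 1 := by omega
      rw [if_neg h1, if_neg h0, if_pos hp]
      have e0 : d 0 - 1 + 1 = d 0 := by omega
      have e1 : d 1 - 1 + 1 = d 1 := by omega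
      rw [e0, e1]
      linear_combination -hr

theorem NF_unique (I : Ideal R) [IsHausdorff I R] (hπ : π ∈ I) (f g : PowerSeries R)
    (G : MvPowerSeries (Fin 2) R)
    (h : PowerSeries.toMvPowerSeries (σ := Fin 2) 0 f + PowerSeries.toMvPowerSeries (σ := Fin 2) 1 g
      = (X 0 * X 1 - C π) * G) : G = 0 := by
  have key : ∀ a b, coeff (ix a b) G = π * coeff (ix (a + 1) (b + 1)) G := by
    intro a b
    have := congrArg (coeff (ix (a + 1) (b + 1))) h
    rw [map_add, coeff_toMv0, coeff_toMv1, coeff_rel_mul, ix_zero, ix_one] at this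
    have hp : 1 ≤ a + 1 ∧ 1 ≤ b + 1 := by omega
    rw [if_neg (by omega), if_neg (by omega), if_pos hp] at this
    simp only [Nat.add_sub_cancel] at this
    linear_combination -this
  have hmem : ∀ k a b, coeff (ix a b) G ∈ I ^ k := by
    intro k
    induction k with
    | zero => intro a b; simp
    | succ k ih =>
      intro a b
      rw [key a b, pow_succ']
      exact Ideal.mul_mem_mul hπ (ih (a + 1) (b + 1))
  ext d
  have hd : coeff d G = coeff (ix (d 0) (d 1)) G := by rw [← eq_ix d]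
  rw [hd, show coeff d (0 : MvPowerSeries (Fin 2) R) = 0 from map_zero _]
  apply IsHausdorff.haus (inferInstance : IsHausdorff I R)
  intro n
  rw [SModEq.zero, mem_smul_top_iff]
  exact hmem n _ _

theorem NF_unique' (I : Ideal R) [IsHausdorff I R] (hπ : π ∈ I) (f g : PowerSeries R)
    (G : MvPowerSeries (Fin 2) R)
    (h : PowerSeries.toMvPowerSeries (σ := Fin 2) 0 f + PowerSeries.toMvPowerSeries (σ := Fin 2) 1 g
      = (X 0 * X 1 - C π) * G) :
    (∀ n, 1 ≤ n → PowerSeries.coeff n f = 0) ∧ (∀ n, 1 ≤ n → PowerSeries.coeff n g = 0) ∧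
      PowerSeries.coeff 0 f + PowerSeries.coeff 0 g = 0 := by
  have hG := NF_unique π I hπ f g G h
  rw [hG, mul_zero] at h
  refine ⟨fun n hn => ?_, fun n hn => ?_, ?_⟩
  · have := congrArg (coeff (ix n 0)) h
    rw [map_add, coeff_toMv0, coeff_toMv1, ix_zero, ix_one, map_zero, if_pos rfl,
      if_neg (by omega), add_zero] at this
    exact this
  · have := congrArg (coeff (ix 0 n)) h
    rw [map_add, coeff_toMv0, coeff_toMv1, ix_zero, ix_one, map_zero, if_pos rfl,
      if_neg (by omega), zero_add] at this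
    exact this
  · have := congrArg (coeff (ix 0 0)) h
    rw [map_add, coeff_toMv0, coeff_toMv1, ix_zero, ix_one, map_zero, if_pos rfl,
      if_pos rfl] at this
    exact this

end NF

section Node

open SpinCurv

variable (π : R)

theorem xy_eq : NodeRing.x R π * NodeRing.y R π = algebraMap R (NodeRing R π) π := by
  have h1 : algebraMap R (NodeRing R π) π = Ideal.Quotient.mk _ (C π : MvPowerSeries (Fin 2) R) := rfl
  rw [h1, ← map_mul, Ideal.Quotient.eq]
  exact Ideal.subset_span (Set.mem_singleton _)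

theorem x_mul_ofX (f : PowerSeries R) :
    NodeRing.x R π * NodeRing.ofX R π f = NodeRing.ofX R π (PowerSeries.X * f) := by
  show _ = Ideal.Quotient.mk _ (PowerSeries.toMvPowerSeries (σ := Fin 2) 0 (PowerSeries.X * f))
  rw [map_mul, PowerSeries.toMvPowerSeries_X, map_mul]

theorem y_mul_ofY (g : PowerSeries R) :
    NodeRing.y R π * NodeRing.ofY R π g = NodeRing.ofY R π (PowerSeries.X * g) := by
  show _ = Ideal.Quotient.mk _ (PowerSeries.toMvPowerSeries (σ := Fin 2) 1 (PowerSeries.X * g))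
  rw [map_mul, PowerSeries.toMvPowerSeries_X, map_mul]

theorem c_mul_ofX (r : R) (f : PowerSeries R) :
    algebraMap R (NodeRing R π) r * NodeRing.ofX R π f = NodeRing.ofX R π (PowerSeries.C r * f) := by
  show _ = Ideal.Quotient.mk _ (PowerSeries.toMvPowerSeries (σ := Fin 2) 0 (PowerSeries.C r * f))
  rw [map_mul, PowerSeries.toMvPowerSeries_C, map_mul]
  rfl

theorem c_mul_ofY (r : R) (g : PowerSeries R) :
    algebraMap R (NodeRing R π) r * NodeRing.ofY R π g = NodeRing.ofY R π (PowerSeries.C r * g) := by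
  show _ = Ideal.Quotient.mk _ (PowerSeries.toMvPowerSeries (σ := Fin 2) 1 (PowerSeries.C r * g))
  rw [map_mul, PowerSeries.toMvPowerSeries_C, map_mul]
  rfl

theorem ofX_add (f g : PowerSeries R) :
    NodeRing.ofX R π (f + g) = NodeRing.ofX R π f + NodeRing.ofX R π g := by
  show Ideal.Quotient.mk _ (PowerSeries.toMvPowerSeries (σ := Fin 2) 0 (f + g)) = _
  rw [map_add, map_add]

theorem ofY_add (f g : PowerSeries R) :
    NodeRing.ofY R π (f + g) = NodeRing.ofY R π f + NodeRing.ofY R π g := by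
  show Ideal.Quotient.mk _ (PowerSeries.toMvPowerSeries (σ := Fin 2) 1 (f + g)) = _
  rw [map_add, map_add]

theorem ofX_sub (f g : PowerSeries R) :
    NodeRing.ofX R π (f - g) = NodeRing.ofX R π f - NodeRing.ofX R π g := by
  show Ideal.Quotient.mk _ (PowerSeries.toMvPowerSeries (σ := Fin 2) 0 (f - g)) = _
  rw [map_sub, map_sub]

theorem ofY_sub (f g : PowerSeries R) :
    NodeRing.ofY R π (f - g) = NodeRing.ofY R π f - NodeRing.ofY R π g := by
  show Ideal.Quotient.mk _ (PowerSeries.toMvPowerSeries (σ := Fin 2) 1 (f - g)) = _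
  rw [map_sub, map_sub]

theorem ofX_C (r : R) : NodeRing.ofX R π (PowerSeries.C r) = algebraMap R (NodeRing R π) r := by
  show Ideal.Quotient.mk _ (PowerSeries.toMvPowerSeries (σ := Fin 2) 0 (PowerSeries.C r)) = _
  rw [PowerSeries.toMvPowerSeries_C]
  rfl

theorem ofY_C (r : R) : NodeRing.ofY R π (PowerSeries.C r) = algebraMap R (NodeRing R π) r := by
  show Ideal.Quotient.mk _ (PowerSeries.toMvPowerSeries (σ := Fin 2) 1 (PowerSeries.C r)) = _
  rw [PowerSeries.toMvPowerSeries_C]
  rfl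

theorem node_exists (I : Ideal R) [IsAdicComplete I R] (hπ : π ∈ I) (a : NodeRing R π) :
    ∃ f g : PowerSeries R, a = NodeRing.ofX R π f + NodeRing.ofY R π g := by
  obtain ⟨F, rfl⟩ := Ideal.Quotient.mk_surjective a
  obtain ⟨f, g, G, hF⟩ := NF_exists π F I hπ
  refine ⟨f, g, ?_⟩
  rw [hF, map_add, map_add]
  have : Ideal.Quotient.mk (Ideal.span {(X 0 * X 1 - C π : MvPowerSeries (Fin 2) R)})
      ((X 0 * X 1 - C π) * G) = 0 := by
    rw [Ideal.Quotient.eq_zero_iff_mem]
    exact Ideal.mul_mem_right _ _ (Ideal.subset_span (Set.mem_singleton _))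
  rw [this, add_zero]

theorem node_unique (I : Ideal R) [IsHausdorff I R] (hπ : π ∈ I) (f g : PowerSeries R)
    (h : NodeRing.ofX R π f + NodeRing.ofY R π g = 0) :
    (∀ n, 1 ≤ n → PowerSeries.coeff n f = 0) ∧ (∀ n, 1 ≤ n → PowerSeries.coeff n g = 0) ∧
      PowerSeries.coeff 0 f + PowerSeries.coeff 0 g = 0 := by
  have h' : Ideal.Quotient.mk (Ideal.span {(X 0 * X 1 - C π : MvPowerSeries (Fin 2) R)})
      (PowerSeries.toMvPowerSeries (σ := Fin 2) 0 f + PowerSeries.toMvPowerSeries (σ := Fin 2) 1 g)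
        = 0 := by
    rw [map_add]; exact h
  rw [Ideal.Quotient.eq_zero_iff_mem, Ideal.mem_span_singleton'] at h'
  obtain ⟨G, hG⟩ := h'
  exact NF_unique' π I hπ f g G (by rw [← hG, mul_comm])

end Node

section Alpha

open SpinCurv

variable (p q : R)

/-- kernel-type injectivity on pairs (ofX f, ofY g) -/
theorem alpha_inj (I : Ideal R) [IsHausdorff I R] (hπ : p * q ∈ I) (f g : PowerSeries R)
    (h0 : NodeRing.x R (p * q) * NodeRing.ofX R (p * q) f +
      algebraMap R (NodeRing R (p * q)) p * NodeRing.ofY R (p * q) g = 0)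
    (h1 : algebraMap R (NodeRing R (p * q)) q * NodeRing.ofX R (p * q) f +
      NodeRing.y R (p * q) * NodeRing.ofY R (p * q) g = 0) : f = 0 ∧ g = 0 := by
  rw [x_mul_ofX, c_mul_ofY] at h0
  rw [c_mul_ofX, y_mul_ofY] at h1
  obtain ⟨hf, -, -⟩ := node_unique (p * q) I hπ _ _ h0
  obtain ⟨-, hg, -⟩ := node_unique (p * q) I hπ _ _ h1
  constructor
  · ext n
    have := hf (n + 1) (by omega)
    rw [PowerSeries.coeff_succ_X_mul] at this
    rw [this, map_zero]
  · ext n
    have := hg (n + 1) (by omega)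
    rw [PowerSeries.coeff_succ_X_mul] at this
    rw [this, map_zero]

/-- decomposition of a pair modulo the two kernel generators -/
theorem alpha_decomp (I : Ideal R) [IsAdicComplete I R] (hπ : p * q ∈ I)
    (v0 v1 : NodeRing R (p * q)) :
    ∃ (f g : PowerSeries R) (s t : NodeRing R (p * q)),
      v0 = NodeRing.ofX R (p * q) f + s * NodeRing.y R (p * q) +
        t * algebraMap R (NodeRing R (p * q)) p ∧
      v1 = NodeRing.ofY R (p * q) g - s * algebraMap R (NodeRing R (p * q)) q -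
        t * NodeRing.x R (p * q) := by
  obtain ⟨f1, g1, h0⟩ := node_exists (p * q) I hπ v0
  obtain ⟨f2, g2, h1⟩ := node_exists (p * q) I hπ v1
  -- g1 = X * g1' + C c1 ; f2 = X * f2' + C c2
  have hg1 := PowerSeries.eq_X_mul_shift_add_const g1
  have hf2 := PowerSeries.eq_X_mul_shift_add_const f2
  set g1' : PowerSeries R := PowerSeries.mk fun n => PowerSeries.coeff (n + 1) g1 with hg1'
  set f2' : PowerSeries R := PowerSeries.mk fun n => PowerSeries.coeff (n + 1) f2 with hf2'
  set c1 := PowerSeries.constantCoeff g1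
  set c2 := PowerSeries.constantCoeff f2
  refine ⟨f1 + PowerSeries.C c1 + PowerSeries.C p * f2', g2 + PowerSeries.C c2 + PowerSeries.C q * g1',
    NodeRing.ofY R (p * q) g1', - NodeRing.ofX R (p * q) f2', ?_, ?_⟩
  · rw [h0]
    conv_lhs => rw [hg1]
    rw [ofY_add, ← y_mul_ofY, ofY_C, ofX_add, ofX_add, ofX_C, ← c_mul_ofX]
    ring
  · rw [h1]
    conv_lhs => rw [hf2]
    rw [ofX_add, ← x_mul_ofX, ofX_C, ofY_add, ofY_add, ofY_C, ← c_mul_ofY]
    ring

end Alpha

end Groth.Agent.H77.NodePS
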