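import Mathlib
import Groth.Agent.H77.NodePS

set_option autoImplicit false
universe u

namespace Groth.Agent.H77.NodeIdeal

open MvPowerSeries
open Groth.Agent.H77.NodePS

variable {k : Type u} [Field k]

theorem ix_inj {a b a' b' : ℕ} (h : ix a b = ix a' b') : a = a' ∧ b = b' := by
  constructor
  · have := DFunLike.congr_fun h 0
    simpa using this
  · have := DFunLike.congr_fun h 1
    simpa using this

theorem ix_eq_iff (a b a' b' : ℕ) : ix a b = ix a' b' ↔ a = a' ∧ b = b' :=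
  ⟨ix_inj, fun h => by rw [h.1, h.2]⟩

theorem zero_eq_ix : (0 : Fin 2 →₀ ℕ) = ix 0 0 := by
  ext i; fin_cases i <;> simp [ix]

theorem ext_ix {F G : MvPowerSeries (Fin 2) k}
    (h : ∀ a b, coeff (ix a b) F = coeff (ix a b) G) : F = G := by
  ext d
  have := h (d 0) (d 1)
  rwa [← eq_ix d] at this

theorem X0pow_eq (m : ℕ) : (X 0 ^ m : MvPowerSeries (Fin 2) k) = monomial (ix m 0) 1 := by
  rw [X_pow_eq]
  have : (Finsupp.single (0 : Fin 2) m) = ix m 0 := by
    ext i; fin_cases i <;> simp [ix]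
  rw [this]

theorem X1pow_eq (m : ℕ) : (X 1 ^ m : MvPowerSeries (Fin 2) k) = monomial (ix 0 m) 1 := by
  rw [X_pow_eq]
  have : (Finsupp.single (1 : Fin 2) m) = ix 0 m := by
    ext i; fin_cases i <;> simp [ix]
  rw [this]

theorem ix_le_iff (m n : ℕ) (d : Fin 2 →₀ ℕ) : ix m n ≤ d ↔ m ≤ d 0 ∧ n ≤ d 1 := by
  rw [Finsupp.le_def]
  constructor
  · intro h
    exact ⟨by simpa using h 0, by simpa using h 1⟩
  · rintro ⟨h0, h1⟩ i
    fin_cases i
    · simpa using h0
    · simpa using h1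

theorem sub_ix (m n : ℕ) (d : Fin 2 →₀ ℕ) : d - ix m n = ix (d 0 - m) (d 1 - n) := by
  ext i; fin_cases i <;> simp [ix]

theorem coeff_mono_mul (m n : ℕ) (G : MvPowerSeries (Fin 2) k) (a b : ℕ) :
    coeff (ix a b) (monomial (ix m n) 1 * G) =
      if m ≤ a ∧ n ≤ b then coeff (ix (a - m) (b - n)) G else 0 := by
  rw [coeff_monomial_mul]
  by_cases h : m ≤ a ∧ n ≤ b
  · rw [if_pos h, if_pos ((ix_le_iff m n _).2 (by simpa using h)), one_mul, sub_ix, ix_zero, ix_one]
  · rw [if_neg h, if_neg (fun h' => h (by simpa using (ix_le_iff m n _).1 h'))]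

theorem coeff_X0pow_mul (m : ℕ) (G : MvPowerSeries (Fin 2) k) (a b : ℕ) :
    coeff (ix a b) (X 0 ^ m * G) = if m ≤ a then coeff (ix (a - m) b) G else 0 := by
  rw [X0pow_eq, coeff_mono_mul]
  simp

theorem coeff_X1pow_mul (m : ℕ) (G : MvPowerSeries (Fin 2) k) (a b : ℕ) :
    coeff (ix a b) (X 1 ^ m * G) = if m ≤ b then coeff (ix a (b - m)) G else 0 := by
  rw [X1pow_eq, coeff_mono_mul]
  simp

theorem coeff_XY_mul (G : MvPowerSeries (Fin 2) k) (a b : ℕ) :
    coeff (ix a b) (X 0 * X 1 * G) =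
      if 1 ≤ a ∧ 1 ≤ b then coeff (ix (a - 1) (b - 1)) G else 0 := by
  rw [XX_eq, coeff_mono_mul]

theorem coeff_X0pow (m a b : ℕ) :
    coeff (ix a b) (X 0 ^ m : MvPowerSeries (Fin 2) k) = if a = m ∧ b = 0 then 1 else 0 := by
  classical
  rw [X0pow_eq, coeff_monomial]
  by_cases h : a = m ∧ b = 0
  · rw [if_pos h, if_pos ((ix_eq_iff _ _ _ _).2 h)]
  · rw [if_neg h, if_neg (fun h' => h ((ix_eq_iff _ _ _ _).1 h'))]

theorem coeff_X1pow (m a b : ℕ) :
    coeff (ix a b) (X 1 ^ m : MvPowerSeries (Fin 2) k) = if a = 0 ∧ b = m then 1 else 0 := by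
  classical
  rw [X1pow_eq, coeff_monomial]
  by_cases h : a = 0 ∧ b = m
  · rw [if_pos h, if_pos ((ix_eq_iff _ _ _ _).2 h)]
  · rw [if_neg h, if_neg (fun h' => h ((ix_eq_iff _ _ _ _).1 h'))]

/-- power series from a coefficient function -/
def mk2 (c : ℕ → ℕ → k) : MvPowerSeries (Fin 2) k := fun d => c (d 0) (d 1)

theorem coeff_mk2 (c : ℕ → ℕ → k) (a b : ℕ) : coeff (ix a b) (mk2 c) = c a b := by
  show c ((ix a b) 0) ((ix a b) 1) = c a b
  rw [ix_zero, ix_one]

theorem isUnit_of_coeff_ne_zero (U : MvPowerSeries (Fin 2) k) (h : coeff (ix 0 0) U ≠ 0) :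
    IsUnit U := by
  rw [MvPowerSeries.isUnit_iff_constantCoeff, ← coeff_zero_eq_constantCoeff_apply, zero_eq_ix]
  exact isUnit_iff_ne_zero.2 h

theorem exists_X0pow_mem (J : Ideal (MvPowerSeries (Fin 2) k))
    (hxy : (X 0 * X 1 : MvPowerSeries (Fin 2) k) ∈ J)
    (F : MvPowerSeries (Fin 2) k) (hF : F ∈ J) (i : ℕ) (hi : coeff (ix i 0) F ≠ 0) :
    ∃ m, m ≤ i + 1 ∧ (X 0 ^ m : MvPowerSeries (Fin 2) k) ∈ J := by
  classical
  have hex : ∃ i, coeff (ix i 0) F ≠ 0 := ⟨i, hi⟩
  have h1 : coeff (ix (Nat.find hex) 0) F ≠ 0 := Nat.find_spec hex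
  have h2 : ∀ m, m < Nat.find hex → coeff (ix m 0) F = 0 := fun m hm => by
    by_contra h; exact Nat.find_min hex hm h
  have h3 : Nat.find hex ≤ i := Nat.find_min' hex hi
  generalize Nat.find hex = i₀ at h1 h2 h3
  let U : MvPowerSeries (Fin 2) k := mk2 (fun a b => if b = 0 then coeff (ix (i₀ + a) 0) F else 0)
  let G : MvPowerSeries (Fin 2) k := mk2 (fun a b => coeff (ix a (b + 1)) F)
  have hid : X 0 * F = X 0 ^ (i₀ + 1) * U + X 0 * X 1 * G := by
    apply ext_ix
    intro a b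
    have e1 : (X 0 * F : MvPowerSeries (Fin 2) k) = X 0 ^ 1 * F := by rw [pow_one]
    rw [e1, map_add, coeff_X0pow_mul, coeff_X0pow_mul, coeff_XY_mul, coeff_mk2, coeff_mk2]
    by_cases ha : 1 ≤ a
    · by_cases hb : b = 0
      · subst hb
        by_cases hc : i₀ + 1 ≤ a
        · rw [if_pos ha, if_pos hc, if_pos rfl, if_neg (by omega), add_zero]
          have : i₀ + (a - (i₀ + 1)) = a - 1 := by omega
          rw [this]
        · rw [if_pos ha, if_neg hc, if_neg (by omega), add_zero]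
          exact h2 (a - 1) (by omega)
      · have hb' : 1 ≤ b := by omega
        rw [if_pos ha, if_pos (show 1 ≤ a ∧ 1 ≤ b from ⟨ha, hb'⟩)]
        have : b - 1 + 1 = b := by omega
        rw [this]
        by_cases hc : i₀ + 1 ≤ a
        · rw [if_pos hc, if_neg hb, zero_add]
        · rw [if_neg hc, zero_add]
    · rw [if_neg ha, if_neg (by omega), if_neg (by omega), add_zero]
  have hU : IsUnit U := by
    apply isUnit_of_coeff_ne_zero
    rw [coeff_mk2, if_pos rfl, add_zero]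
    exact h1
  refine ⟨i₀ + 1, by omega, ?_⟩
  have hmem : X 0 ^ (i₀ + 1) * U ∈ J := by
    have : X 0 ^ (i₀ + 1) * U = X 0 * F - X 0 * X 1 * G := by rw [hid]; ring
    rw [this]
    exact J.sub_mem (J.mul_mem_left _ hF) (J.mul_mem_right _ hxy)
  exact (Ideal.mul_unit_mem_iff_mem J hU).1 hmem

theorem exists_X1pow_mem (J : Ideal (MvPowerSeries (Fin 2) k))
    (hxy : (X 0 * X 1 : MvPowerSeries (Fin 2) k) ∈ J)
    (F : MvPowerSeries (Fin 2) k) (hF : F ∈ J) (j : ℕ) (hj : coeff (ix 0 j) F ≠ 0) :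
    ∃ m, m ≤ j + 1 ∧ (X 1 ^ m : MvPowerSeries (Fin 2) k) ∈ J := by
  classical
  have hex : ∃ j, coeff (ix 0 j) F ≠ 0 := ⟨j, hj⟩
  have h1 : coeff (ix 0 (Nat.find hex)) F ≠ 0 := Nat.find_spec hex
  have h2 : ∀ m, m < Nat.find hex → coeff (ix 0 m) F = 0 := fun m hm => by
    by_contra h; exact Nat.find_min hex hm h
  have h3 : Nat.find hex ≤ j := Nat.find_min' hex hj
  generalize Nat.find hex = j₀ at h1 h2 h3
  let U : MvPowerSeries (Fin 2) k := mk2 (fun a b => if a = 0 then coeff (ix 0 (j₀ + b)) F else 0)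
  let G : MvPowerSeries (Fin 2) k := mk2 (fun a b => coeff (ix (a + 1) b) F)
  have hid : X 1 * F = X 1 ^ (j₀ + 1) * U + X 0 * X 1 * G := by
    apply ext_ix
    intro a b
    have e1 : (X 1 * F : MvPowerSeries (Fin 2) k) = X 1 ^ 1 * F := by rw [pow_one]
    rw [e1, map_add, coeff_X1pow_mul, coeff_X1pow_mul, coeff_XY_mul, coeff_mk2, coeff_mk2]
    by_cases hb : 1 ≤ b
    · by_cases ha : a = 0
      · subst ha
        by_cases hc : j₀ + 1 ≤ b
        · rw [if_pos hb, if_pos hc, if_pos rfl, if_neg (by omega), add_zero]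
          have : j₀ + (b - (j₀ + 1)) = b - 1 := by omega
          rw [this]
        · rw [if_pos hb, if_neg hc, if_neg (by omega), add_zero]
          exact h2 (b - 1) (by omega)
      · have ha' : 1 ≤ a := by omega
        rw [if_pos hb, if_pos (show 1 ≤ a ∧ 1 ≤ b from ⟨ha', hb⟩)]
        have : a - 1 + 1 = a := by omega
        rw [this]
        by_cases hc : j₀ + 1 ≤ b
        · rw [if_pos hc, if_neg ha, zero_add]
        · rw [if_neg hc, zero_add]
    · rw [if_neg hb, if_neg (by omega), if_neg (by omega), add_zero]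
  have hU : IsUnit U := by
    apply isUnit_of_coeff_ne_zero
    rw [coeff_mk2, if_pos rfl, add_zero]
    exact h1
  refine ⟨j₀ + 1, by omega, ?_⟩
  have hmem : X 1 ^ (j₀ + 1) * U ∈ J := by
    have : X 1 ^ (j₀ + 1) * U = X 1 * F - X 0 * X 1 * G := by rw [hid]; ring
    rw [this]
    exact J.sub_mem (J.mul_mem_left _ hF) (J.mul_mem_right _ hxy)
  exact (Ideal.mul_unit_mem_iff_mem J hU).1 hmem

/-- vanishing of the "low" coefficients -/
def Z (a b : ℕ) (F : MvPowerSeries (Fin 2) k) : Prop :=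
  (∀ i, i < a → coeff (ix i 0) F = 0) ∧ (∀ j, 1 ≤ j → j < b → coeff (ix 0 j) F = 0)

theorem mem_span_of_Z (a b : ℕ) (ha : 1 ≤ a) (hb : 1 ≤ b) (F : MvPowerSeries (Fin 2) k)
    (hZ : Z a b F) :
    F ∈ Ideal.span {(X 0 * X 1 : MvPowerSeries (Fin 2) k), X 0 ^ a, X 1 ^ b} := by
  let G₁ : MvPowerSeries (Fin 2) k := mk2 (fun i j => coeff (ix (i + 1) (j + 1)) F)
  let G₂ : MvPowerSeries (Fin 2) k := mk2 (fun i j => if j = 0 then coeff (ix (a + i) 0) F else 0)
  let G₃ : MvPowerSeries (Fin 2) k := mk2 (fun i j => if i = 0 then coeff (ix 0 (b + j)) F else 0)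
  have hid : F = X 0 * X 1 * G₁ + X 0 ^ a * G₂ + X 1 ^ b * G₃ := by
    apply ext_ix
    intro i j
    rw [map_add, map_add, coeff_XY_mul, coeff_X0pow_mul, coeff_X1pow_mul, coeff_mk2, coeff_mk2,
      coeff_mk2]
    by_cases hj : j = 0
    · subst hj
      have t1 : ¬ (1 ≤ i ∧ 1 ≤ 0) := by omega
      have t3 : ¬ (b ≤ 0) := by omega
      rw [if_neg t1, if_neg t3, zero_add, add_zero, if_pos (rfl : (0 : ℕ) = 0)]
      by_cases hi : a ≤ i
      · rw [if_pos hi]
        have : a + (i - a) = i := by omega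
        rw [this]
      · rw [if_neg hi]
        exact hZ.1 i (by omega)
    · by_cases hi : i = 0
      · subst hi
        have t1 : ¬ (1 ≤ 0 ∧ 1 ≤ j) := by omega
        have t2 : ¬ (a ≤ 0) := by omega
        rw [if_neg t1, if_neg t2, zero_add, zero_add, if_pos (rfl : (0 : ℕ) = 0)]
        by_cases hjb : b ≤ j
        · rw [if_pos hjb]
          have : b + (j - b) = j := by omega
          rw [this]
        · rw [if_neg hjb]
          exact hZ.2 j (by omega) (by omega)
      · have e1 : i - 1 + 1 = i := by omega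
        have e2 : j - 1 + 1 = j := by omega
        rw [if_pos (show 1 ≤ i ∧ 1 ≤ j from ⟨by omega, by omega⟩), e1, e2, if_neg hj, if_neg hi]
        have h3 : (if b ≤ j then (0 : k) else 0) = 0 := by split_ifs <;> rfl
        have h4 : (if a ≤ i then (0 : k) else 0) = 0 := by split_ifs <;> rfl
        rw [h3, h4, add_zero, add_zero]
  rw [hid]
  refine Ideal.add_mem _ (Ideal.add_mem _ ?_ ?_) ?_
  · exact Ideal.mul_mem_right _ _ (Ideal.subset_span (by simp))
  · exact Ideal.mul_mem_right _ _ (Ideal.subset_span (by simp))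
  · exact Ideal.mul_mem_right _ _ (Ideal.subset_span (by simp))

/-- exponent attached to a coordinate -/
noncomputable def ee (a b : ℕ) : Fin a ⊕ Fin (b - 1) → (Fin 2 →₀ ℕ) :=
  Sum.elim (fun i => ix (i : ℕ) 0) (fun j => ix 0 ((j : ℕ) + 1))

/-- the coordinate map -/
noncomputable def Phi (a b : ℕ) :
    MvPowerSeries (Fin 2) k →ₗ[k] (Fin a ⊕ Fin (b - 1) → k) :=
  LinearMap.pi (fun t => coeff (ee a b t))

theorem Phi_apply (a b : ℕ) (F : MvPowerSeries (Fin 2) k) (t : Fin a ⊕ Fin (b - 1)) :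
    Phi a b F t = coeff (ee a b t) F := rfl

theorem Phi_eq_zero_iff (a b : ℕ) (F : MvPowerSeries (Fin 2) k) : Phi a b F = 0 ↔ Z a b F := by
  constructor
  · intro h
    constructor
    · intro i hi
      have := congrFun h (Sum.inl ⟨i, hi⟩)
      simpa [Phi_apply, ee] using this
    · intro j hj1 hjb
      have := congrFun h (Sum.inr ⟨j - 1, by omega⟩)
      have e : j - 1 + 1 = j := by omega
      simpa [Phi_apply, ee, e] using this
  · rintro ⟨h0, h1⟩
    funext t
    rcases t with i | j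
    · simpa [Phi_apply, ee] using h0 i i.2
    · simpa [Phi_apply, ee] using h1 ((j : ℕ) + 1) (by omega) (by have := j.2; omega)

theorem Phi_surjective (a b : ℕ) : Function.Surjective (Phi (k := k) a b) := by
  intro p
  refine ⟨mk2 (fun i j => if j = 0 then (if h : i < a then p (Sum.inl ⟨i, h⟩) else 0)
    else if i = 0 then (if h : j - 1 < b - 1 then p (Sum.inr ⟨j - 1, h⟩) else 0) else 0), ?_⟩
  funext t
  rcases t with i | j
  · rw [Phi_apply]
    show coeff (ix (i : ℕ) 0) _ = _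
    rw [coeff_mk2, if_pos rfl, dif_pos i.2]
  · rw [Phi_apply]
    show coeff (ix 0 ((j : ℕ) + 1)) _ = _
    rw [coeff_mk2, if_neg (by omega), if_pos rfl]
    have h : (j : ℕ) + 1 - 1 < b - 1 := by have := j.2; omega
    rw [dif_pos h]
    congr 2

theorem finrank_quot (J : Ideal (MvPowerSeries (Fin 2) k)) (a b : ℕ)
    (W : Submodule k (Fin a ⊕ Fin (b - 1) → k))
    (hW : ∀ F, F ∈ J ↔ Phi a b F ∈ W) :
    Module.finrank k (MvPowerSeries (Fin 2) k ⧸ J) + Module.finrank k W = a + (b - 1) := by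
  let ψ : MvPowerSeries (Fin 2) k →ₗ[k] (Fin a ⊕ Fin (b - 1) → k) ⧸ W := W.mkQ ∘ₗ Phi a b
  have hsurj : Function.Surjective ψ := (Submodule.mkQ_surjective W).comp (Phi_surjective a b)
  have hker : LinearMap.ker ψ = J.restrictScalars k := by
    ext F
    rw [LinearMap.mem_ker, Submodule.restrictScalars_mem]
    show W.mkQ (Phi a b F) = 0 ↔ _
    rw [Submodule.mkQ_apply, Submodule.Quotient.mk_eq_zero, hW]
  have e1 := ψ.quotKerEquivOfSurjective hsurj
  have e2 := Submodule.quotEquivOfEq _ _ hker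
  have e3 := Submodule.Quotient.restrictScalarsEquiv k J
  have h1 : Module.finrank k (MvPowerSeries (Fin 2) k ⧸ J) =
      Module.finrank k ((Fin a ⊕ Fin (b - 1) → k) ⧸ W) :=
    (e3.symm.trans (e2.symm.trans e1)).finrank_eq
  rw [h1, Submodule.finrank_quotient_add_finrank, Module.finrank_fintype_fun_eq_card,
    Fintype.card_sum, Fintype.card_fin, Fintype.card_fin]

theorem span_le_span (a' b' : ℕ) (γ : k) (hγ : γ ≠ 0) :
    Ideal.span {(X 0 * X 1 : MvPowerSeries (Fin 2) k), X 0 ^ (a' + 2), X 1 ^ (b' + 2)} ≤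
      Ideal.span {(X 0 * X 1 : MvPowerSeries (Fin 2) k), X 0 ^ (a' + 1) + C γ * X 1 ^ (b' + 1)} := by
  have hc : (C γ⁻¹ * C γ : MvPowerSeries (Fin 2) k) = 1 := by
    rw [← map_mul, inv_mul_cancel₀ hγ, map_one]
  have hxy : (X 0 * X 1 : MvPowerSeries (Fin 2) k) ∈
      Ideal.span {(X 0 * X 1 : MvPowerSeries (Fin 2) k), X 0 ^ (a' + 1) + C γ * X 1 ^ (b' + 1)} :=
    Ideal.subset_span (by simp)
  have hH : (X 0 ^ (a' + 1) + C γ * X 1 ^ (b' + 1) : MvPowerSeries (Fin 2) k) ∈
      Ideal.span {(X 0 * X 1 : MvPowerSeries (Fin 2) k), X 0 ^ (a' + 1) + C γ * X 1 ^ (b' + 1)} :=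
    Ideal.subset_span (by simp)
  rw [Ideal.span_le]
  rintro _ (rfl | rfl | rfl)
  · exact hxy
  · have e : (X 0 ^ (a' + 2) : MvPowerSeries (Fin 2) k) =
        X 0 * (X 0 ^ (a' + 1) + C γ * X 1 ^ (b' + 1)) - C γ * X 1 ^ b' * (X 0 * X 1) := by ring
    rw [SetLike.mem_coe, e]
    exact Ideal.sub_mem _ (Ideal.mul_mem_left _ _ hH) (Ideal.mul_mem_left _ _ hxy)
  · have e : (X 1 ^ (b' + 2) : MvPowerSeries (Fin 2) k) =
        C γ⁻¹ * (X 1 * (X 0 ^ (a' + 1) + C γ * X 1 ^ (b' + 1)) - X 0 ^ a' * (X 0 * X 1)) := by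
      linear_combination (-(X 1 ^ (b' + 2))) * hc
    rw [SetLike.mem_coe, e]
    exact Ideal.mul_mem_left _ _
      (Ideal.sub_mem _ (Ideal.mul_mem_left _ _ hH) (Ideal.mul_mem_left _ _ hxy))

theorem main (J : Ideal (MvPowerSeries (Fin 2) k))
    (hxy : (X 0 * X 1 : MvPowerSeries (Fin 2) k) ∈ J)
    [Module.Finite k (MvPowerSeries (Fin 2) k ⧸ J)] (n : ℕ)
    (hn : Module.finrank k (MvPowerSeries (Fin 2) k ⧸ J) = n) (h2 : 2 ≤ n) :
    ∃ a b : ℕ, 1 ≤ a ∧ 1 ≤ b ∧
      ((a + b = n + 1 ∧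
        J = Ideal.span {X 0 * X 1, X 0 ^ a, X 1 ^ b}) ∨
       (a + b = n ∧ ∃ α : k, α ≠ 0 ∧
        J = Ideal.span {X 0 * X 1, X 0 ^ a + C α * X 1 ^ b})) := by
  classical
  have hJtop : J ≠ ⊤ := by
    rintro rfl
    have hs : Subsingleton (MvPowerSeries (Fin 2) k ⧸ (⊤ : Ideal (MvPowerSeries (Fin 2) k))) :=
      Ideal.Quotient.subsingleton_iff.2 rfl
    have := Module.finrank_zero_of_subsingleton (R := k)
      (M := MvPowerSeries (Fin 2) k ⧸ (⊤ : Ideal (MvPowerSeries (Fin 2) k)))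
    omega
  have hconst : ∀ F ∈ J, coeff (ix 0 0) F = 0 := by
    intro F hF
    by_contra h
    exact hJtop (Ideal.eq_top_of_isUnit_mem J hF (isUnit_of_coeff_ne_zero F h))
  have hexx : ∃ m, (X 0 ^ m : MvPowerSeries (Fin 2) k) ∈ J := by
    have hnli : ¬ LinearIndependent k
        (fun i : Fin (n + 1) => Ideal.Quotient.mk J (X 0 ^ (i : ℕ))) := by
      intro hli
      have := hli.fintype_card_le_finrank
      rw [Fintype.card_fin, hn] at this
      omega
    rw [Fintype.not_linearIndependent_iff] at hnli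
    obtain ⟨g, hg, i, hgi⟩ := hnli
    have hFJ : (∑ j : Fin (n + 1), g j • (X 0 ^ (j : ℕ) : MvPowerSeries (Fin 2) k)) ∈ J := by
      rw [← Ideal.Quotient.eq_zero_iff_mem, map_sum, ← hg]
      apply Finset.sum_congr rfl
      intro j _
      rfl
    have hFc : coeff (ix (i : ℕ) 0)
        (∑ j : Fin (n + 1), g j • (X 0 ^ (j : ℕ) : MvPowerSeries (Fin 2) k)) = g i := by
      rw [map_sum, Finset.sum_eq_single i]
      · rw [map_smul, coeff_X0pow, if_pos ⟨rfl, rfl⟩, smul_eq_mul, mul_one]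
      · intro j _ hji
        rw [map_smul, coeff_X0pow, if_neg, smul_zero]
        rintro ⟨h, -⟩
        exact hji (Fin.ext h.symm)
      · intro h
        exact absurd (Finset.mem_univ i) h
    obtain ⟨m, -, hm⟩ := exists_X0pow_mem J hxy _ hFJ i (by rw [hFc]; exact hgi)
    exact ⟨m, hm⟩
  have hexy : ∃ m, (X 1 ^ m : MvPowerSeries (Fin 2) k) ∈ J := by
    have hnli : ¬ LinearIndependent k
        (fun i : Fin (n + 1) => Ideal.Quotient.mk J (X 1 ^ (i : ℕ))) := by
      intro hli
      have := hli.fintype_card_le_finrank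
      rw [Fintype.card_fin, hn] at this
      omega
    rw [Fintype.not_linearIndependent_iff] at hnli
    obtain ⟨g, hg, i, hgi⟩ := hnli
    have hFJ : (∑ j : Fin (n + 1), g j • (X 1 ^ (j : ℕ) : MvPowerSeries (Fin 2) k)) ∈ J := by
      rw [← Ideal.Quotient.eq_zero_iff_mem, map_sum, ← hg]
      apply Finset.sum_congr rfl
      intro j _
      rfl
    have hFc : coeff (ix 0 (i : ℕ))
        (∑ j : Fin (n + 1), g j • (X 1 ^ (j : ℕ) : MvPowerSeries (Fin 2) k)) = g i := by
      rw [map_sum, Finset.sum_eq_single i]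
      · rw [map_smul, coeff_X1pow, if_pos ⟨rfl, rfl⟩, smul_eq_mul, mul_one]
      · intro j _ hji
        rw [map_smul, coeff_X1pow, if_neg, smul_zero]
        rintro ⟨-, h⟩
        exact hji (Fin.ext h.symm)
      · intro h
        exact absurd (Finset.mem_univ i) h
    obtain ⟨m, -, hm⟩ := exists_X1pow_mem J hxy _ hFJ i (by rw [hFc]; exact hgi)
    exact ⟨m, hm⟩
  have ha := Nat.find_spec hexx
  have hamin : ∀ m, m < Nat.find hexx → (X 0 ^ m : MvPowerSeries (Fin 2) k) ∉ J :=
    fun m hm => Nat.find_min hexx hm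
  generalize Nat.find hexx = a at ha hamin
  have hb := Nat.find_spec hexy
  have hbmin : ∀ m, m < Nat.find hexy → (X 1 ^ m : MvPowerSeries (Fin 2) k) ∉ J :=
    fun m hm => Nat.find_min hexy hm
  generalize Nat.find hexy = b at hb hbmin
  have ha1 : 1 ≤ a := by
    by_contra h
    have : a = 0 := by omega
    subst this
    rw [pow_zero] at ha
    exact hJtop ((Ideal.eq_top_iff_one J).2 ha)
  have hb1 : 1 ≤ b := by
    by_contra h
    have : b = 0 := by omega
    subst this
    rw [pow_zero] at hb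
    exact hJtop ((Ideal.eq_top_iff_one J).2 hb)
  have h3a : ∀ F ∈ J, ∀ i, i + 1 < a → coeff (ix i 0) F = 0 := by
    intro F hF i hi
    by_contra h
    obtain ⟨m, hm, hmJ⟩ := exists_X0pow_mem J hxy F hF i h
    exact hamin m (by omega) hmJ
  have h3b : ∀ F ∈ J, ∀ j, j + 1 < b → coeff (ix 0 j) F = 0 := by
    intro F hF j hj
    by_contra h
    obtain ⟨m, hm, hmJ⟩ := exists_X1pow_mem J hxy F hF j h
    exact hbmin m (by omega) hmJ
  have hspanle : Ideal.span {(X 0 * X 1 : MvPowerSeries (Fin 2) k), X 0 ^ a, X 1 ^ b} ≤ J := by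
    rw [Ideal.span_le]
    rintro _ (rfl | rfl | rfl)
    · exact hxy
    · exact ha
    · exact hb
  have hZof : ∀ F ∈ J, coeff (ix (a - 1) 0) F = 0 → coeff (ix 0 (b - 1)) F = 0 → Z a b F := by
    intro F hF hα hβ
    constructor
    · intro i hi
      by_cases h : i + 1 < a
      · exact h3a F hF i h
      · have : i = a - 1 := by omega
        rw [this]; exact hα
    · intro j hj1 hjb
      by_cases h : j + 1 < b
      · exact h3b F hF j h
      · have : j = b - 1 := by omega
        rw [this]; exact hβ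
  have hD : ∀ F ∈ J, coeff (ix 0 (b - 1)) F = 0 → coeff (ix (a - 1) 0) F = 0 := by
    intro F hF hβ
    by_contra hα
    have ha2 : 2 ≤ a := by
      by_contra h
      have : a - 1 = 0 := by omega
      rw [this] at hα
      exact hα (hconst F hF)
    generalize hαdef : coeff (ix (a - 1) 0) F = α at hα
    have hZ' : Z a b (F - C α * X 0 ^ (a - 1)) := by
      constructor
      · intro i hi
        rw [map_sub, coeff_C_mul, coeff_X0pow]
        by_cases h : i + 1 < a
        · rw [h3a F hF i h, if_neg (by omega), mul_zero, sub_zero]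
        · have : i = a - 1 := by omega
          subst this
          rw [if_pos ⟨rfl, rfl⟩, mul_one, hαdef, sub_self]
      · intro j hj1 hjb
        rw [map_sub, coeff_C_mul, coeff_X0pow, if_neg (by omega), mul_zero, sub_zero]
        by_cases h : j + 1 < b
        · exact h3b F hF j h
        · have : j = b - 1 := by omega
          rw [this]; exact hβ
    have hmem := hspanle (mem_span_of_Z a b ha1 hb1 _ hZ')
    have h5 : C α * X 0 ^ (a - 1) ∈ J := by
      have : C α * X 0 ^ (a - 1) = F - (F - C α * X 0 ^ (a - 1)) := by ring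
      rw [this]; exact J.sub_mem hF hmem
    have h6 : (X 0 ^ (a - 1) : MvPowerSeries (Fin 2) k) ∈ J := by
      have : (X 0 ^ (a - 1) : MvPowerSeries (Fin 2) k) = C α⁻¹ * (C α * X 0 ^ (a - 1)) := by
        rw [← mul_assoc, ← map_mul, inv_mul_cancel₀ hα, map_one, one_mul]
      rw [this]; exact J.mul_mem_left _ h5
    exact hamin (a - 1) (by omega) h6
  have hD' : ∀ F ∈ J, coeff (ix (a - 1) 0) F = 0 → coeff (ix 0 (b - 1)) F = 0 := by
    intro F hF hα
    by_contra hβ
    have hb2 : 2 ≤ b := by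
      by_contra h
      have : b - 1 = 0 := by omega
      rw [this] at hβ
      exact hβ (hconst F hF)
    generalize hβdef : coeff (ix 0 (b - 1)) F = β at hβ
    have hZ' : Z a b (F - C β * X 1 ^ (b - 1)) := by
      constructor
      · intro i hi
        rw [map_sub, coeff_C_mul, coeff_X1pow, if_neg (by omega), mul_zero, sub_zero]
        by_cases h : i + 1 < a
        · exact h3a F hF i h
        · have : i = a - 1 := by omega
          rw [this]; exact hα
      · intro j hj1 hjb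
        rw [map_sub, coeff_C_mul, coeff_X1pow]
        by_cases h : j + 1 < b
        · rw [h3b F hF j h, if_neg (by omega), mul_zero, sub_zero]
        · have : j = b - 1 := by omega
          subst this
          rw [if_pos ⟨rfl, rfl⟩, mul_one, hβdef, sub_self]
    have hmem := hspanle (mem_span_of_Z a b ha1 hb1 _ hZ')
    have h5 : C β * X 1 ^ (b - 1) ∈ J := by
      have : C β * X 1 ^ (b - 1) = F - (F - C β * X 1 ^ (b - 1)) := by ring
      rw [this]; exact J.sub_mem hF hmem
    have h6 : (X 1 ^ (b - 1) : MvPowerSeries (Fin 2) k) ∈ J := by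
      have : (X 1 ^ (b - 1) : MvPowerSeries (Fin 2) k) = C β⁻¹ * (C β * X 1 ^ (b - 1)) := by
        rw [← mul_assoc, ← map_mul, inv_mul_cancel₀ hβ, map_one, one_mul]
      rw [this]; exact J.mul_mem_left _ h5
    exact hbmin (b - 1) (by omega) h6
  by_cases hA : ∀ F ∈ J, coeff (ix (a - 1) 0) F = 0
  · have hB : ∀ F ∈ J, coeff (ix 0 (b - 1)) F = 0 := fun F hF => hD' F hF (hA F hF)
    have hJ : J = Ideal.span {(X 0 * X 1 : MvPowerSeries (Fin 2) k), X 0 ^ a, X 1 ^ b} :=
      le_antisymm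
        (fun F hF => mem_span_of_Z a b ha1 hb1 F (hZof F hF (hA F hF) (hB F hF))) hspanle
    have hdim := finrank_quot J a b ⊥ (fun F => by
      rw [Submodule.mem_bot, Phi_eq_zero_iff]
      exact ⟨fun hF => hZof F hF (hA F hF) (hB F hF),
        fun hZ => hspanle (mem_span_of_Z a b ha1 hb1 F hZ)⟩)
    rw [hn, finrank_bot, add_zero] at hdim
    exact ⟨a, b, ha1, hb1, Or.inl ⟨by omega, hJ⟩⟩
  · push Not at hA
    obtain ⟨F₀, hF₀, hα₀⟩ := hA
    have hβ₀ : coeff (ix 0 (b - 1)) F₀ ≠ 0 := fun h => hα₀ (hD F₀ hF₀ h)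
    have ha2 : 2 ≤ a := by
      by_contra h
      have : a - 1 = 0 := by omega
      rw [this] at hα₀
      exact hα₀ (hconst F₀ hF₀)
    have hb2 : 2 ≤ b := by
      by_contra h
      have : b - 1 = 0 := by omega
      rw [this] at hβ₀
      exact hβ₀ (hconst F₀ hF₀)
    generalize hαdef : coeff (ix (a - 1) 0) F₀ = α₀ at hα₀
    generalize hβdef : coeff (ix 0 (b - 1)) F₀ = β₀ at hβ₀
    obtain ⟨γ, hγdef⟩ : ∃ γ : k, γ = β₀ / α₀ := ⟨_, rfl⟩
    have hγ : γ ≠ 0 := by rw [hγdef]; exact div_ne_zero hβ₀ hα₀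
    have hαγ : α₀ * γ = β₀ := by rw [hγdef]; field_simp
    obtain ⟨H, hHdef⟩ : ∃ H : MvPowerSeries (Fin 2) k,
        H = X 0 ^ (a - 1) + C γ * X 1 ^ (b - 1) := ⟨_, rfl⟩
    have hH0 : ∀ i, coeff (ix i 0) H = if i = a - 1 then 1 else 0 := by
      intro i
      rw [hHdef, map_add, coeff_C_mul, coeff_X0pow, coeff_X1pow,
        if_neg (by omega : ¬ (i = 0 ∧ 0 = b - 1)), mul_zero, add_zero]
      by_cases h : i = a - 1
      · rw [if_pos h, if_pos ⟨h, rfl⟩]
      · rw [if_neg h, if_neg (fun h' => h h'.1)]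
    have hH1 : ∀ j, 1 ≤ j → coeff (ix 0 j) H = if j = b - 1 then γ else 0 := by
      intro j hj
      rw [hHdef, map_add, coeff_C_mul, coeff_X0pow, coeff_X1pow,
        if_neg (by omega : ¬ (0 = a - 1 ∧ j = 0)), zero_add]
      by_cases h : j = b - 1
      · rw [if_pos h, if_pos ⟨rfl, h⟩, mul_one]
      · rw [if_neg h, if_neg (fun h' => h h'.2), mul_zero]
    have hZH : ∀ F ∈ J, coeff (ix 0 (b - 1)) F = coeff (ix (a - 1) 0) F * γ →
        Z a b (F - C (coeff (ix (a - 1) 0) F) * H) := by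
      intro F hF hβ
      constructor
      · intro i hi
        rw [map_sub, coeff_C_mul, hH0]
        by_cases h : i + 1 < a
        · rw [h3a F hF i h, if_neg (by omega), mul_zero, sub_zero]
        · have : i = a - 1 := by omega
          subst this
          rw [if_pos rfl, mul_one, sub_self]
      · intro j hj1 hjb
        rw [map_sub, coeff_C_mul, hH1 j hj1]
        by_cases h : j + 1 < b
        · rw [h3b F hF j h, if_neg (by omega), mul_zero, sub_zero]
        · have : j = b - 1 := by omega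
          subst this
          rw [if_pos rfl, hβ, sub_self]
    have hHJ : H ∈ J := by
      have hZ' := hZH F₀ hF₀ (by rw [hαdef, hβdef, hαγ])
      rw [hαdef] at hZ'
      have hmem := hspanle (mem_span_of_Z a b ha1 hb1 _ hZ')
      have h5 : C α₀ * H ∈ J := by
        have : C α₀ * H = F₀ - (F₀ - C α₀ * H) := by ring
        rw [this]; exact J.sub_mem hF₀ hmem
      have : H = C α₀⁻¹ * (C α₀ * H) := by
        rw [← mul_assoc, ← map_mul, inv_mul_cancel₀ hα₀, map_one, one_mul]
      rw [this]; exact J.mul_mem_left _ h5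
    have hrel : ∀ F ∈ J, coeff (ix 0 (b - 1)) F = coeff (ix (a - 1) 0) F * γ := by
      intro F hF
      have hF₂ : F - C (coeff (ix (a - 1) 0) F) * H ∈ J := J.sub_mem hF (J.mul_mem_left _ hHJ)
      have h0 : coeff (ix (a - 1) 0) (F - C (coeff (ix (a - 1) 0) F) * H) = 0 := by
        rw [map_sub, coeff_C_mul, hH0, if_pos rfl, mul_one, sub_self]
      have h1 := hD' _ hF₂ h0
      rw [map_sub, coeff_C_mul, hH1 (b - 1) (by omega), if_pos rfl] at h1
      exact sub_eq_zero.1 h1
    have hspan2 : Ideal.span {(X 0 * X 1 : MvPowerSeries (Fin 2) k), X 0 ^ a, X 1 ^ b} ≤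
        Ideal.span {(X 0 * X 1 : MvPowerSeries (Fin 2) k), H} := by
      have := span_le_span (k := k) (a - 2) (b - 2) γ hγ
      rw [show a - 2 + 2 = a by omega, show b - 2 + 2 = b by omega,
        show a - 2 + 1 = a - 1 by omega, show b - 2 + 1 = b - 1 by omega, ← hHdef] at this
      exact this
    have hJ : J = Ideal.span {(X 0 * X 1 : MvPowerSeries (Fin 2) k), H} := by
      apply le_antisymm
      · intro F hF
        have hZ' := hZH F hF (hrel F hF)
        have hmem := hspan2 (mem_span_of_Z a b ha1 hb1 _ hZ')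
        have : F = (F - C (coeff (ix (a - 1) 0) F) * H) + C (coeff (ix (a - 1) 0) F) * H := by ring
        rw [this]
        exact Ideal.add_mem _ hmem (Ideal.mul_mem_left _ _ (Ideal.subset_span (by simp)))
      · rw [Ideal.span_le]
        rintro _ (rfl | rfl)
        · exact hxy
        · exact hHJ
    have hPhiH : Phi a b H ≠ 0 := by
      intro h
      have := congrFun h (Sum.inl ⟨a - 1, by omega⟩)
      rw [Phi_apply] at this
      have h' : coeff (ix (a - 1) 0) H = 0 := this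
      rw [hH0, if_pos rfl] at h'
      exact one_ne_zero h'
    have hdim := finrank_quot J a b (Submodule.span k {Phi a b H}) (fun F => by
      rw [Submodule.mem_span_singleton]
      constructor
      · intro hF
        refine ⟨coeff (ix (a - 1) 0) F, ?_⟩
        have hZ' := hZH F hF (hrel F hF)
        rw [← Phi_eq_zero_iff, map_sub, sub_eq_zero, ← smul_eq_C_mul, map_smul] at hZ'
        exact hZ'.symm
      · rintro ⟨c, hc⟩
        have hZ' : Z a b (F - c • H) := by
          rw [← Phi_eq_zero_iff, map_sub, map_smul, hc, sub_self]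
        have hmem := hspanle (mem_span_of_Z a b ha1 hb1 _ hZ')
        have : F = (F - c • H) + C c * H := by rw [smul_eq_C_mul]; ring
        rw [this]
        exact J.add_mem hmem (J.mul_mem_left _ hHJ))
    rw [hn, finrank_span_singleton hPhiH] at hdim
    refine ⟨a - 1, b - 1, by omega, by omega, Or.inr ⟨by omega, γ, hγ, ?_⟩⟩
    rw [← hHdef]
    exact hJ

end Groth.Agent.H77.NodeIdeal
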