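import Groth.Prelude.Def_W4c5spincurvestfNode
import Mathlib.RingTheory.MvPolynomial.Basic
import Mathlib.LinearAlgebra.Quotient.Basic
import Mathlib.Algebra.Polynomial.Laurent

set_option autoImplicit false

namespace Groth.Agent.H77.NodeNF

open MvPolynomial SpinCurv

universe u

variable (R : Type u) [CommRing R] (π : R)

/-- the relation ideal -/
noncomputable abbrev relI : Ideal (MvPolynomial (Fin 2) R) :=
  Ideal.span {(MvPolynomial.X 0 * MvPolynomial.X 1 - MvPolynomial.C π : MvPolynomial (Fin 2) R)}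

/-- normal form on polynomials -/
noncomputable def ν : MvPolynomial (Fin 2) R →ₗ[R] (ℤ →₀ R) :=
  (MvPolynomial.basisMonomials (Fin 2) R).constr R
    (fun s => Finsupp.single ((s 0 : ℤ) - (s 1 : ℤ)) (π ^ (min (s 0) (s 1))))

theorem ν_monomial (s : Fin 2 →₀ ℕ) (r : R) :
    ν R π (monomial s r) = Finsupp.single ((s 0 : ℤ) - (s 1 : ℤ)) (r * π ^ (min (s 0) (s 1))) := by
  have h1 : monomial s r = r • (MvPolynomial.basisMonomials (Fin 2) R s) := by
    rw [MvPolynomial.coe_basisMonomials, MvPolynomial.smul_monomial, smul_eq_mul, mul_one]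
  rw [h1, map_smul, ν, Module.Basis.constr_basis, Finsupp.smul_single, smul_eq_mul]

theorem ν_mul_rel (h : MvPolynomial (Fin 2) R) :
    ν R π (h * (X 0 * X 1 - C π)) = 0 := by
  induction h using MvPolynomial.induction_on' with
  | monomial s r =>
    have e1 : monomial s r * (X 0 * X 1 - C π : MvPolynomial (Fin 2) R) =
        monomial (s + (Finsupp.single 0 1 + Finsupp.single 1 1)) r - monomial s (r * π) := by
      rw [mul_sub]
      congr 1
      · rw [X, X, monomial_mul, monomial_mul, one_mul, mul_one]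
      · rw [C_apply, monomial_mul, add_zero]
    rw [e1, map_sub, ν_monomial, ν_monomial]
    have h0 : (s + (Finsupp.single 0 1 + Finsupp.single 1 1) : Fin 2 →₀ ℕ) 0 = s 0 + 1 := by
      simp
    have h1 : (s + (Finsupp.single 0 1 + Finsupp.single 1 1) : Fin 2 →₀ ℕ) 1 = s 1 + 1 := by
      simp
    rw [h0, h1]
    have hm : min (s 0 + 1) (s 1 + 1) = min (s 0) (s 1) + 1 := by omega
    have hz : ((s 0 + 1 : ℕ) : ℤ) - ((s 1 + 1 : ℕ) : ℤ) = (s 0 : ℤ) - (s 1 : ℤ) := by push_cast; ring
    rw [hm, hz, pow_succ, sub_eq_zero]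
    congr 1
    ring
  | add p q hp hq =>
    rw [add_mul, map_add, hp, hq, add_zero]

theorem ν_eq_zero_of_mem {p : MvPolynomial (Fin 2) R} (hp : p ∈ relI R π) : ν R π p = 0 := by
  obtain ⟨h, rfl⟩ := Ideal.mem_span_singleton'.mp hp
  exact ν_mul_rel R π h

/-- the normal form on the quotient -/
noncomputable def νbar : PolyNodeRing R π →ₗ[R] (ℤ →₀ R) :=
  (Submodule.liftQ ((relI R π).restrictScalars R) (ν R π) (by
    intro p hp
    exact LinearMap.mem_ker.mpr (ν_eq_zero_of_mem R π hp))).comp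
    (Submodule.Quotient.restrictScalarsEquiv R (relI R π)).symm.toLinearMap

theorem νbar_mk (p : MvPolynomial (Fin 2) R) :
    νbar R π (Ideal.Quotient.mk _ p) = ν R π p := rfl

/-- the basis element `e_m`: `x^m` for `m ≥ 0`, `y^(-m)` for `m < 0`. -/
noncomputable def e (m : ℤ) : PolyNodeRing R π :=
  PolyNodeRing.x R π ^ m.toNat * PolyNodeRing.y R π ^ (-m).toNat

theorem smul_def' (r : R) (z : PolyNodeRing R π) :
    r • z = algebraMap R (PolyNodeRing R π) r * z := Algebra.smul_def r z

theorem algebraMap_eq_mk (r : R) :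
    algebraMap R (PolyNodeRing R π) r = Ideal.Quotient.mk _ (C r) := rfl

theorem xy_eq : PolyNodeRing.x R π * PolyNodeRing.y R π = algebraMap R (PolyNodeRing R π) π := by
  rw [algebraMap_eq_mk]
  show Ideal.Quotient.mk _ (X 0) * Ideal.Quotient.mk _ (X 1) = _
  rw [← map_mul, Ideal.Quotient.eq]
  exact Ideal.subset_span rfl

theorem x_pow_mul_y_pow (a b : ℕ) :
    PolyNodeRing.x R π ^ a * PolyNodeRing.y R π ^ b =
      (π ^ min a b) • e R π ((a : ℤ) - (b : ℤ)) := by
  have key : ∀ (m a' b' : ℕ), PolyNodeRing.x R π ^ (m + a') * PolyNodeRing.y R π ^ (m + b') =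
      (π ^ m) • (PolyNodeRing.x R π ^ a' * PolyNodeRing.y R π ^ b') := by
    intro m a' b'
    rw [pow_add, pow_add, smul_def', map_pow, ← xy_eq, mul_pow]
    ring
  rcases le_total a b with h | h
  · obtain ⟨c, rfl⟩ := Nat.exists_eq_add_of_le h
    have := key a 0 c
    rw [add_zero] at this
    rw [this, min_eq_left (Nat.le_add_right a c), e]
    have h1 : ((a : ℤ) - ((a + c : ℕ) : ℤ)).toNat = 0 := by push_cast; omega
    have h2 : (-((a : ℤ) - ((a + c : ℕ) : ℤ))).toNat = c := by push_cast; omega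
    rw [h1, h2]
  · obtain ⟨c, rfl⟩ := Nat.exists_eq_add_of_le h
    have := key b c 0
    rw [add_zero] at this
    rw [this, min_eq_right (Nat.le_add_right b c), e]
    have h1 : (((b + c : ℕ) : ℤ) - (b : ℤ)).toNat = c := by push_cast; omega
    have h2 : (-(((b + c : ℕ) : ℤ) - (b : ℤ))).toNat = 0 := by push_cast; omega
    rw [h1, h2]

theorem mk_monomial (s : Fin 2 →₀ ℕ) (r : R) :
    (Ideal.Quotient.mk (relI R π) (monomial s r)) =
      r • (PolyNodeRing.x R π ^ (s 0) * PolyNodeRing.y R π ^ (s 1)) := by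
  have h1 : (monomial s r : MvPolynomial (Fin 2) R) = C r * (X 0 ^ (s 0) * X 1 ^ (s 1)) := by
    rw [MvPolynomial.monomial_eq]
    congr 1
    rw [Finsupp.prod_fintype _ _ (fun i => pow_zero _), Fin.prod_univ_two]
  rw [h1, map_mul, map_mul, map_pow, map_pow, smul_def', algebraMap_eq_mk]

/-- the section -/
noncomputable def σ : (ℤ →₀ R) →ₗ[R] PolyNodeRing R π :=
  Finsupp.linearCombination R (e R π)

theorem σ_single (m : ℤ) (r : R) : σ R π (Finsupp.single m r) = r • e R π m := by
  rw [σ, Finsupp.linearCombination_single]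

theorem νbar_e (m : ℤ) : νbar R π (e R π m) = Finsupp.single m 1 := by
  have h1 : e R π m = Ideal.Quotient.mk (relI R π)
      (monomial (Finsupp.single 0 m.toNat + Finsupp.single 1 (-m).toNat) 1) := by
    rw [mk_monomial, one_smul, e]
    simp
  rw [h1, νbar_mk, ν_monomial]
  have h0 : (Finsupp.single 0 m.toNat + Finsupp.single 1 (-m).toNat : Fin 2 →₀ ℕ) 0 = m.toNat := by
    simp
  have h1' : (Finsupp.single 0 m.toNat + Finsupp.single 1 (-m).toNat : Fin 2 →₀ ℕ) 1 = (-m).toNat := by
    simp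
  rw [h0, h1']
  have hmin : min m.toNat (-m).toNat = 0 := by omega
  have hz : (m.toNat : ℤ) - ((-m).toNat : ℤ) = m := by omega
  rw [hmin, hz, pow_zero, one_mul]

theorem νbar_σ (c : ℤ →₀ R) : νbar R π (σ R π c) = c := by
  induction c using Finsupp.induction_linear with
  | zero => simp
  | add f g hf hg => rw [map_add, map_add, hf, hg]
  | single m r =>
    rw [σ_single, map_smul, νbar_e, Finsupp.smul_single, smul_eq_mul, mul_one]

theorem σ_νbar (z : PolyNodeRing R π) : σ R π (νbar R π z) = z := by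
  obtain ⟨p, rfl⟩ := Ideal.Quotient.mk_surjective z
  induction p using MvPolynomial.induction_on' with
  | monomial s r =>
    rw [νbar_mk, ν_monomial, σ_single, mk_monomial, x_pow_mul_y_pow, smul_smul]
  | add p q hp hq =>
    rw [map_add, map_add, map_add, hp, hq]

/-- the normal form equivalence -/
noncomputable def nf : PolyNodeRing R π ≃ₗ[R] (ℤ →₀ R) :=
  LinearEquiv.ofLinear (νbar R π) (σ R π)
    (LinearMap.ext fun c => νbar_σ R π c) (LinearMap.ext fun z => σ_νbar R π z)

theorem nf_symm_single (m : ℤ) (r : R) : (nf R π).symm (Finsupp.single m r) = r • e R π m :=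
  σ_single R π m r

theorem nf_e (m : ℤ) : nf R π (e R π m) = Finsupp.single m 1 := νbar_e R π m

end Groth.Agent.H77.NodeNF
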