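import Groth.Agent.H77.NodeTwist

set_option autoImplicit false

namespace Groth.Agent.H77.NodeSect

open SpinCurv Groth.Agent.H77.NodeNF Groth.Agent.H77.NodeTwist LaurentPolynomial

universe u

variable {R : Type u} [CommRing R] (p q : R)
    (rU : SpinCurv.PolyNodeRing R (p * q) →ₐ[R] SpinCurv.PolyNodeRing R q)
    (hrUx : rU (SpinCurv.PolyNodeRing.x R (p * q)) = algebraMap R _ p * SpinCurv.PolyNodeRing.x R q)
    (hrUy : rU (SpinCurv.PolyNodeRing.y R (p * q)) = SpinCurv.PolyNodeRing.y R q)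
    (rV : SpinCurv.PolyNodeRing R (p * q) →ₐ[R] SpinCurv.PolyNodeRing R p)
    (hrVx : rV (SpinCurv.PolyNodeRing.x R (p * q)) = SpinCurv.PolyNodeRing.y R p)
    (hrVy : rV (SpinCurv.PolyNodeRing.y R (p * q)) = algebraMap R _ q * SpinCurv.PolyNodeRing.x R p)
    (gU : SpinCurv.PolyNodeRing R q →ₐ[R] LaurentPolynomial R)
    (hgUs : gU (SpinCurv.PolyNodeRing.x R q) = LaurentPolynomial.T 1)
    (hgUy : gU (SpinCurv.PolyNodeRing.y R q) = LaurentPolynomial.C q * LaurentPolynomial.T (-1))
    (gV : SpinCurv.PolyNodeRing R p →ₐ[R] LaurentPolynomial R)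
    (hgVt : gV (SpinCurv.PolyNodeRing.x R p) = LaurentPolynomial.T (-1))
    (hgVx : gV (SpinCurv.PolyNodeRing.y R p) = LaurentPolynomial.C p * LaurentPolynomial.T 1) (n : ℕ)

/-- the section map -/
noncomputable def Xi (F : Fin (n + 1) → SpinCurv.PolyNodeRing R (p * q)) :
    SpinCurv.PolyNodeRing R q × SpinCurv.PolyNodeRing R p :=
  (∑ i : Fin (n + 1), rU (F i) * SpinCurv.PolyNodeRing.x R q ^ (n - (i : ℕ)),
   ∑ i : Fin (n + 1), rV (F i) * SpinCurv.PolyNodeRing.x R p ^ (i : ℕ))

theorem Xi_add (F G : Fin (n + 1) → SpinCurv.PolyNodeRing R (p * q)) :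
    Xi p q rU rV n (F + G) = Xi p q rU rV n F + Xi p q rU rV n G := by
  simp only [Xi, Pi.add_apply, map_add, add_mul, Finset.sum_add_distrib, Prod.mk_add_mk]

theorem Xi_zero : Xi p q rU rV n 0 = 0 := by
  simp only [Xi, Pi.zero_apply, map_zero, zero_mul, Finset.sum_const_zero]
  rfl

theorem Xi_smulA (a : SpinCurv.PolyNodeRing R (p * q)) (F : Fin (n + 1) → SpinCurv.PolyNodeRing R (p * q)) :
    Xi p q rU rV n (a • F) = (rU a * (Xi p q rU rV n F).1, rV a * (Xi p q rU rV n F).2) := by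
  simp only [Xi, Pi.smul_apply, smul_eq_mul, map_mul, Finset.mul_sum, mul_assoc]

theorem Xi_smulR (r : R) (F : Fin (n + 1) → SpinCurv.PolyNodeRing R (p * q)) :
    Xi p q rU rV n (r • F) = r • Xi p q rU rV n F := by
  simp only [Xi, Pi.smul_apply, map_smul, smul_mul_assoc, ← Finset.smul_sum, Prod.smul_mk]

/-- `Xi` as an `R`-linear map -/
noncomputable def XiL : (Fin (n + 1) → SpinCurv.PolyNodeRing R (p * q)) →ₗ[R]
    SpinCurv.PolyNodeRing R q × SpinCurv.PolyNodeRing R p where
  toFun := Xi p q rU rV n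
  map_add' := Xi_add p q rU rV n
  map_smul' := Xi_smulR p q rU rV n

theorem Xi_single (k : Fin (n + 1)) (a : SpinCurv.PolyNodeRing R (p * q)) :
    Xi p q rU rV n (Pi.single k a) =
      (rU a * SpinCurv.PolyNodeRing.x R q ^ (n - (k : ℕ)), rV a * SpinCurv.PolyNodeRing.x R p ^ (k : ℕ)) := by
  simp only [Xi]
  refine Prod.ext ?_ ?_
  · show ∑ i : Fin (n + 1), rU ((Pi.single k a : Fin (n + 1) → _) i) * _ = _
    rw [Finset.sum_eq_single k]
    · rw [Pi.single_eq_same]
    · intro i _ hik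
      rw [Pi.single_eq_of_ne hik, map_zero, zero_mul]
    · intro h
      exact absurd (Finset.mem_univ k) h
  · show ∑ i : Fin (n + 1), rV ((Pi.single k a : Fin (n + 1) → _) i) * _ = _
    rw [Finset.sum_eq_single k]
    · rw [Pi.single_eq_same]
    · intro i _ hik
      rw [Pi.single_eq_of_ne hik, map_zero, zero_mul]
    · intro h
      exact absurd (Finset.mem_univ k) h

include hrUx hrUy hrVx hrVy hgUs hgUy hgVt hgVx in
theorem rho_eq : gU.comp rU = gV.comp rV := by
  apply Ideal.Quotient.algHom_ext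
  apply MvPolynomial.algHom_ext
  intro i
  fin_cases i
  · show gU (rU (PolyNodeRing.x R (p * q))) = gV (rV (PolyNodeRing.x R (p * q)))
    rw [hrUx, hrVx, map_mul, AlgHom.commutes, hgUs, hgVx, ← LaurentPolynomial.C_eq_algebraMap]
  · show gU (rU (PolyNodeRing.y R (p * q))) = gV (rV (PolyNodeRing.y R (p * q)))
    rw [hrUy, hrVy, map_mul, AlgHom.commutes, hgUy, hgVt, ← LaurentPolynomial.C_eq_algebraMap]

include hrUx hrUy hrVx hrVy hgUs hgUy hgVt hgVx in
theorem glue_Xi (F : Fin (n + 1) → SpinCurv.PolyNodeRing R (p * q)) :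
    gU (Xi p q rU rV n F).1 = T (n : ℤ) * gV (Xi p q rU rV n F).2 := by
  have hρ : ∀ a, gU (rU a) = gV (rV a) := fun a =>
    congrArg (fun h => h a) (rho_eq p q rU hrUx hrUy rV hrVx hrVy gU hgUs hgUy gV hgVt hgVx)
  simp only [Xi, map_sum, map_mul, map_pow, hgUs, hgVt, Finset.mul_sum]
  refine Finset.sum_congr rfl fun i _ => ?_
  rw [hρ, T_pow, T_pow, mul_left_comm, ← T_add]
  congr 2
  have : (i : ℕ) ≤ n := Nat.lt_succ_iff.mp i.2
  push_cast [Nat.cast_sub this]
  ring

/-- the normal-form sections -/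
noncomputable def gam (j : ℤ) : Fin (n + 1) → SpinCurv.PolyNodeRing R (p * q) :=
  if j < 0 then Pi.single (Fin.last n) (SpinCurv.PolyNodeRing.y R (p * q) ^ (-j).toNat)
  else if j ≤ n then Pi.single ⟨min (n - j).toNat n, Nat.lt_succ_of_le (min_le_right _ _)⟩ 1
  else Pi.single 0 (SpinCurv.PolyNodeRing.x R (p * q) ^ (j - n).toNat)

/-- the span of normal-form sections, parametrized -/
noncomputable def Gam : (ℤ →₀ R) →ₗ[R] (Fin (n + 1) → SpinCurv.PolyNodeRing R (p * q)) :=
  Finsupp.linearCombination R (gam p q n)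

theorem Gam_single (j : ℤ) (r : R) : Gam p q n (Finsupp.single j r) = r • gam p q n j := by
  rw [Gam, Finsupp.linearCombination_single]

theorem hn' : (-1 : ℤ) ≤ (n : ℤ) := by omega

include hrUx hrUy hrVx hrVy in
theorem Xi_gam (j : ℤ) :
    Xi p q rU rV n (gam p q n j) =
      ((kerEquiv p q gU hgUs hgUy gV hgVt hgVx (n : ℤ) (hn' n) (Finsupp.single j 1) :
        LinearMap.ker (Psi p q gU gV (n : ℤ))) :
        SpinCurv.PolyNodeRing R q × SpinCurv.PolyNodeRing R p) := by
  rw [kerEquiv_apply, mulBy_single, mulBy_single, reflL_symm_single, nf_symm_single, nf_symm_single,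
    one_mul, one_mul]
  by_cases h1 : j < 0
  · have hg : gam p q n j = Pi.single (Fin.last n) (SpinCurv.PolyNodeRing.y R (p * q) ^ (-j).toNat) := by
      rw [gam, if_pos h1]
    have ha : aFun R (betaF p (n : ℤ)) j = 1 := by
      rw [aFun, if_neg (not_le.mpr h1)]
    have hb : bFun R (alphaF q) j = q ^ (-j).toNat := by
      rw [bFun, if_neg (not_le.mpr h1)]
      rfl
    have e1 : j.toNat = 0 := by omega
    have e2 : ((n : ℤ) - j).toNat = n + (-j).toNat := by omega
    have e3 : (-((n : ℤ) - j)).toNat = 0 := by omega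
    rw [hg, Xi_single, ha, hb, e, e, e1, e2, e3, Fin.val_last, Nat.sub_self, map_pow, map_pow, hrUy, hrVy,
      one_smul, pow_zero, pow_zero, mul_one, one_mul, mul_one, smul_def', map_pow, mul_pow, pow_add]
    refine Prod.ext rfl ?_
    show algebraMap R (SpinCurv.PolyNodeRing R p) q ^ (-j).toNat * SpinCurv.PolyNodeRing.x R p ^ (-j).toNat *
      SpinCurv.PolyNodeRing.x R p ^ n = _
    ring
  · by_cases h2 : j ≤ n
    · have hk : min ((n : ℤ) - j).toNat n = ((n : ℤ) - j).toNat := by
        apply min_eq_left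
        omega
      have hg : gam p q n j = Pi.single ⟨min ((n : ℤ) - j).toNat n,
          Nat.lt_succ_of_le (min_le_right _ _)⟩ 1 := by
        rw [gam, if_neg h1, if_pos h2]
      have ha : aFun R (betaF p (n : ℤ)) j = 1 := by
        rw [aFun, if_pos (not_lt.mp h1), betaF]
        have : (j - (n : ℤ)).toNat = 0 := by omega
        rw [this, pow_zero]
      have hb : bFun R (alphaF q) j = 1 := by
        rw [bFun, if_pos (not_lt.mp h1)]
      have e1 : (-j).toNat = 0 := by omega
      have e3 : (-((n : ℤ) - j)).toNat = 0 := by omega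
      have e4 : n - ((n : ℤ) - j).toNat = j.toNat := by omega
      rw [hg, Xi_single, ha, hb, e, e, e1, e3]
      simp only [hk, e4, map_one, one_mul, one_smul, pow_zero, mul_one]
    · have hg : gam p q n j = Pi.single 0 (SpinCurv.PolyNodeRing.x R (p * q) ^ (j - (n : ℤ)).toNat) := by
        rw [gam, if_neg h1, if_neg h2]
      have ha : aFun R (betaF p (n : ℤ)) j = p ^ (j - (n : ℤ)).toNat := by
        rw [aFun, if_pos (not_lt.mp h1)]
        rfl
      have hb : bFun R (alphaF q) j = 1 := by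
        rw [bFun, if_pos (not_lt.mp h1)]
      have e1 : (-j).toNat = 0 := by omega
      have e2 : ((n : ℤ) - j).toNat = 0 := by omega
      have e3 : (-((n : ℤ) - j)).toNat = (j - (n : ℤ)).toNat := by omega
      have e4 : j.toNat = (j - (n : ℤ)).toNat + n := by omega
      rw [hg, Xi_single, ha, hb, e, e, e1, e2, e3, e4, map_pow, map_pow, hrUx, hrVx, one_smul, pow_zero,
        pow_zero, mul_one, one_mul]
      refine Prod.ext ?_ ?_
      · show (algebraMap R (SpinCurv.PolyNodeRing R q) p * SpinCurv.PolyNodeRing.x R q) ^ (j - (n : ℤ)).toNat *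
          SpinCurv.PolyNodeRing.x R q ^ (n - ((0 : Fin (n + 1)) : ℕ)) =
          p ^ (j - (n : ℤ)).toNat • SpinCurv.PolyNodeRing.x R q ^ ((j - (n : ℤ)).toNat + n)
        rw [Fin.val_zero, Nat.sub_zero, smul_def', map_pow, mul_pow, pow_add]
        ring
      · show SpinCurv.PolyNodeRing.y R p ^ (j - (n : ℤ)).toNat *
          SpinCurv.PolyNodeRing.x R p ^ ((0 : Fin (n + 1)) : ℕ) = SpinCurv.PolyNodeRing.y R p ^ (j - (n : ℤ)).toNat
        rw [Fin.val_zero, pow_zero, mul_one]

include hrUx hrUy hrVx hrVy in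
theorem XiL_Gam (c : ℤ →₀ R) :
    XiL p q rU rV n (Gam p q n c) =
      ((kerEquiv p q gU hgUs hgUy gV hgVt hgVx (n : ℤ) (hn' n) c :
        LinearMap.ker (Psi p q gU gV (n : ℤ))) :
        SpinCurv.PolyNodeRing R q × SpinCurv.PolyNodeRing R p) := by
  induction c using Finsupp.induction_linear with
  | zero => simp
  | add f g hf hg =>
    rw [map_add, map_add, hf, hg, map_add]
    rfl
  | single j r =>
    have h1 : (Finsupp.single j r : ℤ →₀ R) = r • Finsupp.single j 1 := by
      rw [Finsupp.smul_single, smul_eq_mul, mul_one]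
    rw [Gam_single, map_smul, h1, map_smul]
    show r • Xi p q rU rV n (gam p q n j) = r • _
    rw [Xi_gam p q rU hrUx hrUy rV hrVx hrVy gU hgUs hgUy gV hgVt hgVx n j]

/-- the relation submodule -/
noncomputable def NN : Submodule (SpinCurv.PolyNodeRing R (p * q)) (Fin (n + 1) → SpinCurv.PolyNodeRing R (p * q)) :=
  Submodule.span (SpinCurv.PolyNodeRing R (p * q))
        (Set.range (fun i : Fin n =>
            (Pi.single (Fin.castSucc i) (algebraMap R (SpinCurv.PolyNodeRing R (p * q)) p) -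
              Pi.single (Fin.succ i) (SpinCurv.PolyNodeRing.x R (p * q)) : Fin (n + 1) → SpinCurv.PolyNodeRing R (p * q))) ∪
         Set.range (fun i : Fin n =>
            (Pi.single (Fin.castSucc i) (SpinCurv.PolyNodeRing.y R (p * q)) -
              Pi.single (Fin.succ i) (algebraMap R (SpinCurv.PolyNodeRing R (p * q)) q) : Fin (n + 1) → SpinCurv.PolyNodeRing R (p * q))))

theorem Xi_sub (F G : Fin (n + 1) → SpinCurv.PolyNodeRing R (p * q)) :
    Xi p q rU rV n (F - G) = Xi p q rU rV n F - Xi p q rU rV n G :=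
  map_sub (XiL p q rU rV n) F G

include hrUx hrVx in
theorem Xi_gen1 (i : Fin n) :
    Xi p q rU rV n (Pi.single (Fin.castSucc i) (algebraMap R (SpinCurv.PolyNodeRing R (p * q)) p) -
      Pi.single (Fin.succ i) (SpinCurv.PolyNodeRing.x R (p * q))) = 0 := by
  rw [Xi_sub, Xi_single, Xi_single, AlgHom.commutes, AlgHom.commutes, hrUx, hrVx, Fin.val_castSucc,
    Fin.val_succ, sub_eq_zero]
  have h1 : n - (i : ℕ) = (n - ((i : ℕ) + 1)) + 1 := by
    have := i.2
    omega
  refine Prod.ext ?_ ?_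
  · show algebraMap R (SpinCurv.PolyNodeRing R q) p * SpinCurv.PolyNodeRing.x R q ^ (n - (i : ℕ)) =
      algebraMap R (SpinCurv.PolyNodeRing R q) p * SpinCurv.PolyNodeRing.x R q *
        SpinCurv.PolyNodeRing.x R q ^ (n - ((i : ℕ) + 1))
    rw [h1, pow_succ]
    ring
  · show algebraMap R (SpinCurv.PolyNodeRing R p) p * SpinCurv.PolyNodeRing.x R p ^ (i : ℕ) =
      SpinCurv.PolyNodeRing.y R p * SpinCurv.PolyNodeRing.x R p ^ ((i : ℕ) + 1)
    rw [← xy_eq R p, pow_succ]
    ring

include hrUy hrVy in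
theorem Xi_gen2 (i : Fin n) :
    Xi p q rU rV n (Pi.single (Fin.castSucc i) (SpinCurv.PolyNodeRing.y R (p * q)) -
      Pi.single (Fin.succ i) (algebraMap R (SpinCurv.PolyNodeRing R (p * q)) q)) = 0 := by
  rw [Xi_sub, Xi_single, Xi_single, AlgHom.commutes, AlgHom.commutes, hrUy, hrVy, Fin.val_castSucc,
    Fin.val_succ, sub_eq_zero]
  have h1 : n - (i : ℕ) = (n - ((i : ℕ) + 1)) + 1 := by
    have := i.2
    omega
  refine Prod.ext ?_ ?_
  · show SpinCurv.PolyNodeRing.y R q * SpinCurv.PolyNodeRing.x R q ^ (n - (i : ℕ)) =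
      algebraMap R (SpinCurv.PolyNodeRing R q) q * SpinCurv.PolyNodeRing.x R q ^ (n - ((i : ℕ) + 1))
    rw [h1, pow_succ, ← xy_eq R q]
    ring
  · show algebraMap R (SpinCurv.PolyNodeRing R p) q * SpinCurv.PolyNodeRing.x R p *
        SpinCurv.PolyNodeRing.x R p ^ (i : ℕ) =
      algebraMap R (SpinCurv.PolyNodeRing R p) q * SpinCurv.PolyNodeRing.x R p ^ ((i : ℕ) + 1)
    rw [pow_succ]
    ring

include hrUx hrUy hrVx hrVy in
theorem Xi_eq_zero_of_mem_NN (F : Fin (n + 1) → SpinCurv.PolyNodeRing R (p * q)) (hF : F ∈ NN p q n) :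
    Xi p q rU rV n F = 0 := by
  refine Submodule.span_induction ?_ ?_ ?_ ?_ hF
  · rintro _ (⟨i, rfl⟩ | ⟨i, rfl⟩)
    · exact Xi_gen1 p q rU hrUx rV hrVx n i
    · exact Xi_gen2 p q rU hrUy rV hrVy n i
  · exact Xi_zero p q rU rV n
  · intro F G _ _ hF hG
    rw [Xi_add, hF, hG, add_zero]
  · intro a F _ hF
    rw [Xi_smulA, hF]
    simp

/-- normal forms plus relations -/
noncomputable def WW : Submodule R (Fin (n + 1) → SpinCurv.PolyNodeRing R (p * q)) :=
  (NN p q n).restrictScalars R ⊔ LinearMap.range (Gam p q n)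

theorem gam_mem_WW (j : ℤ) : gam p q n j ∈ WW p q n := by
  apply Submodule.mem_sup_right
  exact ⟨Finsupp.single j 1, by rw [Gam_single, one_smul]⟩

theorem NN_le_WW {F : Fin (n + 1) → SpinCurv.PolyNodeRing R (p * q)} (hF : F ∈ NN p q n) :
    F ∈ WW p q n :=
  Submodule.mem_sup_left hF

theorem single_one_mem (k : Fin (n + 1)) :
    (Pi.single k 1 : Fin (n + 1) → SpinCurv.PolyNodeRing R (p * q)) ∈ WW p q n := by
  have hk : (k : ℕ) ≤ n := Nat.lt_succ_iff.mp k.2
  have h := gam_mem_WW p q n ((n : ℤ) - (k : ℕ))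
  have h1 : ¬ ((n : ℤ) - (k : ℕ) < 0) := by omega
  have h2 : (n : ℤ) - (k : ℕ) ≤ n := by omega
  rw [gam, if_neg h1, if_pos h2] at h
  have h3 : (⟨min ((n : ℤ) - ((n : ℤ) - (k : ℕ))).toNat n, Nat.lt_succ_of_le (min_le_right _ _)⟩ :
      Fin (n + 1)) = k := by
    apply Fin.ext
    show min ((n : ℤ) - ((n : ℤ) - (k : ℕ))).toNat n = (k : ℕ)
    have : ((n : ℤ) - ((n : ℤ) - (k : ℕ))).toNat = (k : ℕ) := by omega
    rw [this]
    exact min_eq_left hk
  rw [h3] at h
  exact h

theorem smulA_single (k : Fin (n + 1)) (a z : SpinCurv.PolyNodeRing R (p * q)) :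
    a • (Pi.single k z : Fin (n + 1) → SpinCurv.PolyNodeRing R (p * q)) = Pi.single k (a * z) := by
  ext l
  by_cases h : l = k
  · subst h
    simp
  · simp [Pi.single_eq_of_ne h]

theorem smulR_single (k : Fin (n + 1)) (r : R) (z : SpinCurv.PolyNodeRing R (p * q)) :
    r • (Pi.single k z : Fin (n + 1) → SpinCurv.PolyNodeRing R (p * q)) =
      Pi.single k (algebraMap R (SpinCurv.PolyNodeRing R (p * q)) r * z) := by
  ext l
  by_cases h : l = k
  · subst h
    simp [smul_def']
  · simp [Pi.single_eq_of_ne h]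

theorem Px (k : Fin (n + 1)) : ∀ a : ℕ,
    (Pi.single k (SpinCurv.PolyNodeRing.x R (p * q) ^ a) :
      Fin (n + 1) → SpinCurv.PolyNodeRing R (p * q)) ∈ WW p q n := by
  induction k using Fin.induction with
  | zero =>
    intro a
    rcases Nat.eq_zero_or_pos a with rfl | ha
    · rw [pow_zero]
      exact single_one_mem p q n 0
    · have h := gam_mem_WW p q n ((n : ℤ) + (a : ℕ))
      have h1 : ¬ ((n : ℤ) + (a : ℕ) < 0) := by omega
      have h2 : ¬ ((n : ℤ) + (a : ℕ) ≤ n) := by omega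
      rw [gam, if_neg h1, if_neg h2] at h
      have h3 : ((n : ℤ) + (a : ℕ) - (n : ℤ)).toNat = a := by omega
      rw [h3] at h
      exact h
  | succ i ih =>
    intro a
    rcases Nat.eq_zero_or_pos a with rfl | ha
    · rw [pow_zero]
      exact single_one_mem p q n _
    · obtain ⟨a', rfl⟩ := Nat.exists_eq_succ_of_ne_zero (Nat.pos_iff_ne_zero.mp ha)
      have hgen : (Pi.single (Fin.castSucc i) (algebraMap R (SpinCurv.PolyNodeRing R (p * q)) p) -
          Pi.single (Fin.succ i) (SpinCurv.PolyNodeRing.x R (p * q)) :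
            Fin (n + 1) → SpinCurv.PolyNodeRing R (p * q)) ∈ NN p q n :=
        Submodule.subset_span (Or.inl ⟨i, rfl⟩)
      have h1 := NN_le_WW p q n ((NN p q n).smul_mem (SpinCurv.PolyNodeRing.x R (p * q) ^ a') hgen)
      have h2 := (WW p q n).smul_mem p (ih a')
      have h3 := (WW p q n).sub_mem h2 h1
      rw [smul_sub, smulA_single, smulA_single, smulR_single] at h3
      have h4 : Pi.single (Fin.castSucc i) (algebraMap R (SpinCurv.PolyNodeRing R (p * q)) p *
            SpinCurv.PolyNodeRing.x R (p * q) ^ a') -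
          (Pi.single (Fin.castSucc i) (SpinCurv.PolyNodeRing.x R (p * q) ^ a' *
            algebraMap R (SpinCurv.PolyNodeRing R (p * q)) p) -
            Pi.single (Fin.succ i) (SpinCurv.PolyNodeRing.x R (p * q) ^ a' *
              SpinCurv.PolyNodeRing.x R (p * q))) =
          (Pi.single (Fin.succ i) (SpinCurv.PolyNodeRing.x R (p * q) ^ (a' + 1)) :
            Fin (n + 1) → SpinCurv.PolyNodeRing R (p * q)) := by
        rw [mul_comm (algebraMap R (SpinCurv.PolyNodeRing R (p * q)) p), pow_succ]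
        abel
      rw [h4] at h3
      exact h3

theorem Py (k : Fin (n + 1)) : ∀ b : ℕ,
    (Pi.single k (SpinCurv.PolyNodeRing.y R (p * q) ^ b) :
      Fin (n + 1) → SpinCurv.PolyNodeRing R (p * q)) ∈ WW p q n := by
  induction k using Fin.reverseInduction with
  | last =>
    intro b
    rcases Nat.eq_zero_or_pos b with rfl | hb
    · rw [pow_zero]
      exact single_one_mem p q n _
    · have h := gam_mem_WW p q n (-(b : ℤ))
      have h1 : (-(b : ℤ) < 0) := by omega
      rw [gam, if_pos h1] at h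
      have h3 : (-(-(b : ℤ))).toNat = b := by omega
      rw [h3] at h
      exact h
  | cast i ih =>
    intro b
    rcases Nat.eq_zero_or_pos b with rfl | hb
    · rw [pow_zero]
      exact single_one_mem p q n _
    · obtain ⟨b', rfl⟩ := Nat.exists_eq_succ_of_ne_zero (Nat.pos_iff_ne_zero.mp hb)
      have hgen : (Pi.single (Fin.castSucc i) (SpinCurv.PolyNodeRing.y R (p * q)) -
          Pi.single (Fin.succ i) (algebraMap R (SpinCurv.PolyNodeRing R (p * q)) q) :
            Fin (n + 1) → SpinCurv.PolyNodeRing R (p * q)) ∈ NN p q n :=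
        Submodule.subset_span (Or.inr ⟨i, rfl⟩)
      have h1 := NN_le_WW p q n ((NN p q n).smul_mem (SpinCurv.PolyNodeRing.y R (p * q) ^ b') hgen)
      have h2 := (WW p q n).smul_mem q (ih b')
      have h3 := (WW p q n).add_mem h1 h2
      rw [smul_sub, smulA_single, smulA_single, smulR_single] at h3
      have h4 : Pi.single (Fin.castSucc i) (SpinCurv.PolyNodeRing.y R (p * q) ^ b' *
            SpinCurv.PolyNodeRing.y R (p * q)) -
          Pi.single (Fin.succ i) (SpinCurv.PolyNodeRing.y R (p * q) ^ b' *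
            algebraMap R (SpinCurv.PolyNodeRing R (p * q)) q) +
          Pi.single (Fin.succ i) (algebraMap R (SpinCurv.PolyNodeRing R (p * q)) q *
            SpinCurv.PolyNodeRing.y R (p * q) ^ b') =
          (Pi.single (Fin.castSucc i) (SpinCurv.PolyNodeRing.y R (p * q) ^ (b' + 1)) :
            Fin (n + 1) → SpinCurv.PolyNodeRing R (p * q)) := by
        rw [mul_comm (algebraMap R (SpinCurv.PolyNodeRing R (p * q)) q), pow_succ]
        abel
      rw [h4] at h3
      exact h3

theorem Pe (k : Fin (n + 1)) (m : ℤ) :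
    (Pi.single k (e R (p * q) m) : Fin (n + 1) → SpinCurv.PolyNodeRing R (p * q)) ∈ WW p q n := by
  rw [e]
  by_cases h : 0 ≤ m
  · have : (-m).toNat = 0 := by omega
    rw [this, pow_zero, mul_one]
    exact Px p q n k _
  · have : m.toNat = 0 := by omega
    rw [this, pow_zero, one_mul]
    exact Py p q n k _

theorem all_mem_WW (F : Fin (n + 1) → SpinCurv.PolyNodeRing R (p * q)) : F ∈ WW p q n := by
  rw [← Finset.univ_sum_single F]
  refine Submodule.sum_mem _ fun k _ => ?_
  have key : ∀ u : ℤ →₀ R, (Pi.single k ((nf R (p * q)).symm u) :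
      Fin (n + 1) → SpinCurv.PolyNodeRing R (p * q)) ∈ WW p q n := by
    intro u
    induction u using Finsupp.induction_linear with
    | zero =>
      rw [map_zero, Pi.single_zero]
      exact Submodule.zero_mem _
    | add f g hf hg =>
      rw [map_add, Pi.single_add]
      exact Submodule.add_mem _ hf hg
    | single m r =>
      rw [nf_symm_single, smul_def', ← smulR_single]
      exact Submodule.smul_mem _ r (Pe p q n k m)
  have := key (nf R (p * q) (F k))
  rw [LinearEquiv.symm_apply_apply] at this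
  exact this

include hrUx hrUy hrVx hrVy hgUs hgUy hgVt hgVx in
theorem range_Xi :
    Set.range (Xi p q rU rV n) =
      {gf : SpinCurv.PolyNodeRing R q × SpinCurv.PolyNodeRing R p |
        gU gf.1 = LaurentPolynomial.T (n : ℤ) * gV gf.2} := by
  ext gf
  constructor
  · rintro ⟨F, rfl⟩
    exact glue_Xi p q rU hrUx hrUy rV hrVx hrVy gU hgUs hgUy gV hgVt hgVx n F
  · intro hgf
    have hker : gf ∈ LinearMap.ker (Psi p q gU gV (n : ℤ)) := by
      rw [LinearMap.mem_ker, Psi_apply]
      exact sub_eq_zero.mpr hgf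
    refine ⟨Gam p q n ((kerEquiv p q gU hgUs hgUy gV hgVt hgVx (n : ℤ) (hn' n)).symm ⟨gf, hker⟩), ?_⟩
    have := XiL_Gam p q rU hrUx hrUy rV hrVx hrVy gU hgUs hgUy gV hgVt hgVx n
      ((kerEquiv p q gU hgUs hgUy gV hgVt hgVx (n : ℤ) (hn' n)).symm ⟨gf, hker⟩)
    rw [LinearEquiv.apply_symm_apply] at this
    exact this

include hrUx hrUy hrVx hrVy hgUs hgUy hgVt hgVx in
theorem ker_Xi :
    {F : Fin (n + 1) → SpinCurv.PolyNodeRing R (p * q) | Xi p q rU rV n F = 0} =
      (NN p q n : Set (Fin (n + 1) → SpinCurv.PolyNodeRing R (p * q))) := by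
  ext F
  constructor
  · intro hF
    have hF0 : Xi p q rU rV n F = 0 := hF
    have hW := all_mem_WW p q n F
    rw [WW, Submodule.mem_sup] at hW
    obtain ⟨ν, hν, g, ⟨c, rfl⟩, hsum⟩ := hW
    have hν' : ν ∈ NN p q n := hν
    have h1 : Xi p q rU rV n ν = 0 := Xi_eq_zero_of_mem_NN p q rU hrUx hrUy rV hrVx hrVy n ν hν'
    have h2 : XiL p q rU rV n (Gam p q n c) = 0 := by
      have : Xi p q rU rV n (ν + Gam p q n c) = 0 := by rw [hsum]; exact hF0
      rw [Xi_add, h1, zero_add] at this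
      exact this
    rw [XiL_Gam p q rU hrUx hrUy rV hrVx hrVy gU hgUs hgUy gV hgVt hgVx n c] at h2
    have h3 : kerEquiv p q gU hgUs hgUy gV hgVt hgVx (n : ℤ) (hn' n) c = 0 := Subtype.ext h2
    have h4 : c = 0 := (LinearEquiv.map_eq_zero_iff _).mp h3
    rw [h4, map_zero, add_zero] at hsum
    rw [← hsum]
    exact hν'
  · intro hF
    exact Xi_eq_zero_of_mem_NN p q rU hrUx hrUy rV hrVx hrVy n F hF

end Groth.Agent.H77.NodeSect
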