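import Groth.Agent.H77.NodeNF

set_option autoImplicit false

namespace Groth.Agent.H77.NodeTwist

open SpinCurv Groth.Agent.H77.NodeNF LaurentPolynomial

universe u

variable (R : Type u) [CommRing R]

/-- pointwise multiplication of a finitely supported function by a function -/
noncomputable def mulBy (a : ℤ → R) : (ℤ →₀ R) →ₗ[R] (ℤ →₀ R) where
  toFun u := Finsupp.onFinset u.support (fun j => u j * a j) (by
    intro j hj
    rw [Finsupp.mem_support_iff]
    intro h
    apply hj
    rw [h, zero_mul])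
  map_add' u v := by
    ext j
    simp [add_mul]
  map_smul' r u := by
    ext j
    simp [mul_assoc]

@[simp] theorem mulBy_apply (a : ℤ → R) (u : ℤ →₀ R) (j : ℤ) : mulBy R a u j = u j * a j := rfl

theorem mulBy_single (a : ℤ → R) (m : ℤ) (r : R) :
    mulBy R a (Finsupp.single m r) = Finsupp.single m (r * a m) := by
  ext j
  rw [mulBy_apply, Finsupp.single_apply, Finsupp.single_apply]
  split_ifs with h
  · rw [h]
  · rw [zero_mul]

/-- the coordinate kernel -/
def K1 (α β : ℤ → R) : Submodule R ((ℤ →₀ R) × (ℤ →₀ R)) where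
  carrier := {uw | ∀ j, uw.1 j * α j = uw.2 j * β j}
  add_mem' := by
    intro x y hx hy j
    simp only [Prod.fst_add, Prod.snd_add, Finsupp.add_apply, add_mul, hx j, hy j]
  zero_mem' := by
    intro j
    simp
  smul_mem' := by
    intro r x hx j
    simp only [Prod.smul_fst, Prod.smul_snd, Finsupp.smul_apply, smul_eq_mul, mul_assoc, hx j]

theorem mem_K1 (α β : ℤ → R) (uw : (ℤ →₀ R) × (ℤ →₀ R)) :
    uw ∈ K1 R α β ↔ ∀ j, uw.1 j * α j = uw.2 j * β j := Iff.rfl

/-- first coefficient function -/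
noncomputable def aFun (β : ℤ → R) : ℤ → R := fun j => if 0 ≤ j then β j else 1
/-- second coefficient function -/
noncomputable def bFun (α : ℤ → R) : ℤ → R := fun j => if 0 ≤ j then 1 else α j
/-- indicator of nonneg -/
noncomputable def iPos : ℤ → R := fun j => if 0 ≤ j then 1 else 0
/-- indicator of neg -/
noncomputable def iNeg : ℤ → R := fun j => if 0 ≤ j then 0 else 1

theorem param_mem (α β : ℤ → R) (hα : ∀ j, 0 ≤ j → α j = 1) (hβ : ∀ j, j < 0 → β j = 1)
    (c : ℤ →₀ R) : (mulBy R (aFun R β) c, mulBy R (bFun R α) c) ∈ K1 R α β := by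
  intro j
  simp only [mulBy_apply, aFun, bFun]
  by_cases h : 0 ≤ j
  · rw [if_pos h, if_pos h, hα j h, mul_one, mul_one]
  · rw [if_neg h, if_neg h, hβ j (not_le.mp h), mul_one, mul_one]

/-- the parametrization of the coordinate kernel -/
noncomputable def param (α β : ℤ → R) (hα : ∀ j, 0 ≤ j → α j = 1) (hβ : ∀ j, j < 0 → β j = 1) :
    (ℤ →₀ R) ≃ₗ[R] K1 R α β :=
  LinearEquiv.ofLinear
    (LinearMap.codRestrict (K1 R α β) ((mulBy R (aFun R β)).prod (mulBy R (bFun R α)))
      (fun c => param_mem R α β hα hβ c))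
    (((mulBy R (iPos R)).comp (LinearMap.snd R _ _) + (mulBy R (iNeg R)).comp (LinearMap.fst R _ _)).comp
      (K1 R α β).subtype)
    (by
      refine LinearMap.ext fun uw => ?_
      obtain ⟨⟨u, w⟩, huw⟩ := uw
      apply Subtype.ext
      have huw' : ∀ j, u j * α j = w j * β j := huw
      refine Prod.ext ?_ ?_
      · refine Finsupp.ext fun j => ?_
        show (w j * iPos R j + u j * iNeg R j) * aFun R β j = u j
        simp only [iPos, iNeg, aFun]
        by_cases h : 0 ≤ j
        · rw [if_pos h, if_pos h, if_pos h, mul_one, mul_zero, add_zero, ← huw' j, hα j h, mul_one]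
        · rw [if_neg h, if_neg h, if_neg h, mul_zero, zero_add, mul_one, mul_one]
      · refine Finsupp.ext fun j => ?_
        show (w j * iPos R j + u j * iNeg R j) * bFun R α j = w j
        simp only [iPos, iNeg, bFun]
        by_cases h : 0 ≤ j
        · rw [if_pos h, if_pos h, if_pos h, mul_one, mul_zero, add_zero, mul_one]
        · rw [if_neg h, if_neg h, if_neg h, mul_zero, zero_add, mul_one, huw' j,
            hβ j (not_le.mp h), mul_one])
    (by
      refine LinearMap.ext fun c => ?_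
      refine Finsupp.ext fun j => ?_
      show (c j * bFun R α j) * iPos R j + (c j * aFun R β j) * iNeg R j = c j
      simp only [iPos, iNeg, aFun, bFun]
      by_cases h : 0 ≤ j
      · rw [if_pos h, if_pos h, if_pos h, if_pos h, mul_one, mul_one, mul_zero, add_zero]
      · rw [if_neg h, if_neg h, if_neg h, if_neg h, mul_zero, zero_add, mul_one, mul_one])

theorem param_apply_fst (α β : ℤ → R) (hα : ∀ j, 0 ≤ j → α j = 1) (hβ : ∀ j, j < 0 → β j = 1)
    (c : ℤ →₀ R) : (param R α β hα hβ c).1.1 = mulBy R (aFun R β) c := rfl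

theorem param_apply_snd (α β : ℤ → R) (hα : ∀ j, 0 ≤ j → α j = 1) (hβ : ∀ j, j < 0 → β j = 1)
    (c : ℤ →₀ R) : (param R α β hα hβ c).1.2 = mulBy R (bFun R α) c := rfl

section Hom

variable {R}
variable {π : R} (G : PolyNodeRing R π →ₐ[R] LaurentPolynomial R) (ε : ℤ) (π' : R)
  (hx : G (PolyNodeRing.x R π) = T ε) (hy : G (PolyNodeRing.y R π) = C π' * T (-ε))

include hx hy in
theorem G_e (m : ℤ) : G (e R π m) = C (π' ^ (-m).toNat) * T (ε * m) := by
  rw [e, map_mul, map_pow, map_pow, hx, hy, mul_pow, ← map_pow, T_pow, T_pow, mul_left_comm, ← T_add]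
  congr 2
  have h1 : ((m.toNat : ℕ) : ℤ) - (((-m).toNat : ℕ) : ℤ) = m := by omega
  calc ((m.toNat : ℕ) : ℤ) * ε + (((-m).toNat : ℕ) : ℤ) * (-ε)
      = ε * (((m.toNat : ℕ) : ℤ) - (((-m).toNat : ℕ) : ℤ)) := by ring
    _ = ε * m := by rw [h1]

include hx hy in
theorem coeff_G_nf_symm_single (m : ℤ) (r : R) :
    (G ((nf R π).symm (Finsupp.single m r))).coeff =
      Finsupp.single (ε * m) (r * π' ^ (-m).toNat) := by
  rw [nf_symm_single, map_smul, G_e G ε π' hx hy, ← single_eq_C_mul_T, AddMonoidAlgebra.coeff_smul,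
    AddMonoidAlgebra.coeff_single, Finsupp.smul_single, smul_eq_mul]

end Hom

section Main

variable {R}
variable (p q : R)
  (gU : SpinCurv.PolyNodeRing R q →ₐ[R] LaurentPolynomial R)
  (hgUs : gU (SpinCurv.PolyNodeRing.x R q) = LaurentPolynomial.T 1)
  (hgUy : gU (SpinCurv.PolyNodeRing.y R q) = LaurentPolynomial.C q * LaurentPolynomial.T (-1))
  (gV : SpinCurv.PolyNodeRing R p →ₐ[R] LaurentPolynomial R)
  (hgVt : gV (SpinCurv.PolyNodeRing.x R p) = LaurentPolynomial.T (-1))
  (hgVx : gV (SpinCurv.PolyNodeRing.y R p) = LaurentPolynomial.C p * LaurentPolynomial.T 1)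
  (n : ℤ)

/-- reflection `j ↦ n - j` -/
def reflE : ℤ ≃ ℤ := Function.Involutive.toPerm (fun j => n - j) (fun j => by simp)

@[simp] theorem reflE_apply (j : ℤ) : reflE n j = n - j := rfl
@[simp] theorem reflE_symm_apply (j : ℤ) : (reflE n).symm j = n - j := rfl

variable (R) in
/-- reflection on finitely supported functions -/
noncomputable def reflL : (ℤ →₀ R) ≃ₗ[R] (ℤ →₀ R) := Finsupp.domLCongr (reflE n)

theorem reflL_symm_single (j : ℤ) (r : R) :
    (reflL R n).symm (Finsupp.single j r) = Finsupp.single (n - j) r := by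
  rw [reflL, Finsupp.domLCongr_symm, Finsupp.domLCongr_single, reflE_symm_apply]

theorem reflL_single (j : ℤ) (r : R) :
    (reflL R n) (Finsupp.single j r) = Finsupp.single (n - j) r := by
  rw [reflL, Finsupp.domLCongr_single, reflE_apply]

/-- the gluing map -/
noncomputable def Psi : (SpinCurv.PolyNodeRing R q × SpinCurv.PolyNodeRing R p) →ₗ[R] LaurentPolynomial R :=
  gU.toLinearMap.comp (LinearMap.fst R (SpinCurv.PolyNodeRing R q) (SpinCurv.PolyNodeRing R p)) -
    (LinearMap.mulLeft R (LaurentPolynomial.T n)).comp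
      (gV.toLinearMap.comp (LinearMap.snd R (SpinCurv.PolyNodeRing R q) (SpinCurv.PolyNodeRing R p)))

theorem Psi_apply (z : SpinCurv.PolyNodeRing R q × SpinCurv.PolyNodeRing R p) :
    Psi p q gU gV n z = gU z.1 - T n * gV z.2 := rfl

/-- coordinates -/
noncomputable def EE : (SpinCurv.PolyNodeRing R q × SpinCurv.PolyNodeRing R p) ≃ₗ[R]
    (ℤ →₀ R) × (ℤ →₀ R) :=
  LinearEquiv.prodCongr (nf R q) ((nf R p).trans (reflL R n))

theorem EE_symm_apply (u w : ℤ →₀ R) :
    (EE p q n).symm (u, w) = ((nf R q).symm u, (nf R p).symm ((reflL R n).symm w)) :=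
  rfl

/-- `α` -/
def alphaF : ℤ → R := fun j => q ^ (-j).toNat
/-- `β` -/
def betaF : ℤ → R := fun j => p ^ (j - n).toNat

include hgUs hgUy hgVt hgVx in
theorem coeff_Psi (z : SpinCurv.PolyNodeRing R q × SpinCurv.PolyNodeRing R p) :
    (Psi p q gU gV n z).coeff =
      mulBy R (alphaF q) (EE p q n z).1 - mulBy R (betaF p n) (EE p q n z).2 := by
  have hgVx' : gV (SpinCurv.PolyNodeRing.y R p) = C p * T (-(-1)) := by rw [neg_neg]; exact hgVx
  have key : (AddMonoidAlgebra.coeffLinearEquiv R).toLinearMap ∘ₗ (Psi p q gU gV n) ∘ₗ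
      (EE p q n).symm.toLinearMap =
      (mulBy R (alphaF q)).comp (LinearMap.fst R _ _) - (mulBy R (betaF p n)).comp (LinearMap.snd R _ _) := by
    apply LinearMap.prod_ext
    · apply Finsupp.lhom_ext
      intro m r
      show (Psi p q gU gV n ((EE p q n).symm (Finsupp.single m r, 0))).coeff =
        mulBy R (alphaF q) (Finsupp.single m r) - mulBy R (betaF p n) 0
      rw [EE_symm_apply, Psi_apply, map_zero, map_zero, map_zero, mul_zero, sub_zero, map_zero,
        sub_zero, coeff_G_nf_symm_single gU 1 q hgUs hgUy, one_mul, mulBy_single]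
      rfl
    · apply Finsupp.lhom_ext
      intro j r
      show (Psi p q gU gV n ((EE p q n).symm (0, Finsupp.single j r))).coeff =
        mulBy R (alphaF q) 0 - mulBy R (betaF p n) (Finsupp.single j r)
      rw [EE_symm_apply, Psi_apply, map_zero, map_zero, zero_sub, map_zero, zero_sub,
        reflL_symm_single, nf_symm_single, map_smul,
        G_e gV (-1) p hgVt hgVx', mul_smul_comm, mul_left_comm, ← T_add, ← single_eq_C_mul_T,
        mulBy_single]
      show -(r • AddMonoidAlgebra.single (n + -1 * (n - j)) (p ^ (-(n - j)).toNat)).coeff = _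
      rw [AddMonoidAlgebra.coeff_smul, AddMonoidAlgebra.coeff_single, Finsupp.smul_single, smul_eq_mul]
      have h1 : n + -1 * (n - j) = j := by ring
      have h2 : (-(n - j)) = j - n := by ring
      rw [h1, h2]
      rfl
  have := congrArg (fun L => L (EE p q n z)) key
  simp only [LinearMap.comp_apply, LinearEquiv.coe_coe, LinearEquiv.symm_apply_apply,
    LinearMap.sub_apply, LinearMap.fst_apply, LinearMap.snd_apply] at this
  exact this

include hgUs hgUy hgVt hgVx in
theorem ker_Psi_eq :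
    LinearMap.ker (Psi p q gU gV n) = (K1 R (alphaF q) (betaF p n)).comap (EE p q n).toLinearMap := by
  ext z
  rw [LinearMap.mem_ker, Submodule.mem_comap, mem_K1]
  constructor
  · intro hz j
    have h1 := coeff_Psi p q gU hgUs hgUy gV hgVt hgVx n z
    rw [hz] at h1
    have h2 := congrArg (fun f => f j) h1
    simp only [Finsupp.sub_apply, mulBy_apply] at h2
    have h3 : (0 : LaurentPolynomial R).coeff j = 0 := rfl
    rw [h3] at h2
    exact (sub_eq_zero.mp h2.symm)
  · intro hz
    have h1 := coeff_Psi p q gU hgUs hgUy gV hgVt hgVx n z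
    have h2 : (Psi p q gU gV n z).coeff = 0 := by
      rw [h1]
      ext j
      simp only [Finsupp.sub_apply, mulBy_apply, Finsupp.zero_apply]
      exact sub_eq_zero.mpr (hz j)
    exact (AddMonoidAlgebra.coeffLinearEquiv R).injective (by rw [map_zero]; exact h2)

theorem alphaF_one (j : ℤ) (hj : 0 ≤ j) : alphaF q j = 1 := by
  have : (-j).toNat = 0 := by omega
  rw [alphaF, this, pow_zero]

theorem betaF_one (hn : -1 ≤ n) (j : ℤ) (hj : j < 0) : betaF p n j = 1 := by
  have : (j - n).toNat = 0 := by omega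
  rw [betaF, this, pow_zero]

include hgUs hgUy hgVt hgVx in
/-- the kernel is parametrized by `ℤ →₀ R` -/
noncomputable def kerEquiv (hn : -1 ≤ n) : (ℤ →₀ R) ≃ₗ[R] LinearMap.ker (Psi p q gU gV n) :=
  (param R (alphaF q) (betaF p n) (alphaF_one q) (betaF_one p n hn)).trans
    ((LinearEquiv.ofSubmodule' (EE p q n) (K1 R (alphaF q) (betaF p n))).symm.trans
      (LinearEquiv.ofEq _ _ (ker_Psi_eq p q gU hgUs hgUy gV hgVt hgVx n).symm))

theorem kerEquiv_apply (hn : -1 ≤ n) (c : ℤ →₀ R) :
    ((kerEquiv p q gU hgUs hgUy gV hgVt hgVx n hn c : LinearMap.ker (Psi p q gU gV n)) :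
      SpinCurv.PolyNodeRing R q × SpinCurv.PolyNodeRing R p) =
      ((nf R q).symm (mulBy R (aFun R (betaF p n)) c),
        (nf R p).symm ((reflL R n).symm (mulBy R (bFun R (alphaF q)) c))) := rfl

end Main

end Groth.Agent.H77.NodeTwist
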