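import Mathlib
import Groth.Prelude.Def_DDual2
import Groth.Prelude.Def_ega3
import Groth.Prelude.Def_CohB1

/-!
# (PSI) for helper18 / S2448: a graded algebra generated in degree one by `r + 1` elements is a
graded quotient of the polynomial ring (helper77)
-/
set_option autoImplicit false
universe u
open CategoryTheory CategoryTheory.Limits AlgebraicGeometry Opposite

namespace Groth.Agent.H77.PGE_PSI

theorem exists_gradedHom_of_gens {A S : Type u} [CommRing A] [CommRing S] [Algebra A S]
    (𝒜 : ℕ → Submodule A S) [GradedAlgebra 𝒜] (r : ℕ) (g : Fin (r + 1) → S)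
    (hg1 : ∀ i, g i ∈ 𝒜 1) (hgen : Algebra.adjoin A (Set.range g) = ⊤) :
    ∃ ψ : CohB1.polyGrading r A →+*ᵍ 𝒜, Function.Surjective ψ := by
  have key : ∀ d : Fin (r + 1) →₀ ℕ, (∏ j ∈ d.support, g j ^ d j) ∈ 𝒜 (d.degree) := by
    intro d
    have h := SetLike.prod_pow_mem_graded 𝒜 (fun _ : Fin (r + 1) => 1) g (fun j => d j)
      (F := d.support) (fun k _ => hg1 k)
    have e : ∑ k ∈ d.support, d k • 1 = d.degree := by
      rw [Finsupp.degree_apply]
      exact Finset.sum_congr rfl (fun k _ => by simp)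
    rwa [e] at h
  have hmem : ∀ {i : ℕ} {x : MvPolynomial (Fin (r + 1)) A},
      x ∈ CohB1.polyGrading r A i → (MvPolynomial.aeval g).toRingHom x ∈ 𝒜 i := by
    intro i x hx
    have hx' : x.IsHomogeneous i := hx
    change MvPolynomial.aeval g x ∈ 𝒜 i
    rw [MvPolynomial.aeval_def, MvPolynomial.eval₂_eq]
    refine Submodule.sum_mem _ (fun d hd => ?_)
    rw [← Algebra.smul_def]
    refine Submodule.smul_mem _ _ ?_
    have hdi : d.degree = i := by
      by_contra hne
      exact (MvPolynomial.mem_support_iff.1 hd) (hx'.coeff_eq_zero hne)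
    rw [← hdi]
    exact key d
  refine ⟨{ toRingHom := (MvPolynomial.aeval g).toRingHom, map_mem := hmem }, ?_⟩
  intro s
  have hs : s ∈ (MvPolynomial.aeval g : MvPolynomial (Fin (r + 1)) A →ₐ[A] S).range := by
    rw [← Algebra.adjoin_range_eq_range_aeval, hgen]
    exact Algebra.mem_top
  obtain ⟨p, hp⟩ := hs
  exact ⟨p, hp⟩

end Groth.Agent.H77.PGE_PSI
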