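import Mathlib
import Groth.Agent.S3694
import Groth.Agent.H69.PPow
import Groth.Agent.H69.UHomeo2
import Groth.Agent.H77.PerfDescR3
set_option autoImplicit false
universe u
open AlgebraicGeometry CategoryTheory CategoryTheory.Limits

namespace Groth.Agent.H77.PerfDescR2

open Groth.Agent.H77.PerfDescR3 in
/-- (R2) relative Frobenius of an etale ring map is an iso, as a pushout square in `CommRingCat`. -/
theorem isPushout_ppow_of_etale (p : ℕ) [Fact p.Prime] {A C : CommRingCat.{u}} (χ : A ⟶ C)
    (hχ : χ.hom.Etale) (hA : (p : A) = 0) (N : ℕ) (FA : A ⟶ A) (FC : C ⟶ C)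
    (hFA : ∀ x, FA.hom x = x ^ p ^ N) (hFC : ∀ x, FC.hom x = x ^ p ^ N) :
    IsPushout FA χ χ FC := by
  have hp : p.Prime := Fact.out
  have w : FA ≫ χ = χ ≫ FC := by
    ext x
    simp [hFA, hFC]
  let P : CommRingCat.{u} := pushout FA χ
  let il : A ⟶ P := pushout.inl FA χ
  let ir : C ⟶ P := pushout.inr FA χ
  let d : P ⟶ C := pushout.desc χ FC w
  have hil : il ≫ d = χ := pushout.inl_desc _ _ _
  have hir : ir ≫ d = FC := pushout.inr_desc _ _ _
  have hcond : FA ≫ il = χ ≫ ir := pushout.condition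
  have hPp : (p : P) = 0 := by
    have := congrArg il.hom hA
    simpa using this
  have hCp : (p : C) = 0 := by
    have := congrArg χ.hom hA
    simpa using this
  let FP : P ⟶ P := CommRingCat.ofHom (ppow P p hp hPp N)
  have hFP : FP = d ≫ ir := by
    apply pushout.hom_ext
    · change il ≫ FP = il ≫ d ≫ ir
      rw [← Category.assoc, hil, ← hcond]
      ext x
      simp [FP, hFA]
    · change ir ≫ FP = ir ≫ d ≫ ir
      rw [← Category.assoc, hir]
      ext x
      simp [FP, hFC]
  have hker : ∀ x ∈ RingHom.ker d.hom, IsNilpotent x := by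
    intro x hx
    refine ⟨p ^ N, ?_⟩
    have h1 := congr($(hFP).hom x)
    have h2 : d.hom x = 0 := RingHom.mem_ker.mp hx
    simpa [FP, h2] using h1
  have H : ∀ c : C, ∃ n : ℕ, (p ^ n : C) * c ∈ d.hom.range ∧ c ^ (p ^ n) ∈ d.hom.range := by
    intro c
    refine ⟨N + 1, ?_, ?_⟩
    · rw [hCp, zero_pow (Nat.succ_ne_zero N), zero_mul]
      exact Subring.zero_mem _
    · refine ⟨ir.hom (c ^ p), ?_⟩
      have h1 := congr($(hir).hom (c ^ p))
      rw [CommRingCat.hom_comp, RingHom.comp_apply] at h1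
      rw [h1, hFC, ← pow_mul, ← pow_succ']
  have hUH : FlatMor.IsUnivHomeo (Spec.map d) :=
    Groth.Agent.H69.ringUH_of_ppow d.hom p hp hker H
  haveI : UniversallyInjective (Spec.map d) :=
    Groth.Agent.H69.universallyInjective_of_isUnivHomeo _ hUH
  haveI : Surjective (Spec.map d) := Groth.Agent.H69.surjective_of_isUnivHomeo _ hUH
  have hdet : d.hom.Etale := by
    have hil_et : il.hom.Etale :=
      RingHom.Etale.isStableUnderBaseChange.pushout_inl RingHom.Etale.respectsIso FA χ hχ
    algebraize [il.hom, d.hom, χ.hom]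
    haveI : IsScalarTower A P C := .of_algebraMap_eq fun x => (congr($(hil).hom x)).symm
    exact RingHom.etale_algebraMap.mpr (Algebra.Etale.of_restrictScalars (R := A) (A := P) (B := C))
  haveI : Etale (Spec.map d) := (HasRingHomProperty.Spec_iff (P := @Etale)).mpr hdet
  haveI : IsOpenImmersion (Spec.map d) := Groth.Agent.S3694.result _
  haveI : IsIso (Spec.map d) :=
    (isIso_iff_isOpenImmersion_and_surjective _).mpr ⟨inferInstance, inferInstance⟩
  haveI : IsIso d := by
    have : IsIso (Scheme.Spec.map d.op) := ‹IsIso (Spec.map d)›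
    have h2 : IsIso d.op := isIso_of_reflects_iso d.op Scheme.Spec
    exact isIso_of_op d
  exact IsPushout.of_iso (IsPushout.of_hasPushout FA χ) (Iso.refl _) (Iso.refl _) (Iso.refl _)
    (asIso d) (by simp) (by simp) (by simpa using hil) (by simpa using hir)

/-- (R3) descent of finite etale algebras along a faithfully flat `p`-radical map
(EXACT statement of helper69's request; = `PerfDescR3.exists_descent_ring_of` fed with (R2)). -/
theorem exists_descent_ring (p : ℕ) [Fact p.Prime] {B A' C : CommRingCat.{u}} (φ : B ⟶ A')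
    (χ : A' ⟶ C) (hB : (p : B) = 0) (hff : φ.hom.FaithfullyFlat)
    (hφ : ∀ a : A', ∃ (n : ℕ) (b : B), φ.hom b = a ^ p ^ n)
    (hχ : χ.hom.Etale) (hfin : χ.hom.Finite) :
    ∃ (D : CommRingCat.{u}) (δ : B ⟶ D) (γ : D ⟶ C),
      IsPushout φ δ χ γ ∧ δ.hom.Etale ∧ δ.hom.Finite :=
  Groth.Agent.H77.PerfDescR3.exists_descent_ring_of
    (fun p _ _ _ χ hχ hA N FA FC hFA hFC => isPushout_ppow_of_etale p χ hχ hA N FA FC hFA hFC)
    p φ χ hB hff hφ hχ hfin

end Groth.Agent.H77.PerfDescR2
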