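import Mathlib

set_option autoImplicit false

/-! Points in the projective plane: graded pieces of the vanishing ideal and graded Nakayama. -/

namespace Groth.Agent.H77.Pts

open MvPolynomial

universe u
variable {k : Type u} [Field k]

/-- forms of degree `n` vanishing on `Z`. -/
def In (Z : Finset (Fin 3 → k)) (n : ℕ) : Submodule k (MvPolynomial (Fin 3) k) where
  carrier := {f | f.IsHomogeneous n ∧ ∀ p ∈ Z, eval p f = 0}
  add_mem' := by
    rintro a b ⟨ha, ha'⟩ ⟨hb, hb'⟩
    exact ⟨ha.add hb, fun p hp => by rw [map_add, ha' p hp, hb' p hp, add_zero]⟩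
  zero_mem' := ⟨isHomogeneous_zero _ _ _, fun p _ => map_zero _⟩
  smul_mem' := by
    rintro c a ⟨ha, ha'⟩
    refine ⟨?_, fun p hp => ?_⟩
    · rw [MvPolynomial.smul_eq_C_mul]; exact ha.C_mul c
    · rw [smul_eval, ha' p hp, mul_zero]

theorem mem_In {Z : Finset (Fin 3 → k)} {n : ℕ} {f : MvPolynomial (Fin 3) k} :
    f ∈ In Z n ↔ f.IsHomogeneous n ∧ ∀ p ∈ Z, eval p f = 0 := Iff.rfl

/-- the part of `In Z n` generated in lower degree. -/
noncomputable def Mn (Z : Finset (Fin 3 → k)) : ℕ → Submodule k (MvPolynomial (Fin 3) k)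
  | 0 => ⊥
  | n + 1 => ⨆ i : Fin 3, (In Z n).map (LinearMap.mulLeft k (X i))

theorem X_mul_mem_In {Z : Finset (Fin 3 → k)} {n : ℕ} {f : MvPolynomial (Fin 3) k}
    (hf : f ∈ In Z n) (i : Fin 3) : X i * f ∈ In Z (n + 1) := by
  refine ⟨?_, fun p hp => ?_⟩
  · have := (isHomogeneous_X k i).mul hf.1
    rwa [Nat.add_comm] at this
  · rw [map_mul, hf.2 p hp, mul_zero]

theorem X_mul_mem_Mn {Z : Finset (Fin 3 → k)} {n : ℕ} {f : MvPolynomial (Fin 3) k}
    (hf : f ∈ In Z n) (i : Fin 3) : X i * f ∈ Mn Z (n + 1) := by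
  show X i * f ∈ ⨆ i : Fin 3, (In Z n).map (LinearMap.mulLeft k (X i))
  exact Submodule.mem_iSup_of_mem i (Submodule.mem_map.2 ⟨f, hf, rfl⟩)

theorem Mn_le_In (Z : Finset (Fin 3 → k)) (n : ℕ) : Mn Z n ≤ In Z n := by
  cases n with
  | zero => exact bot_le
  | succ n =>
    show (⨆ i : Fin 3, (In Z n).map (LinearMap.mulLeft k (X i))) ≤ In Z (n + 1)
    refine iSup_le fun i => ?_
    rintro _ ⟨g, hg, rfl⟩
    exact X_mul_mem_In hg i

theorem In_le_hom (Z : Finset (Fin 3 → k)) (n : ℕ) :
    In Z n ≤ homogeneousSubmodule (Fin 3) k n := fun _ hf => hf.1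

instance homFinite (n : ℕ) : Module.Finite k (homogeneousSubmodule (Fin 3) k n) :=
  Module.Finite.iff_fg.2 (homogeneousSubmodule_fg _ _ n)

instance InFinite (Z : Finset (Fin 3 → k)) (n : ℕ) : Module.Finite k (In Z n) :=
  Submodule.finiteDimensional_of_le (In_le_hom Z n)

instance MnFinite (Z : Finset (Fin 3 → k)) (n : ℕ) : Module.Finite k (Mn Z n) :=
  Submodule.finiteDimensional_of_le ((Mn_le_In Z n).trans (In_le_hom Z n))

theorem In_le_ideal {Z : Finset (Fin 3 → k)} {I : Ideal (MvPolynomial (Fin 3) k)}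
    (hI : ∀ f : MvPolynomial (Fin 3) k, f ∈ I ↔
      ∀ p ∈ Z, ∀ j : ℕ, eval p (homogeneousComponent j f) = 0)
    {n : ℕ} {f : MvPolynomial (Fin 3) k} (hf : f ∈ In Z n) : f ∈ I := by
  rw [hI]
  intro p hp j
  rw [homogeneousComponent_of_mem ((mem_homogeneousSubmodule n f).2 hf.1)]
  split_ifs
  · exact hf.2 p hp
  · exact map_zero _

theorem comp_mem_In {Z : Finset (Fin 3 → k)} {I : Ideal (MvPolynomial (Fin 3) k)}
    (hI : ∀ f : MvPolynomial (Fin 3) k, f ∈ I ↔
      ∀ p ∈ Z, ∀ j : ℕ, eval p (homogeneousComponent j f) = 0)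
    {f : MvPolynomial (Fin 3) k} (hf : f ∈ I) (j : ℕ) : homogeneousComponent j f ∈ In Z j :=
  ⟨homogeneousComponent_isHomogeneous j f, fun p hp => (hI f).1 hf p hp j⟩

theorem exists_compl (Z : Finset (Fin 3 → k)) (n : ℕ) :
    ∃ C : Submodule k (MvPolynomial (Fin 3) k), C ≤ In Z n ∧ C ⊔ Mn Z n = In Z n ∧
      Module.finrank k C + Module.finrank k (Mn Z n) = Module.finrank k (In Z n) := by
  obtain ⟨q, hq⟩ := Submodule.exists_isCompl (Mn Z n)
  have hsup : q ⊓ In Z n ⊔ Mn Z n = In Z n := by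
    rw [sup_comm, ← sup_inf_assoc_of_le q (Mn_le_In Z n), hq.sup_eq_top, top_inf_eq]
  have hinf : (q ⊓ In Z n) ⊓ Mn Z n = ⊥ := by
    rw [eq_bot_iff]
    calc (q ⊓ In Z n) ⊓ Mn Z n ≤ q ⊓ Mn Z n := inf_le_inf_right _ inf_le_left
      _ = ⊥ := by rw [inf_comm]; exact hq.inf_eq_bot
  refine ⟨q ⊓ In Z n, inf_le_right, hsup, ?_⟩
  have : Module.Finite k ↥(q ⊓ In Z n) :=
    Submodule.finiteDimensional_of_le (inf_le_right : q ⊓ In Z n ≤ In Z n)
  have h := Submodule.finrank_sup_add_finrank_inf_eq (q ⊓ In Z n) (Mn Z n)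
  rw [hsup, hinf, finrank_bot, add_zero] at h
  exact h.symm

theorem exists_finset_span (C : Submodule k (MvPolynomial (Fin 3) k)) [Module.Finite k C] :
    ∃ s : Finset (MvPolynomial (Fin 3) k), s.card ≤ Module.finrank k C ∧
      Submodule.span k (s : Set (MvPolynomial (Fin 3) k)) = C := by
  classical
  let b := Module.finBasis k C
  refine ⟨Finset.univ.image (fun i => (b i : MvPolynomial (Fin 3) k)), ?_, ?_⟩
  · refine Finset.card_image_le.trans ?_
    rw [Finset.card_univ, Fintype.card_fin]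
  · have h1 : ((Finset.univ.image (fun i => (b i : MvPolynomial (Fin 3) k)) : Finset _) :
        Set (MvPolynomial (Fin 3) k)) = C.subtype '' Set.range b := by
      rw [Finset.coe_image, Finset.coe_univ, Set.image_univ, ← Set.range_comp]
      rfl
    rw [h1, ← Submodule.map_span, b.span_eq, Submodule.map_subtype_top]

/-- graded Nakayama: a bound on the number of new generators in each degree bounds the number of
generators. -/
theorem nakayama (Z : Finset (Fin 3 → k)) (I : Ideal (MvPolynomial (Fin 3) k))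
    (hI : ∀ f : MvPolynomial (Fin 3) k, f ∈ I ↔
      ∀ p ∈ Z, ∀ j : ℕ, eval p (homogeneousComponent j f) = 0)
    (D : ℕ)
    (hD : ∀ N, ∑ n ∈ Finset.range N,
      (Module.finrank k (In Z n) - Module.finrank k (Mn Z n)) ≤ D) :
    Submodule.spanFinrank I ≤ D := by
  classical
  choose C hC1 hC2 hC3 using exists_compl Z
  have hCfin : ∀ n, Module.Finite k (C n) := fun n =>
    Submodule.finiteDimensional_of_le (hC1 n)
  choose s hs1 hs2 using fun n => exists_finset_span (C n)
  obtain ⟨t, ht⟩ : I.FG := IsNoetherian.noetherian I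
  obtain ⟨N, hN⟩ : ∃ N, N = t.sup totalDegree + 1 := ⟨_, rfl⟩
  obtain ⟨G, hG⟩ : ∃ G, G = (Finset.range N).biUnion s := ⟨_, rfl⟩
  have hsG : ∀ n, n < N → (s n : Set (MvPolynomial (Fin 3) k)) ⊆
      (Ideal.span (G : Set (MvPolynomial (Fin 3) k)) : Set (MvPolynomial (Fin 3) k)) := by
    intro n hn x hx
    refine Ideal.subset_span ?_
    rw [hG]
    exact Finset.mem_biUnion.2 ⟨n, Finset.mem_range.2 hn, hx⟩
  -- every graded piece of degree `< N` lies in `span G`
  have key : ∀ n, n < N → ∀ f ∈ In Z n, f ∈ Ideal.span (G : Set (MvPolynomial (Fin 3) k)) := by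
    intro n
    induction n using Nat.strong_induction_on with
    | _ n ih =>
      intro hn f hf
      rw [← hC2 n] at hf
      obtain ⟨c, hc, m, hm, rfl⟩ := Submodule.mem_sup.1 hf
      refine Ideal.add_mem _ ?_ ?_
      · rw [← hs2 n] at hc
        have : Submodule.span k (s n : Set (MvPolynomial (Fin 3) k)) ≤
            (Ideal.span (G : Set (MvPolynomial (Fin 3) k))).restrictScalars k :=
          Submodule.span_le.2 (hsG n hn)
        exact this hc
      · cases n with
        | zero =>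
          have : m = 0 := by simpa [Mn] using hm
          rw [this]; exact Ideal.zero_mem _
        | succ n =>
          have hle : Mn Z (n + 1) ≤
              (Ideal.span (G : Set (MvPolynomial (Fin 3) k))).restrictScalars k := by
            show (⨆ i : Fin 3, (In Z n).map (LinearMap.mulLeft k (X i))) ≤ _
            refine iSup_le fun i => ?_
            rintro _ ⟨g, hg, rfl⟩
            exact Ideal.mul_mem_left _ _ (ih n (Nat.lt_succ_self n) (by omega) g hg)
          exact hle hm
  have hGI : Ideal.span (G : Set (MvPolynomial (Fin 3) k)) = I := by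
    apply le_antisymm
    · refine Ideal.span_le.2 ?_
      intro x hx
      rw [hG] at hx
      obtain ⟨n, -, hxn⟩ := Finset.mem_biUnion.1 (Finset.mem_coe.1 hx)
      have : x ∈ C n := by
        rw [← hs2 n]; exact Submodule.subset_span hxn
      exact In_le_ideal hI (hC1 n this)
    · rw [← ht]
      refine Ideal.span_le.2 ?_
      intro f hf
      have hfI : f ∈ I := by rw [← ht]; exact Ideal.subset_span hf
      rw [← sum_homogeneousComponent f]
      refine Ideal.sum_mem _ fun i hi => ?_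
      refine key i ?_ _ (comp_mem_In hI hfI i)
      have h1 : f.totalDegree ≤ t.sup totalDegree := Finset.le_sup (f := totalDegree) hf
      have := Finset.mem_range.1 hi
      omega
  rw [← hGI]
  refine (Submodule.spanFinrank_span_le_ncard_of_finite (Finset.finite_toSet G)).trans ?_
  rw [Set.ncard_coe_finset, hG]
  refine Finset.card_biUnion_le.trans ((Finset.sum_le_sum fun n _ => ?_).trans (hD N))
  have := hs1 n
  have := hC3 n
  omega

end Groth.Agent.H77.Pts
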