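import Groth.Agent.H77.PtsA

set_option autoImplicit false

/-! Counting new generators via a hyperplane section (infinite field). -/

namespace Groth.Agent.H77.Pts

open MvPolynomial

universe u
variable {k : Type u} [Field k]

theorem finrank_homog' (r d : ℕ) :
    Module.finrank k (MvPolynomial.homogeneousSubmodule (Fin (r + 1)) k d) =
      Nat.choose (d + r) r := by
  classical
  have b := MvPolynomial.basisRestrictSupport k {d' : Fin (r + 1) →₀ ℕ | d'.degree = d}
  have h1 : Module.finrank k (MvPolynomial.homogeneousSubmodule (Fin (r + 1)) k d)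
      = Module.finrank k (MvPolynomial.restrictSupport k
          {d' : Fin (r + 1) →₀ ℕ | d'.degree = d}) := by
    rw [MvPolynomial.homogeneousSubmodule_eq_finsupp_supported]
    rfl
  rw [h1, Module.finrank_eq_nat_card_basis b]
  have e : ↥{d' : Fin (r + 1) →₀ ℕ | d'.degree = d} ≃ Sym (Fin (r + 1)) d :=
    (Equiv.subtypeEquivRight (fun d' => by
      show d'.degree = d ↔ d'.sum (fun _ => id) = d
      rfl)).trans (Sym.equivNatSum (Fin (r + 1)) d).symm
  rw [Nat.card_congr e, Nat.card_eq_fintype_card, Sym.card_sym_eq_multichoose, Nat.multichoose_eq,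
    Fintype.card_fin]
  have h2 : r + 1 + d - 1 = d + r := by omega
  rw [h2]
  exact Nat.choose_symm_add

theorem finrank_homog (d : ℕ) :
    Module.finrank k (MvPolynomial.homogeneousSubmodule (Fin 3) k d) = Nat.choose (d + 2) 2 :=
  finrank_homog' 2 d

theorem finrank_map_add_inf_ker {V W : Type*} [AddCommGroup V] [Module k V] [AddCommGroup W]
    [Module k W] (f : V →ₗ[k] W) (A : Submodule k V) [FiniteDimensional k A] :
    Module.finrank k (A.map f) + Module.finrank k ↥(A ⊓ LinearMap.ker f) =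
      Module.finrank k A := by
  have h := LinearMap.finrank_range_add_finrank_ker (f.comp A.subtype)
  rw [LinearMap.range_comp, Submodule.range_subtype, LinearMap.ker_comp] at h
  rw [← h, ← Submodule.map_comap_subtype, Submodule.finrank_map_subtype_eq]

theorem finrank_degreeLT (n : ℕ) : Module.finrank k (Polynomial.degreeLT k n) = n :=
  (Polynomial.degreeLTEquiv k n).finrank_eq.trans (Module.finrank_fin_fun k)

instance degreeLTFinite (n : ℕ) : Module.Finite k (Polynomial.degreeLT k n) :=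
  Module.Finite.equiv (Polynomial.degreeLTEquiv k n).symm

/-- the values of the three variables on the line `ℓ = 0`, in the affine coordinate `t`. -/
noncomputable def vals (a : Fin 3 → k) : Fin 3 → Polynomial k :=
  ![Polynomial.C (-(a 2) / a 0) * Polynomial.X + Polynomial.C (-(a 1) / a 0), 1, Polynomial.X]

noncomputable def del (a : Fin 3 → k) : MvPolynomial (Fin 3) k →ₐ[k] Polynomial k :=
  aeval (vals a)

noncomputable def ell (a : Fin 3 → k) : MvPolynomial (Fin 3) k := ∑ i, C (a i) * X i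

theorem del_X0 (a : Fin 3 → k) : del a (X 0) =
    Polynomial.C (-(a 2) / a 0) * Polynomial.X + Polynomial.C (-(a 1) / a 0) := by
  simp [del, vals]

theorem del_X1 (a : Fin 3 → k) : del a (X 1) = 1 := by simp [del, vals]

theorem del_X2 (a : Fin 3 → k) : del a (X 2) = Polynomial.X := by simp [del, vals]

theorem del_C (a : Fin 3 → k) (c : k) : del a (C c) = Polynomial.C c := by
  rw [del, aeval_C]; rfl

theorem del_ell (a : Fin 3 → k) (ha : a 0 ≠ 0) : del a (ell a) = 0 := by
  rw [ell, map_sum, Fin.sum_univ_three]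
  simp only [map_mul, del_X0, del_X1, del_X2, del_C]
  have h1 : Polynomial.C (a 0) * Polynomial.C (-(a 2) / a 0) = Polynomial.C (-(a 2)) := by
    rw [← Polynomial.C_mul]; congr 1; field_simp
  have h2 : Polynomial.C (a 0) * Polynomial.C (-(a 1) / a 0) = Polynomial.C (-(a 1)) := by
    rw [← Polynomial.C_mul]; congr 1; field_simp
  rw [mul_add, ← mul_assoc, h1, h2, Polynomial.C_neg, Polynomial.C_neg]
  ring

theorem eval_ell (a p : Fin 3 → k) : eval p (ell a) = ∑ i, a i * p i := by
  simp [ell]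

theorem ell_hom (a : Fin 3 → k) : (ell a).IsHomogeneous 1 :=
  IsHomogeneous.sum _ _ _ fun i _ => isHomogeneous_C_mul_X (a i) i

theorem ell_ne_zero (a : Fin 3 → k) (ha : a 0 ≠ 0) : ell a ≠ 0 := by
  intro h
  have h1 := eval_ell a (Pi.single 0 1)
  rw [h, map_zero] at h1
  apply ha
  rw [h1]
  simp [Pi.single_apply]

theorem vals_natDegree (a : Fin 3 → k) (i : Fin 3) : (vals a i).natDegree ≤ 1 := by
  fin_cases i
  · show (Polynomial.C _ * Polynomial.X + Polynomial.C _).natDegree ≤ 1
    exact Polynomial.natDegree_linear_le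
  · show (1 : Polynomial k).natDegree ≤ 1
    simp
  · show (Polynomial.X : Polynomial k).natDegree ≤ 1
    exact Polynomial.natDegree_X_le

theorem del_mem_degreeLT (a : Fin 3 → k) {n : ℕ} {f : MvPolynomial (Fin 3) k}
    (hf : f.IsHomogeneous n) : del a f ∈ Polynomial.degreeLT k (n + 1) := by
  rw [Polynomial.mem_degreeLT]
  have h := aeval_natDegree_le (m := n) (n := 1) f hf.totalDegree_le (vals a) (vals_natDegree a)
  rw [mul_one] at h
  exact (Polynomial.degree_le_of_natDegree_le h).trans_lt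
    (by exact_mod_cast Nat.lt_succ_self n)

theorem del_surj (a : Fin 3 → k) (m : ℕ) (q : Polynomial k)
    (hq : q ∈ Polynomial.degreeLT k (m + 1)) :
    ∃ f : MvPolynomial (Fin 3) k, f.IsHomogeneous m ∧ del a f = q := by
  refine ⟨∑ i ∈ Finset.range (m + 1), C (q.coeff i) * (X 1 ^ (m - i) * X 2 ^ i), ?_, ?_⟩
  · refine IsHomogeneous.sum _ _ _ fun i hi => ?_
    have hi' := Finset.mem_range.1 hi
    have h1 : (X 1 ^ (m - i) * X 2 ^ i : MvPolynomial (Fin 3) k).IsHomogeneous ((m - i) + i) :=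
      (isHomogeneous_X_pow 1 (m - i)).mul (isHomogeneous_X_pow 2 i)
    have h2 : (m - i) + i = m := by omega
    rw [h2] at h1
    exact h1.C_mul _
  · rw [map_sum]
    have hdeg : q.natDegree < m + 1 := by
      rw [Polynomial.mem_degreeLT] at hq
      by_cases h0 : q = 0
      · rw [h0]; simp
      · exact (Polynomial.natDegree_lt_iff_degree_lt h0).2 hq
    conv_rhs => rw [Polynomial.as_sum_range' q (m + 1) hdeg]
    refine Finset.sum_congr rfl fun i _ => ?_
    rw [map_mul, map_mul, map_pow, map_pow, del_X1, del_X2, one_pow, one_mul, del_C,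
      Polynomial.C_mul_X_pow_eq_monomial]

theorem ker_hom (a : Fin 3 → k) (ha : a 0 ≠ 0) (n : ℕ) (f : MvPolynomial (Fin 3) k)
    (hf : f.IsHomogeneous (n + 1)) (h0 : del a f = 0) :
    ∃ g : MvPolynomial (Fin 3) k, g.IsHomogeneous n ∧ f = ell a * g := by
  obtain ⟨δl, hδl⟩ : ∃ δl : MvPolynomial (Fin 3) k →ₗ[k] Polynomial k,
      δl = (del a).toLinearMap := ⟨_, rfl⟩
  have hδ : ∀ x, δl x = del a x := fun x => by rw [hδl]; rfl
  obtain ⟨H1, hH1⟩ : ∃ H, H = homogeneousSubmodule (Fin 3) k (n + 1) := ⟨_, rfl⟩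
  obtain ⟨H0, hH0⟩ : ∃ H, H = homogeneousSubmodule (Fin 3) k n := ⟨_, rfl⟩
  have hinj : Function.Injective (LinearMap.mulLeft k (ell a)) := by
    intro x y hxy
    exact mul_left_cancel₀ (ell_ne_zero a ha) hxy
  have hle : H0.map (LinearMap.mulLeft k (ell a)) ≤ H1 ⊓ LinearMap.ker δl := by
    rintro _ ⟨g, hg, rfl⟩
    rw [hH0] at hg
    refine ⟨?_, ?_⟩
    · rw [hH1]
      show (ell a * g).IsHomogeneous (n + 1)
      have := (ell_hom a).mul hg
      rwa [Nat.add_comm] at this
    · show δl (ell a * g) = 0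
      rw [hδ, map_mul, del_ell a ha, zero_mul]
  have hmap : H1.map δl = Polynomial.degreeLT k (n + 2) := by
    apply le_antisymm
    · rintro _ ⟨f, hf, rfl⟩
      rw [hH1] at hf
      rw [hδ]
      exact del_mem_degreeLT a hf
    · intro q hq
      obtain ⟨f, hf, rfl⟩ := del_surj a (n + 1) q hq
      exact ⟨f, by rw [hH1]; exact hf, hδ f⟩
  have hfinH1 : Module.Finite k H1 := by rw [hH1]; infer_instance
  have hrn := finrank_map_add_inf_ker δl H1
  rw [hmap, finrank_degreeLT] at hrn
  have hd1 : Module.finrank k H1 = Nat.choose (n + 1 + 2) 2 := by rw [hH1]; exact finrank_homog _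
  have hd0 : Module.finrank k H0 = Nat.choose (n + 2) 2 := by rw [hH0]; exact finrank_homog _
  have hfin : Module.finrank k (H0.map (LinearMap.mulLeft k (ell a))) = Module.finrank k H0 :=
    (LinearEquiv.finrank_eq (Submodule.equivMapOfInjective _ hinj H0)).symm
  have hch : Nat.choose (n + 1 + 2) 2 = (n + 2) + Nat.choose (n + 2) 2 := by
    have := Nat.choose_succ_succ (n + 2) 1
    rw [Nat.choose_one_right] at this
    exact this
  have hfin2 : Module.Finite k ↥(H1 ⊓ LinearMap.ker δl) :=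
    Submodule.finiteDimensional_of_le (inf_le_left : H1 ⊓ LinearMap.ker δl ≤ H1)
  have heq := Submodule.eq_of_le_of_finrank_le hle (by omega)
  have hfm : f ∈ H1 ⊓ LinearMap.ker δl := by
    refine ⟨by rw [hH1]; exact hf, ?_⟩
    show δl f = 0
    rw [hδ, h0]
  rw [← heq] at hfm
  obtain ⟨g, hg, hgf⟩ := hfm
  rw [hH0] at hg
  exact ⟨g, hg, hgf.symm⟩

section count

variable (Z : Finset (Fin 3 → k)) (a : Fin 3 → k)

/-- image of `In Z n` on the line. -/
noncomputable def V (n : ℕ) : Submodule k (Polynomial k) :=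
  (In Z n).map (del a).toLinearMap

theorem mem_V {n : ℕ} {q : Polynomial k} : q ∈ V Z a n ↔ ∃ f ∈ In Z n, del a f = q := by
  show q ∈ (In Z n).map (del a).toLinearMap ↔ _
  rw [Submodule.mem_map]
  rfl

theorem V_le (n : ℕ) : V Z a n ≤ Polynomial.degreeLT k (n + 1) := by
  intro q hq
  obtain ⟨f, hf, rfl⟩ := (mem_V Z a).1 hq
  exact del_mem_degreeLT a hf.1

instance VFinite (n : ℕ) : Module.Finite k (V Z a n) :=
  Submodule.finiteDimensional_of_le (V_le Z a n)

theorem finrank_V_le (n : ℕ) : Module.finrank k (V Z a n) ≤ n + 1 := by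
  have := Submodule.finrank_mono (V_le Z a n)
  rwa [finrank_degreeLT] at this

theorem V_mono (n : ℕ) : V Z a n ≤ V Z a (n + 1) := by
  intro q hq
  obtain ⟨f, hf, rfl⟩ := (mem_V Z a).1 hq
  refine (mem_V Z a).2 ⟨X 1 * f, X_mul_mem_In hf 1, ?_⟩
  rw [map_mul, del_X1, one_mul]

theorem V_ne_bot_of_le {n m : ℕ} (h : V Z a n ≠ ⊥) (hnm : n ≤ m) : V Z a m ≠ ⊥ := by
  induction m, hnm using Nat.le_induction with
  | base => exact h
  | succ m _ ih =>
    intro hb
    apply ih
    rw [eq_bot_iff, ← hb]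
    exact V_mono Z a m

variable (ha : a 0 ≠ 0) (haZ : ∀ p ∈ Z, ∑ i, a i * p i ≠ 0)

include ha haZ

theorem ker_In (n : ℕ) (f : MvPolynomial (Fin 3) k) (hf : f ∈ In Z (n + 1))
    (h0 : del a f = 0) : ∃ g ∈ In Z n, f = ell a * g := by
  obtain ⟨g, hg, rfl⟩ := ker_hom a ha n f hf.1 h0
  refine ⟨g, ⟨hg, fun p hp => ?_⟩, rfl⟩
  have h1 := hf.2 p hp
  rw [map_mul, eval_ell] at h1
  exact (mul_eq_zero.1 h1).resolve_left (haZ p hp)

omit ha haZ in
theorem ker_In_zero (f : MvPolynomial (Fin 3) k) (hf : f ∈ In Z 0) (h0 : del a f = 0) :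
    f = 0 := by
  have h1 : f = C (coeff 0 f) :=
    totalDegree_eq_zero_iff_eq_C.1 ((totalDegree_zero_iff_isHomogeneous _).2 hf.1)
  rw [h1, del_C, Polynomial.C_eq_zero] at h0
  rw [h1, h0, map_zero]

theorem V_ne_bot : ∀ (d : ℕ) (F : MvPolynomial (Fin 3) k), F ∈ In Z d → F ≠ 0 →
    V Z a d ≠ ⊥ := by
  intro d
  induction d with
  | zero =>
    intro F hF hF0 hb
    apply hF0
    apply ker_In_zero Z a F hF
    have : del a F ∈ V Z a 0 := (mem_V Z a).2 ⟨F, hF, rfl⟩
    rw [hb] at this
    exact (Submodule.mem_bot k).1 this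
  | succ d ih =>
    intro F hF hF0 hb
    have : del a F ∈ V Z a (d + 1) := (mem_V Z a).2 ⟨F, hF, rfl⟩
    rw [hb] at this
    obtain ⟨g, hg, rfl⟩ := ker_In Z a ha haZ d F hF ((Submodule.mem_bot k).1 this)
    have hg0 : g ≠ 0 := fun h => hF0 (by rw [h, mul_zero])
    exact V_ne_bot_of_le Z a (ih g hg hg0) (Nat.le_succ d) hb

omit haZ in
theorem mulLeft_ell_inj : Function.Injective (LinearMap.mulLeft k (ell a)) := by
  intro x y hxy
  exact mul_left_cancel₀ (ell_ne_zero a ha) hxy

theorem In_inf_ker (n : ℕ) :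
    In Z (n + 1) ⊓ LinearMap.ker (del a).toLinearMap =
      (In Z n).map (LinearMap.mulLeft k (ell a)) := by
  apply le_antisymm
  · rintro f ⟨hf, hf0⟩
    obtain ⟨g, hg, rfl⟩ := ker_In Z a ha haZ n f hf hf0
    exact ⟨g, hg, rfl⟩
  · rintro _ ⟨g, hg, rfl⟩
    refine ⟨?_, ?_⟩
    · show ell a * g ∈ In Z (n + 1)
      rw [ell, Finset.sum_mul]
      refine Submodule.sum_mem _ fun i _ => ?_
      rw [mul_assoc, ← MvPolynomial.smul_eq_C_mul]
      exact Submodule.smul_mem _ _ (X_mul_mem_In hg i)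
    · show del a (ell a * g) = 0
      rw [map_mul, del_ell a ha, zero_mul]

theorem finrank_In_succ (n : ℕ) :
    Module.finrank k (In Z (n + 1)) =
      Module.finrank k (V Z a (n + 1)) + Module.finrank k (In Z n) := by
  have h := finrank_map_add_inf_ker (del a).toLinearMap (In Z (n + 1))
  rw [In_inf_ker Z a ha haZ n] at h
  have hfin : Module.finrank k ((In Z n).map (LinearMap.mulLeft k (ell a))) =
      Module.finrank k (In Z n) :=
    (LinearEquiv.finrank_eq
      (Submodule.equivMapOfInjective _ (mulLeft_ell_inj a ha) (In Z n))).symm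
  rw [hfin] at h
  exact h.symm

omit ha haZ in
theorem finrank_In_zero : Module.finrank k (In Z 0) = Module.finrank k (V Z a 0) := by
  have h := finrank_map_add_inf_ker (del a).toLinearMap (In Z 0)
  have hb : In Z 0 ⊓ LinearMap.ker (del a).toLinearMap = ⊥ := by
    rw [eq_bot_iff]
    rintro f ⟨hf, hf0⟩
    exact (Submodule.mem_bot k).2 (ker_In_zero Z a f hf hf0)
  rw [hb, finrank_bot, add_zero] at h
  exact h.symm

/-- `V n + t V n`. -/
noncomputable def W (n : ℕ) : Submodule k (Polynomial k) :=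
  V Z a n ⊔ (V Z a n).map (LinearMap.mulLeft k (Polynomial.X : Polynomial k))

omit ha haZ in
theorem W_le (n : ℕ) : W Z a n ≤ Polynomial.degreeLT k (n + 2) := by
  refine sup_le ?_ ?_
  · intro q hq
    have := V_le Z a n hq
    rw [Polynomial.mem_degreeLT] at this ⊢
    exact this.trans (by exact_mod_cast Nat.lt_succ_self (n + 1))
  · rintro _ ⟨q, hq, rfl⟩
    have := V_le Z a n hq
    rw [Polynomial.mem_degreeLT] at this ⊢
    show (Polynomial.X * q).degree < _
    by_cases hq0 : q = 0
    · rw [hq0, mul_zero, Polynomial.degree_zero]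
      exact WithBot.bot_lt_coe _
    · rw [Polynomial.degree_eq_natDegree hq0] at this
      have h1 : q.natDegree < n + 1 := by exact_mod_cast this
      rw [Polynomial.degree_eq_natDegree (mul_ne_zero Polynomial.X_ne_zero hq0),
        Polynomial.natDegree_X_mul hq0]
      exact_mod_cast Nat.succ_lt_succ h1

omit haZ in
theorem finrank_Mn_ge (n : ℕ) :
    Module.finrank k (W Z a n) + Module.finrank k (In Z n) ≤
      Module.finrank k (Mn Z (n + 1)) := by
  have h := finrank_map_add_inf_ker (del a).toLinearMap (Mn Z (n + 1))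
  have hfinW : Module.Finite k (W Z a n) := Submodule.finiteDimensional_of_le (W_le Z a n)
  have h1 : W Z a n ≤ (Mn Z (n + 1)).map (del a).toLinearMap := by
    refine sup_le ?_ ?_
    · intro q hq
      obtain ⟨f, hf, rfl⟩ := (mem_V Z a).1 hq
      refine ⟨X 1 * f, X_mul_mem_Mn hf 1, ?_⟩
      show del a (X 1 * f) = del a f
      rw [map_mul, del_X1, one_mul]
    · rintro _ ⟨q, hq, rfl⟩
      obtain ⟨f, hf, rfl⟩ := (mem_V Z a).1 hq
      refine ⟨X 2 * f, X_mul_mem_Mn hf 2, ?_⟩
      show del a (X 2 * f) = Polynomial.X * del a f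
      rw [map_mul, del_X2]
  have h2 : (In Z n).map (LinearMap.mulLeft k (ell a)) ≤
      Mn Z (n + 1) ⊓ LinearMap.ker (del a).toLinearMap := by
    rintro _ ⟨g, hg, rfl⟩
    refine ⟨?_, ?_⟩
    · show ell a * g ∈ Mn Z (n + 1)
      rw [ell, Finset.sum_mul]
      refine Submodule.sum_mem _ fun i _ => ?_
      rw [mul_assoc, ← MvPolynomial.smul_eq_C_mul]
      exact Submodule.smul_mem _ _ (X_mul_mem_Mn hg i)
    · show del a (ell a * g) = 0
      rw [map_mul, del_ell a ha, zero_mul]
  have hfin : Module.finrank k ((In Z n).map (LinearMap.mulLeft k (ell a))) =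
      Module.finrank k (In Z n) :=
    (LinearEquiv.finrank_eq
      (Submodule.equivMapOfInjective _ (mulLeft_ell_inj a ha) (In Z n))).symm
  have hfin1 : Module.Finite k ↥((Mn Z (n + 1)).map (del a).toLinearMap) := inferInstance
  have hfin2 : Module.Finite k ↥(Mn Z (n + 1) ⊓ LinearMap.ker (del a).toLinearMap) :=
    Submodule.finiteDimensional_of_le
      (inf_le_left : Mn Z (n + 1) ⊓ LinearMap.ker (del a).toLinearMap ≤ Mn Z (n + 1))
  have h3 := Submodule.finrank_mono h1
  have h4 := Submodule.finrank_mono h2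
  omega

omit ha haZ in
theorem finrank_W_ge (n : ℕ) : Module.finrank k (V Z a n) ≤ Module.finrank k (W Z a n) := by
  have hfinW : Module.Finite k (W Z a n) := Submodule.finiteDimensional_of_le (W_le Z a n)
  exact Submodule.finrank_mono (le_sup_left : V Z a n ≤ W Z a n)

omit ha haZ in
theorem finrank_W_gt (n : ℕ) (hV : V Z a n ≠ ⊥) :
    Module.finrank k (V Z a n) + 1 ≤ Module.finrank k (W Z a n) := by
  have hfinW : Module.Finite k (W Z a n) := Submodule.finiteDimensional_of_le (W_le Z a n)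
  by_contra hcon
  have hle : Module.finrank k (W Z a n) ≤ Module.finrank k (V Z a n) := by omega
  have heq : V Z a n = W Z a n :=
    Submodule.eq_of_le_of_finrank_le (le_sup_left : V Z a n ≤ W Z a n) hle
  have hX : ∀ q ∈ V Z a n, Polynomial.X * q ∈ V Z a n := by
    intro q hq
    rw [heq]
    exact (le_sup_right : _ ≤ W Z a n) ⟨q, hq, rfl⟩
  obtain ⟨v, hv, hv0⟩ := Submodule.exists_mem_ne_zero_of_ne_bot hV
  have hpow : ∀ j : ℕ, Polynomial.X ^ j * v ∈ V Z a n := by
    intro j
    induction j with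
    | zero => simpa using hv
    | succ j ih =>
      rw [pow_succ', mul_assoc]
      exact hX _ ih
  have h1 := V_le Z a n (hpow (n + 1))
  rw [Polynomial.mem_degreeLT] at h1
  have hne : Polynomial.X ^ (n + 1) * v ≠ 0 :=
    mul_ne_zero (pow_ne_zero _ Polynomial.X_ne_zero) hv0
  have h2 := (Polynomial.natDegree_lt_iff_degree_lt hne).2 h1
  rw [Polynomial.natDegree_X_pow_mul (n + 1) hv0] at h2
  omega

theorem count_aux (d : ℕ) (F : MvPolynomial (Fin 3) k) (hF : F ∈ In Z d) (hF0 : F ≠ 0) :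
    ∀ N, (V Z a N ≠ ⊥ → (∑ n ∈ Finset.range (N + 1),
        (Module.finrank k (In Z n) - Module.finrank k (Mn Z n))) + N ≤
          Module.finrank k (V Z a N) + d) ∧
      (V Z a N = ⊥ → (∑ n ∈ Finset.range (N + 1),
        (Module.finrank k (In Z n) - Module.finrank k (Mn Z n))) = 0) := by
  have hVd := V_ne_bot Z a ha haZ d F hF hF0
  intro N
  induction N with
  | zero =>
    rw [Finset.sum_range_one]
    have h0 := finrank_In_zero Z a
    have hM : Module.finrank k (Mn Z 0) = 0 := by
      show Module.finrank k (⊥ : Submodule k (MvPolynomial (Fin 3) k)) = 0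
      exact finrank_bot _ _
    refine ⟨fun _ => by omega, fun hb => ?_⟩
    have : Module.finrank k (V Z a 0) = 0 := by rw [hb]; exact finrank_bot _ _
    omega
  | succ N ih =>
    rw [Finset.sum_range_succ]
    have hI := finrank_In_succ Z a ha haZ N
    have hMge := finrank_Mn_ge Z a ha N
    have hWge := finrank_W_ge Z a N
    have hVle := finrank_V_le Z a (N + 1)
    have hMI := Submodule.finrank_mono (Mn_le_In Z (N + 1))
    refine ⟨fun hne => ?_, fun hb => ?_⟩
    · by_cases hN : V Z a N = ⊥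
      · have hs := ih.2 hN
        have hNd : N + 1 ≤ d := by
          by_contra hcon
          exact V_ne_bot_of_le Z a hVd (by omega : d ≤ N) hN
        omega
      · have hs := ih.1 hN
        have hWgt := finrank_W_gt Z a N hN
        omega
    · have hN : V Z a N = ⊥ := by
        rw [eq_bot_iff, ← hb]; exact V_mono Z a N
      have hs := ih.2 hN
      have : Module.finrank k (V Z a (N + 1)) = 0 := by rw [hb]; exact finrank_bot _ _
      omega

theorem count_of_avoid (d : ℕ) (F : MvPolynomial (Fin 3) k) (hF : F ∈ In Z d) (hF0 : F ≠ 0)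
    (N : ℕ) : ∑ n ∈ Finset.range N,
      (Module.finrank k (In Z n) - Module.finrank k (Mn Z n)) ≤ d + 1 := by
  cases N with
  | zero => simp
  | succ N =>
    have h := count_aux Z a ha haZ d F hF hF0 N
    have hVle := finrank_V_le Z a N
    by_cases hN : V Z a N = ⊥
    · rw [h.2 hN]; omega
    · have := h.1 hN
      omega

end count

/-- the linear functional `a ↦ ∑ a i * p i`. -/
def dotL (p : Fin 3 → k) : (Fin 3 → k) →ₗ[k] k where
  toFun a := ∑ i, a i * p i
  map_add' := by intro a b; simp [add_mul, Finset.sum_add_distrib]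
  map_smul' := by intro c a; simp [Finset.mul_sum, mul_assoc]

theorem exists_avoid [Infinite k] (Z : Finset (Fin 3 → k)) (hZ : ∀ p ∈ Z, p ≠ 0) :
    ∃ a : Fin 3 → k, a 0 ≠ 0 ∧ ∀ p ∈ Z, ∑ i, a i * p i ≠ 0 := by
  classical
  obtain ⟨Z', hZ'⟩ : ∃ Z', Z' = insert (Pi.single 0 1 : Fin 3 → k) Z := ⟨_, rfl⟩
  have hZ'0 : ∀ p ∈ Z', p ≠ 0 := by
    intro p hp
    rw [hZ', Finset.mem_insert] at hp
    rcases hp with rfl | hp
    · intro h
      have := congrFun h 0
      simp at this
    · exact hZ p hp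
  obtain ⟨s, hs⟩ : ∃ s : Finset (Submodule k (Fin 3 → k)),
      s = Z'.image (fun p => LinearMap.ker (dotL p)) := ⟨_, rfl⟩
  have hs' : ⊤ ∉ s := by
    intro h
    rw [hs] at h
    obtain ⟨p, hp, hpt⟩ := Finset.mem_image.1 h
    apply hZ'0 p hp
    funext i
    have : (Pi.single i 1 : Fin 3 → k) ∈ LinearMap.ker (dotL p) := by
      rw [hpt]; exact Submodule.mem_top
    have h2 : dotL p (Pi.single i 1) = 0 := this
    have h3 : dotL p (Pi.single i 1) = p i := by
      show ∑ j, (Pi.single i 1 : Fin 3 → k) j * p j = p i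
      simp [Pi.single_apply]
    rw [h3] at h2
    exact h2
  have hne := Subspace.biUnion_ne_univ_of_top_notMem hs'
  obtain ⟨a, ha⟩ := (Set.ne_univ_iff_exists_notMem _).1 hne
  have ha' : ∀ p ∈ Z', ∑ i, a i * p i ≠ 0 := by
    intro p hp h0
    apply ha
    refine Set.mem_iUnion₂.2 ⟨LinearMap.ker (dotL p), ?_, h0⟩
    rw [hs]
    exact Finset.mem_image.2 ⟨p, hp, rfl⟩
  refine ⟨a, ?_, fun p hp => ha' p (by rw [hZ']; exact Finset.mem_insert_of_mem hp)⟩
  have := ha' (Pi.single 0 1) (by rw [hZ']; exact Finset.mem_insert_self _ _)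
  intro h0
  apply this
  simp [Pi.single_apply, h0]

/-- the count over an infinite field. -/
theorem count [Infinite k] (Z : Finset (Fin 3 → k)) (hZ : ∀ p ∈ Z, p ≠ 0) (d : ℕ)
    (F : MvPolynomial (Fin 3) k) (hF : F ∈ In Z d) (hF0 : F ≠ 0) (N : ℕ) :
    ∑ n ∈ Finset.range N,
      (Module.finrank k (In Z n) - Module.finrank k (Mn Z n)) ≤ d + 1 := by
  obtain ⟨a, ha, haZ⟩ := exists_avoid Z hZ
  exact count_of_avoid Z a ha haZ d F hF hF0 N

end Groth.Agent.H77.Pts
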