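import Groth.Agent.H77.PtsB

set_option autoImplicit false

/-! Transfer of the dimensions of the graded pieces along a field extension. -/

namespace Groth.Agent.H77.Pts

open MvPolynomial

universe u v
variable {k : Type u} [Field k] {K : Type v} [Field K] [Algebra k K]

theorem finrank_span_image {V W ι : Type*} [AddCommGroup V] [Module k V] [AddCommGroup W]
    [Module K W] [Module k W] [IsScalarTower k K W]
    (φ : V →ₗ[k] W) (χ : ι → V →ₗ[k] k) (χ' : ι → W →ₗ[K] K)
    (hχ : ∀ i v, χ' i (φ v) = algebraMap k K (χ i v))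
    (hsep : ∀ v, (∀ i, χ i v = 0) → v = 0)
    (A : Submodule k V) [Module.Finite k A] :
    Module.finrank K (Submodule.span K (φ '' (A : Set V))) = Module.finrank k A := by
  classical
  obtain ⟨b, hb⟩ : ∃ b : Module.Basis (Fin (Module.finrank k A)) k A, b = Module.finBasis k A :=
    ⟨_, rfl⟩
  have hli : LinearIndependent K (fun i => φ (b i : V)) := by
    rw [Fintype.linearIndependent_iff]
    intro c hc i
    rw [← Module.forall_dual_apply_eq_zero_iff k (c i)]
    intro lam
    have hsum : ∑ j, lam (c j) • (b j : V) = 0 := by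
      apply hsep
      intro m
      rw [map_sum]
      simp only [map_smul, smul_eq_mul]
      have h1 : ∑ j, lam (c j) * χ m (b j : V) =
          lam (∑ j, c j * algebraMap k K (χ m (b j : V))) := by
        rw [map_sum]
        refine Finset.sum_congr rfl fun j _ => ?_
        rw [mul_comm (c j), ← Algebra.smul_def, map_smul, smul_eq_mul, mul_comm]
      rw [h1]
      have h2 : ∑ j, c j * algebraMap k K (χ m (b j : V)) = χ' m (∑ j, c j • φ (b j : V)) := by
        rw [map_sum]
        refine Finset.sum_congr rfl fun j _ => ?_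
        rw [map_smul, smul_eq_mul, hχ]
      rw [h2, hc, map_zero, map_zero]
    have hsumA : ∑ j, lam (c j) • b j = 0 := by
      apply Subtype.ext
      rw [Submodule.coe_sum]
      simpa using hsum
    exact Fintype.linearIndependent_iff.1 b.linearIndependent _ hsumA i
  have hspan : Submodule.span K (φ '' (A : Set V)) =
      Submodule.span K (Set.range fun i => φ (b i : V)) := by
    apply le_antisymm
    · refine Submodule.span_le.2 ?_
      rintro _ ⟨v, hv, rfl⟩
      have hv' : (⟨v, hv⟩ : A) = ∑ i, b.repr ⟨v, hv⟩ i • b i := (b.sum_repr _).symm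
      have hv2 : v = ∑ i, b.repr ⟨v, hv⟩ i • (b i : V) := by
        have := congrArg (Subtype.val) hv'
        rw [Submodule.coe_sum] at this
        simpa using this
      rw [hv2, map_sum]
      refine Submodule.sum_mem _ fun i _ => ?_
      rw [map_smul, ← algebraMap_smul K]
      exact Submodule.smul_mem _ _ (Submodule.subset_span ⟨i, rfl⟩)
    · refine Submodule.span_le.2 ?_
      rintro _ ⟨i, rfl⟩
      exact Submodule.subset_span ⟨b i, (b i).2, rfl⟩
  rw [hspan, finrank_span_eq_card hli, Fintype.card_fin]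

/-- base change of polynomials, as a `k`-linear map. -/
noncomputable def mapL : MvPolynomial (Fin 3) k →ₗ[k] MvPolynomial (Fin 3) K :=
  (MvPolynomial.mapAlgHom (Algebra.ofId k K)).toLinearMap

theorem mapL_apply (f : MvPolynomial (Fin 3) k) :
    mapL (K := K) f = map (algebraMap k K) f := rfl

theorem mapL_X_mul (i : Fin 3) (f : MvPolynomial (Fin 3) k) :
    mapL (K := K) (X i * f) = X i * mapL (K := K) f := by
  rw [mapL_apply, mapL_apply, map_mul, map_X]

/-- finrank of extension of scalars of a finite-dimensional space of polynomials. -/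
theorem finrank_ext (A : Submodule k (MvPolynomial (Fin 3) k)) [Module.Finite k A] :
    Module.finrank K (Submodule.span K (mapL (K := K) '' (A : Set (MvPolynomial (Fin 3) k)))) =
      Module.finrank k A := by
  refine finrank_span_image (mapL (K := K)) (fun m => lcoeff k m) (fun m => lcoeff K m) ?_ ?_ A
  · intro m v
    show coeff m (map (algebraMap k K) v) = algebraMap k K (coeff m v)
    rw [coeff_map]
  · intro v hv
    ext m
    exact hv m

/-- evaluation at a family of points. -/
noncomputable def evG {L : Type*} [Field L] {ι : Type*} (P : ι → Fin 3 → L) :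
    MvPolynomial (Fin 3) L →ₗ[L] (ι → L) where
  toFun f j := eval (P j) f
  map_add' f g := by funext j; simp
  map_smul' c f := by funext j; simp [smul_eval]

theorem evG_apply {L : Type*} [Field L] {ι : Type*} (P : ι → Fin 3 → L)
    (f : MvPolynomial (Fin 3) L) (j : ι) : evG P f j = eval (P j) f := rfl

theorem eval_map_alg (p : Fin 3 → k) (f : MvPolynomial (Fin 3) k) :
    eval (fun i => algebraMap k K (p i)) (map (algebraMap k K) f) =
      algebraMap k K (eval p f) := by
  induction f using MvPolynomial.induction_on with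
  | C a => simp
  | add p q hp hq => simp [hp, hq]
  | mul_X p i hp => simp [hp]

/-- the points of `Z` viewed over `K`. -/
noncomputable def ZK (K : Type v) [Field K] [Algebra k K] (Z : Finset (Fin 3 → k)) :
    Finset (Fin 3 → K) := by
  classical exact Z.image (fun p i => algebraMap k K (p i))

theorem mem_ZK {Z : Finset (Fin 3 → k)} {q : Fin 3 → K} :
    q ∈ ZK K Z ↔ ∃ p ∈ Z, (fun i => algebraMap k K (p i)) = q := by
  classical
  unfold ZK
  exact Finset.mem_image

theorem ZK_ne_zero {Z : Finset (Fin 3 → k)} (hZ : ∀ p ∈ Z, p ≠ 0) :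
    ∀ q ∈ ZK K Z, q ≠ 0 := by
  intro q hq h0
  obtain ⟨p, hp, rfl⟩ := mem_ZK.1 hq
  apply hZ p hp
  funext i
  have := congrFun h0 i
  exact (map_eq_zero (algebraMap k K)).1 this

theorem In_eq (Z : Finset (Fin 3 → k)) (n : ℕ) :
    In Z n = homogeneousSubmodule (Fin 3) k n ⊓
      LinearMap.ker (evG (fun p : ↥Z => p.1)) := by
  ext f
  constructor
  · rintro ⟨hf, hz⟩
    refine ⟨hf, ?_⟩
    show evG (fun p : ↥Z => p.1) f = 0
    funext p
    exact hz p.1 p.2
  · rintro ⟨hf, hz⟩
    refine ⟨hf, fun p hp => ?_⟩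
    have := congrFun (show evG (fun p : ↥Z => p.1) f = 0 from hz) ⟨p, hp⟩
    exact this

theorem In_ZK_eq (Z : Finset (Fin 3 → k)) (n : ℕ) :
    In (ZK K Z) n = homogeneousSubmodule (Fin 3) K n ⊓
      LinearMap.ker (evG (fun p : ↥Z => fun i => algebraMap k K (p.1 i))) := by
  ext f
  constructor
  · rintro ⟨hf, hz⟩
    refine ⟨hf, ?_⟩
    show evG (fun p : ↥Z => fun i => algebraMap k K (p.1 i)) f = 0
    funext p
    exact hz _ (mem_ZK.2 ⟨p.1, p.2, rfl⟩)
  · rintro ⟨hf, hz⟩
    refine ⟨hf, fun q hq => ?_⟩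
    obtain ⟨p, hp, rfl⟩ := mem_ZK.1 hq
    have := congrFun
      (show evG (fun p : ↥Z => fun i => algebraMap k K (p.1 i)) f = 0 from hz) ⟨p, hp⟩
    exact this

theorem mapL_mem_In {Z : Finset (Fin 3 → k)} {n : ℕ} {f : MvPolynomial (Fin 3) k}
    (hf : f ∈ In Z n) : mapL (K := K) f ∈ In (ZK K Z) n := by
  refine ⟨hf.1.map _, fun q hq => ?_⟩
  obtain ⟨p, hp, rfl⟩ := mem_ZK.1 hq
  rw [mapL_apply, eval_map_alg, hf.2 p hp, map_zero]

theorem In_ZK (Z : Finset (Fin 3 → k)) (n : ℕ) :
    In (ZK K Z) n =
      Submodule.span K (mapL (K := K) '' (In Z n : Set (MvPolynomial (Fin 3) k))) := by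
  symm
  have hle : Submodule.span K (mapL (K := K) '' (In Z n : Set (MvPolynomial (Fin 3) k))) ≤
      In (ZK K Z) n := by
    refine Submodule.span_le.2 ?_
    rintro _ ⟨f, hf, rfl⟩
    exact mapL_mem_In hf
  refine Submodule.eq_of_le_of_finrank_le hle ?_
  rw [finrank_ext]
  -- dimension count through the evaluation maps
  obtain ⟨evk, hevk⟩ : ∃ e, e = evG (fun p : ↥Z => p.1) := ⟨_, rfl⟩
  obtain ⟨evK, hevK⟩ : ∃ e, e = evG (fun p : ↥Z => fun i => algebraMap k K (p.1 i)) := ⟨_, rfl⟩
  have h1 := finrank_map_add_inf_ker evk (homogeneousSubmodule (Fin 3) k n)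
  have h2 := finrank_map_add_inf_ker evK (homogeneousSubmodule (Fin 3) K n)
  rw [finrank_homog] at h1 h2
  rw [In_ZK_eq Z n, In_eq Z n, ← hevk, ← hevK]
  -- the rank can only go up
  have h3 : Module.finrank k ((homogeneousSubmodule (Fin 3) k n).map evk) ≤
      Module.finrank K ((homogeneousSubmodule (Fin 3) K n).map evK) := by
    have h4 := finrank_span_image (K := K) ((Algebra.linearMap k K).compLeft ↥Z)
      (fun p => LinearMap.proj p) (fun p => LinearMap.proj p) (fun p v => rfl)
      (fun v hv => funext hv) ((homogeneousSubmodule (Fin 3) k n).map evk)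
    rw [← h4]
    refine Submodule.finrank_mono (Submodule.span_le.2 ?_)
    rintro _ ⟨_, ⟨f, hf, rfl⟩, rfl⟩
    refine ⟨map (algebraMap k K) f, IsHomogeneous.map hf _, ?_⟩
    funext p
    rw [hevK, hevk, evG_apply, eval_map_alg]
    rfl
  omega

theorem finrank_In_ZK (Z : Finset (Fin 3 → k)) (n : ℕ) :
    Module.finrank K (In (ZK K Z) n) = Module.finrank k (In Z n) := by
  rw [In_ZK, finrank_ext]

theorem Mn_ZK (Z : Finset (Fin 3 → k)) (n : ℕ) :
    Mn (ZK K Z) n =
      Submodule.span K (mapL (K := K) '' (Mn Z n : Set (MvPolynomial (Fin 3) k))) := by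
  cases n with
  | zero =>
    show (⊥ : Submodule K (MvPolynomial (Fin 3) K)) =
      Submodule.span K (mapL (K := K) ''
        (((⊥ : Submodule k (MvPolynomial (Fin 3) k)) : Set (MvPolynomial (Fin 3) k))))
    rw [Submodule.bot_coe, Set.image_singleton, map_zero, Submodule.span_zero_singleton]
  | succ n =>
    apply le_antisymm
    · show (⨆ i : Fin 3, (In (ZK K Z) n).map (LinearMap.mulLeft K (X i))) ≤ _
      refine iSup_le fun i => ?_
      rintro _ ⟨G, hG, rfl⟩
      rw [SetLike.mem_coe, In_ZK] at hG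
      show X i * G ∈ _
      induction hG using Submodule.span_induction with
      | mem G hG =>
        obtain ⟨g, hg, rfl⟩ := hG
        rw [← mapL_X_mul]
        exact Submodule.subset_span ⟨X i * g, X_mul_mem_Mn hg i, rfl⟩
      | zero => rw [mul_zero]; exact Submodule.zero_mem _
      | add x y _ _ hx hy => rw [mul_add]; exact Submodule.add_mem _ hx hy
      | smul c x _ hx => rw [mul_smul_comm]; exact Submodule.smul_mem _ c hx
    · refine Submodule.span_le.2 ?_
      rintro _ ⟨g, hg, rfl⟩
      have hg' : g ∈ ⨆ i : Fin 3, (In Z n).map (LinearMap.mulLeft k (X i)) := hg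
      show mapL (K := K) g ∈ Mn (ZK K Z) (n + 1)
      refine Submodule.iSup_induction (fun i : Fin 3 => (In Z n).map (LinearMap.mulLeft k (X i)))
        (motive := fun g => mapL (K := K) g ∈ Mn (ZK K Z) (n + 1)) hg' ?_ ?_ ?_
      · rintro i x ⟨g', hg', rfl⟩
        show mapL (K := K) (X i * g') ∈ _
        rw [mapL_X_mul]
        exact X_mul_mem_Mn (mapL_mem_In hg') i
      · show mapL (K := K) 0 ∈ _
        rw [map_zero]; exact Submodule.zero_mem _
      · intro x y hx hy
        show mapL (K := K) (x + y) ∈ _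
        rw [map_add]; exact Submodule.add_mem _ hx hy

theorem finrank_Mn_ZK (Z : Finset (Fin 3 → k)) (n : ℕ) :
    Module.finrank K (Mn (ZK K Z) n) = Module.finrank k (Mn Z n) := by
  rw [Mn_ZK, finrank_ext]

/-- the count over an arbitrary field, by passing to an infinite extension. -/
theorem count_any (K : Type v) [Field K] [Algebra k K] [Infinite K]
    (Z : Finset (Fin 3 → k)) (hZ : ∀ p ∈ Z, p ≠ 0) (d : ℕ)
    (F : MvPolynomial (Fin 3) k) (hF : F ∈ In Z d) (hF0 : F ≠ 0) (N : ℕ) :
    ∑ n ∈ Finset.range N,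
      (Module.finrank k (In Z n) - Module.finrank k (Mn Z n)) ≤ d + 1 := by
  have h := count (ZK K Z) (ZK_ne_zero hZ) d (mapL (K := K) F) (mapL_mem_In hF)
    (by
      rw [mapL_apply]
      exact fun h0 => hF0 (map_injective _ (algebraMap k K).injective (by rw [h0, map_zero])))
    N
  simp only [finrank_In_ZK, finrank_Mn_ZK] at h
  exact h

end Groth.Agent.H77.Pts
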