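import Mathlib

/-!
# Pulling apart a punctual ideal of the plane (helper77) — part 1: coordinates

`A = k[x,y] = MvPolynomial (Fin 2) k`, with `y = X i`, `x = X j`, `i ≠ j`.
`eps : k[t][Z] → A` (`t ↦ y`, `Z ↦ x`), `rho0 : A → k[t][Z]` its inverse,
`pi0 : A → k[T]` (`y ↦ 0`, `x ↦ T`), `iota : k[T] → A` (`T ↦ x`).
-/

set_option autoImplicit false
universe u

namespace Groth.Agent.H77.PullApart

variable {k : Type u} [Field k]

local notation "A" => MvPolynomial (Fin 2) k

lemma fin2_cases {i j : Fin 2} (hij : i ≠ j) (l : Fin 2) : l = i ∨ l = j := by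
  fin_cases i <;> fin_cases j <;> fin_cases l <;> simp_all

/-- `ε : k[t][Z] → A`, `t ↦ X i`, `Z ↦ X j` -/
noncomputable def eps (i j : Fin 2) : Polynomial (Polynomial k) →+* A :=
  Polynomial.eval₂RingHom (Polynomial.eval₂RingHom MvPolynomial.C (MvPolynomial.X i))
    (MvPolynomial.X j)

/-- `ρ₀ : A → k[t][Z]`, `X i ↦ C t`, other variable `↦ Z` -/
noncomputable def rho0 (i : Fin 2) : A →+* Polynomial (Polynomial k) :=
  MvPolynomial.eval₂Hom ((Polynomial.C).comp Polynomial.C)
    (fun l => if l = i then Polynomial.C Polynomial.X else Polynomial.X)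

/-- `π : A → k[T]`, `X i ↦ 0`, other variable `↦ T` -/
noncomputable def pi0 (i : Fin 2) : A →+* Polynomial k :=
  MvPolynomial.eval₂Hom Polynomial.C (fun l => if l = i then 0 else Polynomial.X)

/-- `ι : k[T] → A`, `T ↦ X j` -/
noncomputable def iota (j : Fin 2) : Polynomial k →+* A :=
  Polynomial.eval₂RingHom MvPolynomial.C (MvPolynomial.X j)

@[simp] lemma eps_C_C (i j : Fin 2) (a : k) :
    eps i j (Polynomial.C (Polynomial.C a)) = MvPolynomial.C a := by
  simp [eps]

@[simp] lemma eps_C_X (i j : Fin 2) :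
    eps (k := k) i j (Polynomial.C Polynomial.X) = MvPolynomial.X i := by
  simp [eps]

@[simp] lemma eps_X (i j : Fin 2) : eps (k := k) i j Polynomial.X = MvPolynomial.X j := by
  simp [eps]

@[simp] lemma rho0_C (i : Fin 2) (a : k) :
    rho0 i (MvPolynomial.C a) = Polynomial.C (Polynomial.C a) := by
  simp [rho0]

@[simp] lemma rho0_Xi (i : Fin 2) :
    rho0 (k := k) i (MvPolynomial.X i) = Polynomial.C Polynomial.X := by
  simp [rho0]

lemma rho0_Xj {i j : Fin 2} (hij : i ≠ j) :
    rho0 (k := k) i (MvPolynomial.X j) = Polynomial.X := by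
  simp [rho0, hij.symm]

lemma eps_rho0 {i j : Fin 2} (hij : i ≠ j) (g : A) : eps i j (rho0 i g) = g := by
  have h : (eps (k := k) i j).comp (rho0 i) = RingHom.id A := by
    apply MvPolynomial.ringHom_ext
    · intro a
      simp
    · intro l
      rcases fin2_cases hij l with rfl | rfl
      · simp
      · simp [rho0_Xj hij]
  exact RingHom.congr_fun h g

lemma rho0_eps {i j : Fin 2} (hij : i ≠ j) (H : Polynomial (Polynomial k)) :
    rho0 i (eps i j H) = H := by
  have h : (rho0 (k := k) i).comp (eps i j) = RingHom.id _ := by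
    apply Polynomial.ringHom_ext'
    · apply Polynomial.ringHom_ext'
      · ext a
        simp
      · simp
    · simp [rho0_Xj hij]
  exact RingHom.congr_fun h H

@[simp] lemma pi0_C (i : Fin 2) (a : k) : pi0 i (MvPolynomial.C a) = Polynomial.C a := by
  simp [pi0]

@[simp] lemma pi0_Xi (i : Fin 2) : pi0 (k := k) i (MvPolynomial.X i) = 0 := by
  simp [pi0]

lemma pi0_Xj {i j : Fin 2} (hij : i ≠ j) :
    pi0 (k := k) i (MvPolynomial.X j) = Polynomial.X := by
  simp [pi0, hij.symm]

@[simp] lemma iota_C (j : Fin 2) (a : k) : iota j (Polynomial.C a) = MvPolynomial.C a := by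
  simp [iota]

@[simp] lemma iota_X (j : Fin 2) : iota (k := k) j Polynomial.X = MvPolynomial.X j := by
  simp [iota]

lemma pi0_iota {i j : Fin 2} (hij : i ≠ j) (r : Polynomial k) : pi0 i (iota j r) = r := by
  have h : (pi0 (k := k) i).comp (iota j) = RingHom.id _ := by
    apply Polynomial.ringHom_ext'
    · ext a
      simp
    · simp [pi0_Xj hij]
  exact RingHom.congr_fun h r

lemma pi0_surjective {i j : Fin 2} (hij : i ≠ j) : Function.Surjective (pi0 (k := k) i) :=
  fun r => ⟨iota j r, pi0_iota hij r⟩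

lemma sub_iota_pi0_mem {i j : Fin 2} (hij : i ≠ j) (g : A) :
    g - iota j (pi0 i g) ∈ Ideal.span {(MvPolynomial.X i : A)} := by
  have h : (Ideal.Quotient.mk (Ideal.span {(MvPolynomial.X i : A)})).comp
      ((iota j).comp (pi0 i)) = Ideal.Quotient.mk (Ideal.span {(MvPolynomial.X i : A)}) := by
    apply MvPolynomial.ringHom_ext
    · intro a
      simp
    · intro l
      rcases fin2_cases hij l with rfl | rfl
      · simp only [RingHom.comp_apply, pi0_Xi, map_zero]
        exact (Ideal.Quotient.eq_zero_iff_mem.2 (Ideal.mem_span_singleton_self _)).symm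
      · simp [pi0_Xj hij]
  have h2 := RingHom.congr_fun h g
  rw [RingHom.comp_apply, RingHom.comp_apply] at h2
  exact (Ideal.Quotient.mk_eq_mk_iff_sub_mem _ _).1 h2.symm

lemma mem_span_Xi_of_pi0_eq_zero {i j : Fin 2} (hij : i ≠ j) (g : A) (hg : pi0 i g = 0) :
    g ∈ Ideal.span {(MvPolynomial.X i : A)} := by
  have := sub_iota_pi0_mem hij g
  rwa [hg, map_zero, sub_zero] at this

lemma iota_eq_eps (i j : Fin 2) (r : Polynomial k) :
    iota j r = eps i j (r.map Polynomial.C) := by
  have h : (iota (k := k) j) = (eps i j).comp (Polynomial.mapRingHom Polynomial.C) := by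
    apply Polynomial.ringHom_ext'
    · ext a
      simp
    · simp
  rw [h]
  rfl

/-- `π ∘ ε` is "set `t = 0`" -/
lemma pi0_eps {i j : Fin 2} (hij : i ≠ j) (H : Polynomial (Polynomial k)) :
    pi0 i (eps i j H) = H.map (Polynomial.evalRingHom 0) := by
  have h : (pi0 (k := k) i).comp (eps i j) = Polynomial.mapRingHom (Polynomial.evalRingHom 0) := by
    apply Polynomial.ringHom_ext'
    · apply Polynomial.ringHom_ext'
      · ext a
        simp
      · simp
    · simp [pi0_Xj hij]
  exact RingHom.congr_fun h H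

end Groth.Agent.H77.PullApart
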