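import Mathlib
import Groth.Agent.H77.PullApart1

/-!
# Pulling apart a punctual ideal of the plane (helper77) — part 2: the monic generator
-/

set_option autoImplicit false
universe u

namespace Groth.Agent.H77.PullApart

variable {k : Type u} [Field k]

local notation "A" => MvPolynomial (Fin 2) k

section
variable {i j : Fin 2} (hij : i ≠ j) (𝔞 : Ideal (MvPolynomial (Fin 2) k))

include hij in
lemma exists_pow_eq_map (N : ℕ) (hN : (MvPolynomial.X j : A) ^ N ∈ 𝔞) :
    ∃ s : ℕ, Ideal.map (pi0 i) 𝔞 = Ideal.span {(Polynomial.X : Polynomial k) ^ s} := by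
  set p := Submodule.IsPrincipal.generator (Ideal.map (pi0 i) 𝔞) with hpdef
  have hp : Ideal.map (pi0 i) 𝔞 = Ideal.span {p} := (Ideal.span_singleton_generator _).symm
  have hTN : (Polynomial.X : Polynomial k) ^ N ∈ Ideal.map (pi0 i) 𝔞 := by
    have := Ideal.mem_map_of_mem (pi0 i) hN
    rwa [map_pow, pi0_Xj hij] at this
  rw [hp] at hTN
  have hdvd : p ∣ Polynomial.X ^ N := Ideal.mem_span_singleton.1 hTN
  obtain ⟨s, _, hs⟩ := (dvd_prime_pow Polynomial.prime_X N).1 hdvd
  exact ⟨s, by rw [hp]; exact Ideal.span_singleton_eq_span_singleton.2 hs⟩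

include hij in
lemma decomp0 (s : ℕ) (g₀ : A) (hg₀ : g₀ ∈ 𝔞) (hπ : pi0 i g₀ = Polynomial.X ^ s) (g : A) :
    ∃ r : Polynomial k, r.degree < s ∧ ∃ a ∈ 𝔞, ∃ g' : A,
      g = iota j r + a + MvPolynomial.X i * g' := by
  have hm : ((Polynomial.X : Polynomial k) ^ s).Monic := Polynomial.monic_X_pow s
  refine ⟨pi0 i g %ₘ Polynomial.X ^ s, ?_, iota j (pi0 i g /ₘ Polynomial.X ^ s) * g₀,
    𝔞.mul_mem_left _ hg₀, ?_⟩
  · have := Polynomial.degree_modByMonic_lt (pi0 i g) hm
    rwa [Polynomial.degree_X_pow] at this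
  · have hz : pi0 i (g - iota j (pi0 i g %ₘ Polynomial.X ^ s) -
        iota j (pi0 i g /ₘ Polynomial.X ^ s) * g₀) = 0 := by
      rw [map_sub, map_sub, map_mul, pi0_iota hij, pi0_iota hij, hπ]
      have := Polynomial.modByMonic_add_div (pi0 i g) (q := Polynomial.X ^ s)
      linear_combination (-1 : Polynomial k) * this
    obtain ⟨g', hg'⟩ := Ideal.mem_span_singleton.1 (mem_span_Xi_of_pi0_eq_zero hij _ hz)
    exact ⟨g', by linear_combination hg'⟩

include hij in
lemma decomp (s : ℕ) (g₀ : A) (hg₀ : g₀ ∈ 𝔞) (hπ : pi0 i g₀ = Polynomial.X ^ s) (m : ℕ) (g : A) :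
    ∃ H : Polynomial (Polynomial k), H.degree < s ∧ ∃ a ∈ 𝔞, ∃ g' : A,
      g = eps i j H + a + MvPolynomial.X i ^ m * g' := by
  induction m with
  | zero =>
    refine ⟨0, ?_, 0, 𝔞.zero_mem, g, by simp⟩
    rw [Polynomial.degree_zero]
    exact WithBot.bot_lt_coe s
  | succ m ih =>
    obtain ⟨H, hH, a, ha, g', hg⟩ := ih
    obtain ⟨r, hr, a', ha', g'', hg''⟩ := decomp0 hij 𝔞 s g₀ hg₀ hπ g'
    refine ⟨H + Polynomial.C (Polynomial.X ^ m) * r.map Polynomial.C, ?_,
      a + MvPolynomial.X i ^ m * a', 𝔞.add_mem ha (𝔞.mul_mem_left _ ha'), g'', ?_⟩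
    · refine lt_of_le_of_lt (Polynomial.degree_add_le _ _) (max_lt hH ?_)
      refine lt_of_le_of_lt (Polynomial.degree_mul_le _ _) ?_
      have h1 : (Polynomial.C ((Polynomial.X : Polynomial k) ^ m)).degree ≤ 0 :=
        Polynomial.degree_C_le
      have h2 : (r.map (Polynomial.C : k →+* Polynomial k)).degree ≤ r.degree :=
        Polynomial.degree_map_le
      calc (Polynomial.C ((Polynomial.X : Polynomial k) ^ m)).degree +
            (r.map (Polynomial.C : k →+* Polynomial k)).degree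
          ≤ 0 + r.degree := add_le_add h1 h2
        _ = r.degree := zero_add _
        _ < s := hr
    · have e1 : eps i j (Polynomial.C ((Polynomial.X : Polynomial k) ^ m)) =
          (MvPolynomial.X i : A) ^ m := by
        rw [Polynomial.C_pow, map_pow, eps_C_X]
      rw [hg, hg'', map_add, map_mul, ← iota_eq_eps, e1]
      ring

include hij in
lemma exists_monic (s N : ℕ) (g₀ : A) (hg₀ : g₀ ∈ 𝔞) (hπ : pi0 i g₀ = Polynomial.X ^ s)
    (hmap : Ideal.map (pi0 i) 𝔞 = Ideal.span {(Polynomial.X : Polynomial k) ^ s})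
    (hN : (MvPolynomial.X i : A) ^ N ∈ 𝔞) :
    ∃ G : Polynomial (Polynomial k), G.Monic ∧ G.natDegree = s ∧ eps i j G ∈ 𝔞 ∧
      pi0 i (eps i j G) = Polynomial.X ^ s := by
  obtain ⟨H, hH, a, ha, g', hg⟩ := decomp hij 𝔞 s g₀ hg₀ hπ N ((MvPolynomial.X j : A) ^ s)
  have hmem : eps i j (Polynomial.X ^ s - H) ∈ 𝔞 := by
    have : eps i j (Polynomial.X ^ s - H) = a + MvPolynomial.X i ^ N * g' := by
      rw [map_sub, map_pow, eps_X, hg]
      ring
    rw [this]
    exact 𝔞.add_mem ha (𝔞.mul_mem_right _ hN)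
  refine ⟨Polynomial.X ^ s - H, Polynomial.monic_X_pow_sub hH, ?_, hmem, ?_⟩
  · apply Polynomial.natDegree_eq_of_degree_eq_some
    rw [Polynomial.degree_sub_eq_left_of_degree_lt (by rwa [Polynomial.degree_X_pow]),
      Polynomial.degree_X_pow]
  · rw [pi0_eps hij, Polynomial.map_sub, Polynomial.map_pow, Polynomial.map_X]
    have hin : pi0 i (eps i j (Polynomial.X ^ s - H)) ∈
        Ideal.span {(Polynomial.X : Polynomial k) ^ s} := hmap ▸ Ideal.mem_map_of_mem _ hmem
    rw [pi0_eps hij, Polynomial.map_sub, Polynomial.map_pow, Polynomial.map_X] at hin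
    have hd : (Polynomial.X : Polynomial k) ^ s ∣ H.map (Polynomial.evalRingHom 0) := by
      have h1 := Ideal.mem_span_singleton.1 hin
      have h2 := dvd_sub (dvd_refl ((Polynomial.X : Polynomial k) ^ s)) h1
      simpa using h2
    have hdeg : (H.map (Polynomial.evalRingHom (0 : k))).degree <
        ((Polynomial.X : Polynomial k) ^ s).degree := by
      rw [Polynomial.degree_X_pow]
      exact lt_of_le_of_lt Polynomial.degree_map_le hH
    rw [Polynomial.eq_zero_of_dvd_of_degree_lt hd hdeg, sub_zero]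

include hij in
lemma exists_eq_of_mem (s : ℕ)
    (hmap : Ideal.map (pi0 i) 𝔞 = Ideal.span {(Polynomial.X : Polynomial k) ^ s})
    (f₀ : A) (hf₀π : pi0 i f₀ = Polynomial.X ^ s) (g : A) (hg : g ∈ 𝔞) :
    ∃ q r : A, g = q * f₀ + r * MvPolynomial.X i := by
  have h1 : pi0 i g ∈ Ideal.span {(Polynomial.X : Polynomial k) ^ s} :=
    hmap ▸ Ideal.mem_map_of_mem _ hg
  obtain ⟨q', hq'⟩ := Ideal.mem_span_singleton.1 h1
  have hz : pi0 i (g - iota j q' * f₀) = 0 := by
    rw [map_sub, map_mul, pi0_iota hij, hf₀π, hq']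
    ring
  obtain ⟨r, hr⟩ := Ideal.mem_span_singleton.1 (mem_span_Xi_of_pi0_eq_zero hij _ hz)
  exact ⟨iota j q', r, by linear_combination hr⟩

end

end Groth.Agent.H77.PullApart
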