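import Mathlib
import Groth.Agent.H77.PullApart2

/-!
# Pulling apart a punctual ideal of the plane (helper77) — part 3: the family, flat and finite
-/

set_option autoImplicit false
universe u

namespace Groth.Agent.H77.PullApart

variable {k : Type u} [Field k]

local notation "A" => MvPolynomial (Fin 2) k

/-- `ρ : A[X] → k[t][Z]`, `X ↦ C t`, on `A` it is `rho0` -/
noncomputable def rho (i : Fin 2) : Polynomial A →+* Polynomial (Polynomial k) :=
  Polynomial.eval₂RingHom (rho0 i) (Polynomial.C Polynomial.X)

/-- `ι' : k[t][Z] → A[X]`, `t ↦ X`, `Z ↦ C (X j)` -/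
noncomputable def iota' (j : Fin 2) : Polynomial (Polynomial k) →+* Polynomial A :=
  Polynomial.eval₂RingHom (Polynomial.mapRingHom (MvPolynomial.C : k →+* A))
    (Polynomial.C (MvPolynomial.X j))

@[simp] lemma rho_C (i : Fin 2) (g : A) : rho i (Polynomial.C g) = rho0 i g := by
  simp [rho]

@[simp] lemma rho_X (i : Fin 2) :
    rho (k := k) i Polynomial.X = Polynomial.C Polynomial.X := by
  simp [rho]

lemma rho_map (i : Fin 2) (p : Polynomial k) :
    rho i (p.map (algebraMap k A)) = Polynomial.C p := by
  have h : (rho (k := k) i).comp (Polynomial.mapRingHom (algebraMap k A)) = Polynomial.C := by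
    apply Polynomial.ringHom_ext'
    · ext a
      simp [MvPolynomial.algebraMap_eq]
    · simp
  exact RingHom.congr_fun h p

@[simp] lemma iota'_C_C (j : Fin 2) (a : k) :
    iota' j (Polynomial.C (Polynomial.C a)) = Polynomial.C (MvPolynomial.C a) := by
  simp [iota']

@[simp] lemma iota'_C_X (j : Fin 2) :
    iota' (k := k) j (Polynomial.C Polynomial.X) = Polynomial.X := by
  simp [iota']

@[simp] lemma iota'_X (j : Fin 2) :
    iota' (k := k) j Polynomial.X = Polynomial.C (MvPolynomial.X j) := by
  simp [iota']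

lemma sub_iota'_rho_mem {i j : Fin 2} (hij : i ≠ j) (F : Polynomial A) :
    F - iota' j (rho i F) ∈
      Ideal.span {(Polynomial.C (MvPolynomial.X i) - Polynomial.X : Polynomial A)} := by
  set I := Ideal.span {(Polynomial.C (MvPolynomial.X i) - Polynomial.X : Polynomial A)} with hI
  have hX : Ideal.Quotient.mk I (Polynomial.X) =
      Ideal.Quotient.mk I (Polynomial.C (MvPolynomial.X i)) := by
    apply (Ideal.Quotient.mk_eq_mk_iff_sub_mem _ _).2
    have := Ideal.mem_span_singleton_self
      (Polynomial.C (MvPolynomial.X i) - Polynomial.X : Polynomial A)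
    rw [← neg_sub]
    exact I.neg_mem this
  have h : (Ideal.Quotient.mk I).comp ((iota' j).comp (rho i)) = Ideal.Quotient.mk I := by
    apply Polynomial.ringHom_ext'
    · apply MvPolynomial.ringHom_ext
      · intro a
        simp
      · intro l
        rcases fin2_cases hij l with rfl | rfl
        · simp [hX]
        · simp [rho0_Xj hij]
    · simp
  have h2 := RingHom.congr_fun h F
  rw [RingHom.comp_apply, RingHom.comp_apply] at h2
  exact (Ideal.Quotient.mk_eq_mk_iff_sub_mem _ _).1 h2.symm

/-- `Φ : A[X] → k[t][Z]/(G)` -/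
noncomputable def Phi (i : Fin 2) (G : Polynomial (Polynomial k)) :
    Polynomial A →+* AdjoinRoot G :=
  (AdjoinRoot.mk G).comp (rho i)

lemma ker_Phi {i j : Fin 2} (hij : i ≠ j) (G : Polynomial (Polynomial k)) :
    RingHom.ker (Phi i G) =
      Ideal.span {Polynomial.C (eps i j G),
        (Polynomial.C (MvPolynomial.X i) - Polynomial.X : Polynomial A)} := by
  set J := Ideal.span {Polynomial.C (eps i j G),
        (Polynomial.C (MvPolynomial.X i) - Polynomial.X : Polynomial A)} with hJ
  have hIJ : Ideal.span {(Polynomial.C (MvPolynomial.X i) - Polynomial.X : Polynomial A)} ≤ J :=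
    Ideal.span_mono (by simp)
  apply le_antisymm
  · intro F hF
    have hF' : AdjoinRoot.mk G (rho i F) = 0 := hF
    obtain ⟨H', hH'⟩ := AdjoinRoot.mk_eq_zero.1 hF'
    have h1 : F - iota' j (rho i F) ∈ J := hIJ (sub_iota'_rho_mem hij F)
    have h2 : Polynomial.C (eps i j G) - iota' j G ∈ J := by
      have := sub_iota'_rho_mem hij (Polynomial.C (eps i j G))
      rw [rho_C, rho0_eps hij] at this
      exact hIJ this
    have h3 : iota' j G ∈ J := by
      have e : iota' j G = Polynomial.C (eps i j G) - (Polynomial.C (eps i j G) - iota' j G) := by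
        ring
      rw [e]
      exact J.sub_mem (Ideal.subset_span (by simp)) h2
    have e : F = (F - iota' j (rho i F)) + iota' j G * iota' j H' := by
      rw [hH', map_mul]
      ring
    rw [e]
    exact J.add_mem h1 (J.mul_mem_right _ h3)
  · rw [hJ, Ideal.span_le]
    rintro F (rfl | rfl)
    · show AdjoinRoot.mk G (rho i (Polynomial.C (eps i j G))) = 0
      rw [rho_C, rho0_eps hij, AdjoinRoot.mk_self]
    · show AdjoinRoot.mk G (rho i (Polynomial.C (MvPolynomial.X i) - Polynomial.X)) = 0
      rw [map_sub, rho_C, rho0_Xi, rho_X, sub_self, map_zero]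

/-- the family ideal -/
noncomputable def fam (i j : Fin 2) (𝔟 : Ideal (MvPolynomial (Fin 2) k))
    (G : Polynomial (Polynomial k)) : Ideal (Polynomial A) :=
  Ideal.span {Polynomial.C (eps i j G)} ⊔
    Ideal.map Polynomial.C 𝔟 *
      Ideal.span {(Polynomial.C (MvPolynomial.X i) - Polynomial.X : Polynomial A)}

lemma fam_eq_inf (i j : Fin 2) (𝔟 : Ideal (MvPolynomial (Fin 2) k))
    (G : Polynomial (Polynomial k)) (hf₀ : eps i j G ∈ 𝔟) :
    fam i j 𝔟 G = Ideal.map Polynomial.C 𝔟 ⊓
      Ideal.span {Polynomial.C (eps i j G),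
        (Polynomial.C (MvPolynomial.X i) - Polynomial.X : Polynomial A)} := by
  apply le_antisymm
  · apply sup_le
    · rw [Ideal.span_le, Set.singleton_subset_iff]
      exact ⟨Ideal.mem_map_of_mem _ hf₀, Ideal.subset_span (by simp)⟩
    · exact le_trans Ideal.mul_le_inf (inf_le_inf le_rfl (Ideal.span_mono (by simp)))
  · rintro F ⟨hF1, hF2⟩
    obtain ⟨α, β, rfl⟩ := Ideal.mem_span_pair.1 hF2
    have hβ : β ∈ Ideal.map Polynomial.C 𝔟 := by
      have h1 : β * (Polynomial.C (MvPolynomial.X i) - Polynomial.X) ∈
          Ideal.map (Polynomial.C : A →+* Polynomial A) 𝔟 := by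
        have e : β * (Polynomial.C (MvPolynomial.X i) - Polynomial.X) =
            (α * Polynomial.C (eps i j G) +
              β * (Polynomial.C (MvPolynomial.X i) - Polynomial.X)) -
            α * Polynomial.C (eps i j G) := by ring
        rw [e]
        exact Ideal.sub_mem _ hF1 (Ideal.mul_mem_left _ _ (Ideal.mem_map_of_mem _ hf₀))
      have hk : RingHom.ker (Polynomial.mapRingHom (Ideal.Quotient.mk 𝔟)) =
          Ideal.map (Polynomial.C : A →+* Polynomial A) 𝔟 := by
        rw [Polynomial.ker_mapRingHom, Ideal.mk_ker]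
      rw [← hk, RingHom.mem_ker] at h1 ⊢
      rw [map_mul] at h1
      have hm : (Polynomial.X -
          Polynomial.C (Ideal.Quotient.mk 𝔟 (MvPolynomial.X i))).Monic :=
        Polynomial.monic_X_sub_C _
      have h2 : Polynomial.mapRingHom (Ideal.Quotient.mk 𝔟)
          (Polynomial.C (MvPolynomial.X i) - Polynomial.X) =
          -(Polynomial.X - Polynomial.C (Ideal.Quotient.mk 𝔟 (MvPolynomial.X i))) := by
        simp
      rw [h2, mul_neg, neg_eq_zero] at h1
      exact hm.mul_left_eq_zero_iff.1 h1
    unfold fam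
    exact Ideal.add_mem _
      (Ideal.mem_sup_left (Ideal.mul_mem_left _ _ (Ideal.subset_span rfl)))
      (Ideal.mem_sup_right (Ideal.mul_mem_mul hβ (Ideal.subset_span rfl)))

end Groth.Agent.H77.PullApart
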