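import Mathlib
import Groth.Agent.H77.PullApart3

/-!
# Pulling apart a punctual ideal of the plane (helper77) — part 4: flat and finite
-/

set_option autoImplicit false
universe u

namespace Groth.Agent.H77.PullApart

variable {k : Type u} [Field k]

local notation "A" => MvPolynomial (Fin 2) k

attribute [local instance] Polynomial.algebra

set_option maxHeartbeats 800000 in
theorem fam_flat_finite {i j : Fin 2} (hij : i ≠ j) (𝔟 : Ideal (MvPolynomial (Fin 2) k))
    (G : Polynomial (Polynomial k)) (hG : G.Monic) (hf₀ : eps i j G ∈ 𝔟)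
    [Module.Finite k (A ⧸ 𝔟)] :
    @RingHom.Flat (Polynomial k) (Polynomial A ⧸ fam i j 𝔟 G) _ _
      ((Ideal.Quotient.mk (fam i j 𝔟 G)).comp
        (Polynomial.mapRingHom (algebraMap k A))) ∧
    @RingHom.Finite (Polynomial k) (Polynomial A ⧸ fam i j 𝔟 G) _ _
      ((Ideal.Quotient.mk (fam i j 𝔟 G)).comp
        (Polynomial.mapRingHom (algebraMap k A))) := by
  let φ₁ : Polynomial A →+* Polynomial (A ⧸ 𝔟) := Polynomial.mapRingHom (Ideal.Quotient.mk 𝔟)
  let Ψ : Polynomial A →+* Polynomial (A ⧸ 𝔟) × AdjoinRoot G := φ₁.prod (Phi i G)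
  have hk : RingHom.ker φ₁ = Ideal.map (Polynomial.C : A →+* Polynomial A) 𝔟 := by
    rw [Polynomial.ker_mapRingHom, Ideal.mk_ker]
  have hker : RingHom.ker Ψ = fam i j 𝔟 G := by
    rw [fam_eq_inf i j 𝔟 G hf₀, ← hk, ← ker_Phi hij G]
    ext F
    simp only [RingHom.mem_ker, Ideal.mem_inf]
    exact Prod.mk_eq_zero
  letI : Algebra (Polynomial k) (Polynomial A ⧸ fam i j 𝔟 G) :=
    @RingHom.toAlgebra (Polynomial k) (Polynomial A ⧸ fam i j 𝔟 G) _ _
      ((Ideal.Quotient.mk (fam i j 𝔟 G)).comp (Polynomial.mapRingHom (algebraMap k A)))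
  let L : (Polynomial A ⧸ fam i j 𝔟 G) →+* Polynomial (A ⧸ 𝔟) × AdjoinRoot G :=
    Ideal.Quotient.lift (fam i j 𝔟 G) Ψ (fun a ha => by
      rw [← RingHom.mem_ker, hker]
      exact ha)
  have hLinj : Function.Injective L := by
    rw [injective_iff_map_eq_zero]
    intro q hq
    obtain ⟨F, rfl⟩ := Ideal.Quotient.mk_surjective q
    rw [Ideal.Quotient.lift_mk] at hq
    rw [Ideal.Quotient.eq_zero_iff_mem, ← hker]
    exact RingHom.mem_ker.2 hq
  have hLalg : ∀ p : Polynomial k,
      L (Ideal.Quotient.mk (fam i j 𝔟 G) (p.map (algebraMap k A))) =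
      algebraMap (Polynomial k) (Polynomial (A ⧸ 𝔟) × AdjoinRoot G) p := by
    intro p
    rw [Ideal.Quotient.lift_mk]
    apply Prod.ext
    · show (p.map (algebraMap k A)).map (Ideal.Quotient.mk 𝔟) = _
      rw [Polynomial.map_map]
      rfl
    · show AdjoinRoot.mk G (rho i (p.map (algebraMap k A))) = _
      rw [rho_map]
      rfl
  have hsmul : ∀ (p : Polynomial k) (q : Polynomial A ⧸ fam i j 𝔟 G),
      L (p • q) = p • L q := by
    intro p q
    have e : p • q = Ideal.Quotient.mk (fam i j 𝔟 G) (p.map (algebraMap k A)) * q := rfl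
    rw [e, map_mul, hLalg, Algebra.smul_def]
  haveI : Module.Free (Polynomial k) (AdjoinRoot G) := hG.free_adjoinRoot
  haveI : Module.Finite (Polynomial k) (AdjoinRoot G) := hG.finite_adjoinRoot
  have ibc : IsBaseChange (Polynomial k)
      (IsScalarTower.toAlgHom k (A ⧸ 𝔟) (Polynomial (A ⧸ 𝔟))).toLinearMap :=
    (inferInstance : Algebra.IsPushout k (Polynomial k) (A ⧸ 𝔟) (Polynomial (A ⧸ 𝔟))).out
  let b := Module.finBasis k (A ⧸ 𝔟)
  haveI : Module.Free (Polynomial k) (Polynomial (A ⧸ 𝔟)) := Module.Free.of_basis (ibc.basis b)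
  haveI : Module.Finite (Polynomial k) (Polynomial (A ⧸ 𝔟)) :=
    Module.Finite.of_basis (ibc.basis b)
  constructor
  · show Module.Flat (Polynomial k) (Polynomial A ⧸ fam i j 𝔟 G)
    haveI : Module.IsTorsionFree (Polynomial k) (Polynomial A ⧸ fam i j 𝔟 G) :=
      Function.Injective.moduleIsTorsionFree L hLinj hsmul
    infer_instance
  · show Module.Finite (Polynomial k) (Polynomial A ⧸ fam i j 𝔟 G)
    let Ll : (Polynomial A ⧸ fam i j 𝔟 G) →ₗ[Polynomial k]
        Polynomial (A ⧸ 𝔟) × AdjoinRoot G :=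
      { toFun := L, map_add' := map_add L, map_smul' := hsmul }
    exact Module.Finite.of_injective Ll hLinj

end Groth.Agent.H77.PullApart
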