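import Mathlib
import Groth.Agent.H77.PullApart4

/-!
# Pulling apart a punctual ideal of the plane (helper77) — part 5: assembly
-/

set_option autoImplicit false
universe u

namespace Groth.Agent.H77.PullApart

variable {k : Type u} [Field k]

local notation "A" => MvPolynomial (Fin 2) k

lemma sub_C_eval_mem (p : Fin 2 → k) (g : A) :
    g - MvPolynomial.C (MvPolynomial.eval p g) ∈
      Ideal.span (Set.range (fun l : Fin 2 => (MvPolynomial.X l - MvPolynomial.C (p l) : A))) := by
  set I := Ideal.span (Set.range (fun l : Fin 2 => (MvPolynomial.X l - MvPolynomial.C (p l) : A)))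
    with hI
  have h : (Ideal.Quotient.mk I).comp ((MvPolynomial.C).comp (MvPolynomial.eval p)) =
      Ideal.Quotient.mk I := by
    apply MvPolynomial.ringHom_ext
    · intro a
      simp
    · intro l
      simp only [RingHom.comp_apply, MvPolynomial.eval_X]
      apply (Ideal.Quotient.mk_eq_mk_iff_sub_mem _ _).2
      have : (MvPolynomial.X l - MvPolynomial.C (p l) : A) ∈ I := Ideal.subset_span ⟨l, rfl⟩
      rw [← neg_sub]
      exact I.neg_mem this
  have h2 := RingHom.congr_fun h g
  rw [RingHom.comp_apply, RingHom.comp_apply] at h2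
  exact (Ideal.Quotient.mk_eq_mk_iff_sub_mem _ _).1 h2.symm

lemma span_X_eq : Ideal.span {(MvPolynomial.X 0 : A), MvPolynomial.X 1} =
    Ideal.span (Set.range (fun l : Fin 2 =>
      (MvPolynomial.X l - MvPolynomial.C ((0 : Fin 2 → k) l) : A))) := by
  apply le_antisymm
  · rw [Ideal.span_le]
    rintro x (rfl | rfl)
    · exact Ideal.subset_span ⟨0, by simp⟩
    · exact Ideal.subset_span ⟨1, by simp⟩
  · rw [Ideal.span_le]
    rintro x ⟨l, rfl⟩
    fin_cases l
    · exact Ideal.subset_span (by simp)
    · exact Ideal.subset_span (by simp)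

lemma sub_C_eval_zero_mem (g : A) :
    g - MvPolynomial.C (MvPolynomial.eval (0 : Fin 2 → k) g) ∈
      Ideal.span {(MvPolynomial.X 0 : A), MvPolynomial.X 1} := by
  rw [span_X_eq]
  exact sub_C_eval_mem 0 g

lemma X_mem_span (l : Fin 2) :
    (MvPolynomial.X l : A) ∈ Ideal.span {(MvPolynomial.X 0 : A), MvPolynomial.X 1} := by
  fin_cases l
  · exact Ideal.subset_span (by simp)
  · exact Ideal.subset_span (by simp)

/-- the colon ideal `(𝔞 : y)` -/
def colonIdeal (𝔞 : Ideal (MvPolynomial (Fin 2) k)) (y : MvPolynomial (Fin 2) k) :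
    Ideal (MvPolynomial (Fin 2) k) where
  carrier := {b | b * y ∈ 𝔞}
  add_mem' := by
    intro a b ha hb
    simp only [Set.mem_setOf_eq, add_mul] at *
    exact 𝔞.add_mem ha hb
  zero_mem' := by simp
  smul_mem' := by
    intro c b hb
    simp only [Set.mem_setOf_eq, smul_eq_mul, mul_assoc] at *
    exact 𝔞.mul_mem_left c hb

lemma mem_colonIdeal {𝔞 : Ideal (MvPolynomial (Fin 2) k)} {y b : MvPolynomial (Fin 2) k} :
    b ∈ colonIdeal 𝔞 y ↔ b * y ∈ 𝔞 := Iff.rfl

lemma eval_eps (i j : Fin 2) (hij : i ≠ j) (c a : k) (G : Polynomial (Polynomial k)) :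
    MvPolynomial.eval (fun l => if l = i then c else a) (eps i j G) =
      (G.map (Polynomial.evalRingHom c)).eval a := by
  have h : (MvPolynomial.eval (fun l => if l = i then c else a)).comp (eps (k := k) i j) =
      (Polynomial.evalRingHom a).comp (Polynomial.mapRingHom (Polynomial.evalRingHom c)) := by
    apply Polynomial.ringHom_ext'
    · apply Polynomial.ringHom_ext'
      · ext b
        simp
      · simp
    · simp [hij.symm]
  exact RingHom.congr_fun h G

lemma map_eval_fam (i j : Fin 2) (𝔟 : Ideal (MvPolynomial (Fin 2) k))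
    (G : Polynomial (Polynomial k)) (c' : A) :
    Ideal.map (Polynomial.evalRingHom c') (fam i j 𝔟 G) =
      Ideal.span {eps i j G} ⊔ 𝔟 * Ideal.span {(MvPolynomial.X i : A) - c'} := by
  have hid : (Polynomial.evalRingHom c').comp (Polynomial.C : A →+* Polynomial A) =
      RingHom.id A := by
    ext x <;> simp
  unfold fam
  rw [Ideal.map_sup, Ideal.map_mul, Ideal.map_span, Ideal.map_span, Ideal.map_map, hid,
    Ideal.map_id, Set.image_singleton, Set.image_singleton]
  simp

end Groth.Agent.H77.PullApart
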