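import Mathlib
import Groth.Agent.H77.PullApart5

/-!
# Pulling apart a punctual ideal of the plane (helper77) — part 6: main theorem
-/

set_option autoImplicit false
universe u

namespace Groth.Agent.H77.PullApart

variable {k : Type u} [Field k]

local notation "A" => MvPolynomial (Fin 2) k

set_option maxHeartbeats 1000000 in
theorem main [IsAlgClosed k]
    (𝔞 : Ideal (MvPolynomial (Fin 2) k)) [Module.Finite k (MvPolynomial (Fin 2) k ⧸ 𝔞)]
    (hn : 2 ≤ Module.finrank k (MvPolynomial (Fin 2) k ⧸ 𝔞))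
    (hsupp : 𝔞.radical = Ideal.span {MvPolynomial.X 0, MvPolynomial.X 1}) :
    ∃ 𝔞' : Ideal (Polynomial (MvPolynomial (Fin 2) k)),
      @RingHom.Flat (Polynomial k) (Polynomial A ⧸ 𝔞') _ _
        ((Ideal.Quotient.mk 𝔞').comp (Polynomial.mapRingHom (algebraMap k A))) ∧
      @RingHom.Finite (Polynomial k) (Polynomial A ⧸ 𝔞') _ _
        ((Ideal.Quotient.mk 𝔞').comp (Polynomial.mapRingHom (algebraMap k A))) ∧
      Ideal.map (Polynomial.evalRingHom (0 : A)) 𝔞' = 𝔞 ∧
      ∀ c : k, c ≠ 0 →
        Ideal.map (Polynomial.evalRingHom (MvPolynomial.C c)) 𝔞' ≤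
          Ideal.span {MvPolynomial.X 0, MvPolynomial.X 1} ∧
        ∃ p : Fin 2 → k, p ≠ 0 ∧
          Ideal.map (Polynomial.evalRingHom (MvPolynomial.C c)) 𝔞' ≤
            Ideal.span (Set.range (fun i : Fin 2 =>
              (MvPolynomial.X i - MvPolynomial.C (p i) : A))) := by
  classical
  have hle0 : 𝔞 ≤ Ideal.span {(MvPolynomial.X 0 : A), MvPolynomial.X 1} := by
    rw [← hsupp]
    exact Ideal.le_radical
  have hex : ∃ i : Fin 2, (MvPolynomial.X i : A) ∉ 𝔞 := by
    by_contra hcon
    push Not at hcon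
    have hm : Ideal.span {(MvPolynomial.X 0 : A), MvPolynomial.X 1} ≤ 𝔞 := by
      rw [Ideal.span_le]
      rintro x (rfl | rfl)
      · exact hcon 0
      · exact hcon 1
    have h1 : Module.finrank k (A ⧸ 𝔞) ≤ 1 := by
      apply finrank_le_one (1 : A ⧸ 𝔞)
      intro w
      obtain ⟨g, rfl⟩ := Ideal.Quotient.mk_surjective w
      refine ⟨MvPolynomial.eval 0 g, ?_⟩
      have hg := hm (sub_C_eval_zero_mem g)
      have e : Ideal.Quotient.mk 𝔞 g =
          Ideal.Quotient.mk 𝔞 (MvPolynomial.C (MvPolynomial.eval 0 g)) :=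
        (Ideal.Quotient.mk_eq_mk_iff_sub_mem _ _).2 hg
      have h2 : (MvPolynomial.eval 0 g) • (1 : A ⧸ 𝔞) =
          Ideal.Quotient.mk 𝔞 (MvPolynomial.C (MvPolynomial.eval 0 g)) := by
        have h3 : (MvPolynomial.eval 0 g) • (1 : A ⧸ 𝔞) =
            Ideal.Quotient.mk 𝔞 ((MvPolynomial.eval 0 g) • (1 : A)) := rfl
        rw [h3, MvPolynomial.smul_eq_C_mul, mul_one]
      rw [h2, e]
    omega
  obtain ⟨i, hi⟩ := hex
  obtain ⟨j, hij⟩ : ∃ j : Fin 2, i ≠ j := by
    fin_cases i
    · exact ⟨1, by decide⟩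
    · exact ⟨0, by decide⟩
  have hrad : ∀ l : Fin 2, ∃ N, (MvPolynomial.X l : A) ^ N ∈ 𝔞 := fun l => by
    have : (MvPolynomial.X l : A) ∈ 𝔞.radical := by
      rw [hsupp]
      exact X_mem_span l
    exact Ideal.mem_radical_iff.1 this
  obtain ⟨N₁, hN₁⟩ := hrad j
  obtain ⟨N₂, hN₂⟩ := hrad i
  obtain ⟨s, hmap⟩ := exists_pow_eq_map hij 𝔞 N₁ hN₁
  obtain ⟨g₀, hg₀, hπ⟩ : ∃ g₀ ∈ 𝔞, pi0 i g₀ = Polynomial.X ^ s := by
    have : (Polynomial.X : Polynomial k) ^ s ∈ Ideal.map (pi0 i) 𝔞 := by
      rw [hmap]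
      exact Ideal.mem_span_singleton_self _
    exact (Ideal.mem_map_iff_of_surjective (pi0 i) (pi0_surjective hij)).1 this
  obtain ⟨G, hG, hdeg, hf₀, hf₀π⟩ := exists_monic hij 𝔞 s N₂ g₀ hg₀ hπ hmap hN₂
  have hb1 : 𝔞 ≤ colonIdeal 𝔞 (MvPolynomial.X i) := fun a ha => 𝔞.mul_mem_right _ ha
  have hb2 : (1 : A) ∉ colonIdeal 𝔞 (MvPolynomial.X i) := by
    intro h
    apply hi
    have := mem_colonIdeal.1 h
    rwa [one_mul] at this
  have hb3 : colonIdeal 𝔞 (MvPolynomial.X i) ≤
      Ideal.span {(MvPolynomial.X 0 : A), MvPolynomial.X 1} := by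
    intro b hb
    have hm0 : b - MvPolynomial.C (MvPolynomial.eval 0 b) ∈
        Ideal.span {(MvPolynomial.X 0 : A), MvPolynomial.X 1} := sub_C_eval_zero_mem b
    by_cases h0 : MvPolynomial.eval (0 : Fin 2 → k) b = 0
    · rw [h0, map_zero, sub_zero] at hm0
      exact hm0
    · exfalso
      obtain ⟨N, hN⟩ : ∃ N, (b - MvPolynomial.C (MvPolynomial.eval 0 b)) ^ N ∈ 𝔞 := by
        have : b - MvPolynomial.C (MvPolynomial.eval 0 b) ∈ 𝔞.radical := by
          rw [hsupp]
          exact hm0
        exact Ideal.mem_radical_iff.1 this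
      generalize hβ : MvPolynomial.eval (0 : Fin 2 → k) b = β at *
      generalize hmdef : b - MvPolynomial.C β = m at *
      have hdvd : b ∣ (MvPolynomial.C β : A) ^ N - (-m) ^ N := by
        have := sub_dvd_pow_sub_pow (MvPolynomial.C β : A) (-m) N
        have e : (MvPolynomial.C β : A) - -m = b := by
          rw [← hmdef]
          ring
        rwa [e] at this
      obtain ⟨u, hu⟩ := hdvd
      apply hi
      have h1 : (MvPolynomial.C β : A) ^ N * MvPolynomial.X i ∈ 𝔞 := by
        have e : (MvPolynomial.C β : A) ^ N * MvPolynomial.X i =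
            u * (b * MvPolynomial.X i) + (-1) ^ N * (m ^ N * MvPolynomial.X i) := by
          have e2 : (MvPolynomial.C β : A) ^ N = b * u + (-m) ^ N := by
            rw [← hu]
            ring
          rw [e2, neg_pow]
          ring
        rw [e]
        exact 𝔞.add_mem (𝔞.mul_mem_left _ (mem_colonIdeal.1 hb))
          (𝔞.mul_mem_left _ (𝔞.mul_mem_right _ hN))
      have h2 : (MvPolynomial.C (β⁻¹ ^ N) : A) *
          ((MvPolynomial.C β : A) ^ N * MvPolynomial.X i) = MvPolynomial.X i := by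
        rw [← mul_assoc, ← map_pow, ← map_mul, ← mul_pow, inv_mul_cancel₀ h0, one_pow, map_one,
          one_mul]
      rw [← h2]
      exact 𝔞.mul_mem_left _ h1
  haveI : Module.Finite k (A ⧸ colonIdeal 𝔞 (MvPolynomial.X i)) :=
    Module.Finite.of_surjective (Ideal.Quotient.factorₐ k hb1).toLinearMap
      (Ideal.Quotient.factor_surjective hb1)
  obtain ⟨hflat, hfin⟩ :=
    fam_flat_finite hij (colonIdeal 𝔞 (MvPolynomial.X i)) G hG (hb1 hf₀)
  refine ⟨fam i j (colonIdeal 𝔞 (MvPolynomial.X i)) G, hflat, hfin, ?_, ?_⟩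
  · rw [map_eval_fam, sub_zero]
    apply le_antisymm
    · apply sup_le
      · rw [Ideal.span_le, Set.singleton_subset_iff]
        exact hf₀
      · rw [Ideal.mul_le]
        intro b hb z hz
        obtain ⟨c, rfl⟩ := Ideal.mem_span_singleton'.1 hz
        have e : b * (c * MvPolynomial.X i) = c * (b * MvPolynomial.X i) := by ring
        rw [e]
        exact 𝔞.mul_mem_left _ (mem_colonIdeal.1 hb)
    · intro g hg
      obtain ⟨q, r, rfl⟩ := exists_eq_of_mem hij 𝔞 s hmap (eps i j G) hf₀π g hg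
      have hr : r ∈ colonIdeal 𝔞 (MvPolynomial.X i) := by
        apply mem_colonIdeal.2
        have e : r * MvPolynomial.X i =
            (q * eps i j G + r * MvPolynomial.X i) - q * eps i j G := by ring
        rw [e]
        exact 𝔞.sub_mem hg (𝔞.mul_mem_left _ hf₀)
      exact Ideal.add_mem _
        (Ideal.mem_sup_left (Ideal.mul_mem_left _ _ (Ideal.subset_span rfl)))
        (Ideal.mem_sup_right (Ideal.mul_mem_mul hr (Ideal.subset_span rfl)))
  · intro c hc
    rw [map_eval_fam]
    constructor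
    · apply sup_le
      · rw [Ideal.span_le, Set.singleton_subset_iff]
        exact hle0 hf₀
      · exact le_trans Ideal.mul_le_left hb3
    · have hs : s ≠ 0 := by
        intro h0
        rw [h0] at hdeg
        have hG1 : G = 1 := (Polynomial.Monic.natDegree_eq_zero (show G.Monic from hG)).1 hdeg
        have h1 : (1 : A) ∈ 𝔞 := by
          have := hf₀
          rwa [hG1, map_one] at this
        exact hb2 (hb1 h1)
      have hdeg' : (G.map (Polynomial.evalRingHom c)).degree ≠ 0 := by
        apply Polynomial.degree_ne_of_natDegree_ne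
        rw [hG.natDegree_map, hdeg]
        exact hs
      obtain ⟨a, ha⟩ := IsAlgClosed.exists_root _ hdeg'
      have ha' : (G.map (Polynomial.evalRingHom c)).eval a = 0 := ha
      refine ⟨fun l => if l = i then c else a, ?_, ?_⟩
      · intro h
        have := congrFun h i
        simp at this
        exact hc this
      · apply sup_le
        · rw [Ideal.span_le, Set.singleton_subset_iff]
          have h1 := sub_C_eval_mem (fun l => if l = i then c else a) (eps i j G)
          rw [eval_eps i j hij, ha', map_zero, sub_zero] at h1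
          exact h1
        · refine le_trans Ideal.mul_le_right ?_
          rw [Ideal.span_le, Set.singleton_subset_iff]
          refine Ideal.subset_span ⟨i, ?_⟩
          simp

end Groth.Agent.H77.PullApart
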