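import Mathlib

/-! Conic Carathéodory and closedness of finitely generated cones in `ℝ^N`. -/

namespace Groth.Agent.H77.RFanA

open Finset

section cara

variable {α E : Type*} [AddCommGroup E] [Module ℝ E]

/-- the cone generated by the family `e` over the finset `S` -/
def coneI (S : Finset α) (e : α → E) : Set E :=
  {x | ∃ c : α → ℝ, (∀ g, 0 ≤ c g) ∧ x = ∑ g ∈ S, c g • e g}

theorem exists_pos_relation [DecidableEq α] (S : Finset α) (e : α → E)
    (h : ¬ LinearIndependent ℝ (fun g : S => e g)) :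
    ∃ l : α → ℝ, ∑ g ∈ S, l g • e g = 0 ∧ (∀ g, g ∉ S → l g = 0) ∧ ∃ g ∈ S, 0 < l g := by
  rw [Fintype.linearIndependent_iff] at h
  push Not at h
  obtain ⟨l, hl0, i0, hi0⟩ := h
  let L : α → ℝ := fun g => if hg : g ∈ S then l ⟨g, hg⟩ else 0
  have hL : ∑ g ∈ S, L g • e g = 0 := by
    rw [← Finset.sum_coe_sort S (fun g => L g • e g)]
    refine Eq.trans ?_ hl0
    refine Finset.sum_congr rfl fun i _ => ?_
    simp only [L, dif_pos i.2, Subtype.coe_eta]
  have hL' : ∀ g, g ∉ S → L g = 0 := fun g hg => by simp only [L, dif_neg hg]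
  have hLi : L i0.1 = l i0 := by simp only [L, dif_pos i0.2, Subtype.coe_eta]
  rcases lt_or_gt_of_ne hi0 with hneg | hpos
  · refine ⟨fun g => - L g, ?_, fun g hg => ?_, i0.1, i0.2, ?_⟩
    · simp only [neg_smul, Finset.sum_neg_distrib, hL, neg_zero]
    · show - L g = 0
      rw [hL' g hg, neg_zero]
    · show 0 < - L i0.1
      rw [hLi]; linarith
  · exact ⟨L, hL, hL', i0.1, i0.2, by rw [hLi]; exact hpos⟩

theorem caratheodory [DecidableEq α] (e : α → E) :
    ∀ (S : Finset α) (c : α → ℝ), (∀ g, 0 ≤ c g) →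
      ∃ S' ⊆ S, LinearIndependent ℝ (fun g : S' => e g) ∧
        ∃ c' : α → ℝ, (∀ g, 0 ≤ c' g) ∧ ∑ g ∈ S, c g • e g = ∑ g ∈ S', c' g • e g := by
  intro S
  induction S using Finset.strongInduction with
  | H S ih =>
    intro c hc
    by_cases hli : LinearIndependent ℝ (fun g : S => e g)
    · exact ⟨S, Finset.Subset.refl _, hli, c, hc, rfl⟩
    · obtain ⟨l, hl0, hlS, g1, hg1S, hg1⟩ := exists_pos_relation S e hli
      have hP : (S.filter (fun g => 0 < l g)).Nonempty := ⟨g1, Finset.mem_filter.2 ⟨hg1S, hg1⟩⟩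
      obtain ⟨g0, hg0P, hmin⟩ :=
        Finset.exists_min_image (S.filter (fun g => 0 < l g)) (fun g => c g / l g) hP
      have hg0S : g0 ∈ S := (Finset.mem_filter.1 hg0P).1
      have hg0 : 0 < l g0 := (Finset.mem_filter.1 hg0P).2
      have ht : 0 ≤ c g0 / l g0 := div_nonneg (hc g0) hg0.le
      have hc' : ∀ g, 0 ≤ c g - c g0 / l g0 * l g := by
        intro g
        by_cases hg : 0 < l g
        · by_cases hgS : g ∈ S
          · have h1 : c g0 / l g0 ≤ c g / l g := hmin g (Finset.mem_filter.2 ⟨hgS, hg⟩)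
            have h2 : c g0 / l g0 * l g ≤ c g := (le_div_iff₀ hg).1 h1
            linarith
          · rw [hlS g hgS, mul_zero, sub_zero]; exact hc g
        · push Not at hg
          have h3 : c g0 / l g0 * l g ≤ 0 := by
            have := mul_nonneg ht (neg_nonneg.2 hg)
            linarith [this, mul_neg (c g0 / l g0) (l g)]
          linarith [hc g]
      have hc'0 : c g0 - c g0 / l g0 * l g0 = 0 := by
        rw [div_mul_cancel₀ _ hg0.ne', sub_self]
      have hsum : ∑ g ∈ S, c g • e g =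
          ∑ g ∈ S.erase g0, (c g - c g0 / l g0 * l g) • e g := by
        rw [Finset.sum_erase S (f := fun g => (c g - c g0 / l g0 * l g) • e g) (a := g0)
          (by rw [hc'0, zero_smul])]
        have : ∑ g ∈ S, (c g - c g0 / l g0 * l g) • e g =
            ∑ g ∈ S, c g • e g - (c g0 / l g0) • ∑ g ∈ S, l g • e g := by
          rw [Finset.smul_sum, ← Finset.sum_sub_distrib]
          refine Finset.sum_congr rfl fun g _ => ?_
          rw [sub_smul, mul_smul]
        rw [this, hl0, smul_zero, sub_zero]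
      obtain ⟨S', hS', hli', c'', hc'', hsum'⟩ :=
        ih (S.erase g0) (Finset.erase_ssubset hg0S) (fun g => c g - c g0 / l g0 * l g) hc'
      exact ⟨S', hS'.trans (Finset.erase_subset _ _), hli', c'', hc'', hsum.trans hsum'⟩

/-- canonical enumeration of a finset -/
noncomputable def enum (S : Finset α) : Fin S.card → α := fun i => (S.equivFin.symm i).1

theorem enum_mem (S : Finset α) (i : Fin S.card) : enum S i ∈ S := (S.equivFin.symm i).2

theorem enum_injective (S : Finset α) : Function.Injective (enum S) :=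
  fun _ _ h => S.equivFin.symm.injective (Subtype.ext h)

theorem sum_enum {M : Type*} [AddCommMonoid M] (S : Finset α) (f : α → M) :
    ∑ i, f (enum S i) = ∑ g ∈ S, f g := by
  rw [← Finset.sum_coe_sort S f]
  exact Equiv.sum_comp S.equivFin.symm (fun s : S => f s.1)

theorem exists_rep [DecidableEq α] (S : Finset α) (e : α → E) {x : E} (hx : x ∈ coneI S e) :
    ∃ S' ⊆ S, LinearIndependent ℝ (fun i => e (enum S' i)) ∧
      ∃ v : Fin S'.card → ℝ, (∀ i, 0 ≤ v i) ∧ x = ∑ i, v i • e (enum S' i) := by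
  obtain ⟨c, hc, rfl⟩ := hx
  obtain ⟨S', hS', hli, c', hc', hsum⟩ := caratheodory e S c hc
  refine ⟨S', hS', ?_, fun i => c' (enum S' i), fun i => hc' _, ?_⟩
  · exact hli.comp (fun i => S'.equivFin.symm i) S'.equivFin.symm.injective
  · rw [hsum, sum_enum S' (fun g => c' g • e g)]

theorem mem_coneI_of_enum [DecidableEq α] {S' S : Finset α} (h : S' ⊆ S) (e : α → E)
    (v : Fin S'.card → ℝ) (hv : ∀ i, 0 ≤ v i) : ∑ i, v i • e (enum S' i) ∈ coneI S e := by
  classical
  refine ⟨fun g => if hg : g ∈ S' then v (S'.equivFin ⟨g, hg⟩) else 0, fun g => ?_, ?_⟩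
  · by_cases hg : g ∈ S'
    · simp only [dif_pos hg]; exact hv _
    · simp only [dif_neg hg]; exact le_rfl
  · have h1 : ∑ g ∈ S', (if hg : g ∈ S' then v (S'.equivFin ⟨g, hg⟩) else 0) • e g =
        ∑ g ∈ S, (if hg : g ∈ S' then v (S'.equivFin ⟨g, hg⟩) else 0) • e g :=
      Finset.sum_subset h (fun g _ hg => by rw [dif_neg hg, zero_smul])
    rw [← h1, ← sum_enum S' (fun g => (if hg : g ∈ S' then v (S'.equivFin ⟨g, hg⟩) else 0) • e g)]
    refine Finset.sum_congr rfl fun i _ => ?_
    rw [dif_pos (enum_mem S' i)]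
    congr 2
    show i = S'.equivFin (S'.equivFin.symm i)
    rw [Equiv.apply_symm_apply]

end cara

section closed

variable {N : ℕ}

theorem isClosed_cone_of_li {n : ℕ} (w : Fin n → (Fin N → ℝ)) (hli : LinearIndependent ℝ w) :
    IsClosed {x : Fin N → ℝ | ∃ v : Fin n → ℝ, (∀ i, 0 ≤ v i) ∧ x = ∑ i, v i • w i} := by
  have hker : LinearMap.ker (Fintype.linearCombination ℝ w) = ⊥ := by
    rw [LinearMap.ker_eq_bot']
    intro v hv
    exact funext (Fintype.linearIndependent_iff.1 hli v hv)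
  have hce := LinearMap.isClosedEmbedding_of_injective hker
  have hcl : IsClosed {v : Fin n → ℝ | ∀ i, 0 ≤ v i} := by
    have : {v : Fin n → ℝ | ∀ i, 0 ≤ v i} = ⋂ i, {v | 0 ≤ v i} := by ext v; simp
    rw [this]
    exact isClosed_iInter fun i => isClosed_le continuous_const (continuous_apply i)
  have h3 := hce.isClosedMap _ hcl
  convert h3 using 1
  ext x
  simp only [Set.mem_setOf_eq, Set.mem_image]
  constructor
  · rintro ⟨v, hv, rfl⟩; exact ⟨v, hv, rfl⟩
  · rintro ⟨v, hv, rfl⟩; exact ⟨v, hv, rfl⟩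

theorem isClosed_coneI {α : Type*} [DecidableEq α] (S : Finset α) (e : α → (Fin N → ℝ)) :
    IsClosed (coneI S e) := by
  classical
  have h : coneI S e = ⋃ S' ∈ {T ∈ S.powerset | LinearIndependent ℝ (fun i => e (enum T i))},
      {x : Fin N → ℝ | ∃ v : Fin S'.card → ℝ, (∀ i, 0 ≤ v i) ∧ x = ∑ i, v i • e (enum S' i)} := by
    ext x
    simp only [Set.mem_iUnion, Set.mem_setOf_eq, Finset.mem_filter, Finset.mem_powerset,
      exists_prop]
    constructor
    · intro hx
      obtain ⟨S', hS', hli, v, hv, hx⟩ := exists_rep S e hx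
      exact ⟨S', ⟨hS', hli⟩, v, hv, hx⟩
    · rintro ⟨S', ⟨hS', _⟩, v, hv, rfl⟩
      exact mem_coneI_of_enum hS' e v hv
  rw [h]
  refine Set.Finite.isClosed_biUnion (Finset.finite_toSet _) fun S' hS' => ?_
  have hli : LinearIndependent ℝ (fun i => e (enum S' i)) := (Finset.mem_filter.1 hS').2
  exact isClosed_cone_of_li _ hli

end closed

end Groth.Agent.H77.RFanA
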