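import Groth.Prelude.Def_W4c6instabfans3FanCvx
import Groth.Agent.H77.FanK
import Groth.Agent.H77.RFanA

/-! The fan `R(K)` of a family of rational polyhedral cones: its projective realization embeds into
the space of rays. Part 1: real extension of integer linear maps, refinements. -/

open CategoryTheory Opposite Instab

namespace Groth.Agent.H77.RFanB

open Groth.Agent.H77.FanA Groth.Agent.H77.FanB Groth.Agent.H77.RFanA

variable {N : ℕ}

/-- entries of an integer linear map -/
def lent {n : ℕ} (L : (Fin n → ℤ) →ₗ[ℤ] (Fin N → ℤ)) (j : Fin N) (i : Fin n) : ℤ :=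
  L (Pi.single i 1) j

theorem lin_apply {n : ℕ} (L : (Fin n → ℤ) →ₗ[ℤ] (Fin N → ℤ)) (v : Fin n → ℤ) (j : Fin N) :
    L v j = ∑ i, lent L j i * v i := by
  classical
  have h := LinearMap.pi_apply_eq_sum_univ L v
  rw [h, Finset.sum_apply]
  refine Finset.sum_congr rfl fun i _ => ?_
  rw [Pi.smul_apply, smul_eq_mul, mul_comm]
  have e : (fun j' => if i = j' then (1 : ℤ) else 0) = Pi.single i 1 := by
    ext j'
    simp [Pi.single_apply, eq_comm]
  rw [e]
  rfl

/-- real extension of an integer linear map -/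
def realOf {n : ℕ} (L : (Fin n → ℤ) →ₗ[ℤ] (Fin N → ℤ)) (v : Fin n → ℝ) : Fin N → ℝ :=
  fun j => ∑ i, (lent L j i : ℝ) * v i

theorem realOf_apply {n : ℕ} (L : (Fin n → ℤ) →ₗ[ℤ] (Fin N → ℤ)) (v : Fin n → ℝ) (j : Fin N) :
    realOf L v j = ∑ i, (lent L j i : ℝ) * v i := rfl

theorem realOf_add {n : ℕ} (L : (Fin n → ℤ) →ₗ[ℤ] (Fin N → ℤ)) (v w : Fin n → ℝ) :
    realOf L (v + w) = realOf L v + realOf L w := by
  funext j
  simp only [realOf_apply, Pi.add_apply, mul_add, Finset.sum_add_distrib]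

theorem realOf_smul {n : ℕ} (L : (Fin n → ℤ) →ₗ[ℤ] (Fin N → ℤ)) (c : ℝ) (v : Fin n → ℝ) :
    realOf L (c • v) = c • realOf L v := by
  funext j
  simp only [realOf_apply, Pi.smul_apply, smul_eq_mul, Finset.mul_sum]
  refine Finset.sum_congr rfl fun i _ => ?_
  ring

theorem realOf_zero {n : ℕ} (L : (Fin n → ℤ) →ₗ[ℤ] (Fin N → ℤ)) : realOf L 0 = 0 := by
  funext j
  simp [realOf_apply]

/-- the real extension as a linear map -/
def realLinOf {n : ℕ} (L : (Fin n → ℤ) →ₗ[ℤ] (Fin N → ℤ)) : (Fin n → ℝ) →ₗ[ℝ] (Fin N → ℝ) where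
  toFun := realOf L
  map_add' := realOf_add L
  map_smul' := fun c v => realOf_smul L c v

theorem continuous_realOf {n : ℕ} (L : (Fin n → ℤ) →ₗ[ℤ] (Fin N → ℤ)) : Continuous (realOf L) :=
  (realLinOf L).continuous_of_finiteDimensional

theorem realOf_int {n : ℕ} (L : (Fin n → ℤ) →ₗ[ℤ] (Fin N → ℤ)) (u : Fin n → ℤ) :
    realOf L (fun i => (u i : ℝ)) = fun j => ((L u j : ℤ) : ℝ) := by
  funext j
  rw [realOf_apply, lin_apply]
  push_cast
  rfl

theorem realOf_eq_zero {n : ℕ} (L : (Fin n → ℤ) →ₗ[ℤ] (Fin N → ℤ)) (hL : Function.Injective L)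
    (v : Fin n → ℝ) (h : realOf L v = 0) : v = 0 := by
  classical
  by_contra hv
  obtain ⟨d, hd, R, q, hR, hvq, hrel, hinj⟩ := rat_span_coords v hv
  obtain ⟨D, hD, hz⟩ := exists_common_den (fun p : Fin n × Fin d => q p.1 p.2)
  choose z hz using hz
  have hDQ : (D : ℚ) ≠ 0 := by exact_mod_cast hD.ne'
  have hq : ∀ i l, q i l = 0 := by
    intro i l
    have h1 : ∀ j, ∑ i, (lent L j i : ℚ) * q i l = 0 := by
      intro j
      refine hrel (fun i => (lent L j i : ℚ)) ?_ l
      have := congrFun h j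
      rw [realOf_apply] at this
      simpa using this
    have h2 : L (fun i => z (i, l)) = L 0 := by
      rw [map_zero]
      funext j
      rw [lin_apply]
      have : ((∑ i, lent L j i * z (i, l) : ℤ) : ℚ) = 0 := by
        push_cast
        simp_rw [hz]
        have : ∑ i, (lent L j i : ℚ) * (D * q i l) = D * ∑ i, (lent L j i : ℚ) * q i l := by
          rw [Finset.mul_sum]
          refine Finset.sum_congr rfl fun i _ => ?_
          ring
        rw [this, h1 j, mul_zero]
      exact_mod_cast this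
    have h3 := congrFun (hL h2) i
    have h4 : (z (i, l) : ℚ) = 0 := by exact_mod_cast h3
    rw [hz] at h4
    exact (mul_eq_zero.mp h4).resolve_left hDQ
  apply hv
  funext i
  rw [hvq i]
  simp [hq]

theorem realOf_comp {m k : ICone} (L : (Fin k.dim → ℤ) →ₗ[ℤ] (Fin N → ℤ)) (α : m ⟶ k)
    (z : Fin m.dim → ℝ) : realOf (L.comp α.toLin) z = realOf L (α.realMap z) := by
  funext j
  rw [realOf_apply, realOf_apply]
  have h1 : ∀ i, lent (L.comp α.toLin) j i = ∑ i', lent L j i' * ent α i' i := by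
    intro i
    show L (α.toLin (Pi.single i 1)) j = _
    rw [lin_apply]
    rfl
  simp only [h1, realMap_apply]
  push_cast
  rw [sum_mul_sum_swap]

/-- Common refinement of two integer linear maps at a common real point. -/
theorem exists_common_refinement' {k k' : ICone} (L : (Fin k.dim → ℤ) →ₗ[ℤ] (Fin N → ℤ))
    (L' : (Fin k'.dim → ℤ) →ₗ[ℤ] (Fin N → ℤ)) (hL : Function.Injective L)
    (hL' : Function.Injective L') (y : Fan.Orth k)
    (y' : Fan.Orth k') (c : ℝ) (hc : 0 < c) (h : realOf L y.1 = c • realOf L' y'.1) :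
    ∃ (m : ICone) (α : m ⟶ k) (β : m ⟶ k') (z : Fan.Orth m) (b : ℝ),
      L.comp α.toLin = L'.comp β.toLin ∧ 0 < b ∧ y.1 = α.realMap z.1 ∧
        y'.1 = b • β.realMap z.1 := by
  classical
  let x : Fin k.dim ⊕ Fin k'.dim → ℝ := Sum.elim y.1 (c • y'.1)
  have hx : ∀ i, 0 ≤ x i := by
    rintro (i | i)
    · exact y.2.1 i
    · exact mul_nonneg hc.le (y'.2.1 i)
  have hx0 : x ≠ 0 := by
    intro h0
    apply y.2.2
    funext i
    exact congrFun h0 (Sum.inl i)
  obtain ⟨d, hd, C, t, hC, ht, hxC, hrel, hinjC⟩ := exists_simplicial_approx x hx hx0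
  let m : ICone := ⟨⟨d, hd⟩⟩
  let A : Fin k.dim → Fin m.dim → ℤ := fun i j => C (Sum.inl i) j
  let B : Fin k'.dim → Fin m.dim → ℤ := fun i j => C (Sum.inr i) j
  have hAB : ∀ (j₀ : Fin N) (j : Fin m.dim),
      ∑ i, lent L j₀ i * A i j = ∑ i, lent L' j₀ i * B i j := by
    intro j₀ j
    have h1 := hrel (Sum.elim (fun i => lent L j₀ i) (fun i => - lent L' j₀ i)) (by
      rw [Fintype.sum_sum_type]
      simp only [Sum.elim_inl, Sum.elim_inr, x, Pi.smul_apply, smul_eq_mul, Int.cast_neg]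
      have h2 := congrFun h j₀
      rw [realOf_apply, Pi.smul_apply, realOf_apply, smul_eq_mul, Finset.mul_sum] at h2
      rw [h2, ← Finset.sum_add_distrib]
      refine Finset.sum_eq_zero fun i _ => ?_
      ring) j
    rw [Fintype.sum_sum_type] at h1
    simp only [Sum.elim_inl, Sum.elim_inr, neg_mul, Finset.sum_neg_distrib] at h1
    simp only [A, B]
    linarith
  have hABu : ∀ (u : Fin m.dim → ℤ) (j₀ : Fin N),
      ∑ i, lent L j₀ i * ∑ j, A i j * u j = ∑ i, lent L' j₀ i * ∑ j, B i j * u j := by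
    intro u j₀
    rw [sum_mul_sum_swap, sum_mul_sum_swap]
    refine Finset.sum_congr rfl fun j _ => ?_
    rw [hAB j₀ j]
  have hinjA : ∀ u : Fin m.dim → ℤ, (∀ i, ∑ j, A i j * u j = 0) → u = 0 := by
    intro u hu
    apply hinjC
    rintro (i | i)
    · exact hu i
    · have h1 : L' (fun i => ∑ j, B i j * u j) = L' 0 := by
        funext j₀
        rw [lin_apply, ← hABu u j₀, map_zero]
        simp [hu]
      exact congrFun (hL' h1) i
  have hinjB : ∀ u : Fin m.dim → ℤ, (∀ i, ∑ j, B i j * u j = 0) → u = 0 := by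
    intro u hu
    apply hinjC
    rintro (i | i)
    · have h1 : L (fun i => ∑ j, A i j * u j) = L 0 := by
        funext j₀
        rw [lin_apply, hABu u j₀, map_zero]
        simp [hu]
      exact congrFun (hL h1) i
    · exact hu i
  let α : m ⟶ k := homOfMatrix A (fun i j => hC _ _) hinjA
  let β : m ⟶ k' := homOfMatrix B (fun i j => hC _ _) hinjB
  have hz0 : (t : Fin m.dim → ℝ) ≠ 0 := by
    intro h0
    have := ht ⟨0, hd⟩
    rw [h0] at this
    simp at this
  let z : Fan.Orth m := ⟨t, fun j => (ht j).le, hz0⟩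
  refine ⟨m, α, β, z, 1 / c, ?_, by positivity, ?_, ?_⟩
  · apply LinearMap.ext
    intro u
    funext j₀
    show L (α.toLin u) j₀ = L' (β.toLin u) j₀
    rw [lin_apply, lin_apply]
    have hα : ∀ i, α.toLin u i = ∑ j, A i j * u j := by
      intro i
      rw [toLin_apply]
      simp only [α, ent_homOfMatrix]
    have hβ : ∀ i, β.toLin u i = ∑ j, B i j * u j := by
      intro i
      rw [toLin_apply]
      simp only [β, ent_homOfMatrix]
    simp only [hα, hβ]
    exact hABu u j₀
  · funext i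
    rw [realMap_apply]
    simp only [α, ent_homOfMatrix, z, A]
    exact hxC (Sum.inl i)
  · funext i
    have h1 : c * y'.1 i = ∑ j, (C (Sum.inr i) j : ℝ) * t j := hxC (Sum.inr i)
    have h2 : β.realMap z.1 i = ∑ j, (C (Sum.inr i) j : ℝ) * t j := by
      rw [realMap_apply]
      simp only [β, ent_homOfMatrix]
      rfl
    rw [Pi.smul_apply, h2, ← h1, smul_eq_mul]
    field_simp

end Groth.Agent.H77.RFanB
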