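import Groth.Agent.H77.RFanB

/-! The fan `R(K)` of a family of rational polyhedral cones: its projective realization embeds into
the space of rays. Part 2: the map to rays, injectivity. -/

open CategoryTheory Opposite Instab

namespace Groth.Agent.H77.RFanB

open Groth.Agent.H77.FanA Groth.Agent.H77.FanB Groth.Agent.H77.RFanA

variable {N : ℕ}

/-- the real vector of an integer vector -/
def castv (g : Fin N → ℤ) : Fin N → ℝ := fun j => (g j : ℝ)

variable {ι : Type} (K : ι → Set (Fin N → ℝ))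

/-- each `K a` is a finite union of rational polyhedral cones -/
def IsPoly : Prop :=
  ∀ a, ∃ (m : ℕ) (gen : Fin m → Finset (Fin N → ℤ)), K a = ⋃ l, coneI (gen l) castv

theorem isClosed_K (hK : IsPoly K) (a : ι) : IsClosed (K a) := by
  classical
  obtain ⟨m, gen, h⟩ := hK a
  rw [h]
  exact isClosed_iUnion_of_finite fun l => isClosed_coneI _ _

theorem smul_mem_K (hK : IsPoly K) (a : ι) {x : Fin N → ℝ} (hx : x ∈ K a) {c : ℝ} (hc : 0 ≤ c) :
    c • x ∈ K a := by
  obtain ⟨m, gen, h⟩ := hK a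
  rw [h] at hx ⊢
  obtain ⟨l, hl⟩ := Set.mem_iUnion.1 hx
  obtain ⟨d, hd, rfl⟩ := hl
  refine Set.mem_iUnion.2 ⟨l, fun g => c * d g, fun g => mul_nonneg hc (hd g), ?_⟩
  rw [Finset.smul_sum]
  refine Finset.sum_congr rfl fun g _ => ?_
  rw [smul_smul]

theorem toVec_eq (n : ICone) (φ : RFan.Cone K n) (v : Fin n.dim → ℝ) :
    RFan.toVec K n φ v = realOf φ.1 v := rfl

theorem map_val {n m : ICone} (α : m ⟶ n) (φ : RFan.Cone K n) :
    ((RFan K).map α.op φ : RFan.Cone K m).1 = φ.1.comp α.toLin := rfl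

theorem realOf_mem (hK : IsPoly K) {n : ICone} (φ : RFan.Cone K n) {a : ι}
    (ha : ∀ v : Fin n.dim → ℤ, (∀ i, 0 ≤ v i) → (fun j => (φ.1 v j : ℝ)) ∈ K a)
    (v : Fan.Orth n) : realOf φ.1 v.1 ∈ K a := by
  have hD : {v : Fan.Orth n | realOf φ.1 v.1 ∈ K a} = Set.univ := by
    apply eq_univ_of_closed_of_intPt
    · exact (isClosed_K K hK a).preimage ((continuous_realOf φ.1).comp continuous_subtype_val)
    · intro v c hc hv
      show realOf φ.1 (c • v.1) ∈ K a
      rw [realOf_smul]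
      exact smul_mem_K K hK a hv hc.le
    · intro r hr hr0
      show realOf φ.1 (fun i => (r i : ℝ)) ∈ K a
      rw [realOf_int]
      exact ha r hr
  have : v ∈ {v : Fan.Orth n | realOf φ.1 v.1 ∈ K a} := by rw [hD]; trivial
  exact this

theorem realOf_ne_zero {n : ICone} (φ : RFan.Cone K n) (v : Fan.Orth n) : realOf φ.1 v.1 ≠ 0 :=
  fun h => v.2.2 (realOf_eq_zero φ.1 φ.2.1 v.1 h)

/-! ### rays -/

theorem rel_of_eqvGen {v w : {v : Fin N → ℝ // v ≠ 0}}
    (h : Relation.EqvGen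
      (fun v w : {v : Fin N → ℝ // v ≠ 0} => ∃ c : ℝ, 0 < c ∧ w.1 = c • v.1) v w) :
    ∃ c : ℝ, 0 < c ∧ w.1 = c • v.1 := by
  induction h with
  | rel _ _ h => exact h
  | refl _ => exact ⟨1, one_pos, (one_smul _ _).symm⟩
  | symm x y _ ih =>
    obtain ⟨c, hc, hxy⟩ := ih
    refine ⟨c⁻¹, inv_pos.2 hc, ?_⟩
    rw [hxy, smul_smul, inv_mul_cancel₀ hc.ne', one_smul]
  | trans x y z _ _ ih1 ih2 =>
    obtain ⟨c, hc, h1⟩ := ih1
    obtain ⟨d, hd, h2⟩ := ih2
    exact ⟨d * c, mul_pos hd hc, by rw [h2, h1, smul_smul]⟩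

theorem rays_exact {v w : {v : Fin N → ℝ // v ≠ 0}}
    (h : (Quot.mk _ v : Fan.Rays N) = Quot.mk _ w) : ∃ c : ℝ, 0 < c ∧ w.1 = c • v.1 :=
  rel_of_eqvGen (Quot.eqvGen_exact h)

/-- sum of absolute values -/
def asum (v : Fin N → ℝ) : ℝ := ∑ i, |v i|

theorem asum_pos {v : Fin N → ℝ} (hv : v ≠ 0) : 0 < asum v := by
  obtain ⟨i, hi⟩ := Function.ne_iff.1 hv
  have h1 : 0 < |v i| := abs_pos.2 hi
  have h2 : |v i| ≤ ∑ i, |v i| :=
    Finset.single_le_sum (f := fun i => |v i|) (fun j _ => abs_nonneg (v j)) (Finset.mem_univ i)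
  exact lt_of_lt_of_le h1 h2

theorem asum_smul {c : ℝ} (hc : 0 ≤ c) (v : Fin N → ℝ) : asum (c • v) = c * asum v := by
  unfold asum
  simp only [Pi.smul_apply, smul_eq_mul, abs_mul, abs_of_nonneg hc, Finset.mul_sum]

/-- normalisation -/
noncomputable def nrm (v : {v : Fin N → ℝ // v ≠ 0}) : Fin N → ℝ := (asum v.1)⁻¹ • v.1

theorem continuous_nrm : Continuous (nrm (N := N)) := by
  unfold nrm
  refine Continuous.smul (Continuous.inv₀ ?_ (fun v => (asum_pos v.2).ne')) continuous_subtype_val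
  exact continuous_finset_sum _ fun i _ => ((continuous_apply i).comp continuous_subtype_val).abs

theorem nrm_eq_of_rel {v w : {v : Fin N → ℝ // v ≠ 0}} (h : ∃ c : ℝ, 0 < c ∧ w.1 = c • v.1) :
    nrm v = nrm w := by
  obtain ⟨c, hc, hw⟩ := h
  unfold nrm
  rw [hw, asum_smul hc.le, smul_smul]
  congr 1
  have := asum_pos v.2
  field_simp

theorem rel_of_nrm_eq {v w : {v : Fin N → ℝ // v ≠ 0}} (h : nrm v = nrm w) :
    ∃ c : ℝ, 0 < c ∧ w.1 = c • v.1 := by
  have hv := asum_pos v.2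
  have hw := asum_pos w.2
  refine ⟨asum w.1 / asum v.1, div_pos hw hv, ?_⟩
  unfold nrm at h
  have h2 := congrArg (fun u => asum w.1 • u) h
  simp only [smul_smul] at h2
  rw [mul_inv_cancel₀ hw.ne', one_smul] at h2
  rw [div_eq_mul_inv]
  exact h2.symm

instance instT2Rays : T2Space (Fan.Rays N) := by
  have hf : Continuous (Quot.lift nrm (fun v w h => nrm_eq_of_rel h) : Fan.Rays N → (Fin N → ℝ)) :=
    continuous_quot_lift _ continuous_nrm
  refine T2Space.of_injective_continuous ?_ hf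
  intro a b hab
  induction a using Quot.ind with
  | mk v =>
    induction b using Quot.ind with
    | mk w => exact Quot.sound (rel_of_nrm_eq hab)

/-! ### the map to rays -/

/-- the map on the disjoint union -/
def gPt (p : Fan.Pt (RFan K)) : Fan.Rays N :=
  Quot.mk _ ⟨realOf (p.1.2 : RFan.Cone K p.1.1).1 p.2.1, realOf_ne_zero K p.1.2 p.2⟩

theorem gPt_rel {p p' : Fan.Pt (RFan K)} (h : Fan.Rel (RFan K) p p') : gPt K p = gPt K p' := by
  obtain ⟨ψ, ξ, v, w, c, hc, hw⟩ := h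
  apply Quot.sound
  refine ⟨c, hc, ?_⟩
  show realOf (ξ : RFan.Cone K _).1 w.1 = c • realOf ((RFan K).map ψ.op ξ : RFan.Cone K _).1 v.1
  rw [hw, realOf_smul, map_val, realOf_comp]

/-- the map to the space of rays -/
def g : Fan.P (RFan K) → Fan.Rays N := Quot.lift (gPt K) (fun _ _ h => gPt_rel K h)

theorem g_mk {n : ICone} (φ : (RFan K).obj (op n)) (v : Fan.Orth n)
    (h : RFan.toVec K n φ v.1 ≠ 0) :
    g K (Fan.P.mk φ v) = Quot.mk _ ⟨RFan.toVec K n φ v.1, h⟩ := rfl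

theorem continuous_g : Continuous (g K) := by
  apply continuous_quot_lift
  apply continuous_sigma
  rintro ⟨n, φ⟩
  have h0 : Continuous fun a : Fan.Orth n => realOf (φ : RFan.Cone K n).1 a.1 :=
    (continuous_realOf _).comp continuous_subtype_val
  have h1 : Continuous fun a : Fan.Orth n =>
      (⟨realOf (φ : RFan.Cone K n).1 a.1, realOf_ne_zero K φ a⟩ : {v : Fin N → ℝ // v ≠ 0}) :=
    h0.subtype_mk _
  exact continuous_quot_mk.comp h1

theorem mk_eq_of_realOf {n n' : ICone} (φ : RFan.Cone K n) (φ' : RFan.Cone K n')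
    (y : Fan.Orth n) (y' : Fan.Orth n') (c : ℝ) (hc : 0 < c)
    (h : realOf φ.1 y.1 = c • realOf φ'.1 y'.1) :
    Fan.P.mk (F := RFan K) φ y = Fan.P.mk (F := RFan K) φ' y' := by
  obtain ⟨m, α, β, z, b, hαβ, hb, hy, hy'⟩ :=
    exists_common_refinement' φ.1 φ'.1 φ.2.1 φ'.2.1 y y' c hc h
  have h1 : Fan.P.mk (F := RFan K) φ y = Fan.P.mk ((RFan K).map α.op φ) z :=
    mk_restrict (F := RFan K) α φ z y 1 one_pos (by rw [one_smul]; exact hy)
  have h2 : Fan.P.mk (F := RFan K) φ' y' = Fan.P.mk ((RFan K).map β.op φ') z :=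
    mk_restrict (F := RFan K) β φ' z y' b hb hy'
  have h3 : (RFan K).map α.op φ = (RFan K).map β.op φ' := Subtype.ext hαβ
  rw [h1, h2, h3]

theorem g_injective : Function.Injective (g K) := by
  intro x x' h
  obtain ⟨n, φ, y, rfl⟩ := P_exists_rep x
  obtain ⟨n', φ', y', rfl⟩ := P_exists_rep x'
  obtain ⟨c, hc, hcc⟩ := rays_exact h
  exact (mk_eq_of_realOf K φ' φ y' y c hc hcc).symm

end Groth.Agent.H77.RFanB
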