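import Groth.Agent.H77.RFanC

/-! The fan `R(K)` of a family of rational polyhedral cones: its projective realization embeds into
the space of rays. Part 3: canonical cones, compactness, the range. -/

open CategoryTheory Opposite Instab

universe u

namespace Groth.Agent.H77.RFanB

open Groth.Agent.H77.FanA Groth.Agent.H77.FanB Groth.Agent.H77.RFanA

theorem isCompact_cell {F : Fan.{u}} {n : ICone} (ξ : F.obj (op n)) :
    IsCompact (Set.range (Fan.P.mk ξ)) := by
  have hS : IsCompact {v : Fan.Orth n | osum v = 1} := by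
    refine (isInducing_orth_val n).isCompact_iff.2 ?_
    have h2 := isCompact_stdSimplex (𝕜 := ℝ) (ι := Fin n.dim)
    convert h2 using 1
    ext a
    constructor
    · rintro ⟨v, hv, rfl⟩
      exact ⟨v.2.1, hv⟩
    · intro ha
      have ha0 : a ≠ 0 := by
        rintro rfl
        have := ha.2
        simp at this
      exact ⟨⟨a, ha.1, ha0⟩, ha.2, rfl⟩
  have : Set.range (Fan.P.mk ξ) = Fan.P.mk ξ '' {v | osum v = 1} := by
    ext p
    constructor
    · rintro ⟨v, rfl⟩
      exact ⟨onorm v, osum_onorm v, mk_onorm ξ v⟩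
    · rintro ⟨v, _, rfl⟩
      exact ⟨v, rfl⟩
  rw [this]
  exact hS.image (continuous_mk ξ)

variable {N : ℕ}

/-- the integer linear map of an enumerated finset of integer vectors -/
noncomputable def linOf (S : Finset (Fin N → ℤ)) : (Fin S.card → ℤ) →ₗ[ℤ] (Fin N → ℤ) :=
  Fintype.linearCombination ℤ (enum S)

theorem linOf_apply (S : Finset (Fin N → ℤ)) (u : Fin S.card → ℤ) :
    linOf S u = ∑ i, u i • enum S i := rfl

theorem castv_zero : castv (0 : Fin N → ℤ) = 0 := by
  funext j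
  simp [castv]

theorem castv_linOf (S : Finset (Fin N → ℤ)) (u : Fin S.card → ℤ) :
    castv (linOf S u) = ∑ i, (u i : ℝ) • castv (enum S i) := by
  funext j
  rw [linOf_apply]
  simp [castv]

theorem linOf_injective (S : Finset (Fin N → ℤ))
    (hli : LinearIndependent ℝ (fun i => castv (enum S i))) : Function.Injective (linOf S) := by
  rw [injective_iff_map_eq_zero]
  intro u hu
  have h1 : ∑ i, (u i : ℝ) • castv (enum S i) = 0 := by
    rw [← castv_linOf, hu, castv_zero]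
  have h2 := Fintype.linearIndependent_iff.1 hli (fun i => (u i : ℝ)) h1
  funext i
  exact_mod_cast h2 i

theorem lent_linOf (S : Finset (Fin N → ℤ)) (j : Fin N) (i : Fin S.card) :
    lent (linOf S) j i = enum S i j := by
  classical
  unfold lent linOf
  rw [Fintype.linearCombination_apply_single, one_smul]

theorem realOf_linOf (S : Finset (Fin N → ℤ)) (v : Fin S.card → ℝ) :
    realOf (linOf S) v = ∑ i, v i • castv (enum S i) := by
  funext j
  rw [realOf_apply]
  simp only [lent_linOf, Finset.sum_apply, Pi.smul_apply, smul_eq_mul, castv]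
  exact Finset.sum_congr rfl fun i _ => mul_comm _ _

variable {ι : Type} (K : ι → Set (Fin N → ℝ))

/-- the finsets of integer vectors giving cones of `R(K)` -/
def Good (S : Finset (Fin N → ℤ)) : Prop :=
  0 < S.card ∧ LinearIndependent ℝ (fun i => castv (enum S i)) ∧
    ∃ a, ∀ u : Fin S.card → ℤ, (∀ i, 0 ≤ u i) → castv (linOf S u) ∈ K a

/-- the cone of `R(K)` of a good finset -/
noncomputable def coneOfGood {S : Finset (Fin N → ℤ)} (h : Good K S) :
    RFan.Cone K ⟨⟨S.card, h.1⟩⟩ :=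
  ⟨linOf S, linOf_injective S h.2.1, h.2.2⟩

theorem exists_good (a : ι) (m : ℕ) (gen : Fin m → Finset (Fin N → ℤ))
    (hKa : K a = ⋃ l, coneI (gen l) castv) {w : Fin N → ℝ} (hw : w ∈ K a) (hw0 : w ≠ 0) :
    ∃ (l : Fin m) (S : Finset (Fin N → ℤ)) (_ : S ⊆ gen l) (hG : Good K S)
      (v : Fan.Orth ⟨⟨S.card, hG.1⟩⟩), realOf (linOf S) v.1 = w := by
  classical
  have hw' : w ∈ ⋃ l, coneI (gen l) castv := by rw [← hKa]; exact hw
  obtain ⟨l, hl⟩ := Set.mem_iUnion.1 hw'
  obtain ⟨S, hS, hli, v, hv, hwv⟩ := exists_rep (gen l) castv hl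
  have hpos : 0 < S.card := by
    rcases Nat.eq_zero_or_pos S.card with h0 | h0
    · exfalso
      apply hw0
      rw [hwv]
      haveI : IsEmpty (Fin S.card) := by rw [h0]; infer_instance
      exact Fintype.sum_empty _
    · exact h0
  have hmem : ∃ a, ∀ u : Fin S.card → ℤ, (∀ i, 0 ≤ u i) → castv (linOf S u) ∈ K a := by
    refine ⟨a, fun u hu => ?_⟩
    rw [hKa, castv_linOf]
    exact Set.mem_iUnion.2 ⟨l, mem_coneI_of_enum hS castv (fun i => (u i : ℝ))
      (fun i => Int.cast_nonneg (hu i))⟩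
  have hG : Good K S := ⟨hpos, hli, hmem⟩
  have hv0 : v ≠ 0 := by
    rintro rfl
    apply hw0
    rw [hwv]
    simp
  refine ⟨l, S, hS, hG, ⟨v, hv, hv0⟩, ?_⟩
  rw [realOf_linOf]
  exact hwv.symm

theorem compactSpace_P [Finite ι] (hK : IsPoly K) : CompactSpace (Fan.P (RFan K)) := by
  classical
  have hK' := hK
  choose m gen hKeq using hK
  let 𝒮 : Set (Finset (Fin N → ℤ)) :=
    ⋃ a, ⋃ l, ((gen a l).powerset : Set (Finset (Fin N → ℤ)))
  have hfin : 𝒮.Finite :=
    Set.finite_iUnion fun a => Set.finite_iUnion fun l => Finset.finite_toSet _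
  haveI : Finite {S : Finset (Fin N → ℤ) // S ∈ 𝒮 ∧ Good K S} := by
    haveI := hfin.to_subtype
    exact Finite.of_injective
      (fun t : {S : Finset (Fin N → ℤ) // S ∈ 𝒮 ∧ Good K S} => (⟨t.1, t.2.1⟩ : 𝒮))
      (fun t t' h => Subtype.ext (congrArg (fun s : 𝒮 => s.1) h))
  have hcover : (⋃ t : {S : Finset (Fin N → ℤ) // S ∈ 𝒮 ∧ Good K S},
      Set.range (Fan.P.mk (F := RFan K) (coneOfGood K t.2.2))) = Set.univ := by
    rw [Set.eq_univ_iff_forall]
    intro x
    obtain ⟨n, φ, y, rfl⟩ := P_exists_rep x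
    obtain ⟨a, ha⟩ := (φ : RFan.Cone K n).2.2
    have hw := realOf_mem K hK' φ ha y
    obtain ⟨l, S, hS, hG, v, hv⟩ :=
      exists_good K a (m a) (gen a) (hKeq a) hw (realOf_ne_zero K φ y)
    refine Set.mem_iUnion.2 ⟨⟨S, Set.mem_iUnion.2 ⟨a, Set.mem_iUnion.2
      ⟨l, Finset.mem_coe.2 (Finset.mem_powerset.2 hS)⟩⟩, hG⟩, v, ?_⟩
    exact mk_eq_of_realOf K (coneOfGood K hG) φ v y 1 one_pos (by rw [one_smul]; exact hv)
  refine ⟨?_⟩
  rw [← hcover]
  exact isCompact_iUnion fun t => isCompact_cell _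

theorem range_g (hK : IsPoly K) :
    Set.range (g K) =
      {r | ∃ w : {w : Fin N → ℝ // w ≠ 0}, r = Quot.mk _ w ∧ w.1 ∈ Set.iUnion K} := by
  classical
  ext r
  constructor
  · rintro ⟨x, rfl⟩
    obtain ⟨n, φ, y, rfl⟩ := P_exists_rep x
    obtain ⟨a, ha⟩ := (φ : RFan.Cone K n).2.2
    exact ⟨⟨realOf (φ : RFan.Cone K n).1 y.1, realOf_ne_zero K φ y⟩, rfl,
      Set.mem_iUnion.2 ⟨a, realOf_mem K hK φ ha y⟩⟩
  · rintro ⟨w, rfl, hw⟩
    obtain ⟨a, ha⟩ := Set.mem_iUnion.1 hw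
    obtain ⟨m, gen, hKa⟩ := hK a
    obtain ⟨l, S, hS, hG, v, hv⟩ := exists_good K a m gen hKa ha w.2
    refine ⟨Fan.P.mk (F := RFan K) (coneOfGood K hG) v, ?_⟩
    have h1 : g K (Fan.P.mk (F := RFan K) (coneOfGood K hG) v) =
        Quot.mk _ ⟨realOf (linOf S) v.1, realOf_ne_zero K (coneOfGood K hG) v⟩ := rfl
    rw [h1]
    congr 1
    exact Subtype.ext hv

theorem main [Finite ι] (hK : IsPoly K) :
    ∃ g : Fan.P (RFan K) → Fan.Rays N,
      (∀ (n : ICone) (φ : (RFan K).obj (op n)) (v : Fan.Orth n)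
        (h : RFan.toVec K n φ v.1 ≠ 0),
        g (Fan.P.mk φ v) = Quot.mk _ ⟨RFan.toVec K n φ v.1, h⟩) ∧
      Topology.IsEmbedding g ∧
      Set.range g =
        {r | ∃ w : {w : Fin N → ℝ // w ≠ 0}, r = Quot.mk _ w ∧ w.1 ∈ Set.iUnion K} := by
  haveI := compactSpace_P K hK
  exact ⟨g K, fun n φ v h => rfl,
    ((continuous_g K).isClosedEmbedding (g_injective K)).isEmbedding, range_g K hK⟩

end Groth.Agent.H77.RFanB
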