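-- helper77: more on quadratic etale algebras
import Groth.Agent.H77.RInv

set_option autoImplicit false
set_option linter.style.haveILetI false
set_option linter.style.longLine false
set_option linter.unusedVariables false
universe u v w

namespace Groth.Agent.H77

open RInv

/-- A two-dimensional formally unramified algebra over a field with basis `1, ε` is a separable
field extension of degree `2` or is `k × k`. -/
theorem field_or_prod {k : Type u} {Q : Type v} [Field k] [CommRing Q] [Algebra k Q]
    [Algebra.FormallyUnramified k Q] (B : Module.Basis (Fin 2) k Q) (hB0 : B 0 = 1) :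
    (IsField Q ∧ Module.finrank k Q = 2 ∧ Algebra.IsSeparable k Q) ∨
      Nonempty (Q ≃ₐ[k] k × k) := by
  classical
  haveI : Module.Finite k Q := Module.Finite.of_basis B
  haveI : Nontrivial Q := ⟨⟨0, 1, by rw [← hB0]; exact (B.ne_zero 0).symm⟩⟩
  obtain ⟨ε, hε⟩ : ∃ ε, ε = B 1 := ⟨_, rfl⟩
  obtain ⟨n, hn⟩ : ∃ n, n = B.repr (ε * ε) 0 := ⟨_, rfl⟩
  obtain ⟨c, hc⟩ : ∃ c, c = B.repr (ε * ε) 1 := ⟨_, rfl⟩
  have hx : ∀ x : Q, x = algebraMap k Q (B.repr x 0) + algebraMap k Q (B.repr x 1) * ε := by
    intro x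
    conv_lhs => rw [← B.sum_repr x, Fin.sum_univ_two, hB0]
    rw [Algebra.smul_def, Algebra.smul_def, mul_one, hε]
  have hee : ε * ε = algebraMap k Q n + algebraMap k Q c * ε := by
    rw [hn, hc]; exact hx (ε * ε)
  have hq : ∀ a b : k, B.repr (algebraMap k Q a + algebraMap k Q b * ε) 0 = a ∧
      B.repr (algebraMap k Q a + algebraMap k Q b * ε) 1 = b := by
    intro a b
    have : algebraMap k Q a + algebraMap k Q b * ε = a • B 0 + b • B 1 := by
      rw [hB0, Algebra.smul_def, Algebra.smul_def, mul_one, hε]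
    rw [this]
    constructor <;> simp
  have hfin2 : Module.finrank k Q = 2 := by
    rw [Module.finrank_eq_card_basis B]; simp
  have hδ : IsUnit (2 * ε - algebraMap k Q c) := by
    have := isUnit_two_mul_sub (S := k) (R := Q) inferInstance B hB0
    rw [← hε, ← hc] at this
    exact this
  have hD : 4 * n + c * c ≠ 0 := by
    intro h0
    have h1 : (2 * ε - algebraMap k Q c) * (2 * ε - algebraMap k Q c) =
        algebraMap k Q (4 * n + c * c) := by
      simp only [map_add, map_mul, map_ofNat]
      linear_combination 4 * hee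
    rw [h0, map_zero] at h1
    have := hδ.mul hδ
    rw [h1] at this
    exact not_isUnit_zero this
  by_cases hroot : ∃ α : k, α * α = n + c * α
  · right
    obtain ⟨α, hα⟩ := hroot
    obtain ⟨β, hβdef⟩ : ∃ β, β = c - α := ⟨_, rfl⟩
    have hβ : β * β = n + c * β := by rw [hβdef]; linear_combination hα
    have hαβ : α ≠ β := by
      intro h
      apply hD
      rw [hβdef] at h
      have hc2 : c = 2 * α := by linear_combination (-1 : k) * h
      linear_combination (-4) * hα + (c - 2 * α) * hc2
    let L : Q →ₗ[k] k × k := B.constr k ![(1, 1), (α, β)]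
    have hL0 : L (B 0) = (1, 1) := by simp [L]
    have hL1 : L (B 1) = (α, β) := by simp [L]
    have hLx : ∀ x, L x = (B.repr x 0 + B.repr x 1 * α, B.repr x 0 + B.repr x 1 * β) := by
      intro x
      conv_lhs => rw [← B.sum_repr x, Fin.sum_univ_two, map_add, map_smul, map_smul, hL0, hL1]
      ext <;> simp
    have hmul : ∀ x y, L (x * y) = L x * L y := by
      intro x y
      obtain ⟨x0, x1, rfl⟩ : ∃ x0 x1 : k, x = algebraMap k Q x0 + algebraMap k Q x1 * ε :=
        ⟨_, _, hx x⟩
      obtain ⟨y0, y1, rfl⟩ : ∃ y0 y1 : k, y = algebraMap k Q y0 + algebraMap k Q y1 * ε :=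
        ⟨_, _, hx y⟩
      have hxy : (algebraMap k Q x0 + algebraMap k Q x1 * ε) *
          (algebraMap k Q y0 + algebraMap k Q y1 * ε) =
          algebraMap k Q (x0 * y0 + x1 * y1 * n) +
            algebraMap k Q (x0 * y1 + x1 * y0 + x1 * y1 * c) * ε := by
        simp only [map_add, map_mul]
        linear_combination (algebraMap k Q x1 * algebraMap k Q y1) * hee
      rw [hxy, hLx, hLx (algebraMap k Q x0 + algebraMap k Q x1 * ε),
        hLx (algebraMap k Q y0 + algebraMap k Q y1 * ε)]
      simp only [(hq x0 x1).1, (hq x0 x1).2, (hq y0 y1).1, (hq y0 y1).2,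
        (hq (x0 * y0 + x1 * y1 * n) (x0 * y1 + x1 * y0 + x1 * y1 * c)).1,
        (hq (x0 * y0 + x1 * y1 * n) (x0 * y1 + x1 * y0 + x1 * y1 * c)).2, Prod.mk_mul_mk,
        Prod.mk.injEq]
      refine ⟨?_, ?_⟩
      · linear_combination (-(x1 * y1)) * hα
      · linear_combination (-(x1 * y1)) * hβ
    have hone : L 1 = 1 := by rw [← hB0, hL0]; rfl
    have hinj : Function.Injective L := by
      rw [injective_iff_map_eq_zero]
      intro x hLx0
      rw [hLx, Prod.mk_eq_zero] at hLx0
      obtain ⟨h1, h2⟩ := hLx0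
      have h3 : B.repr x 1 * (α - β) = 0 := by linear_combination h1 - h2
      have h4 : B.repr x 1 = 0 := by
        rcases mul_eq_zero.1 h3 with h | h
        · exact h
        · exact absurd (sub_eq_zero.1 h) hαβ
      have h5 : B.repr x 0 = 0 := by rw [h4] at h1; simpa using h1
      rw [hx x, h4, h5]; simp
    have hsurj : Function.Surjective L :=
      (LinearMap.injective_iff_surjective_of_finrank_eq_finrank (by rw [hfin2]; simp)).1 hinj
    exact ⟨AlgEquiv.ofBijective (AlgHom.ofLinearMap L hone hmul) ⟨hinj, hsurj⟩⟩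
  · left
    push Not at hroot
    have hN : ∀ x : Q, x ≠ 0 → (B.repr x 0) * (B.repr x 0) + c * (B.repr x 0) * (B.repr x 1) -
        n * (B.repr x 1 * B.repr x 1) ≠ 0 := by
      intro x hx0 hN
      by_cases h1 : B.repr x 1 = 0
      · rw [h1] at hN
        have h0 : B.repr x 0 = 0 := by simpa using hN
        apply hx0
        rw [hx x, h0, h1]; simp
      · apply hroot (-(B.repr x 0) / B.repr x 1)
        field_simp
        linear_combination hN
    have hfield : IsField Q := by
      refine ⟨⟨0, 1, zero_ne_one⟩, mul_comm, ?_⟩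
      intro x hx0
      obtain ⟨x0, hx0'⟩ : ∃ x0, x0 = B.repr x 0 := ⟨_, rfl⟩
      obtain ⟨x1, hx1'⟩ : ∃ x1, x1 = B.repr x 1 := ⟨_, rfl⟩
      have hxe : x = algebraMap k Q x0 + algebraMap k Q x1 * ε := by
        rw [hx0', hx1']; exact hx x
      have hNx : x0 * x0 + c * x0 * x1 - n * (x1 * x1) ≠ 0 := by
        rw [hx0', hx1']; exact hN x hx0
      have hxbar : x * (algebraMap k Q (x0 + x1 * c) - algebraMap k Q x1 * ε) =
          algebraMap k Q (x0 * x0 + c * x0 * x1 - n * (x1 * x1)) := by
        rw [hxe]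
        simp only [map_add, map_sub, map_mul]
        linear_combination (-(algebraMap k Q x1 * algebraMap k Q x1)) * hee
      refine ⟨(algebraMap k Q (x0 + x1 * c) - algebraMap k Q x1 * ε) *
        algebraMap k Q (x0 * x0 + c * x0 * x1 - n * (x1 * x1))⁻¹, ?_⟩
      rw [← mul_assoc, hxbar, ← map_mul, mul_inv_cancel₀ hNx, map_one]
    refine ⟨hfield, hfin2, ?_⟩
    letI : Field Q := hfield.toField
    exact Algebra.FormallyUnramified.isSeparable k Q

end Groth.Agent.H77
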