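-- helper77: rings with involution: base change of the involution to a flat algebra / localization
import Groth.Agent.H77.RInv
import Mathlib

set_option autoImplicit false
universe u v w

namespace Groth.Agent.H77

open RInv TensorProduct

section BaseChange
variable {S : Type u} {R : Type v} [CommRing S] [CommRing R] [Algebra S R] (lam : R ≃+* R)
  (S' : Type w) [CommRing S'] [Algebra S S']

/-- `lam` as an `S`-algebra automorphism. -/
def lamAlg (hS : IsFixedRing S R lam) : R ≃ₐ[S] R :=
  AlgEquiv.ofRingEquiv (f := lam) (lam_algebraMap lam hS)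

theorem lamAlg_apply (hS : IsFixedRing S R lam) (r : R) : lamAlg lam hS r = lam r := rfl

/-- base change of the involution, as an algebra automorphism. -/
noncomputable def lamTAlg (hS : IsFixedRing S R lam) : (S' ⊗[S] R) ≃ₐ[S'] (S' ⊗[S] R) :=
  Algebra.TensorProduct.congr (AlgEquiv.refl : S' ≃ₐ[S'] S') (lamAlg lam hS)

/-- base change of the involution. -/
noncomputable def lamT (hS : IsFixedRing S R lam) : (S' ⊗[S] R) ≃+* (S' ⊗[S] R) :=
  (lamTAlg lam S' hS).toRingEquiv

theorem lamT_tmul (hS : IsFixedRing S R lam) (s' : S') (r : R) :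
    lamT lam S' hS (s' ⊗ₜ[S] r) = s' ⊗ₜ[S] lam r := by
  show lamTAlg lam S' hS (s' ⊗ₜ[S] r) = _
  simp [lamTAlg, lamAlg_apply]

theorem lamT_smul (hS : IsFixedRing S R lam) (s : S) (t : S' ⊗[S] R) :
    lamT lam S' hS (s • t) = s • lamT lam S' hS t := by
  induction t using TensorProduct.induction_on with
  | zero => rw [smul_zero, map_zero, smul_zero]
  | tmul a b => rw [TensorProduct.smul_tmul', lamT_tmul, lamT_tmul, TensorProduct.smul_tmul']
  | add x y hx hy => rw [smul_add, map_add, map_add, hx, hy, smul_add]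

theorem lamT_involutive (hlam : Function.Involutive lam) (hS : IsFixedRing S R lam) :
    Function.Involutive (lamT lam S' hS) := by
  intro t
  induction t using TensorProduct.induction_on with
  | zero => rw [map_zero, map_zero]
  | tmul a b => rw [lamT_tmul, lamT_tmul, hlam]
  | add x y hx hy => rw [map_add, map_add, hx, hy]

theorem algebraMap_tensor (s' : S') : algebraMap S' (S' ⊗[S] R) s' = s' ⊗ₜ[S] (1 : R) := rfl

theorem isFixedRing_baseChange [Module.Flat S S'] (hS : IsFixedRing S R lam) :
    IsFixedRing S' (S' ⊗[S] R) (lamT lam S' hS) := by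
  constructor
  · rw [injective_iff_map_eq_zero]
    intro s' hs'
    rw [algebraMap_tensor] at hs'
    have hinj := Module.Flat.lTensor_preserves_injective_linearMap (M := S')
      (Algebra.linearMap S R) hS.1
    have h1 : (Algebra.linearMap S R).lTensor S' (s' ⊗ₜ[S] (1 : S)) = 0 := by
      rw [LinearMap.lTensor_tmul, Algebra.linearMap_apply, map_one]; exact hs'
    have h2 : s' ⊗ₜ[S] (1 : S) = 0 := hinj (by rw [h1, map_zero])
    have h3 := congrArg (TensorProduct.rid S S') h2
    rwa [TensorProduct.rid_tmul, one_smul, map_zero] at h3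
  · intro t
    constructor
    · intro ht
      obtain ⟨δ, hδ⟩ : ∃ δ : R →ₗ[S] R, δ = (lamAlg lam hS).toLinearMap - LinearMap.id := ⟨_, rfl⟩
      have hex : Function.Exact (Algebra.linearMap S R) δ := by
        intro r
        rw [hδ, LinearMap.sub_apply, AlgEquiv.toLinearMap_apply, LinearMap.id_apply, sub_eq_zero,
          lamAlg_apply]
        exact hS.2 r
      have hex' := Module.Flat.lTensor_exact S' hex
      have hδt : δ.lTensor S' t = 0 := by
        have : ∀ t : S' ⊗[S] R, δ.lTensor S' t = lamT lam S' hS t - t := by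
          intro t
          induction t using TensorProduct.induction_on with
          | zero => simp
          | tmul a b =>
            rw [LinearMap.lTensor_tmul, hδ, LinearMap.sub_apply, AlgEquiv.toLinearMap_apply,
              LinearMap.id_apply, lamAlg_apply, lamT_tmul, tmul_sub]
          | add x y hx hy => rw [map_add, map_add, hx, hy]; abel
        rw [this, ht, sub_self]
      obtain ⟨y, hy⟩ := (hex' t).mp hδt
      rw [← hy]
      clear hy hδt ht
      induction y using TensorProduct.induction_on with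
      | zero => exact ⟨0, by simp⟩
      | tmul a s =>
        refine ⟨s • a, ?_⟩
        rw [algebraMap_tensor, LinearMap.lTensor_tmul, Algebra.linearMap_apply,
          Algebra.algebraMap_eq_smul_one, TensorProduct.tmul_smul, TensorProduct.smul_tmul']
      | add x y hx hy =>
        obtain ⟨a, ha⟩ := hx
        obtain ⟨b, hb⟩ := hy
        exact ⟨a + b, by rw [map_add, map_add, ha, hb]⟩
    · rintro ⟨s', rfl⟩
      rw [algebraMap_tensor, lamT_tmul, map_one]

theorem unit_ascend (d r' : R) (m : S) (hm : IsUnit (algebraMap S S' m))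
    (h : d * r' = algebraMap S R m) : IsUnit ((1 : S') ⊗ₜ[S] d) := by
  obtain ⟨u, hu⟩ := hm.exists_right_inv
  refine IsUnit.of_mul_eq_one (u ⊗ₜ[S] r') ?_
  rw [Algebra.TensorProduct.tmul_mul_tmul, one_mul, h, Algebra.algebraMap_eq_smul_one,
    ← TensorProduct.smul_tmul, Algebra.smul_def, hu, Algebra.TensorProduct.one_def]

theorem isQuadEtale_of_exists [Module.Flat S S'] (hlam : Function.Involutive lam)
    (hS : IsFixedRing S R lam) (r r' : R) (m : S) (hm : IsUnit (algebraMap S S' m))
    (h : (r - lam r) * r' = algebraMap S R m) : IsQuadEtale S' (S' ⊗[S] R) := by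
  refine isQuadEtale_of_isUnit (lamT lam S' hS) (lamT_involutive lam S' hlam hS)
    (isFixedRing_baseChange lam S' hS) ((1 : S') ⊗ₜ[S] r) ?_
  rw [lamT_tmul, ← tmul_sub]
  exact unit_ascend S' _ r' m hm h

section Loc
variable (M : Submonoid S) [IsLocalization M S']

theorem exists_smul_eq_tmul (t : S' ⊗[S] R) :
    ∃ (m : M) (r : R), (m : S) • t = (1 : S') ⊗ₜ[S] r := by
  haveI : IsLocalizedModule M (TensorProduct.mk S S' R 1) :=
    (isLocalizedModule_iff_isBaseChange M S' _).mpr (TensorProduct.isBaseChange S R S')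
  obtain ⟨⟨r, m⟩, h⟩ := IsLocalizedModule.surj M (TensorProduct.mk S S' R 1) t
  exact ⟨m, r, h⟩

theorem exists_smul_eq_zero (r : R) (h : (1 : S') ⊗ₜ[S] r = 0) : ∃ m : M, (m : S) • r = 0 := by
  haveI : IsLocalizedModule M (TensorProduct.mk S S' R 1) :=
    (isLocalizedModule_iff_isBaseChange M S' _).mpr (TensorProduct.isBaseChange S R S')
  exact (IsLocalizedModule.eq_zero_iff M (TensorProduct.mk S S' R 1)).mp h

theorem unit_descend (d : R) (hd : IsUnit ((1 : S') ⊗ₜ[S] d)) :
    ∃ (r' : R) (m : M), d * r' = algebraMap S R m := by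
  obtain ⟨w, hw⟩ := hd.exists_right_inv
  obtain ⟨m1, r1, h1⟩ := exists_smul_eq_tmul (R := R) S' M w
  have h2 : (1 : S') ⊗ₜ[S] (d * r1 - algebraMap S R m1) = 0 := by
    rw [tmul_sub, sub_eq_zero]
    calc (1 : S') ⊗ₜ[S] (d * r1) = ((1 : S') ⊗ₜ[S] d) * ((1 : S') ⊗ₜ[S] r1) := by
          rw [Algebra.TensorProduct.tmul_mul_tmul, one_mul]
      _ = ((1 : S') ⊗ₜ[S] d) * ((m1 : S) • w) := by rw [h1]
      _ = (m1 : S) • (((1 : S') ⊗ₜ[S] d) * w) := by rw [mul_smul_comm]
      _ = (m1 : S) • (1 : S' ⊗[S] R) := by rw [hw]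
      _ = (1 : S') ⊗ₜ[S] algebraMap S R m1 := by
          rw [Algebra.TensorProduct.one_def, TensorProduct.smul_tmul', TensorProduct.smul_tmul,
            Algebra.algebraMap_eq_smul_one]
  obtain ⟨m2, h3⟩ := exists_smul_eq_zero S' M _ h2
  refine ⟨(m2 : S) • r1, m2 * m1, ?_⟩
  rw [smul_sub, sub_eq_zero] at h3
  rw [mul_smul_comm, h3, Submonoid.coe_mul, map_mul, Algebra.smul_def]

theorem exists_of_isQuadEtale_loc [IsLocalRing S'] (hlam : Function.Involutive lam)
    (hS : IsFixedRing S R lam) (hq : IsQuadEtale S' (S' ⊗[S] R)) :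
    ∃ (r r' : R) (m : M), (r - lam r) * r' = algebraMap S R m := by
  haveI : Module.Flat S S' := IsLocalization.flat S' M
  obtain ⟨t, ht⟩ := exists_isUnit_sub_of_isQuadEtale (lamT lam S' hS)
    (lamT_involutive lam S' hlam hS) (isFixedRing_baseChange lam S' hS) hq
  obtain ⟨m1, r, h1⟩ := exists_smul_eq_tmul (R := R) S' M t
  have h2 : (m1 : S) • (t - lamT lam S' hS t) = (1 : S') ⊗ₜ[S] (r - lam r) := by
    rw [smul_sub, ← lamT_smul, h1, lamT_tmul, tmul_sub]
  have h3 : IsUnit ((m1 : S) • (t - lamT lam S' hS t)) := by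
    rw [← algebraMap_smul S' (m1 : S), Algebra.smul_def]
    exact ((IsLocalization.map_units S' m1).map (algebraMap S' (S' ⊗[S] R))).mul ht
  rw [h2] at h3
  obtain ⟨r', m, h⟩ := unit_descend S' M _ h3
  exact ⟨r, r', m, h⟩

end Loc

end BaseChange

section Branch
variable {S : Type u} {R : Type v} [CommRing S] [CommRing R] [Algebra S R] (lam : R ≃+* R)

/-- incomparability of primes over the fixed ring (elementary). -/
theorem prime_eq_of_le (hlam : Function.Involutive lam) (hS : IsFixedRing S R lam)
    (q' q : Ideal R) [q'.IsPrime] [q.IsPrime] (hle : q' ≤ q)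
    (hcomap : q'.comap (algebraMap S R) = q.comap (algebraMap S R)) : q' = q := by
  refine le_antisymm hle (fun x hx => ?_)
  by_contra hx'
  obtain ⟨t, ht⟩ := exists_of_fixed lam hS (tr_fixed lam hlam x)
  obtain ⟨n, hn⟩ := exists_of_fixed lam hS (nm_fixed lam hlam x)
  have hnq : algebraMap S R n ∈ q := by rw [hn]; exact Ideal.mul_mem_right _ _ hx
  have hnq' : algebraMap S R n ∈ q' := by
    have : n ∈ q.comap (algebraMap S R) := hnq
    rw [← hcomap] at this; exact this
  have h1 : x * (x - algebraMap S R t) ∈ q' := by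
    have : x * (x - algebraMap S R t) = - algebraMap S R n := by rw [ht, hn]; ring
    rw [this]; exact neg_mem hnq'
  have h2 : x - algebraMap S R t ∈ q' :=
    ((inferInstance : q'.IsPrime).mem_or_mem h1).resolve_left hx'
  have h3 : lam x ∈ q := by
    have : lam x = - (x - algebraMap S R t) := by rw [ht]; ring
    rw [this]; exact neg_mem (hle h2)
  have htq : algebraMap S R t ∈ q := by rw [ht]; exact add_mem hx h3
  have htq' : algebraMap S R t ∈ q' := by
    have : t ∈ q.comap (algebraMap S R) := htq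
    rw [← hcomap] at this; exact this
  apply hx'
  have : x = (x - algebraMap S R t) + algebraMap S R t := by ring
  rw [this]; exact add_mem h2 htq'

variable (S' : Type w) [CommRing S'] [Algebra S S'] (P : Ideal S) [P.IsPrime]
  [IsLocalization.AtPrime S' P]

theorem branch_forward (hlam : Function.Involutive lam) (hS : IsFixedRing S R lam)
    (hnq : ¬ IsQuadEtale S' (S' ⊗[S] R)) :
    ∃ q : Ideal R, q.IsPrime ∧ q.comap (algebraMap S R) = P ∧
      (∀ q' : Ideal R, q'.IsPrime → q'.comap (algebraMap S R) = P → q' = q) ∧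
      ∀ r, lam r - r ∈ q := by
  have hlocS : IsLocalRing S' := IsLocalization.AtPrime.isLocalRing S' P
  have hflat : Module.Flat S S' := IsLocalization.flat S' P.primeCompl
  have hfix := isFixedRing_baseChange lam S' hS
  have hinv := lamT_involutive lam S' hlam hS
  have hjac : ∀ t : S' ⊗[S] R, lamT lam S' hS t - t ∈ Ring.jacobson (S' ⊗[S] R) := by
    intro t
    have hanti : lamT lam S' hS (lamT lam S' hS t - t) = - (lamT lam S' hS t - t) := by
      rw [map_sub, hinv t]; ring
    rcases isUnit_or_mem_jacobson_of_anti (lamT lam S' hS) hinv hfix _ hanti with hu | hj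
    · exfalso
      apply hnq
      refine isQuadEtale_of_isUnit (lamT lam S' hS) hinv hfix t ?_
      have : t - lamT lam S' hS t = - (lamT lam S' hS t - t) := by ring
      rw [this]; exact hu.neg
    · exact hj
  have hloc : IsLocalRing (S' ⊗[S] R) :=
    isLocalRing_of_forall_mem_jacobson (lamT lam S' hS) hinv hfix hjac
  obtain ⟨g, hg⟩ : ∃ g : R →+* S' ⊗[S] R, ∀ r, g r = (1 : S') ⊗ₜ[S] r :=
    ⟨(Algebra.TensorProduct.includeRight : R →ₐ[S] S' ⊗[S] R).toRingHom, fun r => rfl⟩
  have hgS : ∀ s : S, g (algebraMap S R s) = algebraMap S' (S' ⊗[S] R) (algebraMap S S' s) := by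
    intro s
    rw [hg, algebraMap_tensor, Algebra.algebraMap_eq_smul_one, Algebra.algebraMap_eq_smul_one,
      TensorProduct.tmul_smul, TensorProduct.smul_tmul']
  have hqP : Ideal.comap (algebraMap S R) (Ideal.comap g (IsLocalRing.maximalIdeal (S' ⊗[S] R))) = P := by
    ext s
    rw [Ideal.mem_comap, Ideal.mem_comap, hgS, IsLocalRing.mem_maximalIdeal, mem_nonunits_iff]
    constructor
    · intro h
      by_contra hs
      apply h
      have : IsUnit (algebraMap S S' s) :=
        (IsLocalization.AtPrime.isUnit_to_map_iff S' P s).mpr hs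
      exact this.map _
    · intro hs hu
      have h1 : IsUnit (algebraMap S S' s) :=
        isUnit_of_isUnit_algebraMap (lamT lam S' hS) hfix _ hu
      exact (IsLocalization.AtPrime.isUnit_to_map_iff S' P s).mp h1 hs
  refine ⟨(IsLocalRing.maximalIdeal (S' ⊗[S] R)).comap g, inferInstance, hqP, ?_, ?_⟩
  · intro q' hq' hq'P
    refine prime_eq_of_le lam hlam hS q' _ ?_ (by rw [hq'P, hqP])
    intro x hx
    rw [Ideal.mem_comap]
    by_contra hgx
    have hu : IsUnit (g x) := by
      by_contra hnu
      exact hgx ((IsLocalRing.mem_maximalIdeal _).mpr hnu)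
    rw [hg] at hu
    obtain ⟨r', m, hm⟩ := unit_descend S' P.primeCompl x hu
    have h1 : algebraMap S R m ∈ q' := by rw [← hm]; exact Ideal.mul_mem_right _ _ hx
    have h2 : (m : S) ∈ q'.comap (algebraMap S R) := h1
    rw [hq'P] at h2
    exact m.2 h2
  · intro r
    rw [Ideal.mem_comap, map_sub, hg, hg, ← lamT_tmul lam S' hS]
    have := hjac ((1 : S') ⊗ₜ[S] r)
    rwa [← Ideal.jacobson_bot, IsLocalRing.jacobson_eq_maximalIdeal ⊥ bot_ne_top] at this

theorem branch_backward (hlam : Function.Involutive lam) (hS : IsFixedRing S R lam)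
    (q : Ideal R) (hq : q.comap (algebraMap S R) = P) (hD : ∀ r, lam r - r ∈ q) :
    ¬ IsQuadEtale S' (S' ⊗[S] R) := by
  intro hQ
  have hlocS : IsLocalRing S' := IsLocalization.AtPrime.isLocalRing S' P
  obtain ⟨r, r', m, h⟩ := exists_of_isQuadEtale_loc lam S' P.primeCompl hlam hS hQ
  have h1 : algebraMap S R m ∈ q := by
    rw [← h]
    apply Ideal.mul_mem_right
    have : r - lam r = - (lam r - r) := by ring
    rw [this]; exact neg_mem (hD r)
  have h2 : (m : S) ∈ q.comap (algebraMap S R) := h1
  rw [hq] at h2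
  exact m.2 h2

theorem exists_notMem_of_isQuadEtale (hlam : Function.Involutive lam) (hS : IsFixedRing S R lam)
    (hQ : IsQuadEtale S' (S' ⊗[S] R)) :
    ∃ m : S, m ∉ P ∧ ∀ (P'' : Ideal S) [P''.IsPrime],
      ¬ IsQuadEtale (Localization.AtPrime P'') (Localization.AtPrime P'' ⊗[S] R) → m ∈ P'' := by
  have hlocS : IsLocalRing S' := IsLocalization.AtPrime.isLocalRing S' P
  obtain ⟨r, r', m, h⟩ := exists_of_isQuadEtale_loc lam S' P.primeCompl hlam hS hQ
  refine ⟨m, m.2, fun P'' _ hn => ?_⟩
  by_contra hm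
  apply hn
  have hflat : Module.Flat S (Localization.AtPrime P'') := IsLocalization.flat _ P''.primeCompl
  exact isQuadEtale_of_exists lam _ hlam hS r r' m
    (IsLocalization.map_units (Localization.AtPrime P'') (⟨m, hm⟩ : P''.primeCompl)) h

end Branch

end Groth.Agent.H77
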