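import Groth.Prelude.Def_W4c2filtblowupsingRees
import Mathlib.RingTheory.Polynomial.GaussLemma
import Mathlib.RingTheory.Polynomial.GaussNorm
import Mathlib.RingTheory.IntegralClosure.IntegrallyClosed
import Mathlib.RingTheory.Valuation.Basic
import Mathlib.RingTheory.Polynomial.UniqueFactorization
import Mathlib.RingTheory.PrincipalIdealDomain
import Mathlib.RingTheory.Polynomial.IsIntegral

set_option autoImplicit false

namespace Groth.Agent.H77.ReesIC

open Polynomial

universe u

section StepA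

variable (A K : Type u) [CommRing A] [IsDomain A] [IsIntegrallyClosed A] [Field K] [Algebra A K]
  [IsFractionRing A K]

theorem exists_map_eq_of_isIntegralElem (f : K[X])
    (hf : (Polynomial.mapRingHom (algebraMap A K)).IsIntegralElem f) :
    ∃ g : A[X], g.map (algebraMap A K) = f := by
  obtain ⟨P, hP, hP0⟩ := hf
  obtain ⟨d, hd⟩ : ∃ d : ℕ, ∀ i, (P.coeff i).natDegree ≤ d := by
    refine ⟨P.support.sup (fun i => (P.coeff i).natDegree), fun i => ?_⟩
    by_cases hi : i ∈ P.support
    · exact Finset.le_sup (f := fun i => (P.coeff i).natDegree) hi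
    · rw [Polynomial.notMem_support_iff.mp hi, natDegree_zero]
      exact Nat.zero_le _
  obtain ⟨r, hr⟩ : ∃ r : ℕ, f.natDegree < r ∧ d < r := ⟨max f.natDegree d + 1, by omega, by omega⟩
  obtain ⟨D, hD⟩ : (X - C (X ^ r : A[X])) ∣ P - C (P.eval (X ^ r)) := Polynomial.X_sub_C_dvd_sub_C_eval
  have h1 : eval₂ (Polynomial.mapRingHom (algebraMap A K)) f (P - C (P.eval (X ^ r))) =
      eval₂ (Polynomial.mapRingHom (algebraMap A K)) f ((X - C (X ^ r : A[X])) * D) := by rw [hD]
  rw [eval₂_sub, hP0, eval₂_C, eval₂_mul, eval₂_sub, eval₂_X, eval₂_C, zero_sub] at h1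
  have hc : Polynomial.mapRingHom (algebraMap A K) (X ^ r : A[X]) = X ^ r := by
    rw [map_pow, Polynomial.coe_mapRingHom, Polynomial.map_X]
  rw [hc] at h1
  have hdiv : (X ^ r - f : K[X]) ∣ (P.eval (X ^ r)).map (algebraMap A K) := by
    refine ⟨eval₂ (Polynomial.mapRingHom (algebraMap A K)) f D, ?_⟩
    have h2 : Polynomial.mapRingHom (algebraMap A K) (P.eval (X ^ r)) =
        (P.eval (X ^ r)).map (algebraMap A K) := rfl
    rw [← h2]
    linear_combination (-1 : K[X]) * h1
  have hmonic_b : (P.eval (X ^ r : A[X])).Monic := by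
    have hb : P.eval (X ^ r : A[X]) = X ^ (r * P.natDegree) +
        ∑ i ∈ Finset.range P.natDegree, P.coeff i * (X ^ r) ^ i := by
      conv_lhs => rw [hP.as_sum]
      rw [eval_add, eval_pow, eval_X, eval_finset_sum, ← pow_mul]
      congr 1
      refine Finset.sum_congr rfl fun i _ => ?_
      rw [eval_mul, eval_C, eval_pow, eval_X]
    rw [hb]
    apply monic_X_pow_add
    refine (degree_sum_le _ _).trans_lt ?_
    rw [Finset.sup_lt_iff (WithBot.bot_lt_coe _)]
    intro i hi
    have hi' : i < P.natDegree := Finset.mem_range.mp hi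
    calc degree (P.coeff i * (X ^ r) ^ i) ≤ ((P.coeff i * (X ^ r) ^ i).natDegree : WithBot ℕ) :=
          degree_le_natDegree
      _ ≤ ((d + r * i : ℕ) : WithBot ℕ) := by
          apply Nat.cast_le.mpr
          refine natDegree_mul_le.trans (add_le_add (hd i) ?_)
          rw [← pow_mul]
          exact natDegree_X_pow_le _
      _ < ((r * P.natDegree : ℕ) : WithBot ℕ) := by
          apply Nat.cast_lt.mpr
          calc d + r * i < r + r * i := by omega
            _ = r * (i + 1) := by ring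
            _ ≤ r * P.natDegree := Nat.mul_le_mul_left r (by omega)
  have hmonic_g : (X ^ r - f : K[X]).Monic := by
    apply monic_X_pow_sub
    exact (degree_le_natDegree).trans_lt (by exact_mod_cast hr.1)
  obtain ⟨g', hg'⟩ := IsIntegrallyClosed.eq_map_mul_C_of_dvd K hmonic_b hdiv
  rw [hmonic_g.leadingCoeff, C_1, mul_one] at hg'
  refine ⟨X ^ r - g', ?_⟩
  rw [Polynomial.map_sub, Polynomial.map_pow, Polynomial.map_X, hg']
  ring

end StepA

section Abv

variable {A K : Type u} [CommRing A] [IsDomain A] [Field K] [Algebra A K] [IsFractionRing A K]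
  (w : AddValuation K (WithTop ℤ)) (q : ℕ)

/-- integer valuation of `x : A` (`0` if `x = 0`). -/
noncomputable def ev (x : A) : ℤ := (w (algebraMap A K x)).untopD 0

theorem coe_ev {x : A} (hx : x ≠ 0) : ((ev w x : ℤ) : WithTop ℤ) = w (algebraMap A K x) := by
  have h1 : algebraMap A K x ≠ 0 := by
    intro h
    exact hx ((IsFractionRing.injective A K) (h.trans (map_zero _).symm))
  have h2 : w (algebraMap A K x) ≠ ⊤ := (AddValuation.ne_top_iff w).mpr h1
  obtain ⟨n, hn⟩ := WithTop.ne_top_iff_exists.mp h2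
  unfold ev
  rw [← hn, WithTop.untopD_coe]

theorem ev_mul {x y : A} (hx : x ≠ 0) (hy : y ≠ 0) : ev w (x * y) = ev w x + ev w y := by
  have hxy : x * y ≠ 0 := mul_ne_zero hx hy
  have h := coe_ev w hxy
  rw [map_mul, AddValuation.map_mul, ← coe_ev w hx, ← coe_ev w hy, ← WithTop.coe_add] at h
  exact WithTop.coe_injective h

theorem ev_add {x y : A} (hx : x ≠ 0) (hy : y ≠ 0) (hxy : x + y ≠ 0) :
    min (ev w x) (ev w y) ≤ ev w (x + y) := by
  have h := AddValuation.map_add w (algebraMap A K x) (algebraMap A K y)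
  rw [← map_add, ← coe_ev w hx, ← coe_ev w hy, ← coe_ev w hxy, ← WithTop.coe_min] at h
  exact WithTop.coe_le_coe.mp h

open Classical in
noncomputable def abvFun (x : A) : ℝ := if x = 0 then 0 else (2:ℝ) ^ (-(q:ℤ) * ev w x)

theorem abvFun_zero : abvFun w q (0:A) = 0 := if_pos rfl

theorem abvFun_of_ne {x : A} (hx : x ≠ 0) : abvFun w q x = (2:ℝ) ^ (-(q:ℤ) * ev w x) := if_neg hx

theorem abvFun_nonneg (x : A) : 0 ≤ abvFun w q x := by
  by_cases hx : x = 0
  · rw [hx, abvFun_zero]
  · rw [abvFun_of_ne w q hx]; exact zpow_nonneg (by norm_num) _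

theorem abvFun_eq_zero {x : A} : abvFun w q x = 0 ↔ x = 0 := by
  constructor
  · intro h
    by_contra hx
    rw [abvFun_of_ne w q hx] at h
    exact (zpow_pos (by norm_num : (0:ℝ) < 2) _).ne' h
  · rintro rfl; exact abvFun_zero w q

theorem abvFun_mul (x y : A) : abvFun w q (x * y) = abvFun w q x * abvFun w q y := by
  by_cases hx : x = 0
  · rw [hx, zero_mul, abvFun_zero, zero_mul]
  by_cases hy : y = 0
  · rw [hy, mul_zero, abvFun_zero, mul_zero]
  rw [abvFun_of_ne w q (mul_ne_zero hx hy), abvFun_of_ne w q hx, abvFun_of_ne w q hy,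
    ev_mul w hx hy, mul_add, zpow_add₀ (by norm_num : (2:ℝ) ≠ 0)]

theorem abvFun_add_le_max (x y : A) :
    abvFun w q (x + y) ≤ max (abvFun w q x) (abvFun w q y) := by
  by_cases hx : x = 0
  · rw [hx, zero_add]; exact le_max_right _ _
  by_cases hy : y = 0
  · rw [hy, add_zero]; exact le_max_left _ _
  by_cases hxy : x + y = 0
  · rw [hxy, abvFun_zero]; exact le_max_of_le_left (abvFun_nonneg w q x)
  have h := ev_add w hx hy hxy
  have hq : (0:ℤ) ≤ (q:ℤ) := Int.natCast_nonneg q
  rw [abvFun_of_ne w q hxy, abvFun_of_ne w q hx, abvFun_of_ne w q hy]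
  rcases min_le_iff.mp h with h | h
  · apply le_max_of_le_left
    apply zpow_le_zpow_right₀ (by norm_num : (1:ℝ) ≤ 2)
    nlinarith
  · apply le_max_of_le_right
    apply zpow_le_zpow_right₀ (by norm_num : (1:ℝ) ≤ 2)
    nlinarith

/-- The absolute value `x ↦ 2 ^ (-q * w x)` on `A`. -/
noncomputable def abv : AbsoluteValue A ℝ where
  toFun := abvFun w q
  map_mul' := abvFun_mul w q
  nonneg' := abvFun_nonneg w q
  eq_zero' := fun _ => abvFun_eq_zero w q
  add_le' := fun x y => (abvFun_add_le_max w q x y).trans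
    (max_le_add_of_nonneg (abvFun_nonneg w q x) (abvFun_nonneg w q y))

theorem abv_apply (x : A) : abv w q x = abvFun w q x := rfl

theorem abv_na : IsNonarchimedean (abv (A := A) w q) := fun x y => abvFun_add_le_max w q x y

theorem abv_mul_pow_le_one_iff (hq : 0 < q) (p : ℕ) (a : A) (k : ℕ) :
    abv w q a * ((2:ℝ) ^ p) ^ k ≤ 1 ↔
      ((k * p : ℕ) : WithTop ℤ) ≤ (q : WithTop ℤ) * w (algebraMap A K a) := by
  by_cases ha : a = 0
  · subst ha
    have hq' : (q : WithTop ℤ) ≠ 0 := by exact_mod_cast hq.ne'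
    rw [abv_apply, abvFun_zero, zero_mul, map_zero, AddValuation.map_zero, WithTop.mul_top hq']
    exact ⟨fun _ => le_top, fun _ => zero_le_one⟩
  · have h2 : ((k * p : ℕ) : WithTop ℤ) = (((k * p : ℕ) : ℤ) : WithTop ℤ) := by
      rw [WithTop.coe_natCast]
    have h3 : (q : WithTop ℤ) * ((ev w a : ℤ) : WithTop ℤ) =
        (((q:ℤ) * ev w a : ℤ) : WithTop ℤ) := by
      rw [WithTop.coe_mul, WithTop.coe_natCast]
    rw [abv_apply, abvFun_of_ne w q ha, ← coe_ev w ha, ← pow_mul, ← zpow_natCast,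
      ← zpow_add₀ (by norm_num : (2:ℝ) ≠ 0), zpow_le_one_iff_right₀ (by norm_num : (1:ℝ) < 2),
      h2, h3, WithTop.coe_le_coe]
    push_cast
    constructor <;> intro h <;> nlinarith

end Abv

section StepB

theorem eval₂_monic_as_sum {R B : Type*} [CommRing R] [CommRing B] (f : R →+* B) (b : B)
    {P : R[X]} (hP : P.Monic) :
    eval₂ f b P = b ^ P.natDegree + ∑ j ∈ Finset.range P.natDegree, f (P.coeff j) * b ^ j := by
  conv_lhs => rw [hP.as_sum]
  rw [eval₂_add, eval₂_pow, eval₂_X, eval₂_finset_sum]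
  congr 1
  refine Finset.sum_congr rfl fun j _ => ?_
  rw [eval₂_mul, eval₂_C, eval₂_pow, eval₂_X]

variable {A : Type u} [CommRing A] [IsDomain A]

theorem gaussNorm_le_one_iff (v : AbsoluteValue A ℝ) {c : ℝ} (hc : 0 ≤ c) (g : A[X]) :
    g.gaussNorm v c ≤ 1 ↔ ∀ k, v (g.coeff k) * c ^ k ≤ 1 := by
  constructor
  · intro h k
    exact (le_gaussNorm v g hc k).trans h
  · intro h
    obtain ⟨i, hi⟩ := exists_eq_gaussNorm v c g
    rw [hi]; exact h i

theorem gaussNorm_le_one_of_isIntegral (v : AbsoluteValue A ℝ) (hna : IsNonarchimedean v) {c : ℝ}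
    (hc : 0 < c) (S : Subalgebra A A[X]) (hS : ∀ f ∈ S, f.gaussNorm v c ≤ 1)
    (g : A[X]) (hg : IsIntegral S g) : g.gaussNorm v c ≤ 1 := by
  obtain ⟨P, hP, hP0⟩ := hg
  by_contra hlt
  push Not at hlt
  have habs : IsAbsoluteValue (gaussNorm v c) := gaussNorm_isAbsoluteValue hna hc
  have hNna : IsNonarchimedean (gaussNorm v c) := isNonarchimedean_gaussNorm v hna hc.le
  have hmul : ∀ a b : A[X], (a * b).gaussNorm v c = a.gaussNorm v c * b.gaussNorm v c :=
    gaussNorm_mul hna hc
  have hpow : ∀ (a : A[X]) (n : ℕ), (a ^ n).gaussNorm v c = a.gaussNorm v c ^ n :=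
    fun a n => IsAbsoluteValue.abv_pow (gaussNorm v c) a n
  have hneg : ∀ a : A[X], (-a).gaussNorm v c = a.gaussNorm v c :=
    fun a => IsAbsoluteValue.abv_neg (gaussNorm v c) a
  have hm : P.natDegree ≠ 0 := by
    intro hm
    rw [eval₂_monic_as_sum _ _ hP, hm, pow_zero, Finset.range_zero, Finset.sum_empty,
      add_zero] at hP0
    exact one_ne_zero hP0
  have hne : (Finset.range P.natDegree).Nonempty := Finset.nonempty_range_iff.mpr hm
  have h1 : g ^ P.natDegree =
      - ∑ j ∈ Finset.range P.natDegree, algebraMap S A[X] (P.coeff j) * g ^ j := by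
    rw [eval₂_monic_as_sum _ _ hP] at hP0
    exact eq_neg_of_add_eq_zero_left hP0
  have h2 : g.gaussNorm v c ^ P.natDegree ≤ g.gaussNorm v c ^ (P.natDegree - 1) := by
    rw [← hpow, h1, hneg]
    refine (hNna.apply_sum_le_sup hne).trans (Finset.sup'_le _ _ fun j hj => ?_)
    rw [hmul, hpow]
    have hj' : j ≤ P.natDegree - 1 := by
      have := Finset.mem_range.mp hj
      omega
    have hnn : 0 ≤ g.gaussNorm v c ^ j := pow_nonneg (zero_le_one.trans hlt.le) j
    calc (algebraMap S A[X] (P.coeff j)).gaussNorm v c * g.gaussNorm v c ^ j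
        ≤ 1 * g.gaussNorm v c ^ j :=
          mul_le_mul_of_nonneg_right (hS _ (P.coeff j).2) hnn
      _ = g.gaussNorm v c ^ j := one_mul _
      _ ≤ g.gaussNorm v c ^ (P.natDegree - 1) := pow_le_pow_right₀ hlt.le hj'
  have h3 : g.gaussNorm v c ^ P.natDegree = g.gaussNorm v c ^ (P.natDegree - 1) * g.gaussNorm v c := by
    rw [← pow_succ]; congr 1; omega
  have hpos : 0 < g.gaussNorm v c ^ (P.natDegree - 1) := pow_pos (zero_lt_one.trans hlt) _
  nlinarith

end StepB

section Main

variable (A K : Type u) [CommRing A] [IsDomain A] [IsIntegrallyClosed A] [Field K] [Algebra A K]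
  [IsFractionRing A K]

theorem main (ι : Type) (v : ι → AddValuation K (WithTop ℤ)) (p q : ι → ℕ)
    (hq : ∀ i, 0 < q i) (S : Subalgebra A A[X])
    (hS : ∀ f : A[X], f ∈ S ↔ ∀ (k : ℕ) (i : ι),
      ((k * p i : ℕ) : WithTop ℤ) ≤ (q i : WithTop ℤ) * v i (algebraMap A K (f.coeff k))) :
    IsIntegrallyClosed S := by
  have hmem : ∀ f : A[X], f ∈ S ↔ ∀ i, f.gaussNorm (abv (v i) (q i)) ((2:ℝ) ^ p i) ≤ 1 := by
    intro f
    rw [hS]
    constructor
    · intro h i
      rw [gaussNorm_le_one_iff _ (by positivity)]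
      intro k
      exact (abv_mul_pow_le_one_iff (v i) (q i) (hq i) (p i) _ k).mpr (h k i)
    · intro h k i
      have := (gaussNorm_le_one_iff _ (by positivity) f).mp (h i) k
      exact (abv_mul_pow_le_one_iff (v i) (q i) (hq i) (p i) _ k).mp this
  have : IsIntegrallyClosedIn S A[X] := by
    rw [isIntegrallyClosedIn_iff]
    refine ⟨Subtype.val_injective, fun {x} hx => ⟨⟨x, ?_⟩, rfl⟩⟩
    rw [hmem]
    intro i
    exact gaussNorm_le_one_of_isIntegral (abv (v i) (q i)) (abv_na (v i) (q i)) (by positivity) S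
      (fun f hf => (hmem f).mp hf i) x hx
  exact IsIntegrallyClosed.of_isIntegrallyClosed_of_isIntegrallyClosedIn S A[X]

end Main

end Groth.Agent.H77.ReesIC
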