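import Mathlib
import Groth.Prelude.Def_SchFin2

/-!
# Affine finite spaces: sections over an affine up-set (helper77)

* `isBaseChange_of_pi` : descent of the base-change property along a finite jointly faithfully
  flat family.
* `isBCAlong_of_equiv` : transport of `IsBCAlong` along an isomorphism of the source ring/module.
* `isBCAlong_evalMod` : on an affine subset, evaluation of sections at a point is a base change.
-/

set_option autoImplicit false
universe u
open SchFin TensorProduct

namespace Groth.Agent.H77.SchFinAff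

theorem isBaseChange_of_pi {R S : Type u} [CommRing R] [CommRing S] [Algebra R S]
    {ι : Type u} [Finite ι] (B : ι → Type u) [∀ i, CommRing (B i)] [∀ i, Algebra S (B i)]
    [∀ i, Algebra R (B i)] [∀ i, IsScalarTower R S (B i)]
    [Module.FaithfullyFlat S (∀ i, B i)]
    {M N : Type u} [AddCommGroup M] [Module R M] [AddCommGroup N] [Module R N] [Module S N]
    [IsScalarTower R S N] (f : M →ₗ[R] N)
    (Q : ι → Type u) [∀ i, AddCommGroup (Q i)] [∀ i, Module R (Q i)] [∀ i, Module S (Q i)]
    [∀ i, Module (B i) (Q i)] [∀ i, IsScalarTower S (B i) (Q i)] [∀ i, IsScalarTower R S (Q i)]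
    [∀ i, IsScalarTower R (B i) (Q i)]
    (e : ∀ i, N →ₗ[S] Q i) (he : ∀ i, IsBaseChange (B i) (e i))
    (hc : ∀ i, IsBaseChange (B i) ((e i).restrictScalars R ∘ₗ f)) :
    IsBaseChange S f := by
  classical
  haveI : Fintype ι := Fintype.ofFinite ι
  have hT : IsBaseChange S (TensorProduct.mk R S M 1) := TensorProduct.isBaseChange R M S
  let Φ : S ⊗[R] M →ₗ[S] N := hT.lift f
  have hΦ : ∀ m, Φ (1 ⊗ₜ m) = f m := fun m => hT.lift_eq f m
  have h1 : ∀ i, IsBaseChange (B i) ((e i) ∘ₗ Φ) := by
    intro i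
    refine IsBaseChange.of_comp hT ?_
    have : (((e i) ∘ₗ Φ : S ⊗[R] M →ₗ[S] Q i) : S ⊗[R] M →ₗ[R] Q i) ∘ₗ (TensorProduct.mk R S M 1)
        = (e i).restrictScalars R ∘ₗ f := by
      ext m
      simp [hΦ]
    rw [this]
    exact hc i
  have h2 : ∀ i, Function.Bijective (Φ.lTensor (B i)) := by
    intro i
    have key : ∀ z, (he i).equiv (Φ.lTensor (B i) z) = (h1 i).equiv z := by
      intro z
      induction z using TensorProduct.induction_on with
      | zero => simp
      | tmul b t => simp [IsBaseChange.equiv_tmul]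
      | add x y hx hy => simp only [map_add, hx, hy]
    have : ⇑(Φ.lTensor (B i)) = (he i).equiv.symm ∘ (h1 i).equiv := by
      funext z
      simp [← key]
    rw [this]
    exact (he i).equiv.symm.bijective.comp (h1 i).equiv.bijective
  have h3 : Function.Bijective (Φ.lTensor (∀ i, B i)) := by
    let p1 := TensorProduct.piLeft S (S ⊗[R] M) B
    let p2 := TensorProduct.piLeft S N B
    have nat : ∀ z, p2 (Φ.lTensor (∀ i, B i) z) = fun i => Φ.lTensor (B i) (p1 z i) := by
      intro z
      induction z using TensorProduct.induction_on with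
      | zero => funext i; simp
      | tmul b t => funext i; simp [p1, p2]
      | add x y hx hy =>
        funext i
        simp only [map_add, hx, hy, Pi.add_apply]
    have : ⇑(Φ.lTensor (∀ i, B i)) =
        p2.symm ∘ (fun w i => Φ.lTensor (B i) (w i)) ∘ p1 := by
      funext z
      simp [← nat]
    rw [this]
    refine p2.symm.bijective.comp (Function.Bijective.comp ?_ p1.bijective)
    exact ⟨fun a b hab => funext fun i => (h2 i).1 (congrFun hab i),
      fun w => ⟨fun i => ((h2 i).2 (w i)).choose,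
        funext fun i => ((h2 i).2 (w i)).choose_spec⟩⟩
  have hbij : Function.Bijective Φ :=
    (Module.FaithfullyFlat.lTensor_bijective_iff_bijective S (∀ i, B i) Φ).1 h3
  exact IsBaseChange.of_equiv (LinearEquiv.ofBijective Φ hbij) hΦ


theorem isBCAlong_of_pi {R S : Type u} [CommRing R] [CommRing S] (g : R →+* S)
    {ι : Type u} [Finite ι] (B : ι → Type u) [∀ i, CommRing (B i)] (ev : ∀ i, S →+* B i)
    [instP : Module S (∀ i, B i)]
    (hP : ∀ (s : S) (b : ∀ i, B i) (i : ι), (s • b) i = ev i s * b i)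
    [hff : Module.FaithfullyFlat S (∀ i, B i)]
    (gc : ∀ i, R →+* B i) (hgc : ∀ i r, ev i (g r) = gc i r)
    {M N : Type u} [AddCommGroup M] [Module R M] [AddCommGroup N] [Module S N]
    (f : M →ₛₗ[g] N)
    (Q : ι → Type u) [∀ i, AddCommGroup (Q i)] [∀ i, Module (B i) (Q i)]
    (e : ∀ i, N →ₛₗ[ev i] Q i) (he : ∀ i, IsBCAlong (ev i) (e i))
    (c : ∀ i, M →ₛₗ[gc i] Q i) (hcomp : ∀ i m, e i (f m) = c i m)
    (hc : ∀ i, IsBCAlong (gc i) (c i)) : IsBCAlong g f := by
  unfold IsBCAlong at he hc ⊢
  letI : Algebra R S := g.toAlgebra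
  letI : Module R N := Module.compHom N g
  haveI : IsScalarTower R S N := IsScalarTower.of_algebraMap_smul fun _ _ => rfl
  letI iSB : ∀ i, Algebra S (B i) := fun i => (ev i).toAlgebra
  letI iRB : ∀ i, Algebra R (B i) := fun i => (gc i).toAlgebra
  letI iSQ : ∀ i, Module S (Q i) := fun i => Module.compHom (Q i) (ev i)
  letI iRQ : ∀ i, Module R (Q i) := fun i => Module.compHom (Q i) (gc i)
  haveI : ∀ i, IsScalarTower S (B i) (Q i) :=
    fun i => IsScalarTower.of_algebraMap_smul fun _ _ => rfl
  haveI : ∀ i, IsScalarTower R (B i) (Q i) :=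
    fun i => IsScalarTower.of_algebraMap_smul fun _ _ => rfl
  haveI : ∀ i, IsScalarTower R S (B i) :=
    fun i => IsScalarTower.of_algebraMap_eq fun r => (hgc i r).symm
  haveI : ∀ i, IsScalarTower R S (Q i) := fun i => ⟨fun r s q => by
    change (ev i (g r * s)) • q = gc i r • (ev i s • q)
    rw [map_mul, mul_smul, hgc]⟩
  have hinst : instP = Pi.module ι B S :=
    Module.ext' _ _ (fun s b => funext fun i => by rw [hP]; rfl)
  have hff' : @Module.FaithfullyFlat S (∀ i, B i) _ _ (Pi.module ι B S) := hinst ▸ hff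
  refine isBaseChange_of_pi B _ Q
    (fun i => ({ toFun := e i, map_add' := (e i).map_add,
                 map_smul' := (e i).map_smulₛₗ } : N →ₗ[S] Q i)) he ?_
  intro i
  let eL : N →ₗ[S] Q i :=
    { toFun := e i, map_add' := (e i).map_add, map_smul' := (e i).map_smulₛₗ }
  let fL : M →ₗ[R] N := { toFun := f, map_add' := f.map_add, map_smul' := f.map_smulₛₗ }
  let cL : M →ₗ[R] Q i :=
    { toFun := c i, map_add' := (c i).map_add, map_smul' := (c i).map_smulₛₗ }
  have : eL.restrictScalars R ∘ₗ fL = cL := by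
    ext m
    exact hcomp i m
  change IsBaseChange (B i) (eL.restrictScalars R ∘ₗ fL)
  rw [this]
  exact hc i

/-- Transport of `IsBCAlong` along an isomorphism of the source ring and module. -/
theorem isBCAlong_of_equiv {S S' B : Type u} [CommRing S] [CommRing S'] [CommRing B]
    (σ : S ≃+* S') (g : S →+* B) (g' : S' →+* B) (hg : ∀ s, g' (σ s) = g s)
    {N N' Q : Type u} [AddCommGroup N] [AddCommGroup N'] [AddCommGroup Q]
    [Module S N] [Module S' N'] [Module B Q]
    (τ : N ≃+ N') (hτ : ∀ (s : S) (n : N), τ (s • n) = σ s • τ n)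
    (f : N →ₛₗ[g] Q) (f' : N' →ₛₗ[g'] Q) (hf : ∀ n, f' (τ n) = f n)
    (h : IsBCAlong g' f') : IsBCAlong g f := by
  unfold IsBCAlong at h ⊢
  letI : Algebra S B := g.toAlgebra
  letI : Algebra S' B := g'.toAlgebra
  letI : Module S Q := Module.compHom Q g
  letI : Module S' Q := Module.compHom Q g'
  haveI : IsScalarTower S B Q := IsScalarTower.of_algebraMap_smul fun _ _ => rfl
  haveI : IsScalarTower S' B Q := IsScalarTower.of_algebraMap_smul fun _ _ => rfl
  have hτ' : ∀ (s' : S') (n' : N'), τ.symm (s' • n') = σ.symm s' • τ.symm n' := by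
    intro s' n'
    apply τ.injective
    rw [hτ, τ.apply_symm_apply, σ.apply_symm_apply, τ.apply_symm_apply]
  have hsB : ∀ (s : S) (b : B), s • b = σ s • b := by
    intro s b
    change g s * b = g' (σ s) * b
    rw [hg]
  let θ : B ⊗[S] N →+ B ⊗[S'] N' := TensorProduct.liftAddHom
    (AddMonoidHom.mk' (fun b : B => AddMonoidHom.mk' (fun n : N => b ⊗ₜ[S'] τ n)
      (fun n n' => by rw [map_add, tmul_add]))
      (fun b b' => by ext n; simp [add_tmul]))
    (fun s b n => by
      change (s • b) ⊗ₜ[S'] τ n = b ⊗ₜ[S'] τ (s • n)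
      rw [hτ, hsB, TensorProduct.smul_tmul])
  let θ' : B ⊗[S'] N' →+ B ⊗[S] N := TensorProduct.liftAddHom
    (AddMonoidHom.mk' (fun b : B => AddMonoidHom.mk' (fun n : N' => b ⊗ₜ[S] τ.symm n)
      (fun n n' => by rw [map_add, tmul_add]))
      (fun b b' => by ext n; simp [add_tmul]))
    (fun s b n => by
      change (s • b) ⊗ₜ[S] τ.symm n = b ⊗ₜ[S] τ.symm (s • n)
      rw [hτ', ← TensorProduct.smul_tmul, hsB, σ.apply_symm_apply])
  have hθ : ∀ b n, θ (b ⊗ₜ n) = b ⊗ₜ τ n := fun _ _ => rfl
  have hθ' : ∀ b n, θ' (b ⊗ₜ n) = b ⊗ₜ τ.symm n := fun _ _ => rfl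
  have h1 : ∀ z, θ' (θ z) = z := by
    intro z
    induction z using TensorProduct.induction_on with
    | zero => simp
    | tmul b n => rw [hθ, hθ', τ.symm_apply_apply]
    | add x y hx hy => rw [map_add, map_add, hx, hy]
  have h2 : ∀ z, θ (θ' z) = z := by
    intro z
    induction z using TensorProduct.induction_on with
    | zero => simp
    | tmul b n => rw [hθ', hθ, τ.apply_symm_apply]
    | add x y hx hy => rw [map_add, map_add, hx, hy]
  have hθbij : Function.Bijective θ :=
    ⟨fun a b hab => by rw [← h1 a, ← h1 b, hab], fun z => ⟨θ' z, h2 z⟩⟩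
  let E : B ⊗[S] N →ₗ[B] Q :=
    { toFun := fun z => h.equiv (θ z)
      map_add' := fun a b => by rw [map_add, map_add]
      map_smul' := fun b z => by
        rw [RingHom.id_apply]
        induction z using TensorProduct.induction_on with
        | zero => simp
        | tmul b' n =>
          rw [TensorProduct.smul_tmul', hθ, hθ, h.equiv_tmul, h.equiv_tmul, smul_eq_mul, mul_smul]
        | add x y hx hy => rw [smul_add, map_add, map_add, hx, hy, map_add, map_add, smul_add] }
  have hE : Function.Bijective E := h.equiv.bijective.comp hθbij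
  refine IsBaseChange.of_equiv (LinearEquiv.ofBijective E hE) ?_
  intro n
  change h.equiv (θ (1 ⊗ₜ n)) = f n
  rw [hθ, h.equiv_tmul, one_smul]
  exact hf n

section Sect
variable {X : RSpace.{u}} (U : Set X.pt)

/-- sections over `U` are the global sections of the restricted space -/
def sectRingEquiv : X.sectRing U ≃+* (X.restrict U).sectRing Set.univ where
  toFun s := ⟨fun q => s.1 q.1, fun q q' h => s.2 q.1 q'.1 h⟩
  invFun s := ⟨fun q => s.1 ⟨q, trivial⟩, fun q q' h => s.2 ⟨q, trivial⟩ ⟨q', trivial⟩ h⟩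
  left_inv _ := rfl
  right_inv _ := rfl
  map_mul' _ _ := rfl
  map_add' _ _ := rfl

/-- module sections over `U` are the global sections of the restricted module -/
def sectModEquiv (M : OMod X) : M.sect U ≃+ (M.restrict U).sect Set.univ where
  toFun s := ⟨fun q => s.1 q.1, fun q q' h => s.2 q.1 q'.1 h⟩
  invFun s := ⟨fun q => s.1 ⟨q, trivial⟩, fun q q' h => s.2 ⟨q, trivial⟩ ⟨q', trivial⟩ h⟩
  left_inv _ := rfl
  right_inv _ := rfl
  map_add' _ _ := rfl

theorem isBCAlong_evalMod (hUa : (X.restrict U).IsAffine) (M : OMod X) (hM : M.IsQcoh) (q : U) :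
    IsBCAlong (X.evalRing U q) (M.evalMod U q) := by
  have h := hUa.2.2.1 (M.restrict U) (fun p p' h => hM p.1 p'.1 h) q
  exact isBCAlong_of_equiv (sectRingEquiv U) _ _ (fun _ => rfl) (sectModEquiv U M)
    (fun _ _ => rfl) _ _ (fun _ => rfl) h

/-- S15617 -/
theorem isBCAlong_resSect (x : X.pt) (hU : U ⊆ X.up x) (hUa : (X.restrict U).IsAffine)
    (hff : Module.FaithfullyFlat (X.sectRing U) ((q : ↥U) → X.ring q.1)) (M : OMod X)
    (hM : M.IsQcoh) : IsBCAlong (X.resSect x U hU) (M.resSect x U hU) :=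
  isBCAlong_of_pi (X.resSect x U hU) (fun q : U => X.ring q.1) (fun q => X.evalRing U q)
    (fun _ _ _ => rfl) (fun q => X.res (hU q.2)) (fun _ _ => rfl) (M.resSect x U hU)
    (fun q : U => M.carrier q.1) (fun q => M.evalMod U q)
    (fun q => isBCAlong_evalMod U hUa M hM q)
    (fun q => M.res (hU q.2)) (fun _ _ => rfl) (fun q => hM x q.1 (hU q.2))

end Sect

end Groth.Agent.H77.SchFinAff
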