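import Mathlib
import Groth.Agent.H77.SchFinAff1

/-!
# Descent of algebra properties along a finite jointly faithfully flat family (helper77)

Abstract setting: `S → T` a ring map, a finite family of `S`-algebras `B i` whose product is
faithfully flat over `S`, and `C i = B i ⊗[S] T` (given as pushouts).  Then flat / finite /
faithfully flat / étale for `S → T` is equivalent to the same for all `B i → C i`.
-/

set_option autoImplicit false
universe u
open TensorProduct

namespace Groth.Agent.H77.SchFinAff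

section Abstract

variable {S T : Type u} [CommRing S] [CommRing T] [Algebra S T]
  {ι : Type u} [Finite ι] (B C : ι → Type u) [∀ i, CommRing (B i)] [∀ i, CommRing (C i)]
  [∀ i, Algebra S (B i)] [∀ i, Algebra S (C i)] [∀ i, Algebra T (C i)]
  [∀ i, Algebra (B i) (C i)]
  [∀ i, IsScalarTower S (B i) (C i)] [∀ i, IsScalarTower S T (C i)]
  [hpo : ∀ i, Algebra.IsPushout S (B i) T (C i)]

include hpo in
theorem flat_of_flat [Module.Flat S T] (i : ι) : Module.Flat (B i) (C i) :=
  Module.Flat.of_linearEquiv (Algebra.IsPushout.equiv S (B i) T (C i)).symm.toLinearEquiv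

include hpo in
theorem finite_of_finite [Module.Finite S T] (i : ι) : Module.Finite (B i) (C i) :=
  Module.Finite.equiv (Algebra.IsPushout.equiv S (B i) T (C i)).toLinearEquiv

include hpo in
theorem ff_of_ff [Module.FaithfullyFlat S T] (i : ι) : Module.FaithfullyFlat (B i) (C i) :=
  Module.FaithfullyFlat.of_linearEquiv _ _
    (Algebra.IsPushout.equiv S (B i) T (C i)).symm.toLinearEquiv

include hpo in
theorem etale_of_etale [Algebra.Etale S T] (i : ι) : Algebra.Etale (B i) (C i) :=
  Algebra.Etale.of_equiv (Algebra.IsPushout.equiv S (B i) T (C i))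

/-- the comparison map `(Π B) ⊗ T → Π C` -/
noncomputable def piTensorHom : (∀ j, B j) ⊗[S] T →ₐ[∀ j, B j] (∀ j, C j) :=
  Algebra.TensorProduct.lift (Algebra.ofId (∀ j, B j) (∀ j, C j))
    (Pi.algHom S C (fun i => IsScalarTower.toAlgHom S T (C i)))
    (fun _ _ => Commute.all _ _)

lemma piTensorHom_tmul (p : ∀ j, B j) (t : T) (i : ι) :
    piTensorHom B C (p ⊗ₜ[S] t) i = algebraMap (B i) (C i) (p i) * algebraMap T (C i) t := by
  simp [piTensorHom, Algebra.ofId_apply]
  rfl

include hpo in
theorem piTensorHom_bijective : Function.Bijective (piTensorHom (S := S) (T := T) B C) := by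
  classical
  haveI : Fintype ι := Fintype.ofFinite ι
  let p1 := TensorProduct.piLeft S T B
  let E := fun i => Algebra.IsPushout.equiv S (B i) T (C i)
  have key : ∀ z, piTensorHom (S := S) (T := T) B C z = fun i => E i (p1 z i) := by
    intro z
    induction z using TensorProduct.induction_on with
    | zero => funext i; simp
    | tmul p t =>
      funext i
      rw [piTensorHom_tmul]
      simp [p1, E, Algebra.IsPushout.equiv_tmul]
    | add x y hx hy =>
      funext i
      simp only [map_add, hx, hy, Pi.add_apply]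
  have : ⇑(piTensorHom (S := S) (T := T) B C) = (fun w i => E i (w i)) ∘ p1 := by
    funext z
    rw [key]
    rfl
  rw [this]
  refine Function.Bijective.comp ?_ p1.bijective
  exact ⟨fun a b hab => funext fun i => (E i).injective (congrFun hab i),
    fun w => ⟨fun i => (E i).symm (w i), funext fun i => (E i).apply_symm_apply (w i)⟩⟩

/-- `(Π B) ⊗ T ≃ Π C` as algebras over the product -/
noncomputable def piTensorEquiv : (∀ j, B j) ⊗[S] T ≃ₐ[∀ j, B j] (∀ j, C j) :=
  AlgEquiv.ofBijective (piTensorHom B C) (piTensorHom_bijective B C)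

section PiOverPi
omit [Finite ι] in
lemma isLocalizationAway_pi [DecidableEq ι] (i : ι) :
    letI : Algebra (∀ j, B j) (B i) := (Pi.evalRingHom B i).toAlgebra
    IsLocalization.Away (Pi.single i (1 : B i) : ∀ j, B j) (B i) := by
  letI : Algebra (∀ j, B j) (B i) := (Pi.evalRingHom B i).toAlgebra
  refine IsLocalization.away_of_isIdempotentElem ?_ (RingHom.ker_evalRingHom _ _)
    ((Pi.evalRingHom B i).surjective)
  simp [IsIdempotentElem, ← Pi.single_mul_left]

theorem flat_pi (h : ∀ i, Module.Flat (B i) (C i)) :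
    Module.Flat (∀ j, B j) (∀ j, C j) := by
  classical
  haveI : Fintype ι := Fintype.ofFinite ι
  letI algPB : ∀ i, Algebra (∀ j, B j) (B i) := fun i => (Pi.evalRingHom B i).toAlgebra
  letI algPC : ∀ i, Algebra (∀ j, B j) (C i) :=
    fun i => ((algebraMap (B i) (C i)).comp (Pi.evalRingHom B i)).toAlgebra
  haveI : ∀ i, IsScalarTower (∀ j, B j) (B i) (C i) :=
    fun i => IsScalarTower.of_algebraMap_eq fun _ => rfl
  haveI : ∀ i, IsLocalization.Away (Pi.single i (1 : B i) : ∀ j, B j) (B i) :=
    fun i => isLocalizationAway_pi B i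
  haveI : ∀ i, Module.Flat (∀ j, B j) (B i) :=
    fun i => IsLocalization.flat (B i) (Submonoid.powers (Pi.single i (1 : B i) : ∀ j, B j))
  haveI : ∀ i, Module.Flat (∀ j, B j) (C i) := fun i => Module.Flat.trans (∀ j, B j) (B i) (C i)
  have hE : @Module.Flat (∀ j, B j) (∀ j, C j) _ _ (Pi.module ι C (∀ j, B j)) := by
    letI : Module (∀ j, B j) (∀ j, C j) := Pi.module ι C (∀ j, B j)
    exact Module.Flat.of_linearEquiv (DFinsupp.linearEquivFunOnFintype (R := ∀ j, B j)).symm
  have heq : (Pi.module ι C (∀ j, B j)) = Pi.module' :=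
    Module.ext' _ _ (fun p c => funext fun i => (Algebra.smul_def (p i) (c i)).symm)
  exact heq ▸ hE

theorem finite_pi (h : ∀ i, Module.Finite (B i) (C i)) :
    Module.Finite (∀ j, B j) (∀ j, C j) := by
  classical
  haveI : Fintype ι := Fintype.ofFinite ι
  letI algPB : ∀ i, Algebra (∀ j, B j) (B i) := fun i => (Pi.evalRingHom B i).toAlgebra
  letI algPC : ∀ i, Algebra (∀ j, B j) (C i) :=
    fun i => ((algebraMap (B i) (C i)).comp (Pi.evalRingHom B i)).toAlgebra
  haveI : ∀ i, IsScalarTower (∀ j, B j) (B i) (C i) :=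
    fun i => IsScalarTower.of_algebraMap_eq fun _ => rfl
  haveI : ∀ i, Module.Finite (∀ j, B j) (B i) := fun i =>
    Module.Finite.of_surjective (Algebra.linearMap (∀ j, B j) (B i))
      (Pi.evalRingHom B i).surjective
  haveI : ∀ i, Module.Finite (∀ j, B j) (C i) :=
    fun i => Module.Finite.trans (B i) (C i)
  have hE : @Module.Finite (∀ j, B j) (∀ j, C j) _ _ (Pi.module ι C (∀ j, B j)) := by
    letI : Module (∀ j, B j) (∀ j, C j) := Pi.module ι C (∀ j, B j)
    exact Module.Finite.pi
  have heq : (Pi.module ι C (∀ j, B j)) = Pi.module' :=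
    Module.ext' _ _ (fun p c => funext fun i => (Algebra.smul_def (p i) (c i)).symm)
  exact heq ▸ hE

theorem etale_pi (h : ∀ i, Algebra.Etale (B i) (C i)) :
    Algebra.Etale (∀ j, B j) (∀ j, C j) := by
  classical
  haveI : Fintype ι := Fintype.ofFinite ι
  letI algPB : ∀ i, Algebra (∀ j, B j) (B i) := fun i => (Pi.evalRingHom B i).toAlgebra
  letI algPC : ∀ i, Algebra (∀ j, B j) (C i) :=
    fun i => ((algebraMap (B i) (C i)).comp (Pi.evalRingHom B i)).toAlgebra
  haveI : ∀ i, IsScalarTower (∀ j, B j) (B i) (C i) :=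
    fun i => IsScalarTower.of_algebraMap_eq fun _ => rfl
  haveI : ∀ i, IsLocalization.Away (Pi.single i (1 : B i) : ∀ j, B j) (B i) :=
    fun i => isLocalizationAway_pi B i
  haveI : ∀ i, Algebra.Etale (∀ j, B j) (B i) :=
    fun i => Algebra.Etale.of_isLocalizationAway (Pi.single i (1 : B i) : ∀ j, B j)
  haveI : ∀ i, Algebra.Etale (∀ j, B j) (C i) :=
    fun i => Algebra.Etale.comp (∀ j, B j) (B i) (C i)
  have hE : @Algebra.Etale (∀ j, B j) (∀ j, C j) _ _ (Pi.algebra ι C) := inferInstance
  have heq : ∀ (a b : Algebra (∀ j, B j) (∀ j, C j)), a = b →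
      @Algebra.Etale _ _ _ _ a → @Algebra.Etale _ _ _ _ b := by
    rintro a b rfl h
    exact h
  exact heq (Pi.algebra ι C) (Pi.instAlgebraForall C B) (Algebra.algebra_ext _ _ (fun p => rfl)) hE

end PiOverPi

variable [hff : Module.FaithfullyFlat S (∀ j, B j)]

include hpo hff in
theorem flat_of_forall_flat (h : ∀ i, Module.Flat (B i) (C i)) : Module.Flat S T := by
  haveI : Module.Flat (∀ j, B j) (∀ j, C j) := flat_pi B C h
  haveI : Module.Flat (∀ j, B j) ((∀ j, B j) ⊗[S] T) :=
    Module.Flat.of_linearEquiv (piTensorEquiv B C).toLinearEquiv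
  exact Module.Flat.of_flat_tensorProduct S T (∀ j, B j)

include hpo hff in
theorem finite_of_forall_finite (h : ∀ i, Module.Finite (B i) (C i)) : Module.Finite S T := by
  haveI : Module.Finite (∀ j, B j) (∀ j, C j) := finite_pi B C h
  haveI : Module.Finite (∀ j, B j) ((∀ j, B j) ⊗[S] T) :=
    Module.Finite.equiv (piTensorEquiv B C).symm.toLinearEquiv
  exact Module.Finite.of_finite_tensorProduct_of_faithfullyFlat (∀ j, B j)

include hpo hff in
theorem etale_of_forall_etale (h : ∀ i, Algebra.Etale (B i) (C i)) : Algebra.Etale S T := by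
  haveI : Algebra.Etale (∀ j, B j) (∀ j, C j) := etale_pi B C h
  haveI : Algebra.Etale (∀ j, B j) ((∀ j, B j) ⊗[S] T) :=
    Algebra.Etale.of_equiv (piTensorEquiv B C).symm
  exact Algebra.Etale.of_etale_tensorProduct_of_faithfullyFlat (∀ j, B j)

include hpo hff in
theorem ff_of_forall_ff (h : ∀ i, Module.FaithfullyFlat (B i) (C i)) :
    Module.FaithfullyFlat S T := by
  haveI : Module.Flat S T := flat_of_forall_flat B C (fun i => inferInstance)
  refine Module.FaithfullyFlat.of_comap_surjective ?_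
  intro 𝔭
  obtain ⟨𝔓, h𝔓⟩ := PrimeSpectrum.comap_surjective_of_faithfullyFlat (A := S) (B := ∀ j, B j) 𝔭
  obtain ⟨⟨i, 𝔮⟩, h𝔮⟩ := (PrimeSpectrum.sigmaToPi_bijective B).2 𝔓
  rw [PrimeSpectrum.sigmaToPi_apply] at h𝔮
  obtain ⟨𝔮', h𝔮'⟩ :=
    PrimeSpectrum.comap_surjective_of_faithfullyFlat (A := B i) (B := C i) 𝔮
  refine ⟨PrimeSpectrum.comap (algebraMap T (C i)) 𝔮', ?_⟩
  rw [← h𝔓, ← h𝔮, ← h𝔮']
  simp only [← PrimeSpectrum.comap_comp_apply]
  congr 1
  ext s
  simp only [RingHom.comp_apply]
  rw [← IsScalarTower.algebraMap_apply S T (C i), IsScalarTower.algebraMap_apply S (B i) (C i)]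
  rfl

end Abstract

end Groth.Agent.H77.SchFinAff
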