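import Mathlib
import Groth.Agent.H77.SchFinAff2

/-!
# Criteria for quasi-coherent algebras on an affine up-set of a finite space (helper77)
-/

set_option autoImplicit false
universe u
open SchFin TensorProduct

namespace Groth.Agent.H77.SchFinAff

theorem ff_transfer {S P : Type u} [CommRing S] [AddCommGroup P] (m1 m2 : Module S P)
    (h : ∀ (s : S) (p : P), (haveI := m1; s • p) = (haveI := m2; s • p))
    (hff : @Module.FaithfullyFlat S P _ _ m1) : @Module.FaithfullyFlat S P _ _ m2 := by
  have : m1 = m2 := Module.ext' _ _ h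
  subst this
  exact hff

section Spec
variable {X : RSpace.{u}} (A : Alg X) (U : Set X.pt)

set_option maxHeartbeats 800000 in
theorem alg_master (hA : A.IsQcoh) (hUa : (X.restrict U).IsAffine) :
    ((A.sectMap U).Flat → ∀ q : U, Module.Flat (X.ring q.1) (A.carrier q.1)) ∧
    ((A.sectMap U).Finite → ∀ q : U, Module.Finite (X.ring q.1) (A.carrier q.1)) ∧
    ((A.sectMap U).FaithfullyFlat →
      ∀ q : U, Module.FaithfullyFlat (X.ring q.1) (A.carrier q.1)) ∧
    ((A.sectMap U).Etale → ∀ q : U, Algebra.Etale (X.ring q.1) (A.carrier q.1)) ∧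
    (Module.FaithfullyFlat (X.sectRing U) ((q : ↥U) → X.ring q.1) →
      ((∀ q : U, Module.Flat (X.ring q.1) (A.carrier q.1)) → (A.sectMap U).Flat) ∧
      ((∀ q : U, Module.Finite (X.ring q.1) (A.carrier q.1)) → (A.sectMap U).Finite) ∧
      ((∀ q : U, Module.FaithfullyFlat (X.ring q.1) (A.carrier q.1)) →
        (A.sectMap U).FaithfullyFlat) ∧
      ((∀ q : U, Algebra.Etale (X.ring q.1) (A.carrier q.1)) → (A.sectMap U).Etale)) := by
  letI iST : Algebra (X.sectRing U) (A.total.sectRing U) := (A.sectMap U).toAlgebra
  letI iSB : ∀ q : U, Algebra (X.sectRing U) (X.ring q.1) :=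
    fun q => (X.evalRing U q).toAlgebra
  letI iTC : ∀ q : U, Algebra (A.total.sectRing U) (A.carrier q.1) :=
    fun q => (A.total.evalRing U q).toAlgebra
  letI iSC : ∀ q : U, Algebra (X.sectRing U) (A.carrier q.1) :=
    fun q => Algebra.compHom (A.carrier q.1) (X.evalRing U q)
  haveI t1 : ∀ q : U, IsScalarTower (X.sectRing U) (X.ring q.1) (A.carrier q.1) :=
    fun q => IsScalarTower.of_algebraMap_smul (fun s c => rfl)
  haveI t2 : ∀ q : U, IsScalarTower (X.sectRing U) (A.total.sectRing U) (A.carrier q.1) :=
    fun q => IsScalarTower.of_algebraMap_eq (fun s => rfl)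
  haveI hpo : ∀ q : U,
      Algebra.IsPushout (X.sectRing U) (X.ring q.1) (A.total.sectRing U) (A.carrier q.1) := by
    intro q
    have h := isBCAlong_evalMod U hUa A.toMod hA q
    unfold IsBCAlong at h
    let e : A.total.sectRing U ≃ₗ[X.sectRing U] A.toMod.sect U :=
      { toFun := fun t => ⟨t.1, t.2⟩
        invFun := fun m => ⟨m.1, m.2⟩
        map_add' := fun _ _ => rfl
        map_smul' := fun s t => Subtype.ext (funext fun q' =>
          (Algebra.smul_def (R := X.ring q'.1) (A := A.carrier q'.1) (s.1 q') (t.1 q')).symm)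
        left_inv := fun _ => rfl
        right_inv := fun _ => rfl }
    let fL : A.toMod.sect U →ₗ[X.sectRing U] A.carrier q.1 :=
      { toFun := fun m => m.1 q
        map_add' := fun _ _ => rfl
        map_smul' := fun _ _ => rfl }
    have h' : IsBaseChange (X.ring q.1) fL := h
    have h2 := IsBaseChange.comp_equiv e fL h'
    refine ⟨?_⟩
    have h3 : (IsScalarTower.toAlgHom (X.sectRing U) (A.total.sectRing U)
        (A.carrier q.1)).toLinearMap = fL ∘ₗ e.toLinearMap := by
      ext t
      rfl
    rw [h3]
    exact h2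
  refine ⟨?_, ?_, ?_, ?_, ?_⟩
  · intro h q
    haveI : Module.Flat (X.sectRing U) (A.total.sectRing U) := h
    exact flat_of_flat (S := X.sectRing U) (T := A.total.sectRing U)
        (fun q : U => X.ring q.1) (fun q : U => A.carrier q.1) q
  · intro h q
    haveI : Module.Finite (X.sectRing U) (A.total.sectRing U) := h
    exact finite_of_finite (S := X.sectRing U) (T := A.total.sectRing U)
        (fun q : U => X.ring q.1) (fun q : U => A.carrier q.1) q
  · intro h q
    haveI : Module.FaithfullyFlat (X.sectRing U) (A.total.sectRing U) := h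
    exact ff_of_ff (S := X.sectRing U) (T := A.total.sectRing U)
        (fun q : U => X.ring q.1) (fun q : U => A.carrier q.1) q
  · intro h q
    haveI : Algebra.Etale (X.sectRing U) (A.total.sectRing U) := h
    exact etale_of_etale (S := X.sectRing U) (T := A.total.sectRing U)
        (fun q : U => X.ring q.1) (fun q : U => A.carrier q.1) q
  · intro hφ
    haveI hff : Module.FaithfullyFlat (X.sectRing U) (∀ q : U, X.ring q.1) :=
      ff_transfer _ _ (fun s p => rfl) hφ
    refine ⟨fun h => ?_, fun h => ?_, fun h => ?_, fun h => ?_⟩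
    · exact flat_of_forall_flat (S := X.sectRing U) (T := A.total.sectRing U)
        (fun q : U => X.ring q.1) (fun q : U => A.carrier q.1) h
    · exact finite_of_forall_finite (S := X.sectRing U) (T := A.total.sectRing U)
        (fun q : U => X.ring q.1) (fun q : U => A.carrier q.1) h
    · exact ff_of_forall_ff (S := X.sectRing U) (T := A.total.sectRing U)
        (fun q : U => X.ring q.1) (fun q : U => A.carrier q.1) h
    · exact etale_of_forall_etale (S := X.sectRing U) (T := A.total.sectRing U)
        (fun q : U => X.ring q.1) (fun q : U => A.carrier q.1) h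

end Spec

end Groth.Agent.H77.SchFinAff
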