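import Groth.Agent.H55.FFCons3
import Groth.Prelude.Def_W4c6gradedringsgwSect

set_option autoImplicit false

/-! Leading coefficients at a place of a function field over an algebraically closed field,
and the Weierstrass semigroup. -/

namespace Groth.Agent.H77.Sect

open FunFld WithZero Groth.Agent.H55 Polynomial

variable {k K : Type*} [Field k] [Field K] [Algebra k K]

section Cst

variable (P : Place k K)

theorem algebraMap_res_bijective [IsAlgClosed k] (hK : IsFunctionField k K) :
    Function.Bijective ((IsLocalRing.residue P.O).comp (algebraMap k P.O)) := by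
  let _ : Algebra k (IsLocalRing.ResidueField P.O) := IsLocalRing.ResidueField.algebra (R := P.O)
  have h1 := residue_finiteDimensional hK P
  have : Algebra.IsIntegral k (IsLocalRing.ResidueField P.O) := Algebra.IsIntegral.of_finite _ _
  exact IsAlgClosed.algebraMap_bijective_of_isIntegral (k := k) (K := IsLocalRing.ResidueField P.O)

theorem exists_cst [IsAlgClosed k] (hK : IsFunctionField k K) {y : K} (hy : P.1 y ≤ 1) :
    ∃ c : k, P.1 (y - algebraMap k K c) < 1 := by
  obtain ⟨c, hc⟩ := (algebraMap_res_bijective P hK).2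
    (IsLocalRing.residue P.O ⟨y, (Valuation.mem_valuationSubring_iff P.1 y).mpr hy⟩)
  refine ⟨c, ?_⟩
  rw [RingHom.comp_apply] at hc
  have h2 : IsLocalRing.residue P.O
      (⟨y, (Valuation.mem_valuationSubring_iff P.1 y).mpr hy⟩ - algebraMap k P.O c) = 0 := by
    rw [map_sub, hc, sub_self]
  rw [IsLocalRing.residue_eq_zero_iff, mem_maximalIdeal_iff] at h2
  exact h2

open Classical in
/-- The constant term of `y` at `P` (the constant `c` with `y - c` in the maximal ideal). -/
noncomputable def cst (y : K) : k :=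
  if h : ∃ c : k, P.1 (y - algebraMap k K c) < 1 then h.choose else 0

theorem cst_spec [IsAlgClosed k] (hK : IsFunctionField k K) {y : K} (hy : P.1 y ≤ 1) :
    P.1 (y - algebraMap k K (cst P y)) < 1 := by
  have h := exists_cst P hK hy
  rw [cst, dif_pos h]
  exact h.choose_spec

theorem cst_unique {y : K} {c : k} (h : P.1 (y - algebraMap k K c) < 1) : cst P y = c := by
  have h' : ∃ c : k, P.1 (y - algebraMap k K c) < 1 := ⟨c, h⟩
  rw [cst, dif_pos h']
  by_contra hne
  have h1 := h'.choose_spec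
  have h2 : P.1 (algebraMap k K (h'.choose - c)) < 1 := by
    have : algebraMap k K (h'.choose - c) =
        (y - algebraMap k K c) - (y - algebraMap k K h'.choose) := by
      rw [map_sub]; ring
    rw [this]
    exact Valuation.map_sub_lt _ h h1
  rw [pl_val_const P (sub_ne_zero.2 hne)] at h2
  exact lt_irrefl _ h2

theorem cst_algebraMap (c : k) : cst P (algebraMap k K c) = c :=
  cst_unique P (by simp)

theorem cst_eq_zero {y : K} (h : P.1 y < 1) : cst P y = 0 :=
  cst_unique P (by simpa using h)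

theorem cst_zero : cst P (0 : K) = 0 := cst_eq_zero P (by simp)

theorem cst_one : cst P (1 : K) = 1 := by
  have := cst_algebraMap P (1 : k)
  rwa [map_one] at this

theorem cst_eq_zero_iff [IsAlgClosed k] (hK : IsFunctionField k K) {y : K} (hy : P.1 y ≤ 1) :
    cst P y = 0 ↔ P.1 y < 1 := by
  constructor
  · intro h
    have := cst_spec P hK hy
    rwa [h, map_zero, sub_zero] at this
  · exact cst_eq_zero P

theorem cst_add [IsAlgClosed k] (hK : IsFunctionField k K) {y z : K} (hy : P.1 y ≤ 1)
    (hz : P.1 z ≤ 1) : cst P (y + z) = cst P y + cst P z := by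
  apply cst_unique
  have h1 := cst_spec P hK hy
  have h2 := cst_spec P hK hz
  have e : y + z - algebraMap k K (cst P y + cst P z) =
      (y - algebraMap k K (cst P y)) + (z - algebraMap k K (cst P z)) := by
    rw [map_add]; ring
  rw [e]
  exact Valuation.map_add_lt _ h1 h2

theorem cst_mul [IsAlgClosed k] (hK : IsFunctionField k K) {y z : K} (hy : P.1 y ≤ 1)
    (hz : P.1 z ≤ 1) : cst P (y * z) = cst P y * cst P z := by
  apply cst_unique
  have h1 := cst_spec P hK hy
  have h2 := cst_spec P hK hz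
  have e : y * z - algebraMap k K (cst P y * cst P z) =
      (y - algebraMap k K (cst P y)) * z +
        algebraMap k K (cst P y) * (z - algebraMap k K (cst P z)) := by
    rw [map_mul]; ring
  rw [e]
  refine Valuation.map_add_lt _ ?_ ?_
  · rw [map_mul]
    exact lt_of_le_of_lt ((mul_le_mul' le_rfl hz).trans_eq (mul_one _)) h1
  · rw [map_mul]
    exact lt_of_le_of_lt ((mul_le_mul' (P.2.1 _) le_rfl).trans_eq (one_mul _)) h2

theorem cst_smul [IsAlgClosed k] (hK : IsFunctionField k K) (c : k) {y : K} (hy : P.1 y ≤ 1) :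
    cst P (c • y) = c * cst P y := by
  rw [Algebra.smul_def, cst_mul P hK (P.2.1 c) hy, cst_algebraMap]

end Cst

section LC

variable (P : Place k K) (π : K)

/-- The leading coefficient of `f` at pole order `n`, for the uniformizer `π`. -/
noncomputable def lc (n : ℕ) (f : K) : k := cst P (f * π ^ n)

theorem smul_single_one (n : ℤ) :
    n • (Finsupp.single P 1 : Divisor k K) = Finsupp.single P n := by
  rw [Finsupp.smul_single, smul_eq_mul, mul_one]

variable {P π}

theorem exp_neg_one_pow (n : ℕ) :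
    (exp (-1 : ℤ) : WithZero (Multiplicative ℤ)) ^ n = exp (-(n : ℤ)) := by
  induction n with
  | zero => simp
  | succ n ih =>
    rw [pow_succ, ih, ← exp_add]
    congr 1
    push_cast
    ring

theorem pi_ne_zero (hπ : P.1 π = exp (-1 : ℤ)) : π ≠ 0 := by
  rintro rfl
  rw [map_zero] at hπ
  exact WithZero.coe_ne_zero hπ.symm

theorem ord_pi (hπ : P.1 π = exp (-1 : ℤ)) : P.ord π = 1 := by
  have := pl_ord_eq_of_val_eq P hπ
  omega

theorem val_le_of_mem {n : ℤ} {f : K} (hf : f ∈ L (Finsupp.single P n : Divisor k K)) :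
    P.1 f ≤ exp n := by
  have := (mem_L _ _).1 hf P
  rwa [Finsupp.single_eq_same] at this

theorem int_of_mem (hπ : P.1 π = exp (-1 : ℤ)) {n : ℕ} {f : K}
    (hf : f ∈ L (Finsupp.single P (n : ℤ) : Divisor k K)) : P.1 (f * π ^ n) ≤ 1 := by
  rw [map_mul, map_pow, hπ, exp_neg_one_pow]
  calc P.1 f * exp (-(n : ℤ)) ≤ exp (n : ℤ) * exp (-(n : ℤ)) :=
        mul_le_mul' (val_le_of_mem hf) le_rfl
    _ = 1 := by rw [← exp_add, add_neg_cancel, exp_zero]

theorem lc_zero (n : ℕ) : lc P π n (0 : K) = 0 := by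
  unfold lc
  rw [zero_mul]
  exact cst_zero P

theorem lc_add [IsAlgClosed k] (hK : IsFunctionField k K) (hπ : P.1 π = exp (-1 : ℤ)) {n : ℕ}
    {f g : K} (hf : f ∈ L (Finsupp.single P (n : ℤ) : Divisor k K))
    (hg : g ∈ L (Finsupp.single P (n : ℤ) : Divisor k K)) :
    lc P π n (f + g) = lc P π n f + lc P π n g := by
  unfold lc
  rw [add_mul]
  exact cst_add P hK (int_of_mem hπ hf) (int_of_mem hπ hg)

theorem lc_smul [IsAlgClosed k] (hK : IsFunctionField k K) (hπ : P.1 π = exp (-1 : ℤ)) {n : ℕ}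
    (c : k) {f : K} (hf : f ∈ L (Finsupp.single P (n : ℤ) : Divisor k K)) :
    lc P π n (c • f) = c * lc P π n f := by
  unfold lc
  rw [smul_mul_assoc]
  exact cst_smul P hK c (int_of_mem hπ hf)

theorem lc_sub [IsAlgClosed k] (hK : IsFunctionField k K) (hπ : P.1 π = exp (-1 : ℤ)) {n : ℕ}
    {f g : K} (hf : f ∈ L (Finsupp.single P (n : ℤ) : Divisor k K))
    (hg : g ∈ L (Finsupp.single P (n : ℤ) : Divisor k K)) :
    lc P π n (f - g) = lc P π n f - lc P π n g := by
  have h1 : f - g = f + (-1 : k) • g := by rw [neg_smul, one_smul, sub_eq_add_neg]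
  rw [h1, lc_add hK hπ hf (Submodule.smul_mem _ _ hg), lc_smul hK hπ _ hg]
  ring

theorem lc_sum [IsAlgClosed k] (hK : IsFunctionField k K) (hπ : P.1 π = exp (-1 : ℤ)) {n : ℕ}
    {ι : Type*} (s : Finset ι) (f : ι → K)
    (hf : ∀ i ∈ s, f i ∈ L (Finsupp.single P (n : ℤ) : Divisor k K)) :
    lc P π n (∑ i ∈ s, f i) = ∑ i ∈ s, lc P π n (f i) := by
  classical
  induction s using Finset.induction_on with
  | empty => simp [lc_zero]
  | insert a s ha ih =>
    rw [Finset.sum_insert ha, Finset.sum_insert ha,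
      lc_add hK hπ (hf a (Finset.mem_insert_self _ _))
        (Submodule.sum_mem _ fun i hi => hf i (Finset.mem_insert_of_mem hi)),
      ih fun i hi => hf i (Finset.mem_insert_of_mem hi)]

theorem lc_mul [IsAlgClosed k] (hK : IsFunctionField k K) (hπ : P.1 π = exp (-1 : ℤ)) {n m : ℕ}
    {f g : K} (hf : f ∈ L (Finsupp.single P (n : ℤ) : Divisor k K))
    (hg : g ∈ L (Finsupp.single P (m : ℤ) : Divisor k K)) :
    lc P π (n + m) (f * g) = lc P π n f * lc P π m g := by
  unfold lc
  have e : f * g * π ^ (n + m) = (f * π ^ n) * (g * π ^ m) := by rw [pow_add]; ring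
  rw [e]
  exact cst_mul P hK (int_of_mem hπ hf) (int_of_mem hπ hg)

theorem lc_const (c : k) : lc P π 0 (algebraMap k K c) = c := by
  unfold lc
  rw [pow_zero, mul_one]
  exact cst_algebraMap P c

theorem lc_eq_zero_iff [IsAlgClosed k] (hK : IsFunctionField k K) (hπ : P.1 π = exp (-1 : ℤ))
    {n : ℕ} {f : K} (hf : f ∈ L (Finsupp.single P (n : ℤ) : Divisor k K)) :
    lc P π n f = 0 ↔ f ∈ L (Finsupp.single P ((n : ℤ) - 1) : Divisor k K) := by
  by_cases hf0 : f = 0
  · rw [hf0]
    exact ⟨fun _ => Submodule.zero_mem _, fun _ => lc_zero n⟩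
  · have hπ0 := pi_ne_zero hπ
    have hne : f * π ^ n ≠ 0 := mul_ne_zero hf0 (pow_ne_zero _ hπ0)
    unfold lc
    rw [cst_eq_zero_iff P hK (int_of_mem hπ hf), pl_val_lt_one_iff P hne,
      pl_ord_mul P hf0 (pow_ne_zero _ hπ0), pl_ord_pow, ord_pi hπ, mem_L_single_iff P hf0]
    have h1 := (mem_L_single_iff P hf0).1 hf
    constructor
    · intro h
      exact ⟨by omega, h1.2⟩
    · intro h
      have := h.1
      omega

end LC

section Semigroup

variable [IsAlgClosed k] (hK : IsFunctionField k K) (P : Place k K)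
include hK

theorem mem_poleOrders_iff (n : ℕ) :
    n ∈ W4c6gradedringsgw.poleOrders P ↔ ¬ IsGap P (n : ℤ) := by
  have hP := deg_eq_one_of_isAlgClosed hK P
  unfold W4c6gradedringsgw.poleOrders
  rw [Set.mem_setOf_eq, smul_single_one, smul_single_one]
  have h := ell_single_step P hK hP (n : ℤ)
  by_cases hg : IsGap P (n : ℤ)
  · rw [if_pos hg] at h
    constructor
    · intro h'
      omega
    · intro h'
      exact absurd hg h'
  · rw [if_neg hg] at h
    exact ⟨fun _ => hg, fun _ => h⟩

variable {P} {π : K}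

theorem mem_of_lc_ne_zero (hπ : P.1 π = exp (-1 : ℤ)) {n : ℕ} {f : K}
    (hf : f ∈ L (Finsupp.single P (n : ℤ) : Divisor k K)) (h : lc P π n f ≠ 0) :
    n ∈ W4c6gradedringsgw.poleOrders P := by
  rw [mem_poleOrders_iff hK]
  intro hgap
  unfold IsGap at hgap
  apply h
  rw [lc_eq_zero_iff hK hπ hf, ← hgap]
  exact hf

theorem exists_lc_eq_one (hπ : P.1 π = exp (-1 : ℤ)) {n : ℕ}
    (hn : n ∈ W4c6gradedringsgw.poleOrders P) :
    ∃ f ∈ L (Finsupp.single P (n : ℤ) : Divisor k K), lc P π n f = 1 := by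
  rw [mem_poleOrders_iff hK] at hn
  have hlt : L (Finsupp.single P ((n : ℤ) - 1) : Divisor k K) <
      L (Finsupp.single P (n : ℤ) : Divisor k K) :=
    lt_of_le_of_ne (L_mono (single_mono P (by omega))) (fun e => hn e.symm)
  obtain ⟨f, hf, hfn⟩ := SetLike.exists_of_lt hlt
  have hc : lc P π n f ≠ 0 := fun h => hfn ((lc_eq_zero_iff hK hπ hf).1 h)
  refine ⟨(lc P π n f)⁻¹ • f, Submodule.smul_mem _ _ hf, ?_⟩
  rw [lc_smul hK hπ _ hf, inv_mul_cancel₀ hc]

theorem zero_mem_poleOrders : 0 ∈ W4c6gradedringsgw.poleOrders P := by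
  obtain ⟨π, -, hπ⟩ := pl_exists_val_eq_exp P (-1)
  have h1 : (1 : K) ∈ L (Finsupp.single P ((0 : ℕ) : ℤ) : Divisor k K) := by
    rw [Nat.cast_zero, Finsupp.single_zero]
    have := W4c6gradedringsgw.algebraMap_mem_L_zero (k := k) (K := K) 1
    rwa [map_one] at this
  refine mem_of_lc_ne_zero hK hπ h1 ?_
  have := lc_const (P := P) (π := π) (1 : k)
  rw [map_one] at this
  rw [this]
  exact one_ne_zero

theorem add_mem_poleOrders {a b : ℕ} (ha : a ∈ W4c6gradedringsgw.poleOrders P)
    (hb : b ∈ W4c6gradedringsgw.poleOrders P) : a + b ∈ W4c6gradedringsgw.poleOrders P := by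
  rw [mem_poleOrders_iff hK] at ha hb ⊢
  have := not_isGap_add P ha hb
  rwa [Nat.cast_add]

theorem one_notMem_poleOrders (hg : 1 ≤ genus k K) : 1 ∉ W4c6gradedringsgw.poleOrders P := by
  rw [mem_poleOrders_iff hK]
  have hP := deg_eq_one_of_isAlgClosed hK P
  have := isGap_one_of_genus_pos P hK hP (by omega)
  rw [Nat.cast_one]
  exact fun h => h this

theorem mem_poleOrders_of_le {n : ℕ} (hn : 2 * genus k K ≤ n) (hn1 : 1 ≤ n) :
    n ∈ W4c6gradedringsgw.poleOrders P := by
  have hP := deg_eq_one_of_isAlgClosed hK P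
  unfold W4c6gradedringsgw.poleOrders
  rw [Set.mem_setOf_eq, smul_single_one, smul_single_one]
  have h1 := ell_eq_of_deg_ge hK (Finsupp.single P (n : ℤ) : Divisor k K) (by
    rw [deg_single, hP]; push_cast; omega)
  have h2 := ell_eq_of_deg_ge hK (Finsupp.single P ((n : ℤ) - 1) : Divisor k K) (by
    rw [deg_single, hP]; push_cast; omega)
  rw [deg_single, hP] at h1 h2
  push_cast at h1 h2
  omega

theorem closure_poleOrders_eq :
    ((AddSubmonoid.closure (W4c6gradedringsgw.poleOrders P) : AddSubmonoid ℕ) : Set ℕ) =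
      W4c6gradedringsgw.poleOrders P := by
  apply Set.Subset.antisymm
  · intro n hn
    induction hn using AddSubmonoid.closure_induction with
    | mem x hx => exact hx
    | zero => exact zero_mem_poleOrders hK
    | add x y _ _ hx hy => exact add_mem_poleOrders hK hx hy
  · exact AddSubmonoid.subset_closure

/-- `L(P) = k` in positive genus. -/
theorem exists_const_of_mem_L_one (hg : 1 ≤ genus k K) {f : K}
    (hf : f ∈ L (Finsupp.single P 1 : Divisor k K)) : ∃ c : k, algebraMap k K c = f := by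
  have hP := deg_eq_one_of_isAlgClosed hK P
  have h := isGap_one_of_genus_pos P hK hP (by omega)
  unfold IsGap at h
  rw [h, sub_self, Finsupp.single_zero, L_zero_eq hK, Submodule.mem_one] at hf
  exact hf

theorem exists_const_of_mem_L_zero {f : K}
    (hf : f ∈ L (0 : Divisor k K)) : ∃ c : k, algebraMap k K c = f := by
  rw [L_zero_eq hK, Submodule.mem_one] at hf
  exact hf

end Semigroup

end Groth.Agent.H77.Sect
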