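import Groth.Agent.H77.Sect1

set_option autoImplicit false

/-! The section ring of a point divisor modulo a degree-one element is the semigroup algebra of the
Weierstrass semigroup. -/

namespace Groth.Agent.H77.Sect

open FunFld WithZero Groth.Agent.H55 Polynomial

variable {k K : Type*} [Field k] [Field K] [Algebra k K]

/-- the section ring of the point divisor `P`. -/
noncomputable abbrev SR (P : Place k K) : Subalgebra k K[X] :=
  W4c6gradedringsgw.sectRing (Finsupp.single P 1 : FunFld.Divisor k K)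

section Basic

variable (P : Place k K)

theorem coeff_mem (p : (SR P)) (n : ℕ) :
    (p : K[X]).coeff n ∈ L (Finsupp.single P (n : ℤ) : Divisor k K) := by
  have h : ∀ n : ℕ, (p : K[X]).coeff n ∈
      L ((n : ℤ) • (Finsupp.single P 1 : Divisor k K)) := p.2
  have := h n
  rwa [smul_single_one] at this

theorem mem_sectRing {p : K[X]}
    (h : ∀ n : ℕ, p.coeff n ∈ L (Finsupp.single P (n : ℤ) : Divisor k K)) :
    p ∈ W4c6gradedringsgw.sectRing (Finsupp.single P 1 : FunFld.Divisor k K) := by
  intro n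
  rw [smul_single_one]
  exact h n

end Basic

section Psi

variable (P : Place k K) (π : K)

/-- the leading-coefficient polynomial. -/
noncomputable def psiFun (p : K[X]) : k[X] :=
  ∑ n ∈ p.support, monomial n (lc P π n (p.coeff n))

theorem coeff_psiFun (p : K[X]) (n : ℕ) : (psiFun P π p).coeff n = lc P π n (p.coeff n) := by
  unfold psiFun
  rw [Polynomial.finset_sum_coeff]
  simp only [Polynomial.coeff_monomial]
  rw [Finset.sum_ite_eq']
  split_ifs with h
  · rfl
  · rw [Polynomial.notMem_support_iff.1 h, lc_zero]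

variable [IsAlgClosed k] (hK : IsFunctionField k K) {π}

/-- the leading-coefficient homomorphism. -/
noncomputable def psi (hπ : P.1 π = exp (-1 : ℤ)) : (SR P) →ₐ[k] k[X] where
  toFun p := psiFun P π p.1
  map_one' := by
    ext n
    rw [coeff_psiFun]
    show lc P π n ((1 : K[X]).coeff n) = (1 : k[X]).coeff n
    rw [Polynomial.coeff_one, Polynomial.coeff_one]
    split_ifs with h
    · subst h
      have := lc_const (P := P) (π := π) (1 : k)
      rwa [map_one] at this
    · exact lc_zero n
  map_mul' p q := by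
    ext n
    rw [coeff_psiFun, Polynomial.coeff_mul]
    show lc P π n (((p : K[X]) * (q : K[X])).coeff n) = _
    rw [Polynomial.coeff_mul, lc_sum hK hπ]
    · refine Finset.sum_congr rfl fun x hx => ?_
      rw [coeff_psiFun, coeff_psiFun]
      have hx' := Finset.HasAntidiagonal.mem_antidiagonal.1 hx
      subst hx'
      exact lc_mul hK hπ (coeff_mem P p x.1) (coeff_mem P q x.2)
    · intro x hx
      have hx' := Finset.HasAntidiagonal.mem_antidiagonal.1 hx
      have := W4c6gradedringsgw.mul_mem_L (coeff_mem P p x.1) (coeff_mem P q x.2)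
      rw [← Finsupp.single_add, ← Nat.cast_add, hx'] at this
      exact this
  map_zero' := by
    ext n
    rw [coeff_psiFun]
    show lc P π n ((0 : K[X]).coeff n) = (0 : k[X]).coeff n
    rw [Polynomial.coeff_zero, Polynomial.coeff_zero, lc_zero]
  map_add' p q := by
    ext n
    rw [Polynomial.coeff_add, coeff_psiFun, coeff_psiFun, coeff_psiFun]
    show lc P π n (((p : K[X]) + (q : K[X])).coeff n) = _
    rw [Polynomial.coeff_add]
    exact lc_add hK hπ (coeff_mem P p n) (coeff_mem P q n)
  commutes' c := by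
    ext n
    rw [coeff_psiFun]
    show lc P π n ((algebraMap k K[X] c).coeff n) = (algebraMap k k[X] c).coeff n
    rw [Polynomial.algebraMap_apply, Polynomial.algebraMap_apply, Polynomial.coeff_C,
      Polynomial.coeff_C]
    split_ifs with h
    · subst h
      exact lc_const c
    · exact lc_zero n

theorem coeff_psi (hπ : P.1 π = exp (-1 : ℤ)) (p : (SR P)) (n : ℕ) :
    (psi P hK hπ p).coeff n = lc P π n ((p : K[X]).coeff n) :=
  coeff_psiFun P π p.1 n

theorem psi_eq_zero_iff (hπ : P.1 π = exp (-1 : ℤ)) (p : (SR P)) :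
    psi P hK hπ p = 0 ↔
      ∀ n : ℕ, (p : K[X]).coeff n ∈ L (Finsupp.single P ((n : ℤ) - 1) : Divisor k K) := by
  constructor
  · intro h n
    rw [← lc_eq_zero_iff hK hπ (coeff_mem P p n), ← coeff_psi P hK hπ, h, Polynomial.coeff_zero]
  · intro h
    ext n
    rw [coeff_psi, Polynomial.coeff_zero, lc_eq_zero_iff hK hπ (coeff_mem P p n)]
    exact h n

include hK in
theorem L_neg_one_eq_bot : L (Finsupp.single P (-1 : ℤ) : Divisor k K) = ⊥ := by
  have hP := deg_eq_one_of_isAlgClosed hK P
  apply L_eq_bot_of_deg_neg hK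
  rw [deg_single, hP]
  norm_num

theorem mem_span_of_psi_eq_zero (hπ : P.1 π = exp (-1 : ℤ)) (hg : 1 ≤ genus k K)
    (t : (SR P)) (a : K) (ha : a ≠ 0) (ht : (t : K[X]) = C a * X) (p : (SR P))
    (hp : psi P hK hπ p = 0) : p ∈ Ideal.span {t} := by
  have hco := (psi_eq_zero_iff P hK hπ p).1 hp
  have h0 : (p : K[X]).coeff 0 = 0 := by
    have := hco 0
    rw [Nat.cast_zero, zero_sub, L_neg_one_eq_bot P hK, Submodule.mem_bot] at this
    exact this
  have ha' : a ∈ L (Finsupp.single P 1 : Divisor k K) := by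
    have := coeff_mem P t 1
    rw [ht, Polynomial.coeff_C_mul, Polynomial.coeff_X_one, mul_one, Nat.cast_one] at this
    exact this
  obtain ⟨c₀, hc₀⟩ := exists_const_of_mem_L_one hK hg ha'
  have hc₀0 : c₀ ≠ 0 := by
    rintro rfl
    rw [map_zero] at hc₀
    exact ha hc₀.symm
  have hq : c₀⁻¹ • Polynomial.divX (p : K[X]) ∈
      W4c6gradedringsgw.sectRing (Finsupp.single P 1 : FunFld.Divisor k K) := by
    apply mem_sectRing
    intro n
    rw [Polynomial.coeff_smul, Polynomial.coeff_divX]
    refine Submodule.smul_mem _ _ ?_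
    have := hco (n + 1)
    have e : (((n + 1 : ℕ) : ℤ) - 1) = (n : ℤ) := by push_cast; ring
    rwa [e] at this
  have heq : p = ⟨c₀⁻¹ • Polynomial.divX (p : K[X]), hq⟩ * t := by
    apply Subtype.ext
    show (p : K[X]) = (c₀⁻¹ • Polynomial.divX (p : K[X])) * (t : K[X])
    rw [ht]
    have e : (c₀⁻¹ • Polynomial.divX (p : K[X])) * (C a * X) =
        X * (C a * (c₀⁻¹ • Polynomial.divX (p : K[X]))) := by ring
    rw [e]
    ext n
    cases n with
    | zero => rw [h0, Polynomial.coeff_X_mul_zero]
    | succ n =>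
      rw [Polynomial.coeff_X_mul, Polynomial.coeff_C_mul, Polynomial.coeff_smul,
        Polynomial.coeff_divX, ← hc₀, Algebra.smul_def, ← mul_assoc, ← map_mul,
        mul_inv_cancel₀ hc₀0, map_one, one_mul]
  rw [Ideal.mem_span_singleton']
  exact ⟨_, heq.symm⟩

theorem psi_t (hπ : P.1 π = exp (-1 : ℤ)) (hg : 1 ≤ genus k K)
    (t : (SR P)) (a : K) (ht : (t : K[X]) = C a * X) : psi P hK hπ t = 0 := by
  rw [psi_eq_zero_iff]
  intro n
  rw [ht, Polynomial.coeff_C_mul, Polynomial.coeff_X]
  split_ifs with h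
  · subst h
    have ha' : a ∈ L (Finsupp.single P 1 : Divisor k K) := by
      have := coeff_mem P t 1
      rw [ht, Polynomial.coeff_C_mul, Polynomial.coeff_X_one, mul_one, Nat.cast_one] at this
      exact this
    obtain ⟨c₀, hc₀⟩ := exists_const_of_mem_L_one hK hg ha'
    rw [mul_one, Nat.cast_one, sub_self, Finsupp.single_zero, ← hc₀]
    exact W4c6gradedringsgw.algebraMap_mem_L_zero c₀
  · rw [mul_zero]
    exact Submodule.zero_mem _

theorem ker_psi (hπ : P.1 π = exp (-1 : ℤ)) (hg : 1 ≤ genus k K)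
    (t : (SR P)) (a : K) (ha : a ≠ 0) (ht : (t : K[X]) = C a * X) :
    RingHom.ker (psi P hK hπ) = Ideal.span {t} := by
  apply le_antisymm
  · intro p hp
    exact mem_span_of_psi_eq_zero P hK hπ hg t a ha ht p ((RingHom.mem_ker).1 hp)
  · rw [Ideal.span_singleton_le_iff_mem, RingHom.mem_ker]
    exact psi_t P hK hπ hg t a ht

include hK in
theorem prime_t (hπ : P.1 π = exp (-1 : ℤ)) (hg : 1 ≤ genus k K)
    (t : (SR P)) (a : K) (ha : a ≠ 0) (ht : (t : K[X]) = C a * X) : Prime t := by
  have ht0 : t ≠ 0 := by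
    intro h
    have h1 : (t : K[X]).coeff 1 = 0 := by rw [h]; rfl
    rw [ht, Polynomial.coeff_C_mul, Polynomial.coeff_X_one, mul_one] at h1
    exact ha h1
  rw [← Ideal.span_singleton_prime ht0, ← ker_psi P hK hπ hg t a ha ht]
  exact RingHom.ker_isPrime _

end Psi

section Iota

variable (k) in
/-- the inclusion of the semigroup algebra of a submonoid of `ℕ` into `k[X]`. -/
noncomputable def iota (M : AddSubmonoid ℕ) : AddMonoidAlgebra k M →ₐ[k] k[X] :=
  (Polynomial.toFinsuppIsoAlg k).symm.toAlgHom.comp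
    (AddMonoidAlgebra.mapDomainAlgHom k k M.subtype)

theorem toFinsupp_iota (M : AddSubmonoid ℕ) (y : AddMonoidAlgebra k M) :
    (iota k M y).toFinsupp = AddMonoidAlgebra.mapDomain (Subtype.val : M → ℕ) y := rfl

theorem iota_injective (M : AddSubmonoid ℕ) : Function.Injective (iota k M) := by
  intro x y h
  have h' := congrArg Polynomial.toFinsupp h
  rw [toFinsupp_iota, toFinsupp_iota] at h'
  exact AddMonoidAlgebra.mapDomain_injective Subtype.val_injective h'

theorem iota_single (M : AddSubmonoid ℕ) (m : M) (c : k) :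
    iota k M (AddMonoidAlgebra.single m c) = monomial (m : ℕ) c := by
  apply Polynomial.toFinsupp_injective
  rw [toFinsupp_iota, AddMonoidAlgebra.mapDomain_single, Polynomial.toFinsupp_monomial]

theorem exists_iota_eq (M : AddSubmonoid ℕ) (q : k[X]) (hq : ∀ n ∈ q.support, n ∈ M) :
    ∃ y, iota k M y = q := by
  refine ⟨AddMonoidAlgebra.comapDomain (Subtype.val : M → ℕ) Subtype.val_injective q.toFinsupp, ?_⟩
  apply Polynomial.toFinsupp_injective
  rw [toFinsupp_iota]
  apply AddMonoidAlgebra.mapDomain_comapDomain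
  intro n hn
  rw [Polynomial.support_toFinsupp] at hn
  exact ⟨⟨n, hq n hn⟩, rfl⟩

end Iota

section Main

variable [IsAlgClosed k] (hK : IsFunctionField k K) (P : Place k K) {π : K}


include hK in
theorem psi_mem_range (hπ : P.1 π = exp (-1 : ℤ)) (p : (SR P)) :
    psi P hK hπ p ∈ (iota k (AddSubmonoid.closure (W4c6gradedringsgw.poleOrders P))).range := by
  obtain ⟨y, hy⟩ := exists_iota_eq (k := k) (AddSubmonoid.closure (W4c6gradedringsgw.poleOrders P)) (psi P hK hπ p) (by
    intro n hn
    rw [Polynomial.mem_support_iff, coeff_psi] at hn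
    exact AddSubmonoid.subset_closure (mem_of_lc_ne_zero hK hπ (coeff_mem P p n) hn))
  exact ⟨y, hy⟩

include hK in
theorem exists_psi_eq (hπ : P.1 π = exp (-1 : ℤ)) (y : AddMonoidAlgebra k (AddSubmonoid.closure (W4c6gradedringsgw.poleOrders P))) :
    ∃ p : (SR P), psi P hK hπ p = iota k (AddSubmonoid.closure (W4c6gradedringsgw.poleOrders P)) y := by
  induction y using AddMonoidAlgebra.induction_linear with
  | zero => exact ⟨0, by rw [map_zero, map_zero]⟩
  | add x y hx hy =>
    obtain ⟨p, hp⟩ := hx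
    obtain ⟨q, hq⟩ := hy
    exact ⟨p + q, by rw [map_add, map_add, hp, hq]⟩
  | single m c =>
    have hm : (m : ℕ) ∈ W4c6gradedringsgw.poleOrders P := by
      have h1 : (m : ℕ) ∈ ((AddSubmonoid.closure (W4c6gradedringsgw.poleOrders P) :
          AddSubmonoid ℕ) : Set ℕ) := m.2
      rwa [closure_poleOrders_eq hK] at h1
    obtain ⟨f, hf, hlc⟩ := exists_lc_eq_one hK hπ hm
    have hmem : C (c • f) * X ^ (m : ℕ) ∈
        W4c6gradedringsgw.sectRing (Finsupp.single P 1 : FunFld.Divisor k K) := by
      apply mem_sectRing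
      intro n
      rw [Polynomial.coeff_C_mul_X_pow]
      split_ifs with h
      · subst h
        exact Submodule.smul_mem _ _ hf
      · exact Submodule.zero_mem _
    refine ⟨⟨_, hmem⟩, ?_⟩
    rw [iota_single]
    ext n
    rw [coeff_psi, Polynomial.coeff_monomial]
    show lc P π n ((C (c • f) * X ^ (m : ℕ)).coeff n) = _
    rw [Polynomial.coeff_C_mul_X_pow]
    by_cases h : n = (m : ℕ)
    · subst h
      rw [if_pos rfl, if_pos rfl, lc_smul hK hπ c hf, hlc, mul_one]
    · rw [if_neg h, if_neg (Ne.symm h), lc_zero]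

/-- the leading-coefficient map onto the semigroup algebra. -/
noncomputable def phi (hπ : P.1 π = exp (-1 : ℤ)) : (SR P) →ₐ[k] AddMonoidAlgebra k (AddSubmonoid.closure (W4c6gradedringsgw.poleOrders P)) :=
  ((AlgEquiv.ofInjective (iota k (AddSubmonoid.closure (W4c6gradedringsgw.poleOrders P))) (iota_injective (AddSubmonoid.closure (W4c6gradedringsgw.poleOrders P)))).symm : _ →ₐ[k] _).comp
    ((psi P hK hπ).codRestrict (iota k (AddSubmonoid.closure (W4c6gradedringsgw.poleOrders P))).range (psi_mem_range hK P hπ))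

theorem iota_phi (hπ : P.1 π = exp (-1 : ℤ)) (p : (SR P)) :
    iota k (AddSubmonoid.closure (W4c6gradedringsgw.poleOrders P)) (phi hK P hπ p) = psi P hK hπ p := by
  unfold phi
  rw [AlgHom.comp_apply]
  have := (AlgEquiv.ofInjective (iota k (AddSubmonoid.closure (W4c6gradedringsgw.poleOrders P))) (iota_injective (AddSubmonoid.closure (W4c6gradedringsgw.poleOrders P)))).apply_symm_apply
    ((psi P hK hπ).codRestrict (iota k (AddSubmonoid.closure (W4c6gradedringsgw.poleOrders P))).range (psi_mem_range hK P hπ) p)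
  have h2 := congrArg Subtype.val this
  exact h2

theorem phi_surjective (hπ : P.1 π = exp (-1 : ℤ)) : Function.Surjective (phi hK P hπ) := by
  intro y
  obtain ⟨p, hp⟩ := exists_psi_eq hK P hπ y
  refine ⟨p, iota_injective (AddSubmonoid.closure (W4c6gradedringsgw.poleOrders P)) ?_⟩
  rw [iota_phi, hp]

theorem ker_phi (hπ : P.1 π = exp (-1 : ℤ)) :
    RingHom.ker (phi hK P hπ) = RingHom.ker (psi P hK hπ) := by
  ext p
  rw [RingHom.mem_ker, RingHom.mem_ker, ← iota_phi hK P hπ p]
  constructor
  · intro h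
    rw [h, map_zero]
  · intro h
    apply iota_injective (AddSubmonoid.closure (W4c6gradedringsgw.poleOrders P))
    rw [h, map_zero]

include hK in
theorem main_equiv (hg : 1 ≤ genus k K)
    (t : (SR P)) (a : K) (ha : a ≠ 0) (ht : (t : K[X]) = C a * X) :
    Prime t ∧ Nonempty (((SR P) ⧸ Ideal.span {t}) ≃ₐ[k] AddMonoidAlgebra k (AddSubmonoid.closure (W4c6gradedringsgw.poleOrders P))) := by
  obtain ⟨π, -, hπ⟩ := pl_exists_val_eq_exp P (-1)
  refine ⟨prime_t P hK hπ hg t a ha ht, ?_⟩
  have hker : Ideal.span {t} = RingHom.ker (phi hK P hπ) := by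
    rw [ker_phi, ker_psi P hK hπ hg t a ha ht]
  exact ⟨(Ideal.quotientEquivAlgOfEq k hker).trans
    (Ideal.quotientKerAlgEquivOfSurjective (phi_surjective hK P hπ))⟩

end Main

end Groth.Agent.H77.Sect
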