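import Groth.Agent.H77.Sect2

set_option autoImplicit false

/-! The embedding dimension of the section ring of a point divisor. -/

namespace Groth.Agent.H77.Sect

open FunFld WithZero Groth.Agent.H55 Polynomial

variable {k K : Type*} [Field k] [Field K] [Algebra k K]

/-- the irrelevant ideal. -/
noncomputable abbrev Irr (P : Place k K) : Ideal (SR P) :=
  RingHom.ker (Polynomial.constantCoeff.comp (SR P).val.toRingHom)

theorem mem_Irr (P : Place k K) (p : SR P) : p ∈ Irr P ↔ (p : K[X]).coeff 0 = 0 := by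
  rw [RingHom.mem_ker]
  rfl

theorem monomial_mem (P : Place k K) {n : ℕ} {f : K}
    (hf : f ∈ L (Finsupp.single P (n : ℤ) : Divisor k K)) : monomial n f ∈ SR P := by
  apply mem_sectRing
  intro m
  rw [Polynomial.coeff_monomial]
  split_ifs with h
  · subst h; exact hf
  · exact Submodule.zero_mem _

open Classical in
/-- monomials of the section ring. -/
noncomputable def monoD (P : Place k K) (n : ℕ) (f : K) : SR P :=
  if hf : f ∈ L (Finsupp.single P (n : ℤ) : Divisor k K) then ⟨monomial n f, monomial_mem P hf⟩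
  else 0

theorem monoD_val (P : Place k K) {n : ℕ} {f : K}
    (hf : f ∈ L (Finsupp.single P (n : ℤ) : Divisor k K)) :
    ((monoD P n f : SR P) : K[X]) = monomial n f := by
  unfold monoD
  rw [dif_pos hf]

open Classical in
/-- a chosen element with pole order exactly `h` and leading coefficient one. -/
noncomputable def fsel (P : Place k K) (π : K) (h : ℕ) : K :=
  if hh : ∃ f ∈ L (Finsupp.single P (h : ℤ) : Divisor k K), lc P π h f = 1 then hh.choose else 0

section Gens

variable [IsAlgClosed k] (hK : IsFunctionField k K) (P : Place k K) {π : K}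

include hK in
theorem fsel_spec (hπ : P.1 π = exp (-1 : ℤ)) {h : ℕ}
    (hh : h ∈ W4c6gradedringsgw.poleOrders P) :
    fsel P π h ∈ L (Finsupp.single P (h : ℤ) : Divisor k K) ∧ lc P π h (fsel P π h) = 1 := by
  have hex := exists_lc_eq_one hK hπ hh
  unfold fsel
  rw [dif_pos hex]
  exact hex.choose_spec

theorem one_mem_L_one : (1 : K) ∈ L (Finsupp.single P ((1 : ℕ) : ℤ) : Divisor k K) := by
  have h1 : (1 : K) ∈ L (0 : Divisor k K) := by
    have := W4c6gradedringsgw.algebraMap_mem_L_zero (k := k) (K := K) 1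
    rwa [map_one] at this
  refine L_mono ?_ h1
  rw [← Finsupp.single_zero (a := P)]
  exact single_mono P (by norm_num)

/-- the generating set. -/
noncomputable def gens (π : K) : Set (SR P) :=
  insert (monoD P 1 1) ((fun h => monoD P h (fsel P π h)) ''
    (W4c6gradedringsgw.minGens (W4c6gradedringsgw.poleOrders P)))

include hK in
theorem minGens_subset (hg : 1 ≤ genus k K) :
    W4c6gradedringsgw.minGens (W4c6gradedringsgw.poleOrders P) ⊆ Set.Iio (4 * genus k K) := by
  intro h hh
  rw [Set.mem_Iio]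
  by_contra hcon
  push Not at hcon
  obtain ⟨-, -, hmin⟩ := hh
  have h1 : 2 * genus k K ∈ W4c6gradedringsgw.poleOrders P :=
    mem_poleOrders_of_le hK (le_refl _) (by omega)
  have h2 : h - 2 * genus k K ∈ W4c6gradedringsgw.poleOrders P :=
    mem_poleOrders_of_le hK (by omega) (by omega)
  exact hmin _ h1 _ h2 (by omega) (by omega) (by omega)

include hK in
theorem minGens_finite (hg : 1 ≤ genus k K) :
    (W4c6gradedringsgw.minGens (W4c6gradedringsgw.poleOrders P)).Finite :=
  (Set.finite_Iio _).subset (minGens_subset hK P hg)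

theorem gens_finite (hfin : (W4c6gradedringsgw.minGens (W4c6gradedringsgw.poleOrders P)).Finite) :
    (gens P π).Finite :=
  Set.Finite.insert _ (hfin.image _)

theorem ncard_gens_le
    (hfin : (W4c6gradedringsgw.minGens (W4c6gradedringsgw.poleOrders P)).Finite) :
    (gens P π).ncard ≤
      (W4c6gradedringsgw.minGens (W4c6gradedringsgw.poleOrders P)).ncard + 1 := by
  unfold gens
  refine (Set.ncard_insert_le _ _).trans ?_
  exact Nat.add_le_add_right (Set.ncard_image_le hfin) 1

include hK in
theorem gens_subset_Irr (hπ : P.1 π = exp (-1 : ℤ)) : gens P π ⊆ (Irr P : Set (SR P)) := by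
  intro x hx
  rw [SetLike.mem_coe, mem_Irr]
  rcases hx with rfl | ⟨h, hh, rfl⟩
  · rw [monoD_val P (one_mem_L_one P), Polynomial.coeff_monomial, if_neg (by norm_num)]
  · have hh0 : h ≠ 0 := hh.2.1
    rw [monoD_val P (fsel_spec hK P hπ hh.1).1, Polynomial.coeff_monomial, if_neg hh0]

/-- multiplying by `X`. -/
theorem monoD_succ {m : ℕ} {f : K}
    (hf : f ∈ L (Finsupp.single P (m : ℤ) : Divisor k K)) :
    f ∈ L (Finsupp.single P ((m + 1 : ℕ) : ℤ) : Divisor k K) ∧
      monoD P (m + 1) f = monoD P 1 1 * monoD P m f := by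
  have hf' : f ∈ L (Finsupp.single P ((m + 1 : ℕ) : ℤ) : Divisor k K) :=
    L_mono (single_mono P (by push_cast; omega)) hf
  refine ⟨hf', ?_⟩
  apply Subtype.ext
  show ((monoD P (m + 1) f : SR P) : K[X]) =
    ((monoD P 1 1 : SR P) : K[X]) * ((monoD P m f : SR P) : K[X])
  rw [monoD_val P hf', monoD_val P (one_mem_L_one P), monoD_val P hf,
    Polynomial.monomial_mul_monomial, one_mul, add_comm]

include hK in
theorem monoD_mem_of_lc_eq_zero (hπ : P.1 π = exp (-1 : ℤ)) (J : Ideal (SR P))
    (hJ : monoD P 1 1 ∈ J) {n : ℕ} (hn : 1 ≤ n) {f : K}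
    (hf : f ∈ L (Finsupp.single P (n : ℤ) : Divisor k K)) (hlc : lc P π n f = 0) :
    monoD P n f ∈ J := by
  obtain ⟨m, rfl⟩ : ∃ m, n = m + 1 := ⟨n - 1, by omega⟩
  have h1 := (lc_eq_zero_iff hK hπ hf).1 hlc
  have e : (((m + 1 : ℕ) : ℤ) - 1) = (m : ℤ) := by push_cast; ring
  rw [e] at h1
  rw [(monoD_succ P h1).2]
  exact Ideal.mul_mem_right _ _ hJ

theorem monoD_add {n : ℕ} {f g : K}
    (hf : f ∈ L (Finsupp.single P (n : ℤ) : Divisor k K))
    (hg : g ∈ L (Finsupp.single P (n : ℤ) : Divisor k K)) :
    monoD P n (f + g) = monoD P n f + monoD P n g := by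
  apply Subtype.ext
  show ((monoD P n (f + g) : SR P) : K[X]) =
    ((monoD P n f : SR P) : K[X]) + ((monoD P n g : SR P) : K[X])
  rw [monoD_val P hf, monoD_val P hg, monoD_val P (Submodule.add_mem _ hf hg),
    map_add]

theorem monoD_smul {n : ℕ} (c : k) {f : K}
    (hf : f ∈ L (Finsupp.single P (n : ℤ) : Divisor k K)) :
    monoD P n (c • f) = algebraMap k (SR P) c * monoD P n f := by
  apply Subtype.ext
  show ((monoD P n (c • f) : SR P) : K[X]) =
    (algebraMap k K[X] c) * ((monoD P n f : SR P) : K[X])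
  rw [monoD_val P hf, monoD_val P (Submodule.smul_mem _ c hf), Polynomial.algebraMap_apply,
    Polynomial.C_mul_monomial, Algebra.smul_def]

theorem monoD_mul {a b : ℕ} {u v : K}
    (hu : u ∈ L (Finsupp.single P (a : ℤ) : Divisor k K))
    (hv : v ∈ L (Finsupp.single P (b : ℤ) : Divisor k K)) :
    u * v ∈ L (Finsupp.single P ((a + b : ℕ) : ℤ) : Divisor k K) ∧
      monoD P (a + b) (u * v) = monoD P a u * monoD P b v := by
  have huv : u * v ∈ L (Finsupp.single P ((a + b : ℕ) : ℤ) : Divisor k K) := by
    have := W4c6gradedringsgw.mul_mem_L hu hv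
    rwa [← Finsupp.single_add, ← Nat.cast_add] at this
  refine ⟨huv, ?_⟩
  apply Subtype.ext
  show ((monoD P (a + b) (u * v) : SR P) : K[X]) =
    ((monoD P a u : SR P) : K[X]) * ((monoD P b v : SR P) : K[X])
  rw [monoD_val P huv, monoD_val P hu, monoD_val P hv, Polynomial.monomial_mul_monomial]

include hK in
theorem monoD_mem_span (hπ : P.1 π = exp (-1 : ℤ)) :
    ∀ n : ℕ, 1 ≤ n → ∀ f : K, f ∈ L (Finsupp.single P (n : ℤ) : Divisor k K) →
      monoD P n f ∈ Ideal.span (gens P π) := by
  intro n
  induction n using Nat.strong_induction_on with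
  | _ n ih =>
    intro hn f hf
    have hX : monoD P 1 1 ∈ Ideal.span (gens P π) :=
      Ideal.subset_span (Set.mem_insert _ _)
    by_cases hc : lc P π n f = 0
    · exact monoD_mem_of_lc_eq_zero hK P hπ _ hX hn hf hc
    · have hnH := mem_of_lc_ne_zero hK hπ hf hc
      by_cases hmin : n ∈ W4c6gradedringsgw.minGens (W4c6gradedringsgw.poleOrders P)
      · obtain ⟨hsel, hsel1⟩ := fsel_spec hK P hπ hnH
        have hg' : f - lc P π n f • fsel P π n ∈
            L (Finsupp.single P (n : ℤ) : Divisor k K) :=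
          Submodule.sub_mem _ hf (Submodule.smul_mem _ _ hsel)
        have hlc0 : lc P π n (f - lc P π n f • fsel P π n) = 0 := by
          rw [lc_sub hK hπ hf (Submodule.smul_mem _ _ hsel), lc_smul hK hπ _ hsel, hsel1,
            mul_one, sub_self]
        have h1 := monoD_mem_of_lc_eq_zero hK P hπ _ hX hn hg' hlc0
        have e : f = (f - lc P π n f • fsel P π n) + lc P π n f • fsel P π n := by ring
        rw [e, monoD_add P hg' (Submodule.smul_mem _ _ hsel), monoD_smul P _ hsel]
        refine Ideal.add_mem _ h1 (Ideal.mul_mem_left _ _ ?_)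
        exact Ideal.subset_span (Set.mem_insert_of_mem _ ⟨n, hmin, rfl⟩)
      · have hn0 : n ≠ 0 := by omega
        have hex : ∃ a ∈ W4c6gradedringsgw.poleOrders P, ∃ b ∈ W4c6gradedringsgw.poleOrders P,
            a ≠ 0 ∧ b ≠ 0 ∧ a + b = n := by
          by_contra hcon
          apply hmin
          refine ⟨hnH, hn0, fun a ha b hb ha0 hb0 hab => hcon ⟨a, ha, b, hb, ha0, hb0, hab⟩⟩
        obtain ⟨a, ha, b, hb, ha0, hb0, hab⟩ := hex
        obtain ⟨hu, hu1⟩ := fsel_spec hK P hπ ha
        obtain ⟨hv, hv1⟩ := fsel_spec hK P hπ hb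
        obtain ⟨huv, hmul⟩ := monoD_mul P hu hv
        rw [hab] at huv hmul
        have hlcuv : lc P π n (fsel P π a * fsel P π b) = 1 := by
          have := lc_mul hK hπ hu hv
          rw [hab, hu1, hv1, mul_one] at this
          exact this
        have hg' : f - lc P π n f • (fsel P π a * fsel P π b) ∈
            L (Finsupp.single P (n : ℤ) : Divisor k K) :=
          Submodule.sub_mem _ hf (Submodule.smul_mem _ _ huv)
        have hlc0 : lc P π n (f - lc P π n f • (fsel P π a * fsel P π b)) = 0 := by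
          rw [lc_sub hK hπ hf (Submodule.smul_mem _ _ huv), lc_smul hK hπ _ huv, hlcuv,
            mul_one, sub_self]
        have h1 := monoD_mem_of_lc_eq_zero hK P hπ _ hX hn hg' hlc0
        have e : f = (f - lc P π n f • (fsel P π a * fsel P π b)) +
            lc P π n f • (fsel P π a * fsel P π b) := by ring
        rw [e, monoD_add P hg' (Submodule.smul_mem _ _ huv), monoD_smul P _ huv, hmul]
        refine Ideal.add_mem _ h1 (Ideal.mul_mem_left _ _ (Ideal.mul_mem_right _ _ ?_))
        exact ih a (by omega) (by omega) _ hu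

include hK in
theorem Irr_eq_span (hπ : P.1 π = exp (-1 : ℤ)) : Irr P = Ideal.span (gens P π) := by
  apply le_antisymm
  · intro p hp
    rw [mem_Irr] at hp
    have e : p = ∑ n ∈ (p : K[X]).support, monoD P n ((p : K[X]).coeff n) := by
      apply Subtype.ext
      have h1 : ((∑ n ∈ (p : K[X]).support, monoD P n ((p : K[X]).coeff n) : SR P) : K[X]) =
          ∑ n ∈ (p : K[X]).support, ((monoD P n ((p : K[X]).coeff n) : SR P) : K[X]) :=
        map_sum (SR P).val _ _
      rw [h1]
      conv_lhs => rw [Polynomial.as_sum_support (p : K[X])]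
      refine Finset.sum_congr rfl fun n _ => ?_
      rw [monoD_val P (coeff_mem P p n)]
    rw [e]
    refine Ideal.sum_mem _ fun n hn => ?_
    have hn1 : 1 ≤ n := by
      by_contra hcon
      have hn0 : n = 0 := by omega
      rw [hn0, Polynomial.mem_support_iff] at hn
      exact hn hp
    exact monoD_mem_span hK P hπ n hn1 _ (coeff_mem P p n)
  · rw [Ideal.span_le]
    exact gens_subset_Irr hK P hπ

end Gens

end Groth.Agent.H77.Sect
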