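import Groth.Agent.H77.Sect3

set_option autoImplicit false

/-! The embedding dimension of the section ring of a point divisor: lower bound and conclusion. -/

namespace Groth.Agent.H77.Sect

open FunFld WithZero Groth.Agent.H55 Polynomial

variable {k K : Type*} [Field k] [Field K] [Algebra k K]

section Lower

variable [IsAlgClosed k] (hK : IsFunctionField k K) (P : Place k K) {π : K}

include hK in
theorem coeff_one_mem_L_zero (hg : 1 ≤ genus k K) (p : SR P) :
    (p : K[X]).coeff 1 ∈ L (Finsupp.single P ((0 : ℕ) : ℤ) : Divisor k K) := by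
  have h1 := coeff_mem P p 1
  rw [Nat.cast_one] at h1
  obtain ⟨c, hc⟩ := exists_const_of_mem_L_one hK hg h1
  rw [← hc, Nat.cast_zero, Finsupp.single_zero]
  exact W4c6gradedringsgw.algebraMap_mem_L_zero c

/-- the cotangent functional. -/
noncomputable def Lam (hπ : P.1 π = exp (-1 : ℤ)) (T : Finset ℕ) (p : SR P) : Option T → k
  | none => lc P π 0 ((p : K[X]).coeff 1)
  | some h => (psi P hK hπ p).coeff (h : ℕ)

theorem Lam_zero (hπ : P.1 π = exp (-1 : ℤ)) (T : Finset ℕ) : Lam hK P hπ T 0 = 0 := by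
  funext i
  cases i with
  | none =>
    show lc P π 0 ((0 : K[X]).coeff 1) = 0
    rw [Polynomial.coeff_zero, lc_zero]
  | some h =>
    show (psi P hK hπ 0).coeff (h : ℕ) = 0
    rw [map_zero, Polynomial.coeff_zero]

theorem Lam_add (hπ : P.1 π = exp (-1 : ℤ)) (hg : 1 ≤ genus k K) (T : Finset ℕ) (p q : SR P) :
    Lam hK P hπ T (p + q) = Lam hK P hπ T p + Lam hK P hπ T q := by
  funext i
  cases i with
  | none =>
    show lc P π 0 (((p : K[X]) + (q : K[X])).coeff 1) =
      lc P π 0 ((p : K[X]).coeff 1) + lc P π 0 ((q : K[X]).coeff 1)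
    rw [Polynomial.coeff_add]
    exact lc_add hK hπ (coeff_one_mem_L_zero hK P hg p) (coeff_one_mem_L_zero hK P hg q)
  | some h =>
    show (psi P hK hπ (p + q)).coeff (h : ℕ) =
      (psi P hK hπ p).coeff (h : ℕ) + (psi P hK hπ q).coeff (h : ℕ)
    rw [map_add, Polynomial.coeff_add]

theorem Lam_mul (hπ : P.1 π = exp (-1 : ℤ)) (hg : 1 ≤ genus k K) (T : Finset ℕ)
    (hT : ∀ h ∈ T, h ∈ W4c6gradedringsgw.minGens (W4c6gradedringsgw.poleOrders P))
    (r x : SR P) (hx : x ∈ Irr P) :
    Lam hK P hπ T (r * x) = lc P π 0 ((r : K[X]).coeff 0) • Lam hK P hπ T x := by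
  have hx0 : (x : K[X]).coeff 0 = 0 := (mem_Irr P x).1 hx
  funext i
  cases i with
  | none =>
    show lc P π 0 (((r : K[X]) * (x : K[X])).coeff 1) =
      lc P π 0 ((r : K[X]).coeff 0) * lc P π 0 ((x : K[X]).coeff 1)
    rw [Polynomial.mul_coeff_one, hx0, mul_zero, add_zero]
    have h0 : (r : K[X]).coeff 0 ∈ L (Finsupp.single P ((0 : ℕ) : ℤ) : Divisor k K) :=
      coeff_mem P r 0
    exact lc_mul hK hπ h0 (coeff_one_mem_L_zero hK P hg x)
  | some h =>
    show (psi P hK hπ (r * x)).coeff (h : ℕ) =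
      lc P π 0 ((r : K[X]).coeff 0) * (psi P hK hπ x).coeff (h : ℕ)
    rw [map_mul, Polynomial.coeff_mul]
    have hmin := hT h.1 h.2
    rw [Finset.sum_eq_single (0, (h : ℕ))]
    · rw [coeff_psi]
    · intro y hy hne
      have hy' := Finset.HasAntidiagonal.mem_antidiagonal.1 hy
      rw [coeff_psi, coeff_psi]
      by_contra hcon
      have h1 : lc P π y.1 ((r : K[X]).coeff y.1) ≠ 0 := left_ne_zero_of_mul hcon
      have h2 : lc P π y.2 ((x : K[X]).coeff y.2) ≠ 0 := right_ne_zero_of_mul hcon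
      have hy1 : y.1 ≠ 0 := by
        intro h0
        apply hne
        apply Prod.ext
        · exact h0
        · show y.2 = (h : ℕ)
          omega
      have hy2 : y.2 ≠ 0 := by
        intro h0
        rw [h0, hx0, lc_zero] at h2
        exact h2 rfl
      exact hmin.2.2 y.1 (mem_of_lc_ne_zero hK hπ (coeff_mem P r y.1) h1) y.2
        (mem_of_lc_ne_zero hK hπ (coeff_mem P x y.2) h2) hy1 hy2 hy'
    · intro hnot
      exfalso
      apply hnot
      rw [Finset.HasAntidiagonal.mem_antidiagonal]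
      exact zero_add _

theorem Lam_X (hπ : P.1 π = exp (-1 : ℤ)) (hg : 1 ≤ genus k K) (T : Finset ℕ)
    (hT : ∀ h ∈ T, h ∈ W4c6gradedringsgw.minGens (W4c6gradedringsgw.poleOrders P)) :
    Lam hK P hπ T (monoD P 1 1) = Pi.single none 1 := by
  funext i
  cases i with
  | none =>
    show lc P π 0 (((monoD P 1 1 : SR P) : K[X]).coeff 1) = _
    rw [monoD_val P (one_mem_L_one P), Polynomial.coeff_monomial, if_pos rfl, Pi.single_eq_same]
    have := lc_const (P := P) (π := π) (1 : k)
    rwa [map_one] at this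
  | some h =>
    show (psi P hK hπ (monoD P 1 1)).coeff (h : ℕ) = _
    rw [coeff_psi, monoD_val P (one_mem_L_one P), Polynomial.coeff_monomial]
    have h1 : (1 : ℕ) ≠ (h : ℕ) := by
      intro e
      have := (hT h.1 h.2).1
      rw [← e] at this
      exact one_notMem_poleOrders hK hg this
    rw [if_neg h1, lc_zero, Pi.single_eq_of_ne (Option.some_ne_none h)]

theorem Lam_F (hπ : P.1 π = exp (-1 : ℤ)) (hg : 1 ≤ genus k K) (T : Finset ℕ)
    (hT : ∀ h ∈ T, h ∈ W4c6gradedringsgw.minGens (W4c6gradedringsgw.poleOrders P)) (h₀ : T) :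
    Lam hK P hπ T (monoD P h₀ (fsel P π h₀)) = Pi.single (some h₀) 1 := by
  have hm := hT h₀.1 h₀.2
  obtain ⟨hsel, hsel1⟩ := fsel_spec hK P hπ hm.1
  funext i
  cases i with
  | none =>
    show lc P π 0 (((monoD P h₀ (fsel P π h₀) : SR P) : K[X]).coeff 1) = _
    rw [monoD_val P hsel, Polynomial.coeff_monomial]
    have h1 : (h₀ : ℕ) ≠ 1 := by
      intro e
      have := hm.1
      rw [e] at this
      exact one_notMem_poleOrders hK hg this
    rw [if_neg h1, lc_zero, Pi.single_eq_of_ne (Option.some_ne_none h₀).symm]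
  | some h =>
    show (psi P hK hπ (monoD P h₀ (fsel P π h₀))).coeff (h : ℕ) = _
    rw [coeff_psi, monoD_val P hsel, Polynomial.coeff_monomial]
    by_cases e : h = h₀
    · subst e
      rw [if_pos rfl, hsel1, Pi.single_eq_same]
    · have e' : (h₀ : ℕ) ≠ (h : ℕ) := fun e2 => e (Subtype.ext e2.symm)
      rw [if_neg e', lc_zero, Pi.single_eq_of_ne]
      intro e3
      exact e (Option.some.inj e3)

include hK in
theorem card_le_of_span (hπ : P.1 π = exp (-1 : ℤ)) (hg : 1 ≤ genus k K) (T : Finset ℕ)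
    (hT : ∀ h ∈ T, h ∈ W4c6gradedringsgw.minGens (W4c6gradedringsgw.poleOrders P))
    (s : Finset (SR P)) (hs : Ideal.span (s : Set (SR P)) = Irr P) : T.card + 1 ≤ s.card := by
  classical
  obtain ⟨W, hW⟩ : ∃ W : Submodule k (Option T → k),
      W = Submodule.span k ((s.image (Lam hK P hπ T) : Finset (Option T → k)) :
        Set (Option T → k)) := ⟨_, rfl⟩
  have key : ∀ p, p ∈ Submodule.span (SR P) (s : Set (SR P)) → Lam hK P hπ T p ∈ W := by
    intro p hp
    refine Submodule.span_induction (p := fun x _ => Lam hK P hπ T x ∈ W) ?_ ?_ ?_ ?_ hp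
    · intro x hx
      rw [hW]
      refine Submodule.subset_span ?_
      rw [Finset.coe_image]
      exact ⟨x, hx, rfl⟩
    · rw [Lam_zero]
      exact Submodule.zero_mem _
    · intro x y _ _ ihx ihy
      rw [Lam_add hK P hπ hg]
      exact Submodule.add_mem _ ihx ihy
    · intro a x hx ih
      have hxI : x ∈ Irr P := by
        rw [← hs]
        exact hx
      rw [smul_eq_mul, Lam_mul hK P hπ hg T hT a x hxI]
      exact Submodule.smul_mem _ _ ih
  have key' : ∀ p ∈ Irr P, Lam hK P hπ T p ∈ W := by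
    intro p hp
    rw [← hs] at hp
    exact key p hp
  have hXI : monoD P 1 1 ∈ Irr P := gens_subset_Irr hK P hπ (Set.mem_insert _ _)
  have hFI : ∀ h₀ : T, monoD P h₀ (fsel P π h₀) ∈ Irr P := fun h₀ =>
    gens_subset_Irr hK P hπ (Set.mem_insert_of_mem _ ⟨h₀.1, hT h₀.1 h₀.2, rfl⟩)
  have htop : W = ⊤ := by
    rw [eq_top_iff, ← (Pi.basisFun k (Option T)).span_eq, Submodule.span_le]
    rintro _ ⟨i, rfl⟩
    rw [Pi.basisFun_apply, SetLike.mem_coe]
    cases i with
    | none =>
      rw [← Lam_X hK P hπ hg T hT]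
      exact key' _ hXI
    | some h₀ =>
      rw [← Lam_F hK P hπ hg T hT h₀]
      exact key' _ (hFI h₀)
  have h1 : Module.finrank k W ≤ (s.image (Lam hK P hπ T)).card := by
    rw [hW]
    exact finrank_span_finset_le_card _
  have h2 : Module.finrank k W = T.card + 1 := by
    rw [htop, finrank_top, Module.finrank_fintype_fun_eq_card, Fintype.card_option,
      Fintype.card_coe]
  have h3 := Finset.card_image_le (s := s) (f := Lam hK P hπ T)
  omega

include hK in
theorem spanFinrank_Irr (hg : 1 ≤ genus k K) :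
    (Irr P).spanFinrank =
      (W4c6gradedringsgw.minGens (W4c6gradedringsgw.poleOrders P)).ncard + 1 := by
  obtain ⟨π, -, hπ⟩ := pl_exists_val_eq_exp P (-1)
  have hfin := minGens_finite hK P hg
  have hspan := Irr_eq_span hK P hπ
  have hGfin : (gens P π).Finite := gens_finite P hfin
  apply le_antisymm
  · rw [hspan]
    exact (Submodule.spanFinrank_span_le_ncard_of_finite hGfin).trans (ncard_gens_le P hfin)
  · have hFG : (Irr P).FG := by
      rw [hspan]
      exact ⟨hGfin.toFinset, by rw [Set.Finite.coe_toFinset]⟩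
    obtain ⟨s, hs1, hs2⟩ := Submodule.FG.exists_span_finset_card_eq_spanFinrank hFG
    have := card_le_of_span hK P hπ hg hfin.toFinset (fun h hh => (Set.Finite.mem_toFinset hfin).1 hh)
      s hs2
    rw [← Set.ncard_eq_toFinset_card _ hfin] at this
    omega

end Lower

end Groth.Agent.H77.Sect
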