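import Mathlib

/-!
# Semi-invariants, multiplicatively independent weights and invariant fractions

Abstract form of: on a factorial domain `B` with only scalar units, acted on by a family of
automorphisms `T φ`, there is a semi-invariant `h` such that every invariant fraction is a ratio
of invariants of `B[1/h]`.  The key point is that we only need a *maximal multiplicatively
independent* family of weights of semi-invariants (finite since bounded by the transcendence
degree), not finite generation of the character group.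
-/

set_option autoImplicit false
universe u v
open scoped BigOperators

namespace Groth.Agent.H77.SemiInvRank

section
variable {k : Type u} [Field k] {B : Type u} [CommRing B] [Algebra k B] [IsDomain B]
  {Φ : Type v} (T : Φ → B →ₐ[k] B)

/-- nonzero simultaneous eigenvectors -/
def IsSemi (f : B) : Prop := f ≠ 0 ∧ ∀ φ, ∃ c : k, T φ f = c • f

open Classical in
/-- the eigenvalue function (junk value `0` if not an eigenvector) -/
noncomputable def wt (f : B) (φ : Φ) : k :=
  if h : ∃ c : k, T φ f = c • f then h.choose else 0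

variable {T}

theorem wt_spec {f : B} (hf : IsSemi T f) (φ : Φ) : T φ f = wt T f φ • f := by
  unfold wt
  rw [dif_pos (hf.2 φ)]
  exact (hf.2 φ).choose_spec

theorem wt_unique {f : B} (hf : f ≠ 0) {φ : Φ} {c : k} (h : T φ f = c • f) : wt T f φ = c := by
  have h1 : T φ f = wt T f φ • f := by
    unfold wt
    rw [dif_pos ⟨c, h⟩]
    exact Exists.choose_spec (⟨c, h⟩ : ∃ c : k, T φ f = c • f)
  rw [h] at h1
  exact (smul_left_injective k hf h1).symm

theorem isSemi_one : IsSemi T (1 : B) :=
  ⟨one_ne_zero, fun φ => ⟨1, by rw [map_one, one_smul]⟩⟩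

theorem wt_one (φ : Φ) : wt T (1 : B) φ = 1 :=
  wt_unique one_ne_zero (by rw [map_one, one_smul])

theorem isSemi_mul {f g : B} (hf : IsSemi T f) (hg : IsSemi T g) : IsSemi T (f * g) :=
  ⟨mul_ne_zero hf.1 hg.1, fun φ => ⟨wt T f φ * wt T g φ, by
    rw [map_mul, wt_spec hf, wt_spec hg, smul_mul_smul_comm]⟩⟩

theorem wt_mul {f g : B} (hf : IsSemi T f) (hg : IsSemi T g) (φ : Φ) :
    wt T (f * g) φ = wt T f φ * wt T g φ :=
  wt_unique (mul_ne_zero hf.1 hg.1) (by rw [map_mul, wt_spec hf, wt_spec hg, smul_mul_smul_comm])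

theorem isSemi_pow {f : B} (hf : IsSemi T f) (n : ℕ) :
    IsSemi T (f ^ n) ∧ ∀ φ, wt T (f ^ n) φ = wt T f φ ^ n := by
  induction n with
  | zero =>
    refine ⟨by rw [pow_zero]; exact isSemi_one, fun φ => ?_⟩
    rw [pow_zero, pow_zero, wt_one]
  | succ n ih =>
    refine ⟨by rw [pow_succ]; exact isSemi_mul ih.1 hf, fun φ => ?_⟩
    rw [pow_succ, wt_mul ih.1 hf, ih.2, pow_succ]

theorem isSemi_prod_finset {ι : Type*} (s : Finset ι) {h : ι → B} (hh : ∀ i, IsSemi T (h i))
    (α : ι → ℕ) :
    IsSemi T (∏ i ∈ s, h i ^ α i) ∧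
      ∀ φ, wt T (∏ i ∈ s, h i ^ α i) φ = ∏ i ∈ s, wt T (h i) φ ^ α i := by
  classical
  induction s using Finset.induction_on with
  | empty =>
    refine ⟨by rw [Finset.prod_empty]; exact isSemi_one, fun φ => ?_⟩
    rw [Finset.prod_empty, Finset.prod_empty, wt_one]
  | insert j s hj ih =>
    have hj' := isSemi_pow (hh j) (α j)
    refine ⟨by rw [Finset.prod_insert hj]; exact isSemi_mul hj'.1 ih.1, fun φ => ?_⟩
    rw [Finset.prod_insert hj, Finset.prod_insert hj, wt_mul hj'.1 ih.1, hj'.2, ih.2]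

theorem isSemi_prod {r : ℕ} {h : Fin r → B} (hh : ∀ i, IsSemi T (h i)) (α : Fin r → ℕ) :
    IsSemi T (∏ i, h i ^ α i) ∧
      ∀ φ, wt T (∏ i, h i ^ α i) φ = ∏ i, wt T (h i) φ ^ α i :=
  isSemi_prod_finset Finset.univ hh α

theorem wt_ne_zero (hinv : ∀ φ, ∃ ψ, ∀ b, T ψ (T φ b) = b) {f : B} (hf : IsSemi T f) (φ : Φ) :
    wt T f φ ≠ 0 := by
  intro h0
  obtain ⟨ψ, hψ⟩ := hinv φ
  apply hf.1
  have h1 := wt_spec hf φ
  rw [h0, zero_smul] at h1
  rw [← hψ f, h1, map_zero]

theorem linearIndependent_of_wt_ne {ι : Type*} (v : ι → B) (hv : ∀ i, IsSemi T (v i))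
    (hne : ∀ i j, i ≠ j → ∃ φ, wt T (v i) φ ≠ wt T (v j) φ) : LinearIndependent k v := by
  classical
  rw [linearIndependent_iff']
  intro s
  induction s using Finset.induction_on with
  | empty =>
    intro g _ i hi
    simp at hi
  | insert j s hj ih =>
    intro g hg i hi
    have key : ∀ i ∈ s, g i = 0 := by
      intro i his
      have hij : i ≠ j := fun h => hj (h ▸ his)
      obtain ⟨φ, hφ⟩ := hne i j hij
      have h1 : ∑ i ∈ s, (g i * (wt T (v i) φ - wt T (v j) φ)) • v i = 0 := by
        have h2 := congrArg (T φ) hg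
        rw [map_zero, map_sum] at h2
        have h3 : ∀ i ∈ insert j s, T φ (g i • v i) = (g i * wt T (v i) φ) • v i := by
          intro i _
          rw [map_smul, wt_spec (hv i), smul_smul]
        rw [Finset.sum_congr rfl h3] at h2
        have h4 : ∑ i ∈ insert j s, (g i * (wt T (v i) φ - wt T (v j) φ)) • v i = 0 := by
          have h5 : ∀ i, (g i * (wt T (v i) φ - wt T (v j) φ)) • v i =
              (g i * wt T (v i) φ) • v i - wt T (v j) φ • (g i • v i) := by
            intro i
            rw [mul_sub, sub_smul, smul_smul, mul_comm (wt T (v j) φ)]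
          simp only [h5, Finset.sum_sub_distrib, ← Finset.smul_sum, h2, hg, smul_zero, sub_zero]
        rw [Finset.sum_insert hj, sub_self, mul_zero, zero_smul, zero_add] at h4
        exact h4
      have h5 := ih _ h1 i his
      rcases mul_eq_zero.mp h5 with h | h
      · exact h
      · exact absurd (sub_eq_zero.mp h) hφ
    rw [Finset.sum_insert hj, Finset.sum_eq_zero (fun i hi => by rw [key i hi, zero_smul]),
      add_zero] at hg
    rcases Finset.mem_insert.mp hi with hij | hi
    · rw [hij]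
      exact (smul_eq_zero.mp hg).resolve_right (hv j).1
    · exact key i hi

/-- multiplicative independence of the weights of a finite family -/
def MultIndep {r : ℕ} (h : Fin r → B) : Prop :=
  ∀ α β : Fin r → ℕ,
    (∀ φ, ∏ i, wt T (h i) φ ^ α i = ∏ i, wt T (h i) φ ^ β i) → α = β

theorem algebraicIndependent_of_multIndep {r : ℕ} {h : Fin r → B} (hh : ∀ i, IsSemi T (h i))
    (hm : MultIndep (T := T) h) : AlgebraicIndependent k h := by
  classical
  rw [algebraicIndependent_iff_injective_aeval, injective_iff_map_eq_zero]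
  intro p hp
  have hli : LinearIndependent k (fun d : Fin r →₀ ℕ => ∏ i, h i ^ d i) := by
    refine linearIndependent_of_wt_ne (T := T) (fun d : Fin r →₀ ℕ => ∏ i, h i ^ d i)
      (fun d => (isSemi_prod hh d).1) ?_
    intro d e hde
    by_contra hcon
    push Not at hcon
    apply hde
    apply DFunLike.coe_injective
    apply hm
    intro φ
    rw [← (isSemi_prod hh d).2, ← (isSemi_prod hh e).2]
    exact hcon φ
  rw [MvPolynomial.aeval_def, MvPolynomial.eval₂_eq'] at hp
  simp only [← Algebra.smul_def] at hp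
  have h0 := (linearIndependent_iff'.mp hli) p.support (fun d => p.coeff d) hp
  ext d
  by_cases hd : d ∈ p.support
  · rw [h0 d hd, MvPolynomial.coeff_zero]
  · rw [MvPolynomial.notMem_support_iff.mp hd, MvPolynomial.coeff_zero]

end

section Main

variable {k : Type u} [Field k] {B : Type u} [CommRing B] [Algebra k B] [IsDomain B]
  [UniqueFactorizationMonoid B] {Φ : Type v}

theorem main (T : Φ → B →ₐ[k] B)
    (hunits : ∀ u : Bˣ, ∃ c : k, algebraMap k B c = u)
    (inv : Φ → Φ) (h1 : ∀ φ b, T (inv φ) (T φ b) = b) (h2 : ∀ φ b, T φ (T (inv φ) b) = b)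
    (hbound : ∃ N : ℕ, ∀ (r : ℕ) (f : Fin r → B), AlgebraicIndependent k f → r ≤ N) :
    ∃ h : B, h ≠ 0 ∧ (∀ φ, ∃ (N : ℕ) (u : B), T φ h * u = h ^ N) ∧
      ∀ a b : B, b ≠ 0 → (∀ φ, T φ a * b = a * T φ b) →
        ∃ (c d : B) (r t : ℕ), d ≠ 0 ∧
          (∀ φ, T φ c * h ^ r = c * (T φ h) ^ r) ∧
          (∀ φ, T φ d * h ^ t = d * (T φ h) ^ t) ∧
          a * d * h ^ r = b * c * h ^ t := by
  classical
  have hinv : ∀ φ, ∃ ψ, ∀ b, T ψ (T φ b) = b := fun φ => ⟨inv φ, h1 φ⟩
  have hinj : ∀ φ, Function.Injective (T φ) := fun φ x y hxy => by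
    rw [← h1 φ x, hxy, h1]
  obtain ⟨N, hN⟩ := hbound
  let P : ℕ → Prop := fun r => ∃ h : Fin r → B, (∀ i, IsSemi T (h i)) ∧ MultIndep (T := T) h
  have hP0 : P 0 := ⟨fun i => i.elim0, fun i => i.elim0, fun α β _ => Subsingleton.elim _ _⟩
  have hPle : ∀ r, P r → r ≤ N := fun r ⟨h, hh, hm⟩ =>
    hN r h (algebraicIndependent_of_multIndep hh hm)
  obtain ⟨r, hPr, hPr1⟩ : ∃ r, P r ∧ ¬ P (r + 1) := by
    refine ⟨Nat.findGreatest P N, Nat.findGreatest_spec (Nat.zero_le N) hP0, fun h => ?_⟩
    exact Nat.findGreatest_is_greatest (Nat.lt_succ_self _) (hPle _ h) h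
  obtain ⟨h, hh, hm⟩ := hPr
  -- key relation for any semi-invariant
  have key : ∀ f, IsSemi T f → ∃ (n : ℕ) (α β : Fin r → ℕ), 0 < n ∧
      ∀ φ, wt T f φ ^ n * ∏ i, wt T (h i) φ ^ α i = ∏ i, wt T (h i) φ ^ β i := by
    intro f hf
    have hsemi : ∀ i, IsSemi T ((Fin.cons f h : Fin (r + 1) → B) i) := by
      intro i
      refine Fin.cases ?_ (fun j => ?_) i
      · rw [Fin.cons_zero]; exact hf
      · rw [Fin.cons_succ]; exact hh j
    have hnot : ¬ MultIndep (T := T) (Fin.cons f h : Fin (r + 1) → B) :=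
      fun hmi => hPr1 ⟨Fin.cons f h, hsemi, hmi⟩
    unfold MultIndep at hnot
    push Not at hnot
    obtain ⟨α, β, heq, hne⟩ := hnot
    simp only [Fin.prod_univ_succ, Fin.cons_zero, Fin.cons_succ] at heq
    have h0 : α 0 ≠ β 0 := by
      intro h0
      apply hne
      have hab : (fun i => α (Fin.succ i)) = fun i => β (Fin.succ i) := by
        apply hm
        intro φ
        have h3 := heq φ
        rw [h0] at h3
        exact mul_left_cancel₀ (pow_ne_zero _ (wt_ne_zero hinv hf φ)) h3
      funext i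
      exact Fin.cases h0 (fun j => congrFun hab j) i
    rcases lt_or_gt_of_ne h0 with hlt | hgt
    · refine ⟨β 0 - α 0, fun i => β i.succ, fun i => α i.succ, Nat.sub_pos_of_lt hlt,
        fun φ => ?_⟩
      have h3 := heq φ
      have hb : β 0 = α 0 + (β 0 - α 0) := by omega
      rw [hb, pow_add, mul_assoc] at h3
      exact (mul_left_cancel₀ (pow_ne_zero _ (wt_ne_zero hinv hf φ)) h3).symm
    · refine ⟨α 0 - β 0, fun i => α i.succ, fun i => β i.succ, Nat.sub_pos_of_lt hgt,
        fun φ => ?_⟩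
      have h3 := heq φ
      have hb : α 0 = β 0 + (α 0 - β 0) := by omega
      rw [hb, pow_add, mul_assoc] at h3
      exact mul_left_cancel₀ (pow_ne_zero _ (wt_ne_zero hinv hf φ)) h3
  -- the product
  have hprod := isSemi_prod hh (fun _ => 1)
  simp only [pow_one] at hprod
  set h₀ : B := ∏ i, h i with hh₀
  obtain ⟨hsemi₀, hwt₀⟩ := hprod
  refine ⟨h₀, hsemi₀.1, fun φ => ?_, ?_⟩
  · refine ⟨1, algebraMap k B (wt T h₀ φ)⁻¹, ?_⟩
    rw [wt_spec hsemi₀ φ, pow_one, Algebra.smul_def, mul_assoc, mul_comm h₀, ← mul_assoc,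
      ← map_mul, mul_inv_cancel₀ (wt_ne_zero hinv hsemi₀ φ), map_one, one_mul]
  · intro a b hb hab
    by_cases ha : a = 0
    · refine ⟨0, 1, 0, 0, one_ne_zero, fun φ => ?_, fun φ => ?_, ?_⟩
      · rw [map_zero, zero_mul, zero_mul]
      · rw [map_one, pow_zero, pow_zero]
      · rw [ha]; ring
    obtain ⟨a', b', g, hrel, hga, hgb⟩ := UniqueFactorizationMonoid.exists_reduced_factors a ha b
    have hg : g ≠ 0 := by
      rintro rfl
      exact ha (by rw [← hga, zero_mul])
    have ha' : a' ≠ 0 := by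
      rintro rfl
      exact ha (by rw [← hga, mul_zero])
    have hb' : b' ≠ 0 := by
      rintro rfl
      exact hb (by rw [← hgb, mul_zero])
    have hstar : ∀ φ, T φ a' * b' = a' * T φ b' := by
      intro φ
      have h3 := hab φ
      rw [← hga, ← hgb, map_mul, map_mul] at h3
      have hTg : T φ g ≠ 0 := fun h0 => hg (hinj φ (by rw [h0, map_zero]))
      apply mul_left_cancel₀ (mul_ne_zero hg hTg)
      linear_combination h3
    -- a' and b' are semi-invariant
    have hsemi_of_dvd : ∀ x : B, x ≠ 0 → (∀ φ, x ∣ T φ x) → IsSemi T x := by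
      intro x hx hdvd
      refine ⟨hx, fun φ => ?_⟩
      obtain ⟨u, hu⟩ := hdvd φ
      obtain ⟨u', hu'⟩ := hdvd (inv φ)
      have h3 : x * 1 = x * (u' * T (inv φ) u) := by
        have h4 := h1 φ x
        rw [hu, map_mul, hu'] at h4
        rw [mul_one, ← mul_assoc]
        exact h4.symm
      have h5 : u' * T (inv φ) u = 1 := (mul_left_cancel₀ hx h3).symm
      have h6 : IsUnit (T (inv φ) u) := IsUnit.of_mul_eq_one_right _ h5
      have h7 : IsUnit u := by
        have := h6.map (T φ)
        rwa [h2] at this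
      obtain ⟨c, hc⟩ := hunits h7.unit
      refine ⟨c, ?_⟩
      rw [hu, Algebra.smul_def, hc, IsUnit.unit_spec, mul_comm]
    have hsa : IsSemi T a' := by
      apply hsemi_of_dvd a' ha'
      intro φ
      apply hrel.dvd_of_dvd_mul_right
      rw [hstar φ]
      exact dvd_mul_right _ _
    have hsb : IsSemi T b' := by
      apply hsemi_of_dvd b' hb'
      intro φ
      apply hrel.symm.dvd_of_dvd_mul_left
      rw [← hstar φ]
      exact dvd_mul_left _ _
    have hwab : ∀ φ, wt T a' φ = wt T b' φ := by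
      intro φ
      have h3 := hstar φ
      rw [wt_spec hsa, wt_spec hsb, smul_mul_assoc, mul_smul_comm] at h3
      exact smul_left_injective k (mul_ne_zero ha' hb') h3
    obtain ⟨n, α, β, hn, hrelw⟩ := key b' hsb
    set M : ℕ := ∑ i, β i with hM
    have hβM : ∀ i, β i ≤ M := fun i =>
      Finset.single_le_sum (f := β) (fun _ _ => Nat.zero_le _) (Finset.mem_univ i)
    have hm1 := isSemi_pow hsb (n - 1)
    have hm2 := isSemi_prod hh α
    have hm3 := isSemi_prod hh (fun i => M - β i)
    set m : B := b' ^ (n - 1) * (∏ i, h i ^ α i) * (∏ i, h i ^ (M - β i)) with hm_def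
    have hsm : IsSemi T m := isSemi_mul (isSemi_mul hm1.1 hm2.1) hm3.1
    have hwm : ∀ φ, wt T b' φ * wt T m φ = wt T h₀ φ ^ M := by
      intro φ
      rw [hm_def, wt_mul (isSemi_mul hm1.1 hm2.1) hm3.1, wt_mul hm1.1 hm2.1, hm1.2, hm2.2, hm3.2,
        hwt₀, ← Finset.prod_pow]
      have h3 : wt T b' φ * (wt T b' φ ^ (n - 1) * (∏ i, wt T (h i) φ ^ α i) *
          (∏ i, wt T (h i) φ ^ (M - β i))) =
          (wt T b' φ ^ n * (∏ i, wt T (h i) φ ^ α i)) * (∏ i, wt T (h i) φ ^ (M - β i)) := by
        have hn' : n = (n - 1) + 1 := by omega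
        conv_rhs => rw [hn', pow_succ]
        ring
      rw [h3, hrelw φ, ← Finset.prod_mul_distrib]
      apply Finset.prod_congr rfl
      intro i _
      rw [← pow_add, Nat.add_sub_cancel' (hβM i)]
    have hinvariant : ∀ x : B, IsSemi T x → (∀ φ, wt T x φ = wt T b' φ) →
        ∀ φ, T φ (x * m) * h₀ ^ M = (x * m) * (T φ h₀) ^ M := by
      intro x hx hwx φ
      have hxm := isSemi_mul hx hsm
      rw [wt_spec hxm φ, wt_mul hx hsm, hwx φ, hwm φ, wt_spec hsemi₀ φ, smul_pow,
        smul_mul_assoc, mul_smul_comm]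
    refine ⟨a' * m, b' * m, M, M, mul_ne_zero hb' hsm.1, hinvariant a' hsa hwab,
      hinvariant b' hsb (fun _ => rfl), ?_⟩
    rw [← hga, ← hgb]
    ring

end Main

end Groth.Agent.H77.SemiInvRank
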