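-- helper77: sheaves of groups are separated (no universe assumptions)
import Mathlib.CategoryTheory.Sites.Sheaf
import Mathlib.Algebra.Category.Grp.Basic
import Mathlib.GroupTheory.FreeGroup.Basic

set_option autoImplicit false
universe w v u

namespace Groth.Agent.H77

open CategoryTheory Opposite

variable {C : Type u} [Category.{v} C] {J : GrothendieckTopology C}

/-- Two sections of a sheaf of groups which agree on a covering sieve are equal. -/
theorem grpSheaf_ext (G : Sheaf J GrpCat.{w}) {X : C} (S : Sieve X) (hS : S ∈ J X)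
    (x y : G.obj.obj (op X))
    (h : ∀ (Y : C) (f : Y ⟶ X), S f → G.obj.map f.op x = G.obj.map f.op y) : x = y := by
  let ex : GrpCat.of (FreeGroup PUnit.{w + 1}) ⟶ G.obj.obj (op X) :=
    GrpCat.ofHom (FreeGroup.lift (fun _ => x))
  let ey : GrpCat.of (FreeGroup PUnit.{w + 1}) ⟶ G.obj.obj (op X) :=
    GrpCat.ofHom (FreeGroup.lift (fun _ => y))
  have hxy : ex = ey := by
    refine Presheaf.IsSheaf.hom_ext G.property ⟨S, hS⟩ ex ey ?_
    rintro ⟨Y, f, hf⟩
    apply GrpCat.hom_ext
    apply FreeGroup.ext_hom
    intro a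
    simp only [ex, ey, GrpCat.hom_comp, MonoidHom.comp_apply, GrpCat.hom_ofHom,
      FreeGroup.lift_apply_of]
    exact h Y f hf
  have := congrArg (fun e => e.hom (FreeGroup.of PUnit.unit)) hxy
  simpa [ex, ey] using this

end Groth.Agent.H77
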