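-- helper77: skew-hermitian matrices: reduction to 2x2 blocks (extends H77/Herm)
import Groth.Agent.H77.Herm

set_option autoImplicit false
universe u v w

namespace Groth.Agent.H77.Herm

open RInv Matrix

section Skew
variable {A : Type v} [CommRing A] (lam : A ≃+* A) {ι : Type w} [Fintype ι] [DecidableEq ι]

/-- blocks `p a < k` are split off -/
def I2 (p : ι → ℕ) (k : ℕ) (G : Matrix ι ι A) : Prop :=
  ∀ a b, (p a < k ∨ p b < k) → p a ≠ p b → G a b = 0

theorem i2_congU {p : ι → ℕ} {k : ℕ} {G : Matrix ι ι A} (hI : I2 p k G) {r : ι}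
    (hr : k ≤ p r) {c : ι → A} (hc : ∀ s, p s < k → c s = 0) :
    I2 p k (ct lam (U r c) * G * U r c) := by
  intro a b h hne
  rw [congU]
  rcases h with ha | hb
  · have har : p a ≠ p r := by omega
    rw [hI a b (Or.inl ha) hne, hI a r (Or.inl ha) har, hc a ha, map_zero]; ring
  · have hrb : p r ≠ p b := by omega
    rw [hI a b (Or.inr hb) hne, hc b hb, hI r b (Or.inr hb) hrb]; ring

theorem skew_diag_mem (hid : ∀ a : A, lam a - a ∈ Ring.jacobson A) (h2 : IsUnit (2 : A))
    {G : Matrix ι ι A} (hG : IsHerm lam (-1) G) (i : ι) : G i i ∈ Ring.jacobson A := by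
  have h := hG.apply lam i i
  have h1 := hid (G i i)
  obtain ⟨t, ht⟩ := h2.exists_right_inv
  have h3 : lam (G i i) = - G i i := by linear_combination h
  have h4 : lam (G i i) - G i i = -(2 * G i i) := by rw [h3]; ring
  rw [h4] at h1
  have : G i i = -t * (-(2 * G i i)) := by linear_combination (-(G i i)) * ht
  rw [this]; exact Ideal.mul_mem_left _ _ h1

theorem makeUnit [IsLocalRing A] {p : ι → ℕ} {k : ℕ} {G : Matrix ι ι A}
    (hGu : IsUnit G) (hI : I2 p k G) (hdiag : ∀ i, ¬ IsUnit (G i i)) {e f : ι} (hef : e ≠ f)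
    (hpe : p e = k) (hpf : p f = k) :
    ∃ G', Cong lam G G' ∧ I2 p k G' ∧ IsUnit (G' e f) := by
  by_cases hu : IsUnit (G e f)
  · exact ⟨G, Cong.refl lam G, hI, hu⟩
  obtain ⟨Y, hY⟩ := row_sum hGu
  obtain ⟨j, -, hju⟩ := sum_unit_local (s := Finset.univ) (f := fun j => G e j * Y j e)
    (by rw [hY e]; exact isUnit_one)
  have hju' : IsUnit (G e j) := isUnit_of_mul_isUnit_left hju
  have hje : j ≠ e := by rintro rfl; exact hdiag j hju'
  have hjf : j ≠ f := by rintro rfl; exact hu hju'
  have hpj : k ≤ p j := by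
    by_contra hlt
    push Not at hlt
    have := hI e j (Or.inr hlt) (by omega)
    rw [this] at hju'; exact not_isUnit_zero hju'
  obtain ⟨c, hc⟩ : ∃ c : ι → A, ∀ b, c b = if b = f then 1 else 0 := ⟨_, fun _ => rfl⟩
  have hcj : c j = 0 := by rw [hc, if_neg hjf]
  have hcS : ∀ s, p s < k → c s = 0 := by
    intro s hs
    rw [hc, if_neg]
    rintro rfl; omega
  refine ⟨_, cong_U lam G j c hcj, i2_congU lam hI hpj hcS, ?_⟩
  rw [congU, hc f, if_pos rfl, hc e, if_neg hef, map_zero, zero_mul, add_zero, mul_one, add_comm]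
  exact isUnit_add_nonunit hju' hu

theorem elim2 (hlam : Function.Involutive lam) {ε : A} {p : ι → ℕ} {k : ℕ}
    {G : Matrix ι ι A} (hG : IsHerm lam ε G)
    (hI : I2 p k G) {e f : ι} (hpe : p e = k) (hpf : p f = k)
    (hpair : ∀ b, p b = k → b = e ∨ b = f) (Δi : A)
    (hΔ : (G e e * G f f - G e f * G f e) * Δi = 1) :
    ∃ G', Cong lam G G' ∧ I2 p (k + 1) G' := by
  obtain ⟨x, hx⟩ : ∃ x : ι → A, ∀ b, x b =
      if p b = k then 0 else -(Δi * (G f f * G e b - G e f * G f b)) := ⟨_, fun _ => rfl⟩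
  obtain ⟨y, hy⟩ : ∃ y : ι → A, ∀ b, y b =
      if p b = k then 0 else -(Δi * (G e e * G f b - G f e * G e b)) := ⟨_, fun _ => rfl⟩
  have hxe : x e = 0 := by rw [hx, if_pos hpe]
  have hxf : x f = 0 := by rw [hx, if_pos hpf]
  have hye : y e = 0 := by rw [hy, if_pos hpe]
  have hyf : y f = 0 := by rw [hy, if_pos hpf]
  have hxS : ∀ s, p s < k → x s = 0 := by
    intro s hs
    rw [hx, if_neg (by omega), hI e s (Or.inr hs) (by omega), hI f s (Or.inr hs) (by omega)]
    ring
  have hyS : ∀ s, p s < k → y s = 0 := by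
    intro s hs
    rw [hy, if_neg (by omega), hI e s (Or.inr hs) (by omega), hI f s (Or.inr hs) (by omega)]
    ring
  obtain ⟨G1, hG1def⟩ : ∃ G1, G1 = ct lam (U e x) * G * U e x := ⟨_, rfl⟩
  have hc1 : Cong lam G G1 := by rw [hG1def]; exact cong_U lam G e x hxe
  have hI1 : I2 p k G1 := by rw [hG1def]; exact i2_congU lam hI (le_of_eq hpe.symm) hxS
  obtain ⟨G2, hG2def⟩ : ∃ G2, G2 = ct lam (U f y) * G1 * U f y := ⟨_, rfl⟩
  have hc2 : Cong lam G1 G2 := by rw [hG2def]; exact cong_U lam G1 f y hyf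
  have hI2 : I2 p k G2 := by rw [hG2def]; exact i2_congU lam hI1 (le_of_eq hpf.symm) hyS
  have hG2 := (hc1.trans lam hc2).herm lam hlam hG
  have g1eb : ∀ b, G1 e b = G e b + G e e * x b := by
    intro b; rw [hG1def, congU, hxe, map_zero]; ring
  have g1fb : ∀ b, G1 f b = G f b + G f e * x b := by
    intro b; rw [hG1def, congU, hxf, map_zero]; ring
  have rowe : ∀ b, p b ≠ k → G2 e b = 0 := by
    intro b hb
    rw [hG2def, congU, hye, map_zero, g1eb b, g1eb f, hxf, hx b, if_neg hb, hy b, if_neg hb]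
    linear_combination (-(G e b)) * hΔ
  have rowf : ∀ b, p b ≠ k → G2 f b = 0 := by
    intro b hb
    rw [hG2def, congU, hyf, map_zero, g1fb b, g1fb f, hxf, hx b, if_neg hb, hy b, if_neg hb]
    linear_combination (-(G f b)) * hΔ
  refine ⟨G2, hc1.trans lam hc2, ?_⟩
  intro a b h hne
  by_cases hlt : p a < k ∨ p b < k
  · exact hI2 a b hlt hne
  · push Not at hlt
    obtain ⟨hka, hkb⟩ := hlt
    rcases h with ha | hb
    · have hpa : p a = k := by omega
      have hpb : p b ≠ k := by omega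
      rcases hpair a hpa with h | h
      · rw [h]; exact rowe b hpb
      · rw [h]; exact rowf b hpb
    · have hpb : p b = k := by omega
      have hpa : p a ≠ k := by omega
      rw [hG2.apply lam a b]
      rcases hpair b hpb with h | h
      · rw [h, rowe a hpa, map_zero, mul_zero]
      · rw [h, rowf a hpa, map_zero, mul_zero]

theorem isUnit_diagonal {t : ι → A} (ht : ∀ i, IsUnit (t i)) : IsUnit (Matrix.diagonal t) := by
  choose s hs using fun i => (ht i).exists_right_inv
  have : Matrix.diagonal t * Matrix.diagonal s = 1 := by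
    rw [Matrix.diagonal_mul_diagonal]
    have : (fun i => t i * s i) = fun _ => 1 := funext hs
    rw [this, Matrix.diagonal_one]
  exact (Matrix.isUnit_iff_isUnit_det _).2 (Matrix.isUnit_det_of_right_inverse this)

theorem cong_diagonal_apply (t : ι → A) (G : Matrix ι ι A) (a b : ι) :
    (ct lam (Matrix.diagonal t) * G * Matrix.diagonal t) a b = lam (t a) * G a b * t b := by
  have h1 : ct lam (Matrix.diagonal t) = Matrix.diagonal (fun i => lam (t i)) := by
    ext i j
    rw [ct_apply]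
    by_cases hij : i = j
    · rw [hij, Matrix.diagonal_apply_eq, Matrix.diagonal_apply_eq]
    · rw [Matrix.diagonal_apply_ne _ hij, Matrix.diagonal_apply_ne _ (Ne.symm hij), map_zero]
  rw [h1, Matrix.mul_diagonal, Matrix.diagonal_mul]

end Skew

section Phase1
variable {A : Type v} [CommRing A] (lam : A ≃+* A)

theorem phase1 [IsLocalRing A] (hlam : Function.Involutive lam)
    (hid : ∀ a : A, lam a - a ∈ Ring.jacobson A) (h2 : IsUnit (2 : A)) {n : ℕ}
    {h : Matrix (Fin n) (Fin n) A} (hH : IsHerm lam (-1) h) (hh : IsUnit h) :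
    ∀ k, 2 * k ≤ n → ∃ G', Cong lam h G' ∧ I2 (fun a : Fin n => a.val / 2) k G' := by
  intro k
  induction k with
  | zero =>
    intro _
    exact ⟨h, Cong.refl lam h, fun a b hab _ => by
      rcases hab with h | h <;> exact absurd h (Nat.not_lt_zero _)⟩
  | succ k ih =>
    intro hk
    obtain ⟨G, hc, hI⟩ := ih (by omega)
    have hG := hc.herm lam hlam hH
    have hGu := hc.isUnit lam hh
    have hdiag : ∀ i, ¬ IsUnit (G i i) := fun i =>
      not_isUnit_of_mem_jacobson _ (skew_diag_mem lam hid h2 hG i)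
    obtain ⟨e, he⟩ : ∃ e : Fin n, e.val = 2 * k := ⟨⟨2 * k, by omega⟩, rfl⟩
    obtain ⟨f, hf⟩ : ∃ f : Fin n, f.val = 2 * k + 1 := ⟨⟨2 * k + 1, by omega⟩, rfl⟩
    have hef : e ≠ f := by
      intro h; rw [h] at he; omega
    have hpe : (fun a : Fin n => a.val / 2) e = k := by
      show e.val / 2 = k; omega
    have hpf : (fun a : Fin n => a.val / 2) f = k := by
      show f.val / 2 = k; omega
    have hpair : ∀ b : Fin n, (fun a : Fin n => a.val / 2) b = k → b = e ∨ b = f := by
      intro b hb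
      have hb' : b.val / 2 = k := hb
      have : b.val = 2 * k ∨ b.val = 2 * k + 1 := by omega
      rcases this with h | h
      · left; exact Fin.ext (by rw [h, he])
      · right; exact Fin.ext (by rw [h, hf])
    obtain ⟨G1, hc1, hI1, hu1⟩ := makeUnit lam hGu hI hdiag hef hpe hpf
    have hG1 := hc1.herm lam hlam hG
    have hΔu : IsUnit (G1 e e * G1 f f - G1 e f * G1 f e) := by
      have hfe : G1 f e = -1 * lam (G1 e f) := hG1.apply lam f e
      have : G1 e e * G1 f f - G1 e f * G1 f e =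
          G1 e f * lam (G1 e f) + G1 e e * G1 f f := by rw [hfe]; ring
      rw [this]
      exact isUnit_add_jac (hu1.mul (hu1.map lam))
        (Ideal.mul_mem_right _ _ (skew_diag_mem lam hid h2 hG1 e))
    obtain ⟨Δi, hΔ⟩ := hΔu.exists_right_inv
    obtain ⟨G2, hc2, hI2⟩ := elim2 lam hlam hG1 hI1 hpe hpf hpair Δi hΔ
    exact ⟨G2, (hc.trans lam hc1).trans lam hc2, hI2⟩

end Phase1

end Groth.Agent.H77.Herm
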