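import Groth.Agent.H77.TreeSide

set_option autoImplicit false

/-! Bounds for a weight function on vertex subsets of a finite tree, from bounds on the sides. -/

namespace Groth.Agent.H77.TreeBound

open Finset LabGraph Groth.Agent.H77.MT Groth.Agent.H77.TreeSide

universe u
variable {V E : Type u} [Fintype V] [Fintype E] [DecidableEq V] [DecidableEq E]
variable (ends : E → V × V)

/-- the edge `e` crosses `S`. -/
def Cr (S : Finset V) (e : E) : Prop :=
  ((ends e).1 ∈ S ∧ (ends e).2 ∉ S) ∨ ((ends e).1 ∉ S ∧ (ends e).2 ∈ S)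

instance (S : Finset V) (e : E) : Decidable (Cr ends S e) := by
  unfold Cr; infer_instance

/-- number of inner edges, as a real. -/
def inn (S : Finset V) : ℝ := ∑ e, if (ends e).1 ∈ S ∧ (ends e).2 ∈ S then (1:ℝ) else 0

/-- number of crossing edges, as a real. -/
def crs (S : Finset V) : ℝ := ∑ e, if Cr ends S e then (1:ℝ) else 0

theorem cut_eq_crs (S : Finset V) : (LabGraph.cut ends S : ℝ) = crs ends S := by
  unfold LabGraph.cut crs
  rw [Finset.card_filter]
  push_cast
  rfl

theorem one_le_cut {S : Finset V} {e : E} (h : Cr ends S e) : 1 ≤ LabGraph.cut ends S := by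
  unfold LabGraph.cut
  exact Finset.card_pos.2 ⟨e, Finset.mem_filter.2 ⟨Finset.mem_univ _, h⟩⟩

theorem cr_compl {S : Finset V} {e : E} : Cr ends Sᶜ e ↔ Cr ends S e := by
  unfold Cr
  simp only [Finset.mem_compl, not_not]
  tauto

theorem crs_compl (S : Finset V) : crs ends Sᶜ = crs ends S := by
  unfold crs
  refine Finset.sum_congr rfl fun e _ => ?_
  rw [if_congr (cr_compl ends) rfl rfl]

theorem cut_compl (S : Finset V) : LabGraph.cut ends Sᶜ = LabGraph.cut ends S := by
  have h := crs_compl ends S
  rw [← cut_eq_crs, ← cut_eq_crs] at h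
  exact_mod_cast h

theorem exists_crossing (hc : LabGraph.Connected ends) (S : Finset V) (hne : S.Nonempty)
    (hp : S ≠ Finset.univ) : ∃ e, Cr ends S e := by
  obtain ⟨v, hv⟩ := hne
  obtain ⟨w, hw⟩ : ∃ w, w ∉ S := by
    by_contra hcon
    push Not at hcon
    exact hp (Finset.eq_univ_iff_forall.2 hcon)
  have hr := hc.2 v w
  induction hr with
  | refl => exact absurd hv hw
  | @tail b c _ hbc ih =>
    by_cases hb : b ∈ S
    · obtain ⟨e', hends⟩ := hbc
      refine ⟨e', ?_⟩
      unfold Cr
      rcases hends with h1 | h1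
      · left; rw [h1]; exact ⟨hb, hw⟩
      · right; rw [h1]; exact ⟨hw, hb⟩
    · exact ih hb

variable (μ : V → ℝ)

/-- the weight of a vertex set. -/
def g (S : Finset V) : ℝ := ∑ v ∈ S, μ v - inn ends S

theorem inn_univ_eq (S : Finset V) :
    inn ends Finset.univ = inn ends S + inn ends Sᶜ + crs ends S := by
  unfold inn crs Cr
  rw [← Finset.sum_add_distrib, ← Finset.sum_add_distrib]
  refine Finset.sum_congr rfl fun e _ => ?_
  simp only [Finset.mem_univ, Finset.mem_compl, and_self, if_true]
  by_cases h1 : (ends e).1 ∈ S <;> by_cases h2 : (ends e).2 ∈ S <;> simp [h1, h2]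

theorem g_add_compl (hV : g ends μ Finset.univ = 0) (S : Finset V) :
    g ends μ S + g ends μ Sᶜ = crs ends S := by
  unfold g at hV ⊢
  have h1 := inn_univ_eq ends S
  have h2 : ∑ v ∈ S, μ v + ∑ v ∈ Sᶜ, μ v = ∑ v, μ v := Finset.sum_add_sum_compl S μ
  linarith

section split
variable {ends}
variable {S : Finset V} {e : E}

theorem inn_split (hf : DualGr.IsForest ends) (he : Cr ends S e) :
    inn ends S = inn ends (S ∩ PhiStab.side ends e) + inn ends (S ∩ (PhiStab.side ends e)ᶜ) := by
  unfold inn
  rw [← Finset.sum_add_distrib]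
  refine Finset.sum_congr rfl fun e' _ => ?_
  simp only [Finset.mem_inter, Finset.mem_compl]
  by_cases hee : e' = e
  · subst hee
    have ha := fst_mem_side ends e'
    have hb := snd_notMem_side ends hf e'
    unfold Cr at he
    by_cases h1 : (ends e').1 ∈ S <;> by_cases h2 : (ends e').2 ∈ S <;>
      simp [h1, h2, ha, hb] <;> tauto
  · have hA := side_closed ends e e' hee
    by_cases h3 : (ends e').1 ∈ PhiStab.side ends e
    · have h4 := hA.1 h3
      by_cases h1 : (ends e').1 ∈ S <;> by_cases h2 : (ends e').2 ∈ S <;> simp [h1, h2, h3, h4]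
    · have h4 : (ends e').2 ∉ PhiStab.side ends e := fun h => h3 (hA.2 h)
      by_cases h1 : (ends e').1 ∈ S <;> by_cases h2 : (ends e').2 ∈ S <;> simp [h1, h2, h3, h4]

theorem crs_split (hf : DualGr.IsForest ends) (he : Cr ends S e) :
    crs ends S = crs ends (S ∩ PhiStab.side ends e) + crs ends (S ∩ (PhiStab.side ends e)ᶜ) := by
  unfold crs
  rw [← Finset.sum_add_distrib]
  refine Finset.sum_congr rfl fun e' _ => ?_
  unfold Cr at he ⊢
  simp only [Finset.mem_inter, Finset.mem_compl]
  by_cases hee : e' = e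
  · subst hee
    have ha := fst_mem_side ends e'
    have hb := snd_notMem_side ends hf e'
    by_cases h1 : (ends e').1 ∈ S <;> by_cases h2 : (ends e').2 ∈ S <;>
      simp [h1, h2, ha, hb] <;> tauto
  · have hA := side_closed ends e e' hee
    by_cases h3 : (ends e').1 ∈ PhiStab.side ends e
    · have h4 := hA.1 h3
      by_cases h1 : (ends e').1 ∈ S <;> by_cases h2 : (ends e').2 ∈ S <;> simp [h1, h2, h3, h4]
    · have h4 : (ends e').2 ∉ PhiStab.side ends e := fun h => h3 (hA.2 h)
      by_cases h1 : (ends e').1 ∈ S <;> by_cases h2 : (ends e').2 ∈ S <;> simp [h1, h2, h3, h4]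

theorem g_split (μ : V → ℝ) (hf : DualGr.IsForest ends) (he : Cr ends S e) :
    g ends μ S = g ends μ (S ∩ PhiStab.side ends e) + g ends μ (S ∩ (PhiStab.side ends e)ᶜ) := by
  unfold g
  rw [inn_split hf he]
  have : ∑ v ∈ S, μ v = ∑ v ∈ S ∩ PhiStab.side ends e, μ v +
      ∑ v ∈ S ∩ (PhiStab.side ends e)ᶜ, μ v := by
    rw [← Finset.sum_union]
    · congr 1
      ext v
      simp only [Finset.mem_union, Finset.mem_inter, Finset.mem_compl]
      tauto
    · rw [Finset.disjoint_left]
      intro v h1 h2
      exact (Finset.mem_compl.1 (Finset.mem_inter.1 h2).2) (Finset.mem_inter.1 h1).2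
  rw [this]
  ring

theorem cut_split (hf : DualGr.IsForest ends) (he : Cr ends S e) :
    LabGraph.cut ends S = LabGraph.cut ends (S ∩ PhiStab.side ends e) +
      LabGraph.cut ends (S ∩ (PhiStab.side ends e)ᶜ) := by
  have h := crs_split hf he
  rw [← cut_eq_crs, ← cut_eq_crs, ← cut_eq_crs] at h
  exact_mod_cast h

end split

theorem bounds (hT : DualGr.IsTree ends) (hV : g ends μ Finset.univ = 0)
    (hside : ∀ e, 0 ≤ g ends μ (PhiStab.side ends e) ∧ g ends μ (PhiStab.side ends e) ≤ 1) :
    ∀ (n : ℕ) (S : Finset V), LabGraph.cut ends S = n → S.Nonempty → S ≠ Finset.univ →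
      0 ≤ g ends μ S ∧ g ends μ S ≤ crs ends S := by
  obtain ⟨hc, hf⟩ := hT
  intro n
  induction n using Nat.strong_induction_on with
  | _ n ih =>
    intro S hn hne hproper
    obtain ⟨e, he⟩ := exists_crossing ends hc S hne hproper
    have step : ∀ S' : Finset V, LabGraph.cut ends S' = n → Cr ends S' e →
        (S' ∩ PhiStab.side ends e).Nonempty → (S' ∩ (PhiStab.side ends e)ᶜ).Nonempty →
        S' ≠ Finset.univ → 0 ≤ g ends μ S' ∧ g ends μ S' ≤ crs ends S' := by
      intro S' hn' he' h1 h2 hp'
      have hcut := cut_split hf he'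
      have hne1 : S' ∩ PhiStab.side ends e ≠ Finset.univ := by
        intro h
        apply hp'
        rw [Finset.eq_univ_iff_forall] at h ⊢
        exact fun v => (Finset.mem_inter.1 (h v)).1
      have hne2 : S' ∩ (PhiStab.side ends e)ᶜ ≠ Finset.univ := by
        intro h
        apply hp'
        rw [Finset.eq_univ_iff_forall] at h ⊢
        exact fun v => (Finset.mem_inter.1 (h v)).1
      obtain ⟨e1, he1⟩ := exists_crossing ends hc _ h1 hne1
      obtain ⟨e2, he2⟩ := exists_crossing ends hc _ h2 hne2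
      have hpos1 := one_le_cut ends he1
      have hpos2 := one_le_cut ends he2
      have ih1 := ih (LabGraph.cut ends (S' ∩ PhiStab.side ends e)) (by omega) _ rfl h1 hne1
      have ih2 := ih (LabGraph.cut ends (S' ∩ (PhiStab.side ends e)ᶜ)) (by omega) _ rfl h2 hne2
      rw [g_split μ hf he', crs_split hf he']
      constructor <;> linarith [ih1.1, ih1.2, ih2.1, ih2.2]
    by_cases h1 : (S ∩ PhiStab.side ends e).Nonempty ∧ (S ∩ (PhiStab.side ends e)ᶜ).Nonempty
    · exact step S hn he h1.1 h1.2 hproper
    by_cases h2 : (Sᶜ ∩ PhiStab.side ends e).Nonempty ∧ (Sᶜ ∩ (PhiStab.side ends e)ᶜ).Nonempty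
    · have hcu : Sᶜ ≠ Finset.univ := by
        intro h
        obtain ⟨v, hv⟩ := hne
        have := Finset.eq_univ_iff_forall.1 h v
        exact (Finset.mem_compl.1 this) hv
      have hs := step Sᶜ (by rw [cut_compl, hn]) ((cr_compl ends).2 he) h2.1 h2.2 hcu
      have hadd := g_add_compl ends μ hV S
      have hcc := crs_compl ends S
      constructor <;> linarith [hs.1, hs.2]
    · -- terminal case
      have ha := fst_mem_side ends e
      have hb := snd_notMem_side ends hf e
      have hsd := hside e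
      have hcr1 : (1:ℝ) ≤ crs ends S := by
        rw [← cut_eq_crs]
        exact_mod_cast one_le_cut ends he
      have hAcr : Cr ends (PhiStab.side ends e) e := Or.inl ⟨ha, hb⟩
      have hcrA : (1:ℝ) ≤ crs ends (PhiStab.side ends e) := by
        rw [← cut_eq_crs]
        exact_mod_cast one_le_cut ends hAcr
      rcases he with ⟨hS1, hS2⟩ | ⟨hS1, hS2⟩
      · -- S = A
        have hn1 : (S ∩ PhiStab.side ends e).Nonempty := ⟨_, Finset.mem_inter.2 ⟨hS1, ha⟩⟩
        have hn2 : (Sᶜ ∩ (PhiStab.side ends e)ᶜ).Nonempty :=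
          ⟨_, Finset.mem_inter.2 ⟨Finset.mem_compl.2 hS2, Finset.mem_compl.2 hb⟩⟩
        have h1' : ¬ (S ∩ (PhiStab.side ends e)ᶜ).Nonempty := fun h => h1 ⟨hn1, h⟩
        have h2' : ¬ (Sᶜ ∩ PhiStab.side ends e).Nonempty := fun h => h2 ⟨h, hn2⟩
        have hSA : S = PhiStab.side ends e := by
          ext v
          constructor
          · intro hv
            by_contra hvA
            exact h1' ⟨v, Finset.mem_inter.2 ⟨hv, Finset.mem_compl.2 hvA⟩⟩
          · intro hvA
            by_contra hv
            exact h2' ⟨v, Finset.mem_inter.2 ⟨Finset.mem_compl.2 hv, hvA⟩⟩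
        rw [hSA]
        constructor <;> linarith [hsd.1, hsd.2]
      · -- S = Aᶜ
        have hn1 : (S ∩ (PhiStab.side ends e)ᶜ).Nonempty :=
          ⟨_, Finset.mem_inter.2 ⟨hS2, Finset.mem_compl.2 hb⟩⟩
        have hn2 : (Sᶜ ∩ PhiStab.side ends e).Nonempty :=
          ⟨_, Finset.mem_inter.2 ⟨Finset.mem_compl.2 hS1, ha⟩⟩
        have h1' : ¬ (S ∩ PhiStab.side ends e).Nonempty := fun h => h1 ⟨h, hn1⟩
        have h2' : ¬ (Sᶜ ∩ (PhiStab.side ends e)ᶜ).Nonempty := fun h => h2 ⟨hn2, h⟩
        have hSA : S = (PhiStab.side ends e)ᶜ := by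
          ext v
          constructor
          · intro hv
            rw [Finset.mem_compl]
            intro hvA
            exact h1' ⟨v, Finset.mem_inter.2 ⟨hv, hvA⟩⟩
          · intro hvA
            by_contra hv
            exact h2' ⟨v, Finset.mem_inter.2 ⟨Finset.mem_compl.2 hv, hvA⟩⟩
        have hadd := g_add_compl ends μ hV (PhiStab.side ends e)
        have hcc := crs_compl ends (PhiStab.side ends e)
        rw [hSA]
        constructor <;> linarith [hsd.1, hsd.2]

/-- exactly one edge crosses a side. -/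
theorem crs_side (hf : DualGr.IsForest ends) (e : E) : crs ends (PhiStab.side ends e) = 1 := by
  unfold crs
  have : ∀ e' ∈ (Finset.univ : Finset E),
      (if Cr ends (PhiStab.side ends e) e' then (1:ℝ) else 0) = if e' = e then 1 else 0 := by
    intro e' _
    by_cases hee : e' = e
    · subst hee
      rw [if_pos rfl, if_pos (show Cr ends (PhiStab.side ends e') e' from
        Or.inl ⟨fst_mem_side ends e', snd_notMem_side ends hf e'⟩)]
    · rw [if_neg hee, if_neg]
      have hA := side_closed ends e e' hee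
      unfold Cr
      tauto
  rw [Finset.sum_congr rfl this, Finset.sum_ite_eq' Finset.univ e, if_pos (Finset.mem_univ _)]

end Groth.Agent.H77.TreeBound
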