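import Groth.Agent.H77.TreeSide2
import Groth.Agent.H77.TreeBound

set_option autoImplicit false

/-! The unique stable multidegree attached to a spanning tree. -/

namespace Groth.Agent.H77.StabTree

open Finset LabGraph PhiStab Groth.Agent.H77.TreeSide Groth.Agent.H77.TreeBound

universe u
variable {V E : Type u} [Fintype V] [Fintype E] [DecidableEq V] [DecidableEq E]
variable (ends : E → V × V) (T : Finset E) (φ : V → ℝ)

/-- vertex weight. -/
noncomputable def mu (m : V → ℤ) (v : V) : ℝ :=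
  (m v : ℝ) - φ v + (1/2) * ∑ e, ((if (ends e).1 = v then (1:ℝ) else 0) +
    (if (ends e).2 = v then (1:ℝ) else 0))

/-- stability slack. -/
noncomputable def ff (m : V → ℤ) (S : Finset V) : ℝ :=
  (PhiStab.degOn ends m Tᶜ S : ℝ) - ((∑ v ∈ S, φ v) - (LabGraph.cut ends S : ℝ) / 2)

/-- the part of the slack independent of `m`. -/
noncomputable def kap (S : Finset V) : ℝ :=
  ((Tᶜ ∩ PhiStab.inner ends S).card : ℝ) - ((∑ v ∈ S, φ v) - (LabGraph.cut ends S : ℝ) / 2)

theorem ff_eq_sum_add (m : V → ℤ) (S : Finset V) :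
    ff ends T φ m S = ((∑ v ∈ S, m v : ℤ) : ℝ) + kap ends T φ S := by
  unfold ff kap PhiStab.degOn
  push_cast
  ring

theorem card_compl_inter_inner (S : Finset V) :
    ((Tᶜ ∩ PhiStab.inner ends S).card : ℝ) =
      ∑ e, if e ∉ T ∧ ((ends e).1 ∈ S ∧ (ends e).2 ∈ S) then (1:ℝ) else 0 := by
  have : Tᶜ ∩ PhiStab.inner ends S =
      Finset.univ.filter (fun e => e ∉ T ∧ ((ends e).1 ∈ S ∧ (ends e).2 ∈ S)) := by
    ext e
    simp [PhiStab.inner]
  rw [this, Finset.card_filter]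
  push_cast
  rfl

theorem inn_spanEnds (S : Finset V) :
    inn (PhiStab.spanEnds ends T) S =
      ∑ e, if e ∈ T then (if (ends e).1 ∈ S ∧ (ends e).2 ∈ S then (1:ℝ) else 0) else 0 := by
  unfold inn
  rw [Finset.sum_ite_mem, Finset.univ_inter]
  exact Finset.sum_coe_sort T (fun e => if (ends e).1 ∈ S ∧ (ends e).2 ∈ S then (1:ℝ) else 0)

theorem sum_deg (S : Finset V) :
    ∑ v ∈ S, ∑ e, ((if (ends e).1 = v then (1:ℝ) else 0) + (if (ends e).2 = v then (1:ℝ) else 0)) =
      ∑ e, ((if (ends e).1 ∈ S then (1:ℝ) else 0) + (if (ends e).2 ∈ S then (1:ℝ) else 0)) := by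
  rw [Finset.sum_comm]
  refine Finset.sum_congr rfl fun e _ => ?_
  rw [Finset.sum_add_distrib, Finset.sum_ite_eq, Finset.sum_ite_eq]

theorem ff_eq_g (m : V → ℤ) (S : Finset V) :
    ff ends T φ m S = g (PhiStab.spanEnds ends T) (mu ends φ m) S := by
  unfold ff g mu PhiStab.degOn
  push_cast
  rw [card_compl_inter_inner, cut_eq_crs, inn_spanEnds, Finset.sum_add_distrib,
    Finset.sum_sub_distrib, ← Finset.mul_sum, sum_deg]
  have H1 : (∑ e, if e ∉ T ∧ ((ends e).1 ∈ S ∧ (ends e).2 ∈ S) then (1:ℝ) else 0) =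
      (∑ e, if (ends e).1 ∈ S ∧ (ends e).2 ∈ S then (1:ℝ) else 0) -
      ∑ e, if e ∈ T then (if (ends e).1 ∈ S ∧ (ends e).2 ∈ S then (1:ℝ) else 0) else 0 := by
    rw [← Finset.sum_sub_distrib]
    refine Finset.sum_congr rfl fun e _ => ?_
    by_cases h1 : e ∈ T <;> by_cases h2 : (ends e).1 ∈ S ∧ (ends e).2 ∈ S <;> simp [h1, h2]
  have H2 : crs ends S =
      (∑ e, ((if (ends e).1 ∈ S then (1:ℝ) else 0) + (if (ends e).2 ∈ S then (1:ℝ) else 0))) -
      2 * ∑ e, if (ends e).1 ∈ S ∧ (ends e).2 ∈ S then (1:ℝ) else 0 := by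
    unfold crs Cr
    rw [Finset.mul_sum, ← Finset.sum_sub_distrib]
    refine Finset.sum_congr rfl fun e _ => ?_
    by_cases h1 : (ends e).1 ∈ S <;> by_cases h2 : (ends e).2 ∈ S <;> simp [h1, h2] <;> norm_num
  linear_combination H1 + (1/2 : ℝ) * H2

theorem ff_univ (m : V → ℤ) :
    ff ends T φ m Finset.univ = (PhiStab.totDeg m Tᶜ : ℝ) - ∑ v, φ v := by
  unfold ff PhiStab.degOn PhiStab.totDeg
  have h1 : PhiStab.inner ends Finset.univ = Finset.univ := by
    unfold PhiStab.inner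
    simp
  have h2 : LabGraph.cut ends Finset.univ = 0 := by
    unfold LabGraph.cut
    simp
  rw [h1, h2, Finset.inter_univ]
  push_cast
  ring

theorem main (hT : DualGr.IsTree (PhiStab.spanEnds ends T)) (b : ℤ)
    (hφ : (∑ v : V, φ v) = (b : ℝ)) (hnd : PhiStab.Nondegenerate ends φ) :
    ∃! m : V → ℤ, PhiStab.totDeg m Tᶜ = b ∧ PhiStab.IsStable ends φ m Tᶜ := by
  classical
  have hf := hT.2
  have hV : ∀ m : V → ℤ, PhiStab.totDeg m Tᶜ = b →
      g (PhiStab.spanEnds ends T) (mu ends φ m) Finset.univ = 0 := by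
    intro m hm
    rw [← ff_eq_g, ff_univ, hm, hφ, sub_self]
  have hstab : ∀ m : V → ℤ, PhiStab.totDeg m Tᶜ = b → PhiStab.IsStable ends φ m Tᶜ →
      ∀ e : ↥T, 0 < ff ends T φ m (PhiStab.side (PhiStab.spanEnds ends T) e) ∧
        ff ends T φ m (PhiStab.side (PhiStab.spanEnds ends T) e) < 1 := by
    intro m hm hst e
    have ha := fst_mem_side (PhiStab.spanEnds ends T) e
    have hb := snd_notMem_side (PhiStab.spanEnds ends T) hf e
    have hne : (PhiStab.side (PhiStab.spanEnds ends T) e).Nonempty := ⟨_, ha⟩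
    have hp : PhiStab.side (PhiStab.spanEnds ends T) e ≠ Finset.univ := by
      intro h
      apply hb
      rw [h]
      exact Finset.mem_univ _
    have hnec : (PhiStab.side (PhiStab.spanEnds ends T) e)ᶜ.Nonempty :=
      ⟨_, Finset.mem_compl.2 hb⟩
    have hpc : (PhiStab.side (PhiStab.spanEnds ends T) e)ᶜ ≠ Finset.univ := by
      intro h
      have : (PhiStab.spanEnds ends T e).1 ∈ (PhiStab.side (PhiStab.spanEnds ends T) e)ᶜ := by
        rw [h]
        exact Finset.mem_univ _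
      exact (Finset.mem_compl.1 this) ha
    have h1 : 0 < ff ends T φ m (PhiStab.side (PhiStab.spanEnds ends T) e) :=
      sub_pos.2 (hst _ hne hp)
    have h2 : 0 < ff ends T φ m (PhiStab.side (PhiStab.spanEnds ends T) e)ᶜ :=
      sub_pos.2 (hst _ hnec hpc)
    have h3 := g_add_compl (PhiStab.spanEnds ends T) (mu ends φ m) (hV m hm)
      (PhiStab.side (PhiStab.spanEnds ends T) e)
    rw [← ff_eq_g, ← ff_eq_g, crs_side (PhiStab.spanEnds ends T) hf e] at h3
    exact ⟨h1, by linarith⟩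
  obtain ⟨m, ⟨hm1, hm2⟩, -⟩ := TreeSide2.main (PhiStab.spanEnds ends T) ℤ hT
    (fun e => ⌈- kap ends T φ (PhiStab.side (PhiStab.spanEnds ends T) e)⌉)
    (b - (Tᶜ.card : ℤ))
  have htot : PhiStab.totDeg m Tᶜ = b := by
    unfold PhiStab.totDeg
    rw [hm2]
    ring
  have hside : ∀ e, 0 ≤ g (PhiStab.spanEnds ends T) (mu ends φ m)
        (PhiStab.side (PhiStab.spanEnds ends T) e) ∧
      g (PhiStab.spanEnds ends T) (mu ends φ m)
        (PhiStab.side (PhiStab.spanEnds ends T) e) ≤ 1 := by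
    intro e
    rw [← ff_eq_g, ff_eq_sum_add]
    have h1 : ((∑ v ∈ PhiStab.side (PhiStab.spanEnds ends T) e, m v : ℤ) : ℝ) =
        ((⌈- kap ends T φ (PhiStab.side (PhiStab.spanEnds ends T) e)⌉ : ℤ) : ℝ) :=
      congrArg (fun z : ℤ => (z : ℝ)) (hm1 e)
    rw [h1]
    have h2 := Int.le_ceil (- kap ends T φ (PhiStab.side (PhiStab.spanEnds ends T) e))
    have h3 := Int.ceil_lt_add_one (- kap ends T φ (PhiStab.side (PhiStab.spanEnds ends T) e))
    constructor <;> linarith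
  have hsemi : PhiStab.IsSemistable ends φ m Tᶜ := by
    intro S hne hp
    have := (bounds (PhiStab.spanEnds ends T) (mu ends φ m) hT (hV m htot) hside _ S rfl hne hp).1
    rw [← ff_eq_g] at this
    unfold ff at this
    linarith
  have hst : PhiStab.IsStable ends φ m Tᶜ := hnd m Tᶜ (by rw [hφ, htot]) hsemi
  refine ⟨m, ⟨htot, hst⟩, ?_⟩
  rintro m' ⟨htot', hst'⟩
  have hsum : ∀ e : ↥T, ∑ v ∈ PhiStab.side (PhiStab.spanEnds ends T) e, m' v =
      ∑ v ∈ PhiStab.side (PhiStab.spanEnds ends T) e, m v := by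
    intro e
    have h1 := hstab m htot hst e
    have h2 := hstab m' htot' hst' e
    rw [ff_eq_sum_add] at h1 h2
    have h3 : (((∑ v ∈ PhiStab.side (PhiStab.spanEnds ends T) e, m' v) -
        (∑ v ∈ PhiStab.side (PhiStab.spanEnds ends T) e, m v) : ℤ) : ℝ) < 1 := by
      rw [Int.cast_sub]; linarith [h1.1, h2.2]
    have h4 : (-1 : ℝ) < (((∑ v ∈ PhiStab.side (PhiStab.spanEnds ends T) e, m' v) -
        (∑ v ∈ PhiStab.side (PhiStab.spanEnds ends T) e, m v) : ℤ) : ℝ) := by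
      rw [Int.cast_sub]; linarith [h1.2, h2.1]
    have h3' : (∑ v ∈ PhiStab.side (PhiStab.spanEnds ends T) e, m' v) -
        (∑ v ∈ PhiStab.side (PhiStab.spanEnds ends T) e, m v) < 1 := by exact_mod_cast h3
    have h4' : -1 < (∑ v ∈ PhiStab.side (PhiStab.spanEnds ends T) e, m' v) -
        (∑ v ∈ PhiStab.side (PhiStab.spanEnds ends T) e, m v) := by exact_mod_cast h4
    omega
  have htotal : ∑ v, m' v = ∑ v, m v := by
    unfold PhiStab.totDeg at htot htot'
    omega
  exact (TreeSide2.main (PhiStab.spanEnds ends T) ℤ hT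
    (fun e => ∑ v ∈ PhiStab.side (PhiStab.spanEnds ends T) e, m v) (∑ v, m v)).unique
    ⟨hsum, htotal⟩ ⟨fun e => rfl, rfl⟩

end Groth.Agent.H77.StabTree
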