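import Mathlib
import Groth.Prelude.Def_EtModW
import Groth.Prelude.Def_ARSys
import Groth.Prelude.Def_EtModD2
import Groth.Agent.H38.Adic_B
import Groth.Agent.H77.CM_AR

/-!
# (D) for helper20's S13613 squad: stalks of an AR-`I`-adic system of étale `Λ`-module sheaves
(helper77; clone of `H77.CM_AR.s13614_of` with the stalk functor, a left adjoint of the skyscraper
functor)
-/
set_option autoImplicit false
set_option linter.style.haveILetI false
universe u
open CategoryTheory CategoryTheory.Limits AlgebraicGeometry Opposite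

namespace Groth.Agent.H77.StalkAR_D

set_option maxHeartbeats 1600000 in
/-- (D) -/
theorem s13613_of (Λ : Type (u + 1)) [CommRing Λ] [IsNoetherianRing Λ] (I : Ideal Λ) (X : Scheme.{u})
    (hfin : ∀ E : EtModW.Mod Λ X, EtModW.IsConstructible Λ E →
      ∀ {Ω : Type u} [Field Ω] [IsSepClosed Ω] (ξ : Spec (CommRingCat.of Ω) ⟶ X),
        Module.Finite Λ ((EtModW.stalk Λ ξ).obj E))
    (F : ARSys.PS (EtModW.Mod Λ X))
    (hF : (ARSys.TermKilled I F ∧ ∃ (Y : ARSys.PS (EtModW.Mod Λ X)) (v : Y ⟶ F), ARSys.IsAdic I Y ∧ (∀ n : ℕ, EtModW.IsConstructible Λ (Y.obj (op n))) ∧ ARSys.IsARIso v))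
    {Ω : Type u} [Field Ω] [IsSepClosed Ω] (s : Spec (CommRingCat.of Ω) ⟶ X) :
    (ARSys.TermKilled I (F ⋙ EtModW.stalk Λ s) ∧ ∃ (Y : ARSys.PS (ModuleCat.{u + 1} Λ)) (v : Y ⟶ F ⋙ EtModW.stalk Λ s), ARSys.IsAdic I Y ∧ (∀ n : ℕ, Module.Finite Λ (Y.obj (op n))) ∧ ARSys.IsARIso v) := by
  obtain ⟨hFk, Y, v, hY, hYc, hv⟩ := hF
  haveI : HasLimitsOfSize.{u, u} (ModuleCat.{u + 1} Λ) :=
    hasLimitsOfSizeShrink.{u, u, u + 1, u + 1} _
  let adj : EtModW.stalk Λ s ⊣
      (Scheme.pointSmallEtale s).skyscraperSheafFunctor (A := ModuleCat.{u + 1} Λ) :=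
    (Scheme.pointSmallEtale s).skyscraperSheafAdjunction
  have hR : ∀ {P Q : ModuleCat.{u + 1} Λ} (a : Λ) (g : P ⟶ Q),
      ((Scheme.pointSmallEtale s).skyscraperSheafFunctor (A := ModuleCat.{u + 1} Λ)).map (a • g) =
        a • ((Scheme.pointSmallEtale s).skyscraperSheafFunctor (A := ModuleCat.{u + 1} Λ)).map g := by
    intro P Q a g
    ext W : 3
    apply Pi.hom_ext
    intro j
    change (Limits.Pi.map fun _ : (Scheme.pointSmallEtale s).fiber.obj W.unop => a • g) ≫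
        Pi.π _ j =
      (a • (Limits.Pi.map fun _ : (Scheme.pointSmallEtale s).fiber.obj W.unop => g)) ≫ Pi.π _ j
    rw [Linear.smul_comp, Limits.Pi.map_π, Limits.Pi.map_π, Linear.comp_smul]
  haveI : (EtModW.stalk Λ s).PreservesZeroMorphisms :=
    ⟨fun _ _ => Groth.Agent.H38.Adic_B.L_map_zero (A := Λ) adj hR⟩
  haveI : AB5OfSize.{u, u} (ModuleCat.{u + 1} Λ) :=
    AB5OfSize_of_univLE.{u, u, u + 1, u + 1} (ModuleCat.{u + 1} Λ)
  haveI : PreservesFiniteLimits (EtModW.stalk Λ s) := inferInstance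
  haveI : PreservesFiniteColimits (EtModW.stalk Λ s) := inferInstance
  refine ⟨fun n => Groth.Agent.H38.Adic_B.killedBy_L (A := Λ) adj hR _ (hFk n), Y ⋙ EtModW.stalk Λ s,
    Functor.whiskerRight v (EtModW.stalk Λ s), ⟨fun n => ?_, fun n m h => ?_⟩,
    fun n => hfin _ (hYc n) s,
    Groth.Agent.H77.CM_AR.isARIso_whiskerRight (EtModW.stalk Λ s) v hv⟩
  · exact Groth.Agent.H38.Adic_B.killedBy_L (A := Λ) adj hR _ (hY.1 n)
  · exact Groth.Agent.H38.Adic_B.isQuot_L (A := Λ) adj hR _ _ (hY.2 n m h)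

end Groth.Agent.H77.StalkAR_D
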