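import Mathlib

/-!
# Evaluation and gradient functionals on polynomials (for S4024)
-/

namespace Groth.Agent.H77.TangForms

open MvPolynomial

universe u

variable {k : Type u} [Field k] {σ : Type} [Fintype σ] [DecidableEq σ]

/-- evaluation at `v` as a linear map -/
noncomputable def ev (v : σ → k) : MvPolynomial σ k →ₗ[k] k := (aeval v).toLinearMap

@[simp] theorem ev_apply (v : σ → k) (G : MvPolynomial σ k) : ev v G = aeval v G := rfl

/-- the gradient of `G` at `v`, as a functional on `σ → k`, linear in `G` -/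
noncomputable def gradL (v : σ → k) : MvPolynomial σ k →ₗ[k] Module.Dual k (σ → k) :=
  ∑ i, ((ev v) ∘ₗ (pderiv i).toLinearMap).smulRight
    (LinearMap.proj i : (σ → k) →ₗ[k] k)

theorem gradL_apply (v w : σ → k) (G : MvPolynomial σ k) :
    gradL v G w = ∑ i, aeval v (pderiv i G) * w i := by
  show (∑ i, ((ev v) ∘ₗ (pderiv i).toLinearMap).smulRight
    (LinearMap.proj i : (σ → k) →ₗ[k] k)) G w = _
  rw [LinearMap.sum_apply, LinearMap.sum_apply]
  exact Finset.sum_congr rfl fun i _ => rfl

theorem gradL_mul (v : σ → k) (G H : MvPolynomial σ k) :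
    gradL v (G * H) = aeval v G • gradL v H + aeval v H • gradL v G := by
  refine LinearMap.ext fun w => ?_
  simp only [gradL_apply, LinearMap.add_apply, LinearMap.smul_apply, smul_eq_mul,
    Finset.mul_sum, ← Finset.sum_add_distrib]
  refine Finset.sum_congr rfl fun i _ => ?_
  rw [Derivation.leibniz]
  simp only [smul_eq_mul, map_add, map_mul]
  ring

theorem gradL_pow_succ (v : σ → k) (G : MvPolynomial σ k) (m : ℕ) :
    gradL v (G ^ (m + 1)) = (((m + 1 : ℕ) : k) * (aeval v G) ^ m) • gradL v G := by
  induction m with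
  | zero => simp
  | succ m ih =>
    rw [pow_succ, gradL_mul, ih, map_pow, smul_smul, ← add_smul]
    congr 1
    push_cast
    ring

/-- the polynomial of a linear form -/
noncomputable def lf (l : Module.Dual k (σ → k)) : MvPolynomial σ k :=
  ∑ i, C (l (Pi.single i 1)) * X i

theorem lf_isHomogeneous (l : Module.Dual k (σ → k)) : (lf l).IsHomogeneous 1 := by
  apply IsHomogeneous.sum
  intro i _
  have := (isHomogeneous_C σ (l (Pi.single i 1))).mul (isHomogeneous_X k i)
  simpa using this

theorem apply_eq_sum (l : Module.Dual k (σ → k)) (v : σ → k) :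
    l v = ∑ i, l (Pi.single i 1) * v i := by
  conv_lhs => rw [LinearMap.pi_apply_eq_sum_univ l v]
  refine Finset.sum_congr rfl fun i _ => ?_
  rw [smul_eq_mul, mul_comm]
  congr 2
  ext j
  simp [Pi.single_apply, eq_comm]

theorem aeval_lf (l : Module.Dual k (σ → k)) (v : σ → k) : aeval v (lf l) = l v := by
  rw [apply_eq_sum l v]
  simp [lf]

theorem pderiv_lf (l : Module.Dual k (σ → k)) (i : σ) :
    pderiv i (lf l) = C (l (Pi.single i 1)) := by
  unfold lf
  rw [map_sum, Finset.sum_eq_single i]
  · rw [Derivation.leibniz, pderiv_C, pderiv_X_self, smul_zero, add_zero, smul_eq_mul, mul_one]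
  · intro j _ hj
    rw [Derivation.leibniz, pderiv_C, pderiv_X_of_ne hj, smul_zero, smul_zero, add_zero]
  · intro h
    exact absurd (Finset.mem_univ i) h

theorem gradL_lf (l : Module.Dual k (σ → k)) (v : σ → k) : gradL v (lf l) = l := by
  refine LinearMap.ext fun w => ?_
  rw [gradL_apply, apply_eq_sum l w]
  refine Finset.sum_congr rfl fun i _ => ?_
  rw [pderiv_lf, aeval_C]
  rfl

/-- Euler's identity, evaluated. -/
theorem gradL_self {d : ℕ} {G : MvPolynomial σ k} (hG : G.IsHomogeneous d) (v : σ → k) :
    gradL v G v = (d : k) * aeval v G := by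
  have h := congrArg (aeval v) hG.sum_X_mul_pderiv
  rw [gradL_apply]
  simp only [map_sum, map_mul, aeval_X, nsmul_eq_mul, map_natCast] at h
  rw [← h]
  refine Finset.sum_congr rfl fun i _ => ?_
  ring

/-- Symmetry of the polar form of a quadratic form. -/
theorem gradL_symm {G : MvPolynomial σ k} (hG : G.IsHomogeneous 2) (v w : σ → k) :
    gradL v G w = gradL w G v := by
  have hmem : G ∈ homogeneousSubmodule σ k 2 := hG
  rw [← homogeneousSubmodule_one_pow, pow_two, homogeneousSubmodule_one_eq_span_X,
    Submodule.span_mul_span] at hmem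
  refine Submodule.span_induction ?_ ?_ ?_ ?_ hmem
  · rintro _ ⟨_, ⟨a, rfl⟩, _, ⟨b, rfl⟩, rfl⟩
    rw [gradL_mul, gradL_mul]
    have hX : ∀ (u : σ → k) (c : σ), gradL u (X c : MvPolynomial σ k) =
        (LinearMap.proj c : (σ → k) →ₗ[k] k) := by
      intro u c
      refine LinearMap.ext fun z => ?_
      rw [gradL_apply]
      simp [pderiv_X, Pi.single_apply, Finset.sum_ite_eq']
    simp only [hX, aeval_X, LinearMap.add_apply, LinearMap.smul_apply, LinearMap.proj_apply,
      smul_eq_mul]
    ring
  · simp
  · intro x y _ _ hx hy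
    simp only [map_add, LinearMap.add_apply, hx, hy]
  · intro c x _ hx
    simp only [map_smul, LinearMap.smul_apply, hx]

end Groth.Agent.H77.TangForms
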