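import Mathlib
import Groth.Agent.H77.TangForms1

/-!
# Test forms `λ^(d-1) ℓ₁ + μ^(d-1) ℓ₂` and their jets at two points (for S4024)
-/

namespace Groth.Agent.H77.TangForms

open MvPolynomial

universe u

variable {k : Type u} [Field k] {σ : Type} [Fintype σ] [DecidableEq σ]

/-- the test form -/
noncomputable def tf (e : ℕ) (lam mu l₁ l₂ : Module.Dual k (σ → k)) : MvPolynomial σ k :=
  lf lam ^ (e + 1) * lf l₁ + lf mu ^ (e + 1) * lf l₂

theorem tf_isHomogeneous (e : ℕ) (lam mu l₁ l₂ : Module.Dual k (σ → k)) :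
    (tf e lam mu l₁ l₂).IsHomogeneous (e + 2) := by
  have h : ∀ a b : Module.Dual k (σ → k), (lf a ^ (e + 1) * lf b).IsHomogeneous (e + 2) := by
    intro a b
    have h1 := ((lf_isHomogeneous a).pow (e + 1)).mul (lf_isHomogeneous b)
    have h2 : 1 * (e + 1) + 1 = e + 2 := by ring
    rwa [h2] at h1
  exact (h lam l₁).add (h mu l₂)

theorem tf_swap (e : ℕ) (lam mu l₁ l₂ : Module.Dual k (σ → k)) :
    tf e lam mu l₁ l₂ = tf e mu lam l₂ l₁ := by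
  unfold tf
  rw [add_comm]

theorem aeval_tf_one {v₁ : σ → k} {lam mu : Module.Dual k (σ → k)}
    (hl1 : lam v₁ = 1) (hm1 : mu v₁ = 0) (e : ℕ) (l₁ l₂ : Module.Dual k (σ → k)) :
    aeval v₁ (tf e lam mu l₁ l₂) = l₁ v₁ := by
  simp only [tf, map_add, map_mul, map_pow, aeval_lf, hl1, hm1, one_pow, one_mul,
    zero_pow (Nat.succ_ne_zero e), zero_mul, add_zero]

theorem gradL_tf_one {v₁ : σ → k} {lam mu : Module.Dual k (σ → k)}
    (hl1 : lam v₁ = 1) (hm1 : mu v₁ = 0) (e : ℕ) (l₁ l₂ : Module.Dual k (σ → k)) :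
    gradL v₁ (tf e lam mu l₁ l₂) =
      l₁ + (((e + 1 : ℕ) : k) * l₁ v₁) • lam + (((e + 1 : ℕ) : k) * (0 : k) ^ e * l₂ v₁) • mu := by
  refine LinearMap.ext fun w => ?_
  simp only [tf, map_add, gradL_mul, gradL_pow_succ, gradL_lf, map_pow, aeval_lf, hl1, hm1,
    one_pow, mul_one, one_smul, LinearMap.add_apply, LinearMap.smul_apply, smul_eq_mul,
    zero_pow (Nat.succ_ne_zero e), zero_mul]
  ring

theorem aeval_tf_two {v₂ : σ → k} {lam mu : Module.Dual k (σ → k)}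
    (hl2 : lam v₂ = 0) (hm2 : mu v₂ = 1) (e : ℕ) (l₁ l₂ : Module.Dual k (σ → k)) :
    aeval v₂ (tf e lam mu l₁ l₂) = l₂ v₂ := by
  rw [tf_swap]
  exact aeval_tf_one hm2 hl2 e l₂ l₁

theorem gradL_tf_two {v₂ : σ → k} {lam mu : Module.Dual k (σ → k)}
    (hl2 : lam v₂ = 0) (hm2 : mu v₂ = 1) (e : ℕ) (l₁ l₂ : Module.Dual k (σ → k)) :
    gradL v₂ (tf e lam mu l₁ l₂) =
      l₂ + (((e + 1 : ℕ) : k) * l₂ v₂) • mu + (((e + 1 : ℕ) : k) * (0 : k) ^ e * l₁ v₂) • lam := by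
  rw [tf_swap]
  exact gradL_tf_one hm2 hl2 e l₂ l₁

/-- The jet map at one point: value and gradient restricted to `W`. -/
noncomputable def psi1 (W : Submodule k (σ → k)) (v : σ → k) (d : ℕ) :
    homogeneousSubmodule σ k d →ₗ[k] k × Module.Dual k W :=
  LinearMap.prod (ev v ∘ₗ (homogeneousSubmodule σ k d).subtype)
    (W.subtype.dualMap ∘ₗ gradL v ∘ₗ (homogeneousSubmodule σ k d).subtype)

theorem psi1_apply (W : Submodule k (σ → k)) (v : σ → k) (d : ℕ)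
    (G : homogeneousSubmodule σ k d) :
    psi1 W v d G = (aeval v G.1, W.subtype.dualMap (gradL v G.1)) := rfl

/-- Solving for a test form with prescribed jets. -/
theorem psi_tf {v₁ v₂ : σ → k} {lam mu : Module.Dual k (σ → k)}
    (hl1 : lam v₁ = 1) (hl2 : lam v₂ = 0) (hm1 : mu v₁ = 0) (hm2 : mu v₂ = 1)
    (e : ℕ) (W₁ W₂ : Submodule k (σ → k)) (h₁ : v₁ ∈ W₁) (h₂ : v₂ ∈ W₂)
    (l₁ l₂ : Module.Dual k (σ → k)) (c₁ c₂ : k)
    (φ₁ : Module.Dual k W₁) (φ₂ : Module.Dual k W₂)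
    (hr1 : φ₁ ⟨v₁, h₁⟩ = ((e + 2 : ℕ) : k) * c₁) (hr2 : φ₂ ⟨v₂, h₂⟩ = ((e + 2 : ℕ) : k) * c₂)
    (hi : ∀ w : W₁, l₁ w = φ₁ w - (((e + 1 : ℕ) : k) * c₁) * lam w -
      (((e + 1 : ℕ) : k) * (0 : k) ^ e * l₂ v₁) * mu w)
    (hii : ∀ w : W₂, l₂ w = φ₂ w - (((e + 1 : ℕ) : k) * c₂) * mu w -
      (((e + 1 : ℕ) : k) * (0 : k) ^ e * l₁ v₂) * lam w) :
    (aeval v₁ (tf e lam mu l₁ l₂) = c₁ ∧
      W₁.subtype.dualMap (gradL v₁ (tf e lam mu l₁ l₂)) = φ₁) ∧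
    (aeval v₂ (tf e lam mu l₁ l₂) = c₂ ∧
      W₂.subtype.dualMap (gradL v₂ (tf e lam mu l₁ l₂)) = φ₂) := by
  have e1 : l₁ v₁ = c₁ := by
    have := hi ⟨v₁, h₁⟩
    simp only [hl1, hm1, hr1] at this
    rw [this]
    push_cast
    ring
  have e2 : l₂ v₂ = c₂ := by
    have := hii ⟨v₂, h₂⟩
    simp only [hl2, hm2, hr2] at this
    rw [this]
    push_cast
    ring
  refine ⟨⟨?_, ?_⟩, ⟨?_, ?_⟩⟩
  · rw [aeval_tf_one hl1 hm1, e1]
  · refine LinearMap.ext fun w => ?_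
    rw [LinearMap.dualMap_apply, gradL_tf_one hl1 hm1, e1]
    simp only [LinearMap.add_apply, LinearMap.smul_apply, smul_eq_mul, Submodule.subtype_apply]
    rw [hi w]
    ring
  · rw [aeval_tf_two hl2 hm2, e2]
  · refine LinearMap.ext fun w => ?_
    rw [LinearMap.dualMap_apply, gradL_tf_two hl2 hm2, e2]
    simp only [LinearMap.add_apply, LinearMap.smul_apply, smul_eq_mul, Submodule.subtype_apply]
    rw [hii w]
    ring

/-- extension of a functional on `W` to the whole space -/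
theorem exists_ext (W : Submodule k (σ → k)) (ψ : Module.Dual k W) :
    ∃ l : Module.Dual k (σ → k), ∀ w : W, l w = ψ w := by
  obtain ⟨g, hg⟩ := LinearMap.exists_extend ψ
  exact ⟨g, fun w => LinearMap.congr_fun hg w⟩

theorem exists_ext_vanish (W : Submodule k (σ → k)) (ψ : Module.Dual k W) {u : σ → k}
    (hu : u ∉ W) : ∃ l : Module.Dual k (σ → k), (∀ w : W, l w = ψ w) ∧ l u = 0 := by
  obtain ⟨g, hg, hgu⟩ := LinearMap.exists_extend_of_notMem ψ hu 0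
  exact ⟨g, fun w => LinearMap.congr_fun hg w, hgu⟩

end Groth.Agent.H77.TangForms
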