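import Mathlib
import Groth.Agent.H77.TangForms2

/-!
# Dimension count for forms tangent at two points (for S4024)
-/

namespace Groth.Agent.H77.TangForms

open MvPolynomial

universe u

variable {k : Type u} [Field k] {σ : Type} [Fintype σ] [DecidableEq σ]

instance instFiniteHomogeneous (d : ℕ) : Module.Finite k (homogeneousSubmodule σ k d) :=
  Module.Finite.iff_fg.2 (homogeneousSubmodule_fg σ k d)

/-- the Euler relation functional -/
noncomputable def relL (W : Submodule k (σ → k)) (v : W) (d : ℕ) :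
    k × Module.Dual k W →ₗ[k] k :=
  (LinearMap.applyₗ v) ∘ₗ (LinearMap.snd k k (Module.Dual k W)) -
    (d : k) • LinearMap.fst k k (Module.Dual k W)

theorem relL_apply (W : Submodule k (σ → k)) (v : W) (d : ℕ) (c : k) (φ : Module.Dual k W) :
    relL W v d (c, φ) = φ v - (d : k) * c := by
  simp [relL]

theorem relL_psi1 (W : Submodule k (σ → k)) {v : σ → k} (h : v ∈ W) (d : ℕ)
    (G : homogeneousSubmodule σ k d) : relL W ⟨v, h⟩ d (psi1 W v d G) = 0 := by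
  rw [psi1_apply, relL_apply, LinearMap.dualMap_apply, Submodule.subtype_apply,
    gradL_self (d := d) G.2, sub_self]

theorem finrank_target (W₁ W₂ : Submodule k (σ → k)) :
    Module.finrank k ((k × Module.Dual k W₁) × (k × Module.Dual k W₂)) =
      (1 + Module.finrank k W₁) + (1 + Module.finrank k W₂) := by
  simp [Module.finrank_prod, Subspace.dual_finrank_eq]

theorem finrank_generic {v₁ v₂ : σ → k} {lam mu : Module.Dual k (σ → k)}
    (hl1 : lam v₁ = 1) (hl2 : lam v₂ = 0) (hm1 : mu v₁ = 0) (hm2 : mu v₂ = 1)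
    (e : ℕ) (W₁ W₂ : Submodule k (σ → k)) (h₁ : v₁ ∈ W₁) (h₂ : v₂ ∈ W₂)
    (hcase : 1 ≤ e ∨ v₂ ∉ W₁) :
    Module.finrank k (homogeneousSubmodule σ k (e + 2)) =
      Module.finrank k ↥(LinearMap.ker (psi1 W₁ v₁ (e + 2)) ⊓
        LinearMap.ker (psi1 W₂ v₂ (e + 2))) +
        (Module.finrank k W₁ + Module.finrank k W₂) := by
  let Ψ := (psi1 W₁ v₁ (e + 2)).prod (psi1 W₂ v₂ (e + 2))
  let Rel : (k × Module.Dual k W₁) × (k × Module.Dual k W₂) →ₗ[k] k × k :=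
    LinearMap.prod (relL W₁ ⟨v₁, h₁⟩ (e + 2) ∘ₗ LinearMap.fst k _ _)
      (relL W₂ ⟨v₂, h₂⟩ (e + 2) ∘ₗ LinearMap.snd k _ _)
  have hRel : ∀ c₁ φ₁ c₂ φ₂, Rel ((c₁, φ₁), (c₂, φ₂)) =
      (φ₁ ⟨v₁, h₁⟩ - ((e + 2 : ℕ) : k) * c₁, φ₂ ⟨v₂, h₂⟩ - ((e + 2 : ℕ) : k) * c₂) := by
    intro c₁ φ₁ c₂ φ₂
    simp only [Rel, LinearMap.coe_prod, Function.prod_apply, LinearMap.comp_apply, LinearMap.fst_apply,
      LinearMap.snd_apply, relL_apply]
  have hker : LinearMap.ker Ψ =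
      LinearMap.ker (psi1 W₁ v₁ (e + 2)) ⊓ LinearMap.ker (psi1 W₂ v₂ (e + 2)) :=
    LinearMap.ker_prod _ _
  have hsurj : LinearMap.range Rel = ⊤ := by
    rw [LinearMap.range_eq_top]
    rintro ⟨a, b⟩
    refine ⟨((0, a • W₁.subtype.dualMap lam), (0, b • W₂.subtype.dualMap mu)), ?_⟩
    rw [hRel]
    simp [LinearMap.dualMap_apply, hl1, hm2]
  have hrange : LinearMap.range Ψ = LinearMap.ker Rel := by
    apply le_antisymm
    · rintro _ ⟨G, rfl⟩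
      rw [LinearMap.mem_ker]
      simp only [Ψ, Rel, LinearMap.coe_prod, Function.prod_apply, LinearMap.comp_apply,
        LinearMap.fst_apply, LinearMap.snd_apply, relL_psi1]
      rfl
    · rintro ⟨⟨c₁, φ₁⟩, ⟨c₂, φ₂⟩⟩ hx
      rw [LinearMap.mem_ker, hRel, Prod.mk_eq_zero] at hx
      have hr1 : φ₁ ⟨v₁, h₁⟩ = ((e + 2 : ℕ) : k) * c₁ := sub_eq_zero.1 hx.1
      have hr2 : φ₂ ⟨v₂, h₂⟩ = ((e + 2 : ℕ) : k) * c₂ := sub_eq_zero.1 hx.2
      obtain ⟨l₁, l₂, hi, hii⟩ : ∃ l₁ l₂ : Module.Dual k (σ → k),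
          (∀ w : W₁, l₁ w = φ₁ w - (((e + 1 : ℕ) : k) * c₁) * lam w -
            (((e + 1 : ℕ) : k) * (0 : k) ^ e * l₂ v₁) * mu w) ∧
          (∀ w : W₂, l₂ w = φ₂ w - (((e + 1 : ℕ) : k) * c₂) * mu w -
            (((e + 1 : ℕ) : k) * (0 : k) ^ e * l₁ v₂) * lam w) := by
        rcases hcase with he | hv
        · have h0 : (0 : k) ^ e = 0 := zero_pow (by omega)
          obtain ⟨l₁, hl₁⟩ := exists_ext W₁
            (φ₁ - (((e + 1 : ℕ) : k) * c₁) • W₁.subtype.dualMap lam)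
          obtain ⟨l₂, hl₂⟩ := exists_ext W₂
            (φ₂ - (((e + 1 : ℕ) : k) * c₂) • W₂.subtype.dualMap mu)
          refine ⟨l₁, l₂, fun w => ?_, fun w => ?_⟩
          · rw [hl₁ w, h0]
            simp [LinearMap.dualMap_apply]
          · rw [hl₂ w, h0]
            simp [LinearMap.dualMap_apply]
        · obtain ⟨l₂, hl₂⟩ := exists_ext W₂
            (φ₂ - (((e + 1 : ℕ) : k) * c₂) • W₂.subtype.dualMap mu)
          obtain ⟨l₁, hl₁, hl₁v⟩ := exists_ext_vanish W₁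
            (φ₁ - (((e + 1 : ℕ) : k) * c₁) • W₁.subtype.dualMap lam -
              (((e + 1 : ℕ) : k) * (0 : k) ^ e * l₂ v₁) • W₁.subtype.dualMap mu) hv
          refine ⟨l₁, l₂, fun w => ?_, fun w => ?_⟩
          · rw [hl₁ w]
            simp [LinearMap.dualMap_apply]
          · rw [hl₂ w, hl₁v]
            simp [LinearMap.dualMap_apply]
      obtain ⟨⟨a1, a2⟩, ⟨a3, a4⟩⟩ :=
        psi_tf hl1 hl2 hm1 hm2 e W₁ W₂ h₁ h₂ l₁ l₂ c₁ c₂ φ₁ φ₂ hr1 hr2 hi hii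
      refine ⟨⟨tf e lam mu l₁ l₂,
        (mem_homogeneousSubmodule _ _).2 (tf_isHomogeneous e lam mu l₁ l₂)⟩, ?_⟩
      simp only [Ψ, LinearMap.coe_prod, Function.prod_apply, psi1_apply]
      rw [a1, a2, a3, a4]
  have hΨ := LinearMap.finrank_range_add_finrank_ker Ψ
  have hR := LinearMap.finrank_range_add_finrank_ker Rel
  rw [hsurj, finrank_top] at hR
  rw [hrange, hker] at hΨ
  have hE := finrank_target W₁ W₂
  have h2 : Module.finrank k (k × k) = 2 := by simp [Module.finrank_prod]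
  omega

theorem finrank_special {v₁ v₂ : σ → k} {lam mu : Module.Dual k (σ → k)}
    (hl1 : lam v₁ = 1) (hl2 : lam v₂ = 0) (hm1 : mu v₁ = 0) (hm2 : mu v₂ = 1)
    (W₁ W₂ : Submodule k (σ → k)) (h₁ : v₁ ∈ W₁) (h₂ : v₂ ∈ W₂)
    (h21 : v₂ ∈ W₁) (h12 : v₁ ∈ W₂) :
    Module.finrank k (homogeneousSubmodule σ k 2) + 1 =
      Module.finrank k ↥(LinearMap.ker (psi1 W₁ v₁ 2) ⊓ LinearMap.ker (psi1 W₂ v₂ 2)) +
        (Module.finrank k W₁ + Module.finrank k W₂) := by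
  let Ψ := (psi1 W₁ v₁ 2).prod (psi1 W₂ v₂ 2)
  let Rel : (k × Module.Dual k W₁) × (k × Module.Dual k W₂) →ₗ[k] k × k × k :=
    LinearMap.prod (relL W₁ ⟨v₁, h₁⟩ 2 ∘ₗ LinearMap.fst k _ _)
      (LinearMap.prod (relL W₂ ⟨v₂, h₂⟩ 2 ∘ₗ LinearMap.snd k _ _)
        ((LinearMap.applyₗ (⟨v₂, h21⟩ : W₁)) ∘ₗ (LinearMap.snd k k (Module.Dual k W₁)) ∘ₗ
            LinearMap.fst k _ _ -
          (LinearMap.applyₗ (⟨v₁, h12⟩ : W₂)) ∘ₗ (LinearMap.snd k k (Module.Dual k W₂)) ∘ₗ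
            LinearMap.snd k _ _))
  have hRel : ∀ c₁ φ₁ c₂ φ₂, Rel ((c₁, φ₁), (c₂, φ₂)) =
      (φ₁ ⟨v₁, h₁⟩ - ((2 : ℕ) : k) * c₁, φ₂ ⟨v₂, h₂⟩ - ((2 : ℕ) : k) * c₂,
        φ₁ ⟨v₂, h21⟩ - φ₂ ⟨v₁, h12⟩) := by
    intro c₁ φ₁ c₂ φ₂
    simp only [Rel, LinearMap.coe_prod, Function.prod_apply, LinearMap.comp_apply, LinearMap.fst_apply,
      LinearMap.snd_apply, relL_apply, LinearMap.sub_apply, LinearMap.applyₗ_apply_apply]
  have hker : LinearMap.ker Ψ =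
      LinearMap.ker (psi1 W₁ v₁ 2) ⊓ LinearMap.ker (psi1 W₂ v₂ 2) :=
    LinearMap.ker_prod _ _
  have hsurj : LinearMap.range Rel = ⊤ := by
    rw [LinearMap.range_eq_top]
    rintro ⟨a, b, c⟩
    refine ⟨((0, a • W₁.subtype.dualMap lam + c • W₁.subtype.dualMap mu),
      (0, b • W₂.subtype.dualMap mu)), ?_⟩
    rw [hRel]
    simp [LinearMap.dualMap_apply, hl1, hl2, hm1, hm2]
  have hrange : LinearMap.range Ψ = LinearMap.ker Rel := by
    apply le_antisymm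
    · rintro _ ⟨G, rfl⟩
      rw [LinearMap.mem_ker]
      have e1 := relL_psi1 W₁ h₁ 2 G
      have e2 := relL_psi1 W₂ h₂ 2 G
      have e3 : (psi1 W₁ v₁ 2 G).2 ⟨v₂, h21⟩ - (psi1 W₂ v₂ 2 G).2 ⟨v₁, h12⟩ = 0 := by
        rw [psi1_apply, psi1_apply]
        simp only [LinearMap.dualMap_apply, Submodule.subtype_apply]
        rw [gradL_symm G.2 v₁ v₂, sub_self]
      simp only [Ψ, Rel, LinearMap.coe_prod, Function.prod_apply, LinearMap.comp_apply,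
        LinearMap.fst_apply, LinearMap.snd_apply, e1, e2, LinearMap.sub_apply,
        LinearMap.applyₗ_apply_apply, e3]
      rfl
    · rintro ⟨⟨c₁, φ₁⟩, ⟨c₂, φ₂⟩⟩ hx
      rw [LinearMap.mem_ker, hRel, Prod.mk_eq_zero, Prod.mk_eq_zero] at hx
      have hr1 : φ₁ ⟨v₁, h₁⟩ = ((0 + 2 : ℕ) : k) * c₁ := sub_eq_zero.1 hx.1
      have hr2 : φ₂ ⟨v₂, h₂⟩ = ((0 + 2 : ℕ) : k) * c₂ := sub_eq_zero.1 hx.2.1
      have hr3 : φ₁ ⟨v₂, h21⟩ = φ₂ ⟨v₁, h12⟩ := sub_eq_zero.1 hx.2.2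
      obtain ⟨l₁, hl₁⟩ := exists_ext W₁ (φ₁ - c₁ • W₁.subtype.dualMap lam)
      have hl₁v : l₁ v₂ = φ₁ ⟨v₂, h21⟩ := by
        have := hl₁ ⟨v₂, h21⟩
        simpa [LinearMap.dualMap_apply, hl2] using this
      obtain ⟨l₂, hl₂⟩ := exists_ext W₂
        (φ₂ - c₂ • W₂.subtype.dualMap mu - (φ₁ ⟨v₂, h21⟩) • W₂.subtype.dualMap lam)
      have hl₂v : l₂ v₁ = 0 := by
        have := hl₂ ⟨v₁, h12⟩
        simpa [LinearMap.dualMap_apply, hl1, hm1, hr3] using this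
      have hi : ∀ w : W₁, l₁ w = φ₁ w - (((0 + 1 : ℕ) : k) * c₁) * lam w -
            (((0 + 1 : ℕ) : k) * (0 : k) ^ 0 * l₂ v₁) * mu w := by
        intro w
        rw [hl₁ w, hl₂v]
        simp [LinearMap.dualMap_apply]
      have hii : ∀ w : W₂, l₂ w = φ₂ w - (((0 + 1 : ℕ) : k) * c₂) * mu w -
            (((0 + 1 : ℕ) : k) * (0 : k) ^ 0 * l₁ v₂) * lam w := by
        intro w
        rw [hl₂ w, hl₁v]
        simp [LinearMap.dualMap_apply]
      obtain ⟨⟨a1, a2⟩, ⟨a3, a4⟩⟩ :=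
        psi_tf hl1 hl2 hm1 hm2 0 W₁ W₂ h₁ h₂ l₁ l₂ c₁ c₂ φ₁ φ₂ hr1 hr2 hi hii
      refine ⟨⟨tf 0 lam mu l₁ l₂,
        (mem_homogeneousSubmodule _ _).2 (tf_isHomogeneous 0 lam mu l₁ l₂)⟩, ?_⟩
      simp only [Ψ, LinearMap.coe_prod, Function.prod_apply, psi1_apply]
      rw [a1, a2, a3, a4]
  have hΨ := LinearMap.finrank_range_add_finrank_ker Ψ
  have hR := LinearMap.finrank_range_add_finrank_ker Rel
  rw [hsurj, finrank_top] at hR
  rw [hrange, hker] at hΨ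
  have hE := finrank_target W₁ W₂
  have h3 : Module.finrank k (k × k × k) = 3 := by simp [Module.finrank_prod]
  omega

/-- dual functionals to an independent pair -/
theorem exists_dual_pair {v₁ v₂ : σ → k} (hv : LinearIndependent k ![v₁, v₂]) :
    ∃ lam mu : Module.Dual k (σ → k), lam v₁ = 1 ∧ lam v₂ = 0 ∧ mu v₁ = 0 ∧ mu v₂ = 1 := by
  rw [LinearIndependent.pair_iff] at hv
  have hn1 : v₁ ∉ Submodule.span k {v₂} := by
    intro h
    obtain ⟨t, ht⟩ := Submodule.mem_span_singleton.1 h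
    have := hv 1 (-t) (by rw [one_smul, neg_smul, ht, add_neg_cancel])
    exact one_ne_zero this.1
  have hn2 : v₂ ∉ Submodule.span k {v₁} := by
    intro h
    obtain ⟨t, ht⟩ := Submodule.mem_span_singleton.1 h
    have := hv (-t) 1 (by rw [one_smul, neg_smul, ht, neg_add_cancel])
    exact one_ne_zero this.2
  obtain ⟨lam, hlam, hlam1⟩ :=
    LinearMap.exists_extend_of_notMem (0 : Submodule.span k {v₂} →ₗ[k] k) hn1 1
  obtain ⟨mu, hmu, hmu1⟩ :=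
    LinearMap.exists_extend_of_notMem (0 : Submodule.span k {v₁} →ₗ[k] k) hn2 1
  refine ⟨lam, mu, hlam1, ?_, ?_, hmu1⟩
  · exact LinearMap.congr_fun hlam ⟨v₂, Submodule.mem_span_singleton_self v₂⟩
  · exact LinearMap.congr_fun hmu ⟨v₁, Submodule.mem_span_singleton_self v₁⟩

end Groth.Agent.H77.TangForms
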