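import Mathlib
import Groth.Prelude.Def_LefPen
import Groth.Agent.H77.TangForms3

/-!
# Bridge to `LefPen.tangentForms` (for S4024)
-/

namespace Groth.Agent.H77.TangForms

open MvPolynomial

universe u

variable {k : Type u} [Field k] {r : ℕ}

theorem tangLin_apply {d : ℕ} (W : Submodule k (Fin (r + 1) → k)) (v : Fin (r + 1) → k)
    (G : LefPen.Form r k d) :
    LefPen.tangLin k W v G =
      (aeval v G.1, fun w : W => ∑ i, w.1 i * aeval v (pderiv i G.1)) := by
  unfold LefPen.tangLin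
  refine Prod.ext rfl ?_
  funext w
  simp [LinearMap.sum_apply]

theorem ker_tangLin {d : ℕ} (W : Submodule k (Fin (r + 1) → k)) (v : Fin (r + 1) → k) :
    LinearMap.ker (LefPen.tangLin k W v : LefPen.Form r k d →ₗ[k] k × (↥W → k)) =
      LinearMap.ker (psi1 W v d) := by
  ext G
  rw [LinearMap.mem_ker, LinearMap.mem_ker, tangLin_apply, psi1_apply, Prod.mk_eq_zero,
    Prod.mk_eq_zero]
  refine and_congr Iff.rfl ?_
  constructor
  · intro h
    refine LinearMap.ext fun w => ?_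
    have := congrFun h w
    rw [LinearMap.dualMap_apply, Submodule.subtype_apply, gradL_apply]
    simp only [Pi.zero_apply] at this
    rw [LinearMap.zero_apply, ← this]
    exact Finset.sum_congr rfl fun i _ => mul_comm _ _
  · intro h
    funext w
    have := LinearMap.congr_fun h w
    rw [LinearMap.dualMap_apply, Submodule.subtype_apply, gradL_apply,
      LinearMap.zero_apply] at this
    rw [Pi.zero_apply, ← this]
    exact Finset.sum_congr rfl fun i _ => mul_comm _ _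

theorem tangentForms_eq (d : ℕ) (W₁ W₂ : Submodule k (Fin (r + 1) → k))
    (v₁ v₂ : Fin (r + 1) → k) :
    LefPen.tangentForms k d W₁ v₁ W₂ v₂ =
      LinearMap.ker (psi1 W₁ v₁ d) ⊓ LinearMap.ker (psi1 W₂ v₂ d) := by
  unfold LefPen.tangentForms
  rw [ker_tangLin, ker_tangLin]

theorem main (r d : ℕ) (hd : 2 ≤ d)
    (W₁ W₂ : Submodule k (Fin (r + 1) → k)) (v₁ v₂ : Fin (r + 1) → k) (h₁ : v₁ ∈ W₁) (h₂ : v₂ ∈ W₂)
    (hv : LinearIndependent k ![v₁, v₂]) :
    ((3 ≤ d ∨ ¬ (v₂ ∈ W₁ ∧ v₁ ∈ W₂)) →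
      Module.finrank k (LefPen.Form r k d) =
        Module.finrank k ↥(LefPen.tangentForms k d W₁ v₁ W₂ v₂) +
          (Module.finrank k ↥W₁ + Module.finrank k ↥W₂)) ∧
    ((d = 2 ∧ v₂ ∈ W₁ ∧ v₁ ∈ W₂) →
      Module.finrank k (LefPen.Form r k d) + 1 =
        Module.finrank k ↥(LefPen.tangentForms k d W₁ v₁ W₂ v₂) +
          (Module.finrank k ↥W₁ + Module.finrank k ↥W₂)) := by
  obtain ⟨e, rfl⟩ : ∃ e, d = e + 2 := ⟨d - 2, by omega⟩
  obtain ⟨lam, mu, hl1, hl2, hm1, hm2⟩ := exists_dual_pair hv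
  rw [tangentForms_eq]
  constructor
  · intro hcase
    by_cases he : 1 ≤ e
    · exact finrank_generic hl1 hl2 hm1 hm2 e W₁ W₂ h₁ h₂ (Or.inl he)
    · have hnot : ¬ (v₂ ∈ W₁ ∧ v₁ ∈ W₂) := by
        rcases hcase with h3 | h
        · omega
        · exact h
      by_cases h21 : v₂ ∈ W₁
      · have h12 : v₁ ∉ W₂ := fun h => hnot ⟨h21, h⟩
        have := finrank_generic hm2 hm1 hl2 hl1 e W₂ W₁ h₂ h₁ (Or.inr h12)
        rw [inf_comm, add_comm (Module.finrank k ↥W₁)]
        exact this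
      · exact finrank_generic hl1 hl2 hm1 hm2 e W₁ W₂ h₁ h₂ (Or.inr h21)
  · rintro ⟨hd2, h21, h12⟩
    have he : e = 0 := by omega
    subst he
    exact finrank_special hl1 hl2 hm1 hm2 W₁ W₂ h₁ h₂ h21 h12

end Groth.Agent.H77.TangForms
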