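import Mathlib

/-!
# A regular element of a finite free algebra over a domain divides a nonzero scalar
-/

namespace Groth.Agent.H77.TransA

open Matrix in
theorem exists_mul_eq_algebraMap {R S : Type*} [CommRing R] [IsDomain R] [CommRing S] [Algebra R S]
    [Module.Free R S] [Module.Finite R S] (a : S) (ha : ∀ y : S, a * y = 0 → y = 0) :
    ∃ h : R, h ≠ 0 ∧ ∃ b : S, a * b = algebraMap R S h := by
  classical
  let β : Module.Basis (Module.Free.ChooseBasisIndex R S) R S := Module.Free.chooseBasis R S
  let M : Matrix (Module.Free.ChooseBasisIndex R S) (Module.Free.ChooseBasisIndex R S) R :=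
    Algebra.leftMulMatrix β a
  have key : ∀ v : Module.Free.ChooseBasisIndex R S → R,
      β.equivFun (a * β.equivFun.symm v) = M *ᵥ v := by
    intro v
    have h1 := Algebra.leftMulMatrix_mulVec_repr β a (β.equivFun.symm v)
    have h2 : (β.repr (β.equivFun.symm v) : Module.Free.ChooseBasisIndex R S → R) = v := by
      have := β.equivFun.apply_symm_apply v
      rwa [Module.Basis.equivFun_apply] at this
    rw [h2] at h1
    rw [Module.Basis.equivFun_apply]
    exact h1.symm
  refine ⟨M.det, ?_, β.equivFun.symm (M.adjugate *ᵥ β.equivFun 1), ?_⟩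
  · intro hdet
    obtain ⟨v, hv0, hv⟩ := Matrix.exists_mulVec_eq_zero_iff.2 hdet
    apply hv0
    have h0 : a * β.equivFun.symm v = 0 := by
      apply β.equivFun.injective
      rw [map_zero, key, hv]
    have h1 := congrArg β.equivFun (ha _ h0)
    rwa [LinearEquiv.apply_symm_apply, map_zero] at h1
  · apply β.equivFun.injective
    rw [key, Matrix.mulVec_mulVec, Matrix.mul_adjugate, Matrix.smul_mulVec, Matrix.one_mulVec,
      Algebra.algebraMap_eq_smul_one, map_smul]

end Groth.Agent.H77.TransA
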