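import Mathlib
import Groth.Agent.H77.TransA

/-!
# A generic translate of a hypersurface misses a finite scheme: the denominator
-/

namespace Groth.Agent.H77.TransB

open TensorProduct

universe v

variable {k : Type*} [Field k] {r : ℕ} {B : Type*} [CommRing B] [Algebra k B]

/-- the endomorphism `X_i ↦ p_i` of `k[X] ⊗ B`, identity on `B`. -/
noncomputable def subst (p : Fin r → MvPolynomial (Fin r) k ⊗[k] B) :
    MvPolynomial (Fin r) k ⊗[k] B →ₐ[k] MvPolynomial (Fin r) k ⊗[k] B :=
  Algebra.TensorProduct.productMap (MvPolynomial.aeval p) Algebra.TensorProduct.includeRight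

lemma subst_left (p : Fin r → MvPolynomial (Fin r) k ⊗[k] B) (F : MvPolynomial (Fin r) k) :
    subst p (F ⊗ₜ 1) = MvPolynomial.aeval p F := by
  rw [subst, Algebra.TensorProduct.productMap_left_apply]

lemma subst_right (p : Fin r → MvPolynomial (Fin r) k ⊗[k] B) (b : B) :
    subst p (1 ⊗ₜ b) = 1 ⊗ₜ b := by
  rw [subst, Algebra.TensorProduct.productMap_right_apply, Algebra.TensorProduct.includeRight_apply]

lemma subst_tmul (p : Fin r → MvPolynomial (Fin r) k ⊗[k] B) (F : MvPolynomial (Fin r) k) (b : B) :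
    subst p (F ⊗ₜ b) = MvPolynomial.aeval p F * 1 ⊗ₜ b := by
  simp [subst]

lemma subst_subst (p q : Fin r → MvPolynomial (Fin r) k ⊗[k] B)
    (h : ∀ i, subst p (q i) = MvPolynomial.X i ⊗ₜ 1) (x : MvPolynomial (Fin r) k ⊗[k] B) :
    subst p (subst q x) = x := by
  have : (subst p).comp (subst q) = AlgHom.id k _ := by
    apply Algebra.TensorProduct.ext
    · apply MvPolynomial.algHom_ext
      intro i
      simp [subst_left, h]
    · ext b
      simp [subst_right]
  exact AlgHom.congr_fun this x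

lemma tmul_one_eq_aeval (F : MvPolynomial (Fin r) k) :
    (F ⊗ₜ[k] (1 : B)) = MvPolynomial.aeval (fun i => (MvPolynomial.X i ⊗ₜ[k] (1 : B))) F := by
  have := MvPolynomial.comp_aeval_apply (f := (MvPolynomial.X : Fin r → MvPolynomial (Fin r) k))
    (Algebra.TensorProduct.includeLeft : MvPolynomial (Fin r) k →ₐ[k] MvPolynomial (Fin r) k ⊗[k] B) F
  rw [MvPolynomial.aeval_X_left_apply] at this
  simpa using this

theorem exists_denominator [Module.Finite k B] (u : Fin r → B) (w w' : B) (hw : w * w' = 1)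
    (F : MvPolynomial (Fin r) k) (hF : F ≠ 0) :
    ∃ h : MvPolynomial (Fin r) k, h ≠ 0 ∧
      ∀ (Ω : Type v) [CommRing Ω] [Algebra k Ω] (evB : B →ₐ[k] Ω) (γ : Fin r → Ω),
        MvPolynomial.aeval γ h ≠ 0 →
          MvPolynomial.aeval (fun i => evB (u i) + γ i * evB w) F ≠ 0 := by
  classical
  let p : Fin r → MvPolynomial (Fin r) k ⊗[k] B :=
    fun i => 1 ⊗ₜ u i + MvPolynomial.X i ⊗ₜ w
  let q : Fin r → MvPolynomial (Fin r) k ⊗[k] B :=
    fun i => MvPolynomial.X i ⊗ₜ w' - 1 ⊗ₜ (u i * w')
  let a : MvPolynomial (Fin r) k ⊗[k] B := MvPolynomial.aeval p F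
  have hw' : w' * w = 1 := by rw [mul_comm]; exact hw
  have hpq : ∀ i, subst q (p i) = MvPolynomial.X i ⊗ₜ 1 := by
    intro i
    simp only [p, q, map_add, subst_tmul, MvPolynomial.aeval_X, sub_mul, map_one,
      Algebra.TensorProduct.tmul_mul_tmul, mul_one, one_mul, mul_assoc, hw']
    abel
  have hqp : ∀ i, subst p (q i) = MvPolynomial.X i ⊗ₜ 1 := by
    intro i
    simp only [p, q, map_sub, subst_tmul, MvPolynomial.aeval_X, add_mul, map_one,
      Algebra.TensorProduct.tmul_mul_tmul, mul_one, one_mul, hw]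
    abel
  have ha' : subst q a = F ⊗ₜ 1 := by
    simp only [a]
    rw [MvPolynomial.comp_aeval_apply, tmul_one_eq_aeval]
    have e : (fun i => subst q (p i)) = fun i => (MvPolynomial.X i ⊗ₜ[k] (1 : B)) := funext hpq
    rw [e]
  have hreg : ∀ y, a * y = 0 → y = 0 := by
    intro y hy
    have h1 : subst q (a * y) = 0 := by rw [hy, map_zero]
    rw [map_mul, ha'] at h1
    have h2 : F • (subst q y) = 0 := by
      have e : F • (subst q y) = (F ⊗ₜ[k] (1 : B)) * subst q y := by
        have e1 := Algebra.smul_def F (subst q y)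
        rw [Algebra.TensorProduct.algebraMap_apply] at e1
        simpa using e1
      rw [e]
      exact h1
    have h3 : subst q y = 0 := (smul_eq_zero.1 h2).resolve_left hF
    have h4 := subst_subst p q hqp y
    rw [h3, map_zero] at h4
    exact h4.symm
  obtain ⟨h, hh0, b, hb⟩ :=
    TransA.exists_mul_eq_algebraMap (R := MvPolynomial (Fin r) k) a hreg
  refine ⟨h, hh0, ?_⟩
  intro Ω _ _ evB γ hγ
  let ev : MvPolynomial (Fin r) k ⊗[k] B →ₐ[k] Ω :=
    Algebra.TensorProduct.productMap (MvPolynomial.aeval γ) evB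
  have h1 : ev a * ev b = MvPolynomial.aeval γ h := by
    rw [← map_mul, hb, Algebra.TensorProduct.algebraMap_apply]
    simp [ev]
  have h2 : ev a = MvPolynomial.aeval (fun i => evB (u i) + γ i * evB w) F := by
    simp only [a]
    rw [MvPolynomial.comp_aeval_apply]
    have e : (fun i => ev (p i)) = fun i => evB (u i) + γ i * evB w := by
      funext i
      simp [ev, p]
    rw [e]
  rw [← h2]
  intro h0
  apply hγ
  rw [← h1, h0, zero_mul]

end Groth.Agent.H77.TransB
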