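import Mathlib
import Groth.Agent.H77.TransB

/-!
# Generic translates are empty near finitely many closed points
-/

namespace Groth.Agent.H77.TransC

open TensorProduct

universe u v

section

variable {k : Type u} [Field k] {r : ℕ}

/-- Abstract denominator for a pair of finite algebras. -/
theorem exists_h_aux {L E : Type u} [CommRing L] [Algebra k L] (hL : Module.Finite k L)
    [CommRing E] [Algebra k E] (hE : Module.Finite k E) (ξ : Fin r → L) (τ τ' : E)
    (hτ : τ * τ' = 1) (N : ℕ) (F : MvPolynomial (Fin r) k) (hF : F ≠ 0) :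
    ∃ h : MvPolynomial (Fin r) k, h ≠ 0 ∧
      ∀ (Ω : Type v) [CommRing Ω] [Algebra k Ω] (evL : L →ₐ[k] Ω) (evE : E →ₐ[k] Ω)
        (γ : Fin r → Ω), MvPolynomial.aeval γ h ≠ 0 →
          MvPolynomial.aeval (fun i => evL (ξ i) + γ i * evE τ ^ N) F ≠ 0 := by
  classical
  have hw : ((1 : L) ⊗ₜ[k] (τ ^ N)) * ((1 : L) ⊗ₜ[k] (τ' ^ N)) = 1 := by
    rw [Algebra.TensorProduct.tmul_mul_tmul, one_mul, ← mul_pow, hτ, one_pow]
    rfl
  obtain ⟨h, hh0, hh⟩ := TransB.exists_denominator.{v, _, _}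
    (B := L ⊗[k] E) (fun i => ξ i ⊗ₜ[k] (1 : E)) ((1 : L) ⊗ₜ[k] (τ ^ N)) ((1 : L) ⊗ₜ[k] (τ' ^ N))
    hw F hF
  refine ⟨h, hh0, ?_⟩
  intro Ω _ _ evL evE γ hγ
  have key := hh Ω (Algebra.TensorProduct.productMap evL evE) γ hγ
  have e : (fun i => (Algebra.TensorProduct.productMap evL evE) (ξ i ⊗ₜ[k] (1 : E)) +
        γ i * (Algebra.TensorProduct.productMap evL evE) ((1 : L) ⊗ₜ[k] (τ ^ N))) =
      fun i => evL (ξ i) + γ i * evE τ ^ N := by
    funext i
    simp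
  rw [e] at key
  exact key

/-- Per-point denominator. -/
theorem exists_hP (P : Ideal (MvPolynomial (Fin r) k)) (hP : P.IsMaximal) (T₁ : Polynomial k)
    (hT₁ : T₁.coeff 0 ≠ 0) (N : ℕ) (F : MvPolynomial (Fin r) k) (hF : F ≠ 0) :
    ∃ h : MvPolynomial (Fin r) k, h ≠ 0 ∧
      ∀ (Ω : Type v) [CommRing Ω] [Algebra k Ω] (x0 : Fin r → Ω) (t0 : Ω) (γ : Fin r → Ω),
        (∀ p ∈ P, MvPolynomial.aeval x0 p = 0) → Polynomial.aeval t0 T₁ = 0 →
        MvPolynomial.aeval γ h ≠ 0 →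
          MvPolynomial.aeval (fun i => x0 i + γ i * t0 ^ N) F ≠ 0 := by
  classical
  have hT₁0 : T₁ ≠ 0 := by
    rintro rfl
    simp at hT₁
  have hL : Module.Finite k (MvPolynomial (Fin r) k ⧸ P) := by
    let := Ideal.Quotient.field P
    exact finite_of_finite_type_of_isJacobsonRing k _
  have hE : Module.Finite k (AdjoinRoot T₁) := (AdjoinRoot.powerBasis hT₁0).finite
  have hττ' : AdjoinRoot.root T₁ *
      AdjoinRoot.mk T₁ (- Polynomial.C (T₁.coeff 0)⁻¹ * T₁.divX) = 1 := by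
    show AdjoinRoot.mk T₁ Polynomial.X * AdjoinRoot.mk T₁ _ = 1
    rw [← map_mul, ← map_one (AdjoinRoot.mk T₁), AdjoinRoot.mk_eq_mk]
    refine ⟨- Polynomial.C (T₁.coeff 0)⁻¹, ?_⟩
    have h1 := Polynomial.divX_mul_X_add T₁
    have h2 : (Polynomial.C (T₁.coeff 0)⁻¹ * Polynomial.C (T₁.coeff 0) : Polynomial k) = 1 := by
      rw [← Polynomial.C_mul, inv_mul_cancel₀ hT₁, Polynomial.C_1]
    calc Polynomial.X * (-Polynomial.C (T₁.coeff 0)⁻¹ * T₁.divX) - 1
        = (T₁.divX * Polynomial.X + Polynomial.C (T₁.coeff 0)) * -Polynomial.C (T₁.coeff 0)⁻¹ := by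
          linear_combination h2
      _ = T₁ * -Polynomial.C (T₁.coeff 0)⁻¹ := by rw [h1]
  obtain ⟨h, hh0, hh⟩ := exists_h_aux.{u, v} (L := MvPolynomial (Fin r) k ⧸ P) hL
    (E := AdjoinRoot T₁) hE (fun i => Ideal.Quotient.mk P (MvPolynomial.X i))
    (AdjoinRoot.root T₁) _ hττ' N F hF
  refine ⟨h, hh0, ?_⟩
  intro Ω _ _ x0 t0 γ hx0 ht0 hγ
  let evL : (MvPolynomial (Fin r) k ⧸ P) →ₐ[k] Ω :=
    Ideal.Quotient.liftₐ P (MvPolynomial.aeval x0) hx0
  let evE : AdjoinRoot T₁ →ₐ[k] Ω := AdjoinRoot.liftAlgHom T₁ (Algebra.ofId k Ω) t0 (by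
    rw [← ht0, Polynomial.aeval_def]
    rfl)
  have key := hh Ω evL evE γ hγ
  have e : (fun i => evL (Ideal.Quotient.mk P (MvPolynomial.X i)) +
        γ i * evE (AdjoinRoot.root T₁) ^ N) = fun i => x0 i + γ i * t0 ^ N := by
    funext i
    simp [evL, evE]
  rw [e] at key
  exact key

/-- Extract a polynomial in `t` with nonzero constant coefficient. -/
theorem exists_T₁ {σ : Type*} (I : Ideal (MvPolynomial σ k)) (hI : I.IsPrime) (j : σ)
    (ht0 : I ⊔ Ideal.span {MvPolynomial.X j} = ⊤)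
    (ht : Ideal.comap (MvPolynomial.rename (fun _ : Unit => j) :
        MvPolynomial Unit k →ₐ[k] MvPolynomial σ k) I ≠ ⊥) :
    ∃ T₁ : Polynomial k, T₁.coeff 0 ≠ 0 ∧
      Polynomial.aeval (MvPolynomial.X j : MvPolynomial σ k) T₁ ∈ I := by
  obtain ⟨T, hTI, hT0⟩ := (Submodule.ne_bot_iff _).1 ht
  have hT'0 : MvPolynomial.uniqueAlgEquiv k Unit T ≠ 0 := by
    intro h0
    apply hT0
    have := congrArg (MvPolynomial.uniqueAlgEquiv k Unit).symm h0
    rwa [AlgEquiv.symm_apply_apply, map_zero] at this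
  have hren : (MvPolynomial.rename (fun _ : Unit => j) :
        MvPolynomial Unit k →ₐ[k] MvPolynomial σ k) =
      (Polynomial.aeval (MvPolynomial.X j : MvPolynomial σ k)).comp
        (MvPolynomial.uniqueAlgEquiv k Unit).toAlgHom := by
    apply MvPolynomial.algHom_ext
    intro i
    simp
  obtain ⟨q, hq, hqX⟩ := Polynomial.exists_eq_pow_rootMultiplicity_mul_and_not_dvd
    (MvPolynomial.uniqueAlgEquiv k Unit T) hT'0 0
  rw [map_zero, sub_zero] at hq hqX
  refine ⟨q, fun h0 => hqX (Polynomial.X_dvd_iff.2 h0), ?_⟩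
  have hmem : Polynomial.aeval (MvPolynomial.X j : MvPolynomial σ k)
      (MvPolynomial.uniqueAlgEquiv k Unit T) ∈ I := by
    have : MvPolynomial.rename (fun _ : Unit => j) T ∈ I := hTI
    rw [hren] at this
    exact this
  rw [hq, map_mul, map_pow, Polynomial.aeval_X] at hmem
  rcases hI.mem_or_mem hmem with h1 | h1
  · exfalso
    have hX : MvPolynomial.X j ∈ I := hI.mem_of_pow_mem _ h1
    apply hI.ne_top
    rw [← ht0]
    exact (sup_eq_left.2 ((Ideal.span_singleton_le_iff_mem _).2 hX)).symm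
  · exact h1

end

end Groth.Agent.H77.TransC
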