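import Mathlib
import Groth.Agent.H77.TransC

/-!
# Generic translates are empty near finitely many closed points: the geometric argument
-/

namespace Groth.Agent.H77.TransD

universe u v

variable {k : Type u} [Field k] {r : ℕ}

theorem translate_empty (d N : ℕ) (I : Ideal (MvPolynomial (Fin r ⊕ (Unit ⊕ Fin d)) k))
    (F : MvPolynomial (Fin r) k)
    (hFI : MvPolynomial.rename (Sum.inl : Fin r → Fin r ⊕ (Unit ⊕ Fin d)) F ∈ I)
    (T₁ : Polynomial k) (hT₁ : T₁ ≠ 0)
    (hT₁I : Polynomial.aeval (MvPolynomial.X (Sum.inr (Sum.inl ())) :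
      MvPolynomial (Fin r ⊕ (Unit ⊕ Fin d)) k) T₁ ∈ I)
    (P : Ideal (MvPolynomial (Fin r) k)) (h : MvPolynomial (Fin r) k)
    (hh : ∀ (Ω : Type v) [CommRing Ω] [Algebra k Ω] (x0 : Fin r → Ω) (t0 : Ω) (γ : Fin r → Ω),
        (∀ p ∈ P, MvPolynomial.aeval x0 p = 0) → Polynomial.aeval t0 T₁ = 0 →
        MvPolynomial.aeval γ h ≠ 0 →
          MvPolynomial.aeval (fun i => x0 i + γ i * t0 ^ N) F ≠ 0)
    (K : Type v) [Field K] [Algebra k K] (g : Fin r → K) (hg : MvPolynomial.aeval g h ≠ 0) :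
    Ideal.comap (MvPolynomial.rename (Sum.inl : Fin r → Fin r ⊕ (Unit ⊕ Fin d)) :
              MvPolynomial (Fin r) K →ₐ[K] MvPolynomial (Fin r ⊕ (Unit ⊕ Fin d)) K)
            (Ideal.map (MvPolynomial.aeval
                (Sum.elim (fun i : Fin r => MvPolynomial.X (Sum.inl i) +
                    MvPolynomial.X (Sum.inr (Sum.inl ())) ^ N * MvPolynomial.C (g i))
                  (fun j : Unit ⊕ Fin d => MvPolynomial.X (Sum.inr j))) :
                MvPolynomial (Fin r ⊕ (Unit ⊕ Fin d)) k →ₐ[k]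
                  MvPolynomial (Fin r ⊕ (Unit ⊕ Fin d)) K) I) ⊔
            Ideal.map (MvPolynomial.map (algebraMap k K) :
              MvPolynomial (Fin r) k →+* MvPolynomial (Fin r) K) P = ⊤ := by
  classical
  by_contra hne
  obtain ⟨𝔫, h𝔫max, h𝔫⟩ := Ideal.exists_le_maximal _ hne
  haveI := h𝔫max
  set Φ : MvPolynomial (Fin r ⊕ (Unit ⊕ Fin d)) k →ₐ[k] MvPolynomial (Fin r ⊕ (Unit ⊕ Fin d)) K :=
    MvPolynomial.aeval
      (Sum.elim (fun i : Fin r => MvPolynomial.X (Sum.inl i) +
          MvPolynomial.X (Sum.inr (Sum.inl ())) ^ N * MvPolynomial.C (g i))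
        (fun j : Unit ⊕ Fin d => MvPolynomial.X (Sum.inr j))) with hΦ
  set IK : Ideal (MvPolynomial (Fin r ⊕ (Unit ⊕ Fin d)) K) := Ideal.map Φ I with hIK
  let θ : Polynomial (MvPolynomial (Fin r) K) →ₐ[K] MvPolynomial (Fin r ⊕ (Unit ⊕ Fin d)) K :=
    Polynomial.aevalTower (MvPolynomial.rename Sum.inl) (MvPolynomial.X (Sum.inr (Sum.inl ())))
  let I'' : Ideal (Polynomial (MvPolynomial (Fin r) K)) := Ideal.comap θ IK
  have hJ𝔫 : Ideal.comap (MvPolynomial.rename (Sum.inl : Fin r → Fin r ⊕ (Unit ⊕ Fin d)) :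
      MvPolynomial (Fin r) K →ₐ[K] MvPolynomial (Fin r ⊕ (Unit ⊕ Fin d)) K) IK ≤ 𝔫 :=
    le_trans le_sup_left h𝔫
  have hP𝔫 : Ideal.map (MvPolynomial.map (algebraMap k K) :
      MvPolynomial (Fin r) k →+* MvPolynomial (Fin r) K) P ≤ 𝔫 := le_trans le_sup_right h𝔫
  have hθC : ∀ a : MvPolynomial (Fin r) K, θ (Polynomial.C a) = MvPolynomial.rename Sum.inl a :=
    fun a => Polynomial.aevalTower_C _ _ a
  have hθX : θ Polynomial.X = MvPolynomial.X (Sum.inr (Sum.inl ())) :=
    Polynomial.aevalTower_X _ _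
  have hker : RingHom.ker (algebraMap (MvPolynomial (Fin r) K)
      (Polynomial (MvPolynomial (Fin r) K) ⧸ I'')) ≤ 𝔫 := by
    intro a ha
    apply hJ𝔫
    rw [RingHom.mem_ker] at ha
    have h1 : (Polynomial.C a) ∈ I'' := Ideal.Quotient.eq_zero_iff_mem.1 ha
    rw [Ideal.mem_comap, ← hθC]
    exact h1
  -- polynomials in `t` alone
  have hmem_k : ∀ G : Polynomial k,
      Polynomial.aeval (MvPolynomial.X (Sum.inr (Sum.inl ())) :
        MvPolynomial (Fin r ⊕ (Unit ⊕ Fin d)) k) G ∈ I →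
      Polynomial.aeval (Polynomial.X : Polynomial (MvPolynomial (Fin r) K)) G ∈ I'' := by
    intro G hG
    show θ (Polynomial.aeval Polynomial.X G) ∈ IK
    have e1 : θ (Polynomial.aeval Polynomial.X G) = Polynomial.aeval (θ Polynomial.X) G :=
      (Polynomial.aeval_algHom_apply (θ.restrictScalars k) Polynomial.X G).symm
    have e3 : Φ (Polynomial.aeval (MvPolynomial.X (Sum.inr (Sum.inl ()))) G) =
        Polynomial.aeval (Φ (MvPolynomial.X (Sum.inr (Sum.inl ())))) G :=
      (Polynomial.aeval_algHom_apply Φ _ G).symm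
    have e4 : Φ (MvPolynomial.X (Sum.inr (Sum.inl ()))) = MvPolynomial.X (Sum.inr (Sum.inl ())) := by
      simp [Φ]
    rw [e1, hθX, ← e4, ← e3]
    exact Ideal.mem_map_of_mem _ hG
  have hπI : ∀ y ∈ I'', Ideal.Quotient.mk I'' y = 0 :=
    fun y hy => Ideal.Quotient.eq_zero_iff_mem.2 hy
  have htbar : IsIntegral k (Ideal.Quotient.mk I'' Polynomial.X) := by
    refine ⟨T₁ * Polynomial.C T₁.leadingCoeff⁻¹, Polynomial.monic_mul_leadingCoeff_inv hT₁, ?_⟩
    rw [← Polynomial.aeval_def]
    have e : Polynomial.aeval (Ideal.Quotient.mk I'' Polynomial.X)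
        (T₁ * Polynomial.C T₁.leadingCoeff⁻¹) =
        Ideal.Quotient.mk I'' (Polynomial.aeval Polynomial.X (T₁ * Polynomial.C T₁.leadingCoeff⁻¹)) :=
      Polynomial.aeval_algHom_apply (Ideal.Quotient.mkₐ k I'') Polynomial.X _
    rw [e]
    apply hπI
    apply hmem_k
    rw [map_mul]
    exact I.mul_mem_right _ hT₁I
  haveI : Algebra.IsIntegral (MvPolynomial (Fin r) K)
      (Polynomial (MvPolynomial (Fin r) K) ⧸ I'') := ⟨fun z => by
    obtain ⟨p, rfl⟩ := Ideal.Quotient.mk_surjective z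
    induction p using Polynomial.induction_on with
    | C a => exact isIntegral_algebraMap (x := a)
    | add p q hp hq =>
      rw [map_add]
      exact IsIntegral.add (A := Polynomial (MvPolynomial (Fin r) K) ⧸ I'') hp hq
    | monomial n a _ =>
      rw [map_mul, map_pow]
      exact IsIntegral.mul (A := Polynomial (MvPolynomial (Fin r) K) ⧸ I'')
        (isIntegral_algebraMap (x := a))
        (IsIntegral.pow (B := Polynomial (MvPolynomial (Fin r) K) ⧸ I'') (htbar.tower_top) _)⟩
  obtain ⟨Q, hQmax, hQ⟩ := Ideal.exists_ideal_over_maximal_of_isIntegral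
    (S := Polynomial (MvPolynomial (Fin r) K) ⧸ I'') 𝔫 hker
  haveI : Nontrivial ((Polynomial (MvPolynomial (Fin r) K) ⧸ I'') ⧸ Q) :=
    Ideal.Quotient.nontrivial_iff.2 hQmax.ne_top
  let π : Polynomial (MvPolynomial (Fin r) K) →ₐ[K]
      ((Polynomial (MvPolynomial (Fin r) K) ⧸ I'') ⧸ Q) :=
    (Ideal.Quotient.mkₐ K Q).comp (Ideal.Quotient.mkₐ K I'')
  have hπ : ∀ y ∈ I'', π y = 0 := by
    intro y hy
    show Ideal.Quotient.mk Q (Ideal.Quotient.mk I'' y) = 0
    rw [hπI y hy, map_zero]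
  let x0 : Fin r → ((Polynomial (MvPolynomial (Fin r) K) ⧸ I'') ⧸ Q) :=
    fun i => π (Polynomial.C (MvPolynomial.X i))
  let γ : Fin r → ((Polynomial (MvPolynomial (Fin r) K) ⧸ I'') ⧸ Q) :=
    fun i => algebraMap K _ (g i)
  refine hh ((Polynomial (MvPolynomial (Fin r) K) ⧸ I'') ⧸ Q) x0 (π Polynomial.X) γ ?_ ?_ ?_ ?_
  · -- points of `P`
    intro p hp
    have h1 : MvPolynomial.map (algebraMap k K) p ∈ 𝔫 := hP𝔫 (Ideal.mem_map_of_mem _ hp)
    rw [← hQ, Ideal.mem_comap] at h1
    have h2 : π (Polynomial.C (MvPolynomial.map (algebraMap k K) p)) = 0 :=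
      Ideal.Quotient.eq_zero_iff_mem.2 h1
    rw [← MvPolynomial.aeval_map_algebraMap K x0 p]
    have h3 := MvPolynomial.comp_aeval_apply (π.comp Polynomial.CAlgHom)
      (f := (MvPolynomial.X : Fin r → MvPolynomial (Fin r) K)) (MvPolynomial.map (algebraMap k K) p)
    rw [MvPolynomial.aeval_X_left_apply] at h3
    rw [← h2]
    exact h3.symm
  · -- the `t`-coordinate
    have e : Polynomial.aeval (π Polynomial.X) T₁ = π (Polynomial.aeval Polynomial.X T₁) :=
      Polynomial.aeval_algHom_apply (π.restrictScalars k) Polynomial.X T₁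
    rw [e]
    exact hπ _ (hmem_k T₁ hT₁I)
  · -- `h(γ) ≠ 0`
    have e : MvPolynomial.aeval γ h = algebraMap K _ (MvPolynomial.aeval g h) :=
      MvPolynomial.aeval_algebraMap_apply _ g h
    rw [e]
    exact (map_ne_zero_iff _ (algebraMap K _).injective).2 hg
  · -- the translated equation
    have hG : MvPolynomial.aeval (fun i : Fin r =>
        (Polynomial.C (MvPolynomial.X i) + Polynomial.X ^ N * Polynomial.C (MvPolynomial.C (g i)) :
          Polynomial (MvPolynomial (Fin r) K))) F ∈ I'' := by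
      show θ _ ∈ IK
      have e1 := MvPolynomial.comp_aeval_apply (θ.restrictScalars k)
        (f := fun i : Fin r =>
        (Polynomial.C (MvPolynomial.X i) + Polynomial.X ^ N * Polynomial.C (MvPolynomial.C (g i)) :
          Polynomial (MvPolynomial (Fin r) K))) F
      have e2 : Φ (MvPolynomial.rename Sum.inl F) =
          MvPolynomial.aeval (fun i : Fin r => (MvPolynomial.X (Sum.inl i) +
            MvPolynomial.X (Sum.inr (Sum.inl ())) ^ N * MvPolynomial.C (g i) :
              MvPolynomial (Fin r ⊕ (Unit ⊕ Fin d)) K)) F := by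
        rw [hΦ, MvPolynomial.aeval_rename]
        rfl
      have e3 : (fun i : Fin r => (θ.restrictScalars k)
          (Polynomial.C (MvPolynomial.X i) + Polynomial.X ^ N * Polynomial.C (MvPolynomial.C (g i)))) =
          fun i : Fin r => (MvPolynomial.X (Sum.inl i) +
            MvPolynomial.X (Sum.inr (Sum.inl ())) ^ N * MvPolynomial.C (g i) :
              MvPolynomial (Fin r ⊕ (Unit ⊕ Fin d)) K) := by
        funext i
        show θ _ = _
        rw [map_add, map_mul, map_pow, hθC, hθC, hθX, MvPolynomial.rename_X, MvPolynomial.rename_C]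
      rw [e3] at e1
      have e4 : θ (MvPolynomial.aeval (fun i : Fin r =>
        (Polynomial.C (MvPolynomial.X i) + Polynomial.X ^ N * Polynomial.C (MvPolynomial.C (g i)) :
          Polynomial (MvPolynomial (Fin r) K))) F) = Φ (MvPolynomial.rename Sum.inl F) := by
        rw [e2]
        exact e1
      rw [e4]
      exact Ideal.mem_map_of_mem _ hFI
    have e1 := MvPolynomial.comp_aeval_apply (π.restrictScalars k)
        (f := fun i : Fin r =>
        (Polynomial.C (MvPolynomial.X i) + Polynomial.X ^ N * Polynomial.C (MvPolynomial.C (g i)) :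
          Polynomial (MvPolynomial (Fin r) K))) F
    have e3 : (fun i : Fin r => (π.restrictScalars k)
          (Polynomial.C (MvPolynomial.X i) + Polynomial.X ^ N * Polynomial.C (MvPolynomial.C (g i)))) =
          fun i => x0 i + γ i * π Polynomial.X ^ N := by
      funext i
      show π _ = _
      rw [map_add, map_mul, map_pow, mul_comm]
      have : π (Polynomial.C (MvPolynomial.C (g i))) = γ i := π.commutes (g i)
      rw [this]
    rw [e3] at e1
    rw [← e1]
    exact hπ _ hG

end Groth.Agent.H77.TransD
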