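import Groth.Agent.H77.MT1
import Groth.Prelude.Def_W4c5modbuncurvesppStab

set_option autoImplicit false

/-! Side sums on a finite tree determine a vertex weighting. -/

namespace Groth.Agent.H77.TreeSide

open Finset LabGraph Groth.Agent.H77.MT

universe u
variable {V E : Type u} [Fintype V] [Fintype E] [DecidableEq V] [DecidableEq E]
variable (ends : E → V × V)

theorem noEven_univ_of_isForest (h : DualGr.IsForest ends) : NoEven ends Finset.univ := by
  intro C _ hne
  by_contra hcon
  push Not at hcon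
  obtain ⟨C', -, hcirc⟩ := exists_circuit_subset ends C hne hcon
  exact h C' hcirc

theorem mem_side (e : E) (v : V) : v ∈ PhiStab.side ends e ↔
    Relation.ReflTransGen (LabGraph.Adj (PhiStab.spanEnds ends (Finset.univ.erase e)))
      (ends e).1 v := by
  classical
  unfold PhiStab.side
  exact ⟨fun h => (Finset.mem_filter.1 h).2, fun h => Finset.mem_filter.2 ⟨Finset.mem_univ _, h⟩⟩

theorem fst_mem_side (e : E) : (ends e).1 ∈ PhiStab.side ends e := by
  rw [mem_side]

theorem side_closed (e e' : E) (hne : e' ≠ e) :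
    (ends e').1 ∈ PhiStab.side ends e ↔ (ends e').2 ∈ PhiStab.side ends e := by
  rw [mem_side, mem_side]
  have hadj : LabGraph.Adj (PhiStab.spanEnds ends (Finset.univ.erase e)) (ends e').1 (ends e').2 :=
    ⟨⟨e', Finset.mem_erase.2 ⟨hne, Finset.mem_univ _⟩⟩, Or.inl rfl⟩
  have hadj' : LabGraph.Adj (PhiStab.spanEnds ends (Finset.univ.erase e)) (ends e').2 (ends e').1 :=
    ⟨⟨e', Finset.mem_erase.2 ⟨hne, Finset.mem_univ _⟩⟩, Or.inr rfl⟩
  exact ⟨fun h => h.tail hadj, fun h => h.tail hadj'⟩

theorem snd_notMem_side (h : DualGr.IsForest ends) (e : E) :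
    (ends e).2 ∉ PhiStab.side ends e := by
  intro hmem
  rw [mem_side] at hmem
  have hli := linearIndependent_of_noEven ends Finset.univ (noEven_univ_of_isForest ends h)
  have key : ∀ v, Relation.ReflTransGen
      (LabGraph.Adj (PhiStab.spanEnds ends (Finset.univ.erase e))) (ends e).1 v →
      (Pi.single (ends e).1 1 + Pi.single v 1 : V → ZMod 2) ∈ Submodule.span (ZMod 2)
        ((fun x : ↥(Finset.univ : Finset E) => inc ends x.1) '' {x | x.1 ≠ e}) := by
    intro v hv
    induction hv with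
    | refl =>
      have h0 : (Pi.single (ends e).1 1 + Pi.single (ends e).1 1 : V → ZMod 2) = 0 := by
        funext u
        simp only [Pi.add_apply, Pi.zero_apply]
        exact CharTwo.add_self_eq_zero _
      rw [h0]
      exact Submodule.zero_mem _
    | @tail b c _ hbc ih =>
      obtain ⟨⟨e', he'⟩, hends⟩ := hbc
      have hne : e' ≠ e := (Finset.mem_erase.1 he').1
      have hends' : ends e' = (b, c) ∨ ends e' = (c, b) := hends
      have hinc : inc ends e' = Pi.single b 1 + Pi.single c 1 := by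
        unfold inc
        rcases hends' with h1 | h1
        · rw [h1]
        · rw [h1, add_comm]
      have hmem' : inc ends e' ∈ Submodule.span (ZMod 2)
          ((fun x : ↥(Finset.univ : Finset E) => inc ends x.1) '' {x | x.1 ≠ e}) :=
        Submodule.subset_span ⟨⟨e', Finset.mem_univ _⟩, hne, rfl⟩
      have hsum : (Pi.single (ends e).1 1 + Pi.single c 1 : V → ZMod 2) =
          (Pi.single (ends e).1 1 + Pi.single b 1) + inc ends e' := by
        rw [hinc]
        funext u
        simp only [Pi.add_apply]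
        have h2 := CharTwo.add_self_eq_zero ((Pi.single b 1 : V → ZMod 2) u)
        linear_combination (-1 : ZMod 2) * h2
      rw [hsum]
      exact Submodule.add_mem _ ih hmem'
  have h1 := key _ hmem
  have hnot := hli.notMem_span_image (s := {x | x.1 ≠ e}) (x := ⟨e, Finset.mem_univ _⟩)
    (by simp)
  exact hnot h1

/-- real signed incidence. -/
def chiR (e : E) (v : V) : ℝ :=
  (if (ends e).2 = v then 1 else 0) - (if (ends e).1 = v then 1 else 0)

/-- real boundary. -/
def bd (γ : E → ℝ) (v : V) : ℝ := ∑ e, γ e * chiR ends e v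

theorem bd_zero (v : V) : bd ends 0 v = 0 := by
  unfold bd
  simp

theorem bd_add (γ γ' : E → ℝ) (v : V) : bd ends (γ + γ') v = bd ends γ v + bd ends γ' v := by
  unfold bd
  rw [← Finset.sum_add_distrib]
  refine Finset.sum_congr rfl fun e _ => ?_
  rw [Pi.add_apply]; ring

theorem bd_single (e : E) (t : ℝ) (v : V) : bd ends (Pi.single e t) v = t * chiR ends e v := by
  unfold bd
  rw [Finset.sum_eq_single e]
  · rw [Pi.single_eq_same]
  · intro e' _ hne
    rw [Pi.single_eq_of_ne hne, zero_mul]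
  · intro h; exact absurd (Finset.mem_univ e) h

theorem sum_chiR (e : E) : ∑ v, chiR ends e v = 0 := by
  unfold chiR
  rw [Finset.sum_sub_distrib, Finset.sum_ite_eq, Finset.sum_ite_eq]
  simp

theorem sum_bd (γ : E → ℝ) : ∑ v, bd ends γ v = 0 := by
  unfold bd
  rw [Finset.sum_comm]
  refine Finset.sum_eq_zero fun e _ => ?_
  rw [← Finset.mul_sum, sum_chiR, mul_zero]

theorem sum_side_chiR (h : DualGr.IsForest ends) (e e' : E) :
    ∑ v ∈ PhiStab.side ends e, chiR ends e' v = if e' = e then -1 else 0 := by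
  unfold chiR
  rw [Finset.sum_sub_distrib, Finset.sum_ite_eq, Finset.sum_ite_eq]
  by_cases hee : e' = e
  · subst hee
    rw [if_pos rfl, if_neg (snd_notMem_side ends h e'), if_pos (fst_mem_side ends e')]
    ring
  · rw [if_neg hee]
    by_cases h1 : (ends e').1 ∈ PhiStab.side ends e
    · rw [if_pos h1, if_pos ((side_closed ends e e' hee).1 h1)]; ring
    · rw [if_neg h1, if_neg (fun h2 => h1 ((side_closed ends e e' hee).2 h2))]; ring

theorem sum_side_bd (h : DualGr.IsForest ends) (e : E) (γ : E → ℝ) :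
    ∑ v ∈ PhiStab.side ends e, bd ends γ v = - γ e := by
  unfold bd
  rw [Finset.sum_comm]
  have : ∀ e' ∈ (Finset.univ : Finset E), ∑ v ∈ PhiStab.side ends e, γ e' * chiR ends e' v =
      if e' = e then - γ e' else 0 := by
    intro e' _
    rw [← Finset.mul_sum, sum_side_chiR ends h]
    split_ifs <;> ring
  rw [Finset.sum_congr rfl this, Finset.sum_ite_eq' Finset.univ e]
  simp

theorem exists_bd_eq (hc : LabGraph.Connected ends) (v₀ v : V) :
    ∃ γ : E → ℝ, ∀ u, bd ends γ u = (if u = v then 1 else 0) - (if u = v₀ then 1 else 0) := by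
  have hr := hc.2 v₀ v
  induction hr with
  | refl => exact ⟨0, fun u => by rw [bd_zero, sub_self]⟩
  | @tail b c _ hbc ih =>
    obtain ⟨γ, hγ⟩ := ih
    obtain ⟨e', hends⟩ := hbc
    rcases hends with h1 | h1
    · refine ⟨γ + Pi.single e' 1, fun u => ?_⟩
      rw [bd_add, hγ, bd_single]
      unfold chiR
      rw [h1]
      simp only [eq_comm (a := u)]
      ring
    · refine ⟨γ + Pi.single e' (-1), fun u => ?_⟩
      rw [bd_add, hγ, bd_single]
      unfold chiR
      rw [h1]
      simp only [eq_comm (a := u)]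
      ring

theorem exists_repr (hc : LabGraph.Connected ends) (v₀ : V) (φ : V → ℝ) :
    ∃ γ : E → ℝ, ∀ u, φ u = bd ends γ u + (∑ v, φ v) * (if u = v₀ then 1 else 0) := by
  choose g hg using exists_bd_eq ends hc v₀
  refine ⟨fun e => ∑ v, φ v * g v e, fun u => ?_⟩
  have h1 : bd ends (fun e => ∑ v, φ v * g v e) u = ∑ v, φ v * bd ends (g v) u := by
    unfold bd
    simp only [Finset.sum_mul, Finset.mul_sum]
    rw [Finset.sum_comm]
    refine Finset.sum_congr rfl fun v _ => Finset.sum_congr rfl fun e _ => ?_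
    ring
  rw [h1]
  simp only [hg, mul_sub, Finset.sum_sub_distrib, mul_ite, mul_one, mul_zero]
  rw [Finset.sum_ite_eq Finset.univ u, if_pos (Finset.mem_univ _)]
  by_cases hu : u = v₀
  · simp [hu]
  · simp [hu]

theorem side_sum_of_repr (h : DualGr.IsForest ends) (γ : E → ℝ) (t : ℝ) (v₀ : V) (φ : V → ℝ)
    (hφ : ∀ u, φ u = bd ends γ u + t * (if u = v₀ then 1 else 0)) (e : E) :
    ∑ v ∈ PhiStab.side ends e, φ v = - γ e + t * (if v₀ ∈ PhiStab.side ends e then 1 else 0) := by
  simp only [hφ]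
  rw [Finset.sum_add_distrib, sum_side_bd ends h, ← Finset.mul_sum]
  congr 2
  rw [Finset.sum_ite_eq' (PhiStab.side ends e) v₀]

theorem total_of_repr (γ : E → ℝ) (t : ℝ) (v₀ : V) (φ : V → ℝ)
    (hφ : ∀ u, φ u = bd ends γ u + t * (if u = v₀ then 1 else 0)) :
    ∑ v, φ v = t := by
  simp only [hφ]
  rw [Finset.sum_add_distrib, sum_bd, ← Finset.mul_sum, Finset.sum_ite_eq' Finset.univ v₀]
  simp

theorem main (hT : DualGr.IsTree ends) (c : E → ℝ) (c₀ : ℝ) :
    ∃! φ : V → ℝ, (∀ e : E, (∑ v ∈ PhiStab.side ends e, φ v) = c e) ∧ (∑ v : V, φ v) = c₀ := by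
  obtain ⟨hc, hf⟩ := hT
  obtain ⟨v₀⟩ := hc.1
  set γ : E → ℝ := fun e => c₀ * (if v₀ ∈ PhiStab.side ends e then 1 else 0) - c e with hγ
  refine ⟨fun u => bd ends γ u + c₀ * (if u = v₀ then 1 else 0), ⟨fun e => ?_, ?_⟩, ?_⟩
  · rw [side_sum_of_repr ends hf γ c₀ v₀ _ (fun u => rfl) e, hγ]
    ring
  · exact total_of_repr ends γ c₀ v₀ _ (fun u => rfl)
  · rintro φ' ⟨h1, h2⟩
    obtain ⟨γ', hγ'⟩ := exists_repr ends hc v₀ φ'
    rw [h2] at hγ'
    have hγeq : γ' = γ := by
      funext e
      have := side_sum_of_repr ends hf γ' c₀ v₀ φ' hγ' e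
      rw [h1 e] at this
      rw [hγ]
      linarith
    funext u
    rw [hγ' u, hγeq]

end Groth.Agent.H77.TreeSide
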