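import Groth.Agent.H77.TreeSide

set_option autoImplicit false

/-! Side sums on a finite tree determine a vertex weighting: version over a commutative ring. -/

namespace Groth.Agent.H77.TreeSide2

open Finset LabGraph Groth.Agent.H77.MT Groth.Agent.H77.TreeSide

universe u w
variable {V E : Type u} [Fintype V] [Fintype E] [DecidableEq V] [DecidableEq E]
variable (ends : E → V × V)
variable (R : Type w) [CommRing R]

/-- signed incidence. -/
def chiR (e : E) (v : V) : R :=
  (if (ends e).2 = v then 1 else 0) - (if (ends e).1 = v then 1 else 0)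

/-- boundary. -/
def bd (γ : E → R) (v : V) : R := ∑ e, γ e * chiR ends R e v

theorem bd_zero (v : V) : bd ends R 0 v = 0 := by
  unfold bd
  simp

theorem bd_add (γ γ' : E → R) (v : V) : bd ends R (γ + γ') v = bd ends R γ v + bd ends R γ' v := by
  unfold bd
  rw [← Finset.sum_add_distrib]
  refine Finset.sum_congr rfl fun e _ => ?_
  rw [Pi.add_apply]; ring

theorem bd_single (e : E) (t : R) (v : V) :
    bd ends R (Pi.single e t) v = t * chiR ends R e v := by
  unfold bd
  rw [Finset.sum_eq_single e]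
  · rw [Pi.single_eq_same]
  · intro e' _ hne
    rw [Pi.single_eq_of_ne hne, zero_mul]
  · intro h; exact absurd (Finset.mem_univ e) h

theorem sum_chiR (e : E) : ∑ v, chiR ends R e v = 0 := by
  unfold chiR
  rw [Finset.sum_sub_distrib, Finset.sum_ite_eq, Finset.sum_ite_eq]
  simp

theorem sum_bd (γ : E → R) : ∑ v, bd ends R γ v = 0 := by
  unfold bd
  rw [Finset.sum_comm]
  refine Finset.sum_eq_zero fun e _ => ?_
  rw [← Finset.mul_sum, sum_chiR, mul_zero]

theorem sum_side_chiR (h : DualGr.IsForest ends) (e e' : E) :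
    ∑ v ∈ PhiStab.side ends e, chiR ends R e' v = if e' = e then -1 else 0 := by
  unfold chiR
  rw [Finset.sum_sub_distrib, Finset.sum_ite_eq, Finset.sum_ite_eq]
  by_cases hee : e' = e
  · subst hee
    rw [if_pos rfl, if_neg (snd_notMem_side ends h e'), if_pos (fst_mem_side ends e')]
    ring
  · rw [if_neg hee]
    by_cases h1 : (ends e').1 ∈ PhiStab.side ends e
    · rw [if_pos h1, if_pos ((side_closed ends e e' hee).1 h1)]; ring
    · rw [if_neg h1, if_neg (fun h2 => h1 ((side_closed ends e e' hee).2 h2))]; ring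

theorem sum_side_bd (h : DualGr.IsForest ends) (e : E) (γ : E → R) :
    ∑ v ∈ PhiStab.side ends e, bd ends R γ v = - γ e := by
  unfold bd
  rw [Finset.sum_comm]
  have : ∀ e' ∈ (Finset.univ : Finset E),
      ∑ v ∈ PhiStab.side ends e, γ e' * chiR ends R e' v = if e' = e then - γ e' else 0 := by
    intro e' _
    rw [← Finset.mul_sum, sum_side_chiR ends R h]
    split_ifs <;> ring
  rw [Finset.sum_congr rfl this, Finset.sum_ite_eq' Finset.univ e]
  simp

theorem exists_bd_eq (hc : LabGraph.Connected ends) (v₀ v : V) :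
    ∃ γ : E → R, ∀ u, bd ends R γ u = (if u = v then 1 else 0) - (if u = v₀ then 1 else 0) := by
  have hr := hc.2 v₀ v
  induction hr with
  | refl => exact ⟨0, fun u => by rw [bd_zero, sub_self]⟩
  | @tail b c _ hbc ih =>
    obtain ⟨γ, hγ⟩ := ih
    obtain ⟨e', hends⟩ := hbc
    rcases hends with h1 | h1
    · refine ⟨γ + Pi.single e' 1, fun u => ?_⟩
      rw [bd_add, hγ, bd_single]
      unfold chiR
      rw [h1]
      simp only [eq_comm (a := u)]
      ring
    · refine ⟨γ + Pi.single e' (-1), fun u => ?_⟩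
      rw [bd_add, hγ, bd_single]
      unfold chiR
      rw [h1]
      simp only [eq_comm (a := u)]
      ring

theorem exists_repr (hc : LabGraph.Connected ends) (v₀ : V) (φ : V → R) :
    ∃ γ : E → R, ∀ u, φ u = bd ends R γ u + (∑ v, φ v) * (if u = v₀ then 1 else 0) := by
  choose g hg using exists_bd_eq ends R hc v₀
  refine ⟨fun e => ∑ v, φ v * g v e, fun u => ?_⟩
  have h1 : bd ends R (fun e => ∑ v, φ v * g v e) u = ∑ v, φ v * bd ends R (g v) u := by
    unfold bd
    simp only [Finset.sum_mul, Finset.mul_sum]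
    rw [Finset.sum_comm]
    refine Finset.sum_congr rfl fun v _ => Finset.sum_congr rfl fun e _ => ?_
    ring
  rw [h1]
  simp only [hg, mul_sub, Finset.sum_sub_distrib, mul_ite, mul_one, mul_zero]
  rw [Finset.sum_ite_eq Finset.univ u, if_pos (Finset.mem_univ _)]
  by_cases hu : u = v₀
  · simp [hu]
  · simp [hu]

theorem side_sum_of_repr (h : DualGr.IsForest ends) (γ : E → R) (t : R) (v₀ : V) (φ : V → R)
    (hφ : ∀ u, φ u = bd ends R γ u + t * (if u = v₀ then 1 else 0)) (e : E) :
    ∑ v ∈ PhiStab.side ends e, φ v =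
      - γ e + t * (if v₀ ∈ PhiStab.side ends e then 1 else 0) := by
  simp only [hφ]
  rw [Finset.sum_add_distrib, sum_side_bd ends R h, ← Finset.mul_sum]
  congr 2
  rw [Finset.sum_ite_eq' (PhiStab.side ends e) v₀]

theorem total_of_repr (γ : E → R) (t : R) (v₀ : V) (φ : V → R)
    (hφ : ∀ u, φ u = bd ends R γ u + t * (if u = v₀ then 1 else 0)) :
    ∑ v, φ v = t := by
  simp only [hφ]
  rw [Finset.sum_add_distrib, sum_bd, ← Finset.mul_sum, Finset.sum_ite_eq' Finset.univ v₀]
  simp

theorem main (hT : DualGr.IsTree ends) (c : E → R) (c₀ : R) :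
    ∃! φ : V → R, (∀ e : E, (∑ v ∈ PhiStab.side ends e, φ v) = c e) ∧ (∑ v : V, φ v) = c₀ := by
  obtain ⟨hc, hf⟩ := hT
  obtain ⟨v₀⟩ := hc.1
  set γ : E → R := fun e => c₀ * (if v₀ ∈ PhiStab.side ends e then 1 else 0) - c e with hγ
  refine ⟨fun u => bd ends R γ u + c₀ * (if u = v₀ then 1 else 0), ⟨fun e => ?_, ?_⟩, ?_⟩
  · rw [side_sum_of_repr ends R hf γ c₀ v₀ _ (fun u => rfl) e, hγ]
    ring
  · exact total_of_repr ends R γ c₀ v₀ _ (fun u => rfl)
  · rintro φ' ⟨h1, h2⟩
    obtain ⟨γ', hγ'⟩ := exists_repr ends R hc v₀ φ'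
    rw [h2] at hγ'
    have hγeq : γ' = γ := by
      funext e
      have := side_sum_of_repr ends R hf γ' c₀ v₀ φ' hγ' e
      rw [h1 e] at this
      rw [hγ]
      linear_combination this
    funext u
    rw [hγ' u, hγeq]

end Groth.Agent.H77.TreeSide2
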