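import Mathlib
import Groth.Prelude.Def_W4c5m1nsnscurvesI
import Groth.Prelude.Def_W4c5m1nsnscurvesC
import Groth.Agent.H77.GrBasis
import Groth.Agent.S18252

/-!
# The grading of the coordinate ring of `U_n`: auxiliary facts
-/

set_option autoImplicit false

namespace Groth.Agent.H77.UHilb

open MvPolynomial W4c5m1nsnscurves Groth.Agent.H77.GrBasis

variable (m : ℕ)

/-- the weighted grading of the polynomial ring -/
noncomputable abbrev WH : ℕ → Submodule ℤ (MvPolynomial (UGen m) ℤ) :=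
  weightedHomogeneousSubmodule ℤ (uwt (m := m))

lemma upiece_eq (d : ℕ) :
    upiece ℤ m d = GrQuot.quot (WH m) (Ideal.span (URel ℤ m)) d := rfl

lemma ugen_mem (g : UGen m) : ugen ℤ m g ∈ upiece ℤ m (uwt g) := by
  rw [upiece_eq]
  exact GrQuot.mk_mem_quot _ _
    ((mem_weightedHomogeneousSubmodule ℤ uwt _ _).2 (isWeightedHomogeneous_X ℤ uwt g))

lemma one_mem : (1 : URing ℤ m) ∈ upiece ℤ m 0 := by
  rw [upiece_eq]
  haveI : SetLike.GradedMonoid (WH m) := WeightedHomogeneousSubmodule.gradedMonoid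
  exact SetLike.one_mem_graded _

lemma mul_mem {a b : ℕ} {x y : URing ℤ m} (hx : x ∈ upiece ℤ m a) (hy : y ∈ upiece ℤ m b) :
    x * y ∈ upiece ℤ m (a + b) := by
  rw [upiece_eq] at *
  haveI : SetLike.GradedMonoid (WH m) := WeightedHomogeneousSubmodule.gradedMonoid
  exact SetLike.mul_mem_graded hx hy

lemma pow_mem {a : ℕ} {x : URing ℤ m} (hx : x ∈ upiece ℤ m a) (n : ℕ) :
    x ^ n ∈ upiece ℤ m (n * a) := by
  induction n with
  | zero => rw [pow_zero, Nat.zero_mul]; exact one_mem m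
  | succ n ih =>
    rw [pow_succ, Nat.succ_mul]
    exact mul_mem m ih hx

set_option maxHeartbeats 400000 in
lemma rel_homog : ∀ p ∈ URel ℤ m, SetLike.IsHomogeneousElem (WH m) p := by
  intro p hp
  have hX1 : ∀ g : UGen m, uwt g = 1 → (X g : MvPolynomial (UGen m) ℤ) ∈ WH m 1 := by
    intro g hg
    rw [← hg]
    exact (mem_weightedHomogeneousSubmodule ℤ uwt _ _).2 (isWeightedHomogeneous_X ℤ uwt g)
  have hX2 : ∀ g : UGen m, uwt g = 2 → (X g : MvPolynomial (UGen m) ℤ) ∈ WH m 2 := by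
    intro g hg
    rw [← hg]
    exact (mem_weightedHomogeneousSubmodule ℤ uwt _ _).2 (isWeightedHomogeneous_X ℤ uwt g)
  haveI : SetLike.GradedMonoid (WH m) := WeightedHomogeneousSubmodule.gradedMonoid
  have hmul : ∀ x y : MvPolynomial (UGen m) ℤ, x ∈ WH m 1 → y ∈ WH m 1 → x * y ∈ WH m 2 :=
    fun x y hx hy => SetLike.mul_mem_graded (A := WH m) (i := 1) (j := 1) hx hy
  simp only [URel, Set.mem_union, Set.mem_range] at hp
  rcases hp with ((⟨⟨⟨i, j⟩, h⟩, rfl⟩ | ⟨⟨⟨i, j⟩, h⟩, rfl⟩) | ⟨⟨⟨i, j⟩, h⟩, rfl⟩) |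
    ⟨⟨⟨i, j, k⟩, h⟩, rfl⟩
  · refine ⟨1, ?_⟩
    dsimp only
    have a1 := hX1 (.cij i j h) rfl
    have a2 := hX1 (.cij j i (Ne.symm h)) rfl
    have a3 := hX1 .a rfl
    have a4 := hX1 (.ci i) rfl
    have a5 := hX1 (.cbi i) rfl
    have a6 := hX1 (.ci j) rfl
    have a7 := hX1 (.cbi j) rfl
    exact Submodule.sub_mem _ (Submodule.add_mem _ a1 a2)
      (Submodule.add_mem _ (Submodule.add_mem _ (Submodule.add_mem _ (Submodule.add_mem _ a3 a4)
        a5) a6) a7)
  · refine ⟨2, ?_⟩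
    dsimp only
    have a1 := hmul _ _ (hX1 (.cij j i (Ne.symm h)) rfl) (hX1 (.ci j) rfl)
    have a2 := hmul _ _ (hX1 (.cij i j h) rfl) (hX1 (.ci i) rfl)
    have a3 := hmul _ _ (hX1 (.ci i) rfl) (hX1 (.ci j) rfl)
    have a4 := hX2 .c rfl
    exact Submodule.sub_mem _ (Submodule.sub_mem _ (Submodule.add_mem _ a1 a2) a3) a4
  · refine ⟨2, ?_⟩
    dsimp only
    have a1 := hmul _ _ (hX1 (.cij j i (Ne.symm h)) rfl) (hX1 (.cbi i) rfl)
    have a2 := hmul _ _ (hX1 (.cij i j h) rfl) (hX1 (.cbi j) rfl)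
    have a3 := hmul _ _ (hX1 (.cbi i) rfl) (hX1 (.cbi j) rfl)
    have a4 := hX2 .cb rfl
    exact Submodule.sub_mem _ (Submodule.sub_mem _ (Submodule.add_mem _ a1 a2) a3) a4
  · refine ⟨2, ?_⟩
    dsimp only
    have a1 := hmul _ _ (hX1 (.cij i j h.1) rfl) (hX1 (.cij j k h.2.1) rfl)
    have a2 := hmul _ _ (hX1 (.cij j i (Ne.symm h.1)) rfl) (hX1 (.cij i k h.2.2) rfl)
    have a3 := hmul _ _ (hX1 (.cij i k h.2.2) rfl) (hX1 (.cij j k h.2.1) rfl)
    have a4 := hmul _ _ (Submodule.add_mem _ (Submodule.add_mem _ (hX1 .a rfl) (hX1 (.ci k) rfl))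
      (hX1 (.cbi k) rfl)) (hX1 (.ci k) rfl)
    have a5 := hX2 .c rfl
    exact Submodule.sub_mem _ (Submodule.add_mem _ (Submodule.sub_mem _ (Submodule.add_mem _ a1 a2)
      a3) a4) a5

theorem isInternal : DirectSum.IsInternal (upiece ℤ m) := by
  classical
  letI : GradedAlgebra (WH m) := weightedGradedAlgebra ℤ (uwt (m := m))
  haveI : GrQuot.IsHomog (WH m) (Ideal.span (URel ℤ m)) :=
    (GrQuot.isHomog_iff _ _).2 (Ideal.homogeneous_span _ _ (rel_homog m))
  exact (GrQuot.decomposition (WH m) (Ideal.span (URel ℤ m))).isInternal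

lemma uwt_castSucc (g : UGen m) : uwt (UGen.castSucc g) = uwt g := by
  cases g <;> rfl

lemma rename_mem {d : ℕ} {p : MvPolynomial (UGen m) ℤ} (hp : p ∈ WH m d) :
    rename UGen.castSucc p ∈ WH (m + 1) d := by
  rw [mem_weightedHomogeneousSubmodule] at hp ⊢
  rw [p.as_sum, map_sum]
  refine IsWeightedHomogeneous.sum _ _ _ fun u hu => ?_
  rw [rename_monomial]
  refine isWeightedHomogeneous_monomial _ _ _ ?_
  have hw : Finsupp.weight (uwt (m := m + 1)) (Finsupp.mapDomain UGen.castSucc u)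
      = Finsupp.weight (uwt (m := m)) u := by
    rw [Finsupp.weight_apply, Finsupp.weight_apply,
      Finsupp.sum_mapDomain_index (by intro; simp) (by intro a b c; simp [add_mul])]
    exact Finsupp.sum_congr fun g _ => by rw [uwt_castSucc]
  rw [hw]
  exact hp (mem_support_iff.1 hu)

lemma uincl_mem {d : ℕ} {x : URing ℤ m} (hx : x ∈ upiece ℤ m d) :
    uincl ℤ m x ∈ upiece ℤ (m + 1) d := by
  rw [upiece_eq] at *
  obtain ⟨p, hp, rfl⟩ := (GrQuot.mem_quot_iff _ _ _ _).1 hx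
  have : uincl ℤ m (Ideal.Quotient.mk _ p)
      = Ideal.Quotient.mk (Ideal.span (URel ℤ (m + 1))) (rename UGen.castSucc p) := rfl
  rw [this]
  exact GrQuot.mk_mem_quot _ _ (rename_mem m hp)

/-- the tautological assignment satisfies the relations -/
lemma hU : ∀ p ∈ URel (URing ℤ m) m, MvPolynomial.eval (ugen ℤ m) p = 0 := by
  intro p hp
  simp only [URel, Set.mem_union, Set.mem_range] at hp
  rcases hp with ((⟨q, rfl⟩ | ⟨q, rfl⟩) | ⟨q, rfl⟩) | ⟨q, rfl⟩
  · simp only [map_sub, map_add, eval_X]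
    rw [sub_eq_zero]
    exact Groth.Agent.S18252.rel_lin ℤ m _ _ q.2
  · simp only [map_sub, map_add, map_mul, eval_X]
    rw [Groth.Agent.S18252.rel_c ℤ m _ _ q.2]; ring
  · simp only [map_sub, map_add, map_mul, eval_X]
    rw [Groth.Agent.S18252.rel_cb ℤ m _ _ q.2]; ring
  · simp only [map_sub, map_add, map_mul, eval_X]
    rw [sub_eq_zero]
    exact Groth.Agent.S18252.rel_cub ℤ m _ _ _ q.2.1 q.2.2.1 q.2.2.2

/-! ### the index set of `cmon` and its counting series -/

/-- degrees of the basis monomials -/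
def degIdx : Option (ℕ ⊕ (CVar m × ℕ)) → ℕ
  | none => 0
  | some (Sum.inl k) => k + 2
  | some (Sum.inr (_, k)) => k + 1

/-- `CVar m` has `m + 2` elements -/
def cvarEquiv : CVar m ≃ Option (Option (Fin m)) where
  toFun
    | .x2 => none
    | .x3 => some none
    | .xi i => some (some i)
  invFun
    | none => .x2
    | some none => .x3
    | some (some i) => .xi i
  left_inv x := by cases x <;> rfl
  right_inv x := by rcases x with _ | _ | i <;> rfl

noncomputable instance : Fintype (CVar m) := Fintype.ofEquiv _ (cvarEquiv m).symm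

lemma card_cvar : Fintype.card (CVar m) = m + 2 := by
  rw [Fintype.card_congr (cvarEquiv m), Fintype.card_option, Fintype.card_option, Fintype.card_fin]

/-- auxiliary degree function on the reindexed type -/
def degAux : (ℕ ⊕ (CVar m × ℕ)) ⊕ PUnit.{1} → ℕ :=
  Sum.elim (Sum.elim (fun k : ℕ => k + 2) (fun p : CVar m × ℕ => (fun _ : CVar m => 0) p.1
    + (fun k : ℕ => k + 1) p.2)) (fun _ => 0)

lemma degIdx_eq : degIdx m = degAux m ∘ (Equiv.optionEquivSumPUnit _) := by
  funext idx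
  rcases idx with _ | k | ⟨y, k⟩
  · rfl
  · rfl
  · simp [degIdx, degAux]

lemma finite_degAux : ∀ d, Finite {s // degAux m s = d} := by
  apply finite_sum
  · apply finite_sum
    · exact finite_nat_add 2
    · exact finite_prod _ _ (finite_const_zero (CVar m)) (finite_nat_add 1)
  · exact finite_const_zero PUnit

lemma finite_degIdx : ∀ d, Finite {idx // degIdx m idx = d} := by
  rw [degIdx_eq]
  exact finite_congr _ _ (finite_degAux m)

lemma hs_degIdx : hs (degIdx m) = 1 + (PowerSeries.X : PowerSeries ℤ) ^ 2 * PowerSeries.mk 1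
    + PowerSeries.C ((m : ℤ) + 2) * (PowerSeries.X * PowerSeries.mk 1) := by
  rw [degIdx_eq, hs_congr, degAux]
  rw [hs_sum _ _ (finite_sum _ _ (finite_nat_add 2)
      (finite_prod _ _ (finite_const_zero (CVar m)) (finite_nat_add 1)))
      (finite_const_zero PUnit),
    hs_sum _ _ (finite_nat_add 2)
      (finite_prod _ _ (finite_const_zero (CVar m)) (finite_nat_add 1)),
    hs_prod _ _ (finite_const_zero (CVar m)) (finite_nat_add 1),
    hs_nat_add, hs_nat_add, hs_const_zero, hs_const_zero, card_cvar]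
  simp only [Fintype.card_unique, Nat.cast_one, map_one, pow_one, Nat.cast_add, Nat.cast_ofNat]
  ring

lemma uhilb_succ (hm : 2 ≤ m) : uhilb (m + 1) = uhilb m * hs (degIdx m) := by
  rw [hs_degIdx]
  unfold uhilb
  have h1 : (PowerSeries.mk fun _ => (1 : ℤ)) * (1 - PowerSeries.X) = 1 := by
    exact PowerSeries.mk_one_mul_one_sub_eq_one ℤ
  rw [Finset.prod_Icc_succ_top (by omega : 3 ≤ m + 1)]
  have e : (1 : PowerSeries ℤ) + PowerSeries.X ^ 2 * PowerSeries.mk 1
        + PowerSeries.C ((m : ℤ) + 2) * (PowerSeries.X * PowerSeries.mk 1)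
      = (PowerSeries.mk fun _ => (1 : ℤ)) * (1 + PowerSeries.C (((m + 1 : ℕ) : ℤ)) * PowerSeries.X
        + PowerSeries.X ^ 2) := by
    have hC : (PowerSeries.C (((m + 1 : ℕ) : ℤ)) : PowerSeries ℤ)
        = PowerSeries.C ((m : ℤ) + 2) - 1 := by
      rw [show ((m + 1 : ℕ) : ℤ) = ((m : ℤ) + 2) - 1 by push_cast; ring, map_sub, map_one]
    rw [hC]
    have hmk : (PowerSeries.mk 1 : PowerSeries ℤ) = PowerSeries.mk fun _ => (1 : ℤ) := rfl
    rw [hmk]
    linear_combination (-(1 : PowerSeries ℤ)) * h1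
  rw [e]
  ring

end Groth.Agent.H77.UHilb
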