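import Mathlib
import Groth.Prelude.Def_W4c5m1nsnscurvesI
import Groth.Prelude.Def_W4c5m1nsnscurvesC
import Groth.Agent.H77.UHilbA
import Groth.Agent.S18246
import Groth.Agent.S18247
import Groth.Agent.S18252

/-!
# The coordinate ring of `U_n` is free with the expected Hilbert series
-/

set_option autoImplicit false

namespace Groth.Agent.H77.UHilb

open MvPolynomial W4c5m1nsnscurves Groth.Agent.H77.GrBasis

/-- a homogeneous basis with the expected counting series -/
structure GB (m : ℕ) where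
  ι : Type
  deg : ι → ℕ
  fin : ∀ d, Finite {i // deg i = d}
  b : Module.Basis ι ℤ (URing ℤ m)
  hb : ∀ i, b i ∈ upiece ℤ m (deg i)
  hser : hs deg = uhilb m

/-! ### the base case `m = 2` -/

/-- the six free generators -/
noncomputable def f2 : Fin 6 → URing ℤ 2 :=
  ![ugen ℤ 2 .a, ugen ℤ 2 (.ci 0), ugen ℤ 2 (.cbi 0), ugen ℤ 2 (.ci 1), ugen ℤ 2 (.cbi 1),
    ugen ℤ 2 (.cij 0 1 Fin.zero_ne_one)]

lemma f2_mem (j : Fin 6) : f2 j ∈ upiece ℤ 2 1 := by
  fin_cases j
  · exact ugen_mem 2 .a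
  · exact ugen_mem 2 (.ci 0)
  · exact ugen_mem 2 (.cbi 0)
  · exact ugen_mem 2 (.ci 1)
  · exact ugen_mem 2 (.cbi 1)
  · exact ugen_mem 2 (.cij 0 1 Fin.zero_ne_one)

lemma bij2 : Function.Bijective (MvPolynomial.aeval (R := ℤ) (S₁ := URing ℤ 2) f2) :=
  Groth.Agent.S18247.result

lemma aeval_monomial_mem (u : Fin 6 →₀ ℕ) :
    MvPolynomial.aeval (R := ℤ) (S₁ := URing ℤ 2) f2 (monomial u 1) ∈ upiece ℤ 2 (Finsupp.degree u) := by
  rw [aeval_monomial, map_one, one_mul, Finsupp.prod, Finsupp.degree_apply]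
  haveI : SetLike.GradedMonoid (WH 2) := WeightedHomogeneousSubmodule.gradedMonoid
  haveI : SetLike.GradedMonoid (upiece ℤ 2) :=
    GrQuot.gradedMonoid (WH 2) (Ideal.span (URel ℤ 2))
  have := SetLike.prod_pow_mem_graded (A := upiece ℤ 2) (i := fun _ : Fin 6 => 1) (g := f2)
    (F := u.support) (n := fun j => u j) (fun k _ => f2_mem k)
  simpa using this

lemma hs_degree6 : hs (fun u : Fin 6 →₀ ℕ => Finsupp.degree u) = uhilb 2 := by
  classical
  have hu : uhilb 2 = (PowerSeries.mk 1 : PowerSeries ℤ) ^ (5 + 1) := by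
    unfold uhilb
    rw [Finset.Icc_eq_empty (by norm_num), Finset.prod_empty, mul_one]
    rfl
  rw [hu, PowerSeries.mk_one_pow_eq_mk_choose_add]
  ext d
  rw [coeff_hs, PowerSeries.coeff_mk]
  have e : {u : Fin 6 →₀ ℕ // Finsupp.degree u = d}
      ≃ {u : Fin 6 →₀ ℕ // u ∈ (Finset.univ : Finset (Fin 6)).finsuppAntidiag d} := by
    refine Equiv.subtypeEquivRight fun u => ?_
    rw [Finset.mem_finsuppAntidiag, Finsupp.degree_eq_sum]
    simp
  rw [Nat.card_congr e, Nat.card_eq_fintype_card, Fintype.card_coe,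
    Finset.card_finsuppAntidiag_nat_eq_choose]
  simp only [Finset.card_univ, Fintype.card_fin]
  have : (6 + d - 1).choose d = (5 + d).choose 5 := by
    rw [show 6 + d - 1 = 5 + d by omega, Nat.choose_symm_add]
  rw [this]

lemma finite_degree6 : ∀ d, Finite {u : Fin 6 →₀ ℕ // Finsupp.degree u = d} := by
  classical
  intro d
  have e : {u : Fin 6 →₀ ℕ // Finsupp.degree u = d}
      ≃ {u : Fin 6 →₀ ℕ // u ∈ (Finset.univ : Finset (Fin 6)).finsuppAntidiag d} := by
    refine Equiv.subtypeEquivRight fun u => ?_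
    rw [Finset.mem_finsuppAntidiag, Finsupp.degree_eq_sum]
    simp
  exact Finite.of_equiv _ e.symm

/-- the base case -/
noncomputable def gb2 : GB 2 where
  ι := Fin 6 →₀ ℕ
  deg := fun u => Finsupp.degree u
  fin := finite_degree6
  b := (basisMonomials (Fin 6) ℤ).map (AlgEquiv.ofBijective _ bij2).toLinearEquiv
  hb := by
    intro u
    rw [Module.Basis.map_apply, coe_basisMonomials]
    exact aeval_monomial_mem u
  hser := hs_degree6

/-! ### the inductive step -/

section step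

variable (m : ℕ) (hm : 2 ≤ m)

local notation "S" => URing ℤ m
local notation "A" => CurveAlg (URing ℤ m) m (ugen ℤ m)
local notation "Idx" => Option (ℕ ⊕ (CVar m × ℕ))

include hm in
lemma cmon_basis_data :
    LinearIndependent S (cmon S m (ugen ℤ m)) ∧
      Submodule.span S (Set.range (cmon S m (ugen ℤ m))) = ⊤ :=
  (Groth.Agent.S18246.result S m (by omega) (ugen ℤ m)).2 (hU m)

/-- the basis `cmon` of the universal curve algebra -/
noncomputable def cB : Module.Basis Idx S A :=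
  Module.Basis.mk (cmon_basis_data m hm).1 (cmon_basis_data m hm).2.ge

lemma cB_apply (idx : Idx) : cB m hm idx = cmon S m (ugen ℤ m) idx := by
  rw [cB, Module.Basis.mk_apply]

/-- the isomorphism of helper85 -/
noncomputable def eR : A ≃+* URing ℤ (m + 1) :=
  (Groth.Agent.S18252.result ℤ m (le_trans (by norm_num : 1 ≤ 2) hm)).choose

lemma eR_spec :
    (∀ r : S, eR m hm (algebraMap S A r) = uincl ℤ m r) ∧
    eR m hm (Ideal.Quotient.mk (Ideal.span (CRel S m (ugen ℤ m))) (X CVar.x2))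
      = ugen ℤ (m + 1) (.ci (Fin.last m)) ∧
    eR m hm (Ideal.Quotient.mk (Ideal.span (CRel S m (ugen ℤ m))) (X CVar.x3))
      = ugen ℤ (m + 1) .a + ugen ℤ (m + 1) (.ci (Fin.last m))
        + ugen ℤ (m + 1) (.cbi (Fin.last m)) ∧
    ∀ i : Fin m, eR m hm (Ideal.Quotient.mk (Ideal.span (CRel S m (ugen ℤ m))) (X (CVar.xi i)))
      = ugen ℤ (m + 1) (.cij i.castSucc (Fin.last m) (Fin.castSucc_lt_last i).ne) :=
  (Groth.Agent.S18252.result ℤ m (le_trans (by norm_num : 1 ≤ 2) hm)).choose_spec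

lemma eR_cmon_mem (idx : Idx) :
    eR m hm (cmon S m (ugen ℤ m) idx) ∈ upiece ℤ (m + 1) (degIdx m idx) := by
  obtain ⟨-, h2, h3, hi⟩ := eR_spec m hm
  have hx2 : eR m hm (Ideal.Quotient.mk _ (X CVar.x2)) ∈ upiece ℤ (m + 1) 1 := by
    rw [h2]
    exact ugen_mem (m + 1) (.ci (Fin.last m))
  have hx3 : eR m hm (Ideal.Quotient.mk _ (X CVar.x3)) ∈ upiece ℤ (m + 1) 1 := by
    rw [h3]
    exact Submodule.add_mem _ (Submodule.add_mem _ (ugen_mem (m + 1) .a)
      (ugen_mem (m + 1) (.ci (Fin.last m)))) (ugen_mem (m + 1) (.cbi (Fin.last m)))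
  have hxi : ∀ i : Fin m, eR m hm (Ideal.Quotient.mk _ (X (CVar.xi i))) ∈ upiece ℤ (m + 1) 1 := by
    intro i
    rw [hi]
    exact ugen_mem (m + 1) (.cij i.castSucc (Fin.last m) (Fin.castSucc_lt_last i).ne)
  have hy : ∀ y : CVar m, eR m hm (Ideal.Quotient.mk _ (X y)) ∈ upiece ℤ (m + 1) 1 := by
    intro y
    cases y with
    | x2 => exact hx2
    | x3 => exact hx3
    | xi i => exact hxi i
  rcases idx with _ | k | ⟨y, k⟩
  · simp only [cmon, degIdx, map_one]
    exact one_mem (m + 1)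
  · simp only [cmon, degIdx, map_mul, map_pow]
    have := mul_mem (m + 1) (pow_mem (m + 1) hx2 (k + 1)) hx3
    rwa [show (k + 1) * 1 + 1 = k + 2 by omega] at this
  · simp only [cmon, degIdx, map_pow]
    have := pow_mem (m + 1) (hy y) (k + 1)
    rwa [show (k + 1) * 1 = k + 1 by omega] at this

/-- the step -/
noncomputable def gbStep (G : GB m) : GB (m + 1) where
  ι := G.ι × Idx
  deg := fun p => G.deg p.1 + degIdx m p.2
  fin := finite_prod _ _ G.fin (finite_degIdx m)
  b := (G.b.smulTower (cB m hm)).map (eR m hm).toAddEquiv.toIntLinearEquiv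
  hb := by
    rintro ⟨i, idx⟩
    rw [Module.Basis.map_apply, Module.Basis.smulTower_apply, cB_apply]
    show eR m hm (G.b i • cmon S m (ugen ℤ m) idx) ∈ _
    have hsm : G.b i • cmon S m (ugen ℤ m) idx
        = algebraMap S A (G.b i) * cmon S m (ugen ℤ m) idx :=
      Algebra.smul_def (G.b i) (cmon S m (ugen ℤ m) idx)
    rw [hsm, map_mul]
    have h1 : eR m hm (algebraMap S A (G.b i)) = uincl ℤ m (G.b i) := (eR_spec m hm).1 (G.b i)
    rw [h1]
    exact mul_mem (m + 1) (uincl_mem m (G.hb i)) (eR_cmon_mem m hm idx)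
  hser := by
    rw [hs_prod _ _ G.fin (finite_degIdx m), G.hser, uhilb_succ m hm]

end step

theorem nonempty_gb (m : ℕ) (hm : 2 ≤ m) : Nonempty (GB m) := by
  induction m, hm using Nat.le_induction with
  | base => exact ⟨gb2⟩
  | succ n hn ih =>
    obtain ⟨G⟩ := ih
    exact ⟨gbStep n hn G⟩

theorem main (m : ℕ) (hm : 2 ≤ m) :
    Module.Free ℤ (URing ℤ m) ∧ DirectSum.IsInternal (upiece ℤ m) ∧
      ∀ d : ℕ, (Module.finrank ℤ (upiece ℤ m d) : ℤ) = PowerSeries.coeff d (uhilb m) := by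
  obtain ⟨G⟩ := nonempty_gb m hm
  refine ⟨Module.Free.of_basis G.b, isInternal m, fun d => ?_⟩
  rw [finrank_piece (upiece ℤ m) (isInternal m) G.b G.deg G.hb G.fin d, ← G.hser, coeff_hs]

end Groth.Agent.H77.UHilb
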