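import Mathlib

/-! Descent of formally unramified finitely presented algebras to finite type ℤ-algebras. -/

open TensorProduct MvPolynomial

namespace Groth.Agent.H77.UnramDescent

universe u

section lemmas

variable {R S ι : Type*} [CommRing R] [CommRing S] [Algebra R S]

open Algebra

lemma exists_ker_pderiv (P : Algebra.Generators R S ι) [DecidableEq ι] [Subsingleton Ω[S⁄R]]
    (i : ι) :
    ∃ x ∈ P.ker, ∀ k, aeval P.val (pderiv k x) = if k = i then 1 else 0 := by
  have h0 : P.toExtension.toKaehler (P.cotangentSpaceBasis i) = 0 := Subsingleton.elim _ _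
  obtain ⟨c, hc⟩ := (P.toExtension.exact_cotangentComplex_toKaehler _).mp h0
  obtain ⟨x, rfl⟩ := Algebra.Extension.Cotangent.mk_surjective c
  refine ⟨x.1, x.2, fun k => ?_⟩
  have h1 := congrArg (fun v => P.cotangentSpaceBasis.repr v k) hc
  simp only [Extension.cotangentComplex_mk] at h1
  erw [Generators.cotangentSpaceBasis_repr_one_tmul] at h1
  rw [h1]
  simp [Finsupp.single_apply, eq_comm]

lemma subsingleton_kaehler_of_exists (P : Algebra.Generators R S ι) [DecidableEq ι]
    (h : ∀ i, ∃ x ∈ P.ker, ∀ k, aeval P.val (pderiv k x) = if k = i then 1 else 0) :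
    Subsingleton Ω[S⁄R] := by
  have hz : P.toExtension.toKaehler = 0 := by
    apply P.cotangentSpaceBasis.ext
    intro i
    obtain ⟨x, hx, hk⟩ := h i
    have h2 : P.cotangentSpaceBasis i =
        P.toExtension.cotangentComplex (Extension.Cotangent.mk ⟨x, hx⟩) := by
      apply P.cotangentSpaceBasis.repr.injective
      ext k
      have h3 : P.cotangentSpaceBasis.repr
          (P.toExtension.cotangentComplex (Extension.Cotangent.mk ⟨x, hx⟩)) k =
          aeval P.val (pderiv k x) := by
        rw [Extension.cotangentComplex_mk]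
        exact Generators.cotangentSpaceBasis_repr_one_tmul _ x k
      rw [h3, hk]
      simp [Finsupp.single_apply, eq_comm]
    rw [h2, LinearMap.zero_apply]
    exact P.toExtension.exact_cotangentComplex_toKaehler.apply_apply_eq_zero _
  refine ⟨fun a b => ?_⟩
  obtain ⟨a', rfl⟩ := P.toExtension.toKaehler_surjective a
  obtain ⟨b', rfl⟩ := P.toExtension.toKaehler_surjective b
  simp [hz]

end lemmas


section descent

variable {R S : Type*} [CommRing R] [CommRing S] [Algebra R S] {ι σ : Type*}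
  [Fintype σ] [DecidableEq ι]


theorem formallyUnramified_model
    (P : Algebra.Presentation R S ι σ) (R₀ : Subalgebra ℤ R) [P.HasCoeffs R₀]
    (n : ι → σ → MvPolynomial ι R) (q : ι → ι → σ → MvPolynomial ι R)
    (hn : ∀ i j, ((n i j).coeffs : Set R) ⊆ R₀)
    (hq : ∀ i k j, ((q i k j).coeffs : Set R) ⊆ R₀)
    (hder : ∀ i k, pderiv k (∑ j, n i j * P.relation j) - C (if k = i then (1 : R) else 0) =
        ∑ j, q i k j * P.relation j) :
    Algebra.FormallyUnramified R₀ (P.ModelOfHasCoeffs R₀) := by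
  have hinj : Function.Injective (MvPolynomial.map (σ := ι) (algebraMap R₀ R)) :=
    map_injective _ (FaithfulSMul.algebraMap_injective R₀ R)
  have hn' : ∀ i j, ∃ p, MvPolynomial.map (algebraMap R₀ R) p = n i j := fun i j => by
    have h1 : n i j ∈ Set.range (MvPolynomial.map (σ := ι) (algebraMap R₀ R)) := by
      rw [MvPolynomial.mem_range_map_iff_coeffs_subset, Subalgebra.setRange_algebraMap]
      exact hn i j
    exact h1
  have hq' : ∀ i k j, ∃ p, MvPolynomial.map (algebraMap R₀ R) p = q i k j := fun i k j => by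
    have h1 : q i k j ∈ Set.range (MvPolynomial.map (σ := ι) (algebraMap R₀ R)) := by
      rw [MvPolynomial.mem_range_map_iff_coeffs_subset, Subalgebra.setRange_algebraMap]
      exact hq i k j
    exact h1
  choose n₀ hn₀ using hn'
  choose q₀ hq₀ using hq'
  have hder₀ : ∀ i k, pderiv k (∑ j, n₀ i j * P.relationOfHasCoeffs R₀ j)
      - C (if k = i then (1 : R₀) else 0) = ∑ j, q₀ i k j * P.relationOfHasCoeffs R₀ j := by
    intro i k
    apply hinj
    have e1 : MvPolynomial.map (algebraMap R₀ R) (∑ j, n₀ i j * P.relationOfHasCoeffs R₀ j) =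
        ∑ j, n i j * P.relation j := by
      rw [map_sum]
      exact Finset.sum_congr rfl fun j _ => by
        rw [map_mul, hn₀, Algebra.Presentation.map_relationOfHasCoeffs]
    have e2 : MvPolynomial.map (algebraMap R₀ R) (∑ j, q₀ i k j * P.relationOfHasCoeffs R₀ j) =
        ∑ j, q i k j * P.relation j := by
      rw [map_sum]
      exact Finset.sum_congr rfl fun j _ => by
        rw [map_mul, hq₀, Algebra.Presentation.map_relationOfHasCoeffs]
    rw [map_sub, ← MvPolynomial.pderiv_map, e1, e2, MvPolynomial.map_C, ← hder i k]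
    congr 2
    split_ifs <;> simp
  let G : Algebra.Generators R₀ (P.ModelOfHasCoeffs R₀) ι :=
    Algebra.Generators.naive (I := Ideal.span (Set.range (P.relationOfHasCoeffs R₀)))
  have hker : G.ker = Ideal.span (Set.range (P.relationOfHasCoeffs R₀)) :=
    Algebra.Generators.ker_naive _ _
  have hmem : ∀ (c : σ → MvPolynomial ι R₀), ∑ j, c j * P.relationOfHasCoeffs R₀ j ∈ G.ker := by
    intro c
    rw [hker]
    exact Ideal.sum_mem _ fun j _ => Ideal.mul_mem_left _ _ (Ideal.subset_span ⟨j, rfl⟩)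
  refine ⟨subsingleton_kaehler_of_exists G fun i => ⟨_, hmem (n₀ i), fun k => ?_⟩⟩
  have h1 := hder₀ i k
  rw [sub_eq_iff_eq_add] at h1
  rw [h1, map_add, Algebra.Generators.aeval_val_eq_zero (hmem _), zero_add, aeval_C]
  split_ifs <;> simp

end descent

theorem exists_model (R : Type u) [CommRing R] (S : Type u) [CommRing S] [Algebra R S]
    [Algebra.FinitePresentation R S] [Algebra.FormallyUnramified R S] :
    ∃ (R₀ : Subalgebra ℤ R) (S₀ : Type u) (_ : CommRing S₀) (_ : Algebra R₀ S₀),
      R₀.FG ∧ Algebra.FinitePresentation R₀ S₀ ∧ Algebra.FormallyUnramified R₀ S₀ ∧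
        Nonempty (R ⊗[R₀] S₀ ≃ₐ[R] S) := by
  classical
  let P := Algebra.Presentation.ofFinitePresentation R S
  have hx : ∀ i, ∃ x ∈ P.ker, ∀ k, aeval P.val (pderiv k x) = if k = i then 1 else 0 :=
    fun i => exists_ker_pderiv P.toGenerators i
  choose x hxker hxder using hx
  have hn : ∀ i, ∃ c : _ → MvPolynomial _ R, ∑ j, c j * P.relation j = x i := fun i => by
    have h1 := hxker i
    rw [← P.span_range_relation_eq_ker, Ideal.mem_span_range_iff_exists_fun] at h1
    exact h1
  choose n hn using hn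
  have hq : ∀ i k, ∃ c : _ → MvPolynomial _ R,
      ∑ j, c j * P.relation j = pderiv k (x i) - C (if k = i then (1 : R) else 0) := fun i k => by
    have h1 : pderiv k (x i) - C (if k = i then (1 : R) else 0) ∈ P.ker := by
      rw [Algebra.Generators.ker_eq_ker_aeval_val, RingHom.mem_ker, map_sub, hxder, aeval_C]
      split_ifs <;> simp
    rw [← P.span_range_relation_eq_ker, Ideal.mem_span_range_iff_exists_fun] at h1
    exact h1
  choose q hq using hq
  obtain ⟨s, hs⟩ : ∃ s : Set R, s = P.coeffs ∪ ((⋃ i, ⋃ j, ((n i j).coeffs : Set R)) ∪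
      (⋃ i, ⋃ k, ⋃ j, ((q i k j).coeffs : Set R))) := ⟨_, rfl⟩
  have hfin : s.Finite := by
    rw [hs]
    refine .union Algebra.Presentation.finite_coeffs (.union ?_ ?_)
    · exact Set.finite_iUnion fun i => Set.finite_iUnion fun j => Finset.finite_toSet _
    · exact Set.finite_iUnion fun i => Set.finite_iUnion fun k => Set.finite_iUnion fun j =>
        Finset.finite_toSet _
  obtain ⟨R₀, hR₀⟩ : ∃ R₀ : Subalgebra ℤ R, R₀ = Algebra.adjoin ℤ s := ⟨_, rfl⟩
  have hsub : s ⊆ R₀ := hR₀ ▸ Algebra.subset_adjoin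
  have : P.HasCoeffs R₀ := ⟨by
    rw [Subalgebra.setRange_algebraMap]
    exact fun a ha => hsub (hs ▸ Or.inl ha)⟩
  refine ⟨R₀, P.ModelOfHasCoeffs R₀, inferInstance, inferInstance,
    ⟨hfin.toFinset, by simp [hR₀]⟩, inferInstance,
    formallyUnramified_model P R₀ n q ?_ ?_ ?_, ⟨P.tensorModelOfHasCoeffsEquiv R₀⟩⟩
  · intro i j a ha
    refine hsub (hs ▸ Or.inr (Or.inl ?_))
    exact Set.mem_iUnion.mpr ⟨i, Set.mem_iUnion.mpr ⟨j, ha⟩⟩
  · intro i k j a ha
    refine hsub (hs ▸ Or.inr (Or.inr ?_))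
    exact Set.mem_iUnion.mpr ⟨i, Set.mem_iUnion.mpr ⟨k, Set.mem_iUnion.mpr ⟨j, ha⟩⟩⟩
  · intro i k
    rw [hn, hq]


theorem exists_fp_cover (R : Type u) [CommRing R] (S : Type u) [CommRing S] [Algebra R S]
    [Algebra.FiniteType R S] [Algebra.FormallyUnramified R S] :
    ∃ (S' : Type u) (_ : CommRing S') (_ : Algebra R S'),
      Algebra.FinitePresentation R S' ∧ Algebra.FormallyUnramified R S' ∧
        ∃ f : S' →ₐ[R] S, Function.Surjective f := by
  classical
  obtain ⟨m, f, hf⟩ := Algebra.FiniteType.iff_quotient_mvPolynomial''.mp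
    (inferInstance : Algebra.FiniteType R S)
  let G : Algebra.Generators R S (Fin m) := Algebra.Generators.ofAlgHom f hf
  have hx : ∀ i, ∃ x ∈ G.ker, ∀ k, aeval G.val (pderiv k x) = if k = i then 1 else 0 :=
    fun i => exists_ker_pderiv G i
  choose x hxker hxder using hx
  let v : (Fin m ⊕ Fin m × Fin m) → MvPolynomial (Fin m) R := fun t =>
    match t with
    | Sum.inl i => x i
    | Sum.inr (i, k) => pderiv k (x i) - C (if k = i then (1 : R) else 0)
  have hv : ∀ t, v t ∈ G.ker := by
    rintro (i | ⟨i, k⟩)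
    · exact hxker i
    · change pderiv k (x i) - C (if k = i then (1 : R) else 0) ∈ G.ker
      rw [Algebra.Generators.ker_eq_ker_aeval_val, RingHom.mem_ker, map_sub, hxder, aeval_C]
      split_ifs <;> simp
  let I : Ideal (MvPolynomial (Fin m) R) := Ideal.span (Set.range v)
  have hI : I ≤ G.ker := Ideal.span_le.mpr (by rintro _ ⟨t, rfl⟩; exact hv t)
  have hfp : Algebra.FinitePresentation R (MvPolynomial (Fin m) R ⧸ I) :=
    .quotient ⟨Finset.image v .univ, by simp [I]⟩
  let G' : Algebra.Generators R (MvPolynomial (Fin m) R ⧸ I) (Fin m) :=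
    Algebra.Generators.naive (I := I)
  have hker : G'.ker = I := Algebra.Generators.ker_naive _ _
  have hmem : ∀ t, v t ∈ G'.ker := fun t => by
    rw [hker]
    exact Ideal.subset_span ⟨t, rfl⟩
  have hun : Algebra.FormallyUnramified R (MvPolynomial (Fin m) R ⧸ I) := by
    refine ⟨subsingleton_kaehler_of_exists G' fun i => ⟨x i, hmem (Sum.inl i), fun k => ?_⟩⟩
    have h1 : pderiv k (x i) = C (if k = i then (1 : R) else 0) + v (Sum.inr (i, k)) := by
      change _ = _ + (pderiv k (x i) - C (if k = i then (1 : R) else 0))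
      ring
    rw [h1, map_add, Algebra.Generators.aeval_val_eq_zero (hmem (Sum.inr (i, k))), add_zero, aeval_C]
    split_ifs <;> simp
  refine ⟨MvPolynomial (Fin m) R ⧸ I, inferInstance, inferInstance, hfp, hun,
    Ideal.Quotient.liftₐ I (aeval G.val) (fun a ha => ?_), ?_⟩
  · have := hI ha
    rwa [Algebra.Generators.ker_eq_ker_aeval_val, RingHom.mem_ker] at this
  · intro s
    obtain ⟨p, hp⟩ := G.aeval_val_surjective s
    exact ⟨Ideal.Quotient.mk I p, hp⟩

theorem exists_model_quotient (R : Type u) [CommRing R] (S : Type u) [CommRing S] [Algebra R S]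
    [Algebra.FiniteType R S] [Algebra.FormallyUnramified R S] :
    ∃ (R₀ : Subalgebra ℤ R) (S₀ : Type u) (_ : CommRing S₀) (_ : Algebra R₀ S₀),
      R₀.FG ∧ Algebra.FinitePresentation R₀ S₀ ∧ Algebra.FormallyUnramified R₀ S₀ ∧
        ∃ ψ : R ⊗[R₀] S₀ →ₐ[R] S, Function.Surjective ψ := by
  obtain ⟨S', _, _, hfp, hun, f, hf⟩ := exists_fp_cover R S
  obtain ⟨R₀, S₀, i1, i2, hfg, hfp₀, hun₀, ⟨e⟩⟩ := exists_model R S'
  exact ⟨R₀, S₀, i1, i2, hfg, hfp₀, hun₀, f.comp e.toAlgHom, hf.comp e.surjective⟩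

end Groth.Agent.H77.UnramDescent
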