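import Groth.Prelude.Def_RedSub

set_option autoImplicit false

namespace Groth.Agent.H77.WeylExch

open RootPairing

variable {idx M N : Type} [AddCommGroup M] [AddCommGroup N]

theorem closure_repr (P : RootPairing idx ℤ M N) (b : P.Base) (m : M)
    (hm : m ∈ AddSubmonoid.closure (P.root '' (b.support : Set idx))) :
    ∃ f : idx → ℕ, m = ∑ j ∈ b.support, f j • P.root j := by
  classical
  refine AddSubmonoid.closure_induction ?_ ⟨0, by simp⟩ ?_ hm
  · rintro - ⟨j, hj, rfl⟩
    refine ⟨Pi.single j 1, ?_⟩
    rw [Finset.sum_eq_single j]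
    · simp
    · intro k _ hk
      simp [Pi.single_apply, hk]
    · intro hj'
      exact absurd hj hj'
  · intro _ _ _ _ ⟨f, hf'⟩ ⟨g, hg'⟩
    refine ⟨f + g, ?_⟩
    simp [hf', hg', add_smul, Finset.sum_add_distrib]

theorem isPos_of_mem_posRoots [Finite idx] (P : RootPairing idx ℤ M N) (b : P.Base) (c : idx)
    (hc : c ∈ RedSub.posRoots P b) : b.IsPos c := by
  obtain ⟨f, hf⟩ := closure_repr P b _ hc
  have h1 : P.root c = ∑ j ∈ b.support, ((f j : ℕ) : ℤ) • P.root j := by
    rw [hf]
    refine Finset.sum_congr rfl fun j _ => ?_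
    rw [natCast_zsmul]
  rw [Base.isPos_iff', Base.height_eq_sum h1]
  exact Finset.sum_nonneg fun j _ => Int.natCast_nonneg _

theorem not_isPos_of_mem_negRoots [Finite idx] (P : RootPairing idx ℤ M N) (b : P.Base) (c : idx)
    (hc : c ∈ RedSub.negRoots P b) : ¬ b.IsPos c := by
  obtain ⟨f, hf⟩ := closure_repr P b _ hc
  have h1 : P.root c = ∑ j ∈ b.support, (-((f j : ℕ) : ℤ)) • P.root j := by
    rw [← neg_neg (P.root c), hf, ← Finset.sum_neg_distrib]
    refine Finset.sum_congr rfl fun j _ => ?_
    rw [neg_smul, natCast_zsmul]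
  rw [Base.isPos_iff, Base.height_eq_sum h1, Finset.sum_neg_distrib]
  have : 0 ≤ ∑ j ∈ b.support, ((f j : ℕ) : ℤ) := Finset.sum_nonneg fun j _ => Int.natCast_nonneg _
  omega

theorem reflectionPerm_reflectionPerm (P : RootPairing idx ℤ M N) (i j : idx) :
    P.reflectionPerm (P.reflectionPerm j i) =
      P.reflectionPerm j * P.reflectionPerm i * P.reflectionPerm j := by
  ext k
  apply P.root.injective
  rw [root_reflectionPerm, reflection_reflectionPerm]
  simp only [Equiv.Perm.coe_mul, Function.comp_apply, root_reflectionPerm]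
  rfl

theorem wordPerm_cons (P : RootPairing idx ℤ M N) (a : idx) (l : List idx) :
    RedSub.wordPerm P (a :: l) = P.reflectionPerm a * RedSub.wordPerm P l := by
  simp [RedSub.wordPerm]

theorem wordPerm_append (P : RootPairing idx ℤ M N) (l l' : List idx) :
    RedSub.wordPerm P (l ++ l') = RedSub.wordPerm P l * RedSub.wordPerm P l' := by
  simp [RedSub.wordPerm]

theorem reflectionPerm_wordPerm (P : RootPairing idx ℤ M N) (l : List idx) (i : idx) :
    P.reflectionPerm (RedSub.wordPerm P l i) =
      RedSub.wordPerm P l * P.reflectionPerm i * (RedSub.wordPerm P l)⁻¹ := by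
  induction l with
  | nil => simp [RedSub.wordPerm]
  | cons a l ih =>
    rw [wordPerm_cons, Equiv.Perm.mul_apply, reflectionPerm_reflectionPerm, ih, mul_inv_rev,
      reflectionPerm_inv]
    simp only [mul_assoc]

theorem exchange [Finite idx] (P : RootPairing idx ℤ M N) [P.IsReduced] (b : P.Base) (l : List idx)
    (hl : ∀ a ∈ l, a ∈ b.support)
    (c : idx) (hc : b.IsPos c) (hneg : ¬ b.IsPos ((RedSub.wordPerm P l).symm c)) :
    ∃ i : ℕ, i < l.length ∧
      P.reflectionPerm c * RedSub.wordPerm P (l.take (i + 1)) = RedSub.wordPerm P (l.take i) := by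
  -- find the first sign change
  have hex : ∃ i : ℕ, i < l.length ∧ b.IsPos ((RedSub.wordPerm P (l.take i)).symm c) ∧
      ¬ b.IsPos ((RedSub.wordPerm P (l.take (i + 1))).symm c) := by
    by_contra hcon
    push Not at hcon
    have hall : ∀ i : ℕ, i ≤ l.length → b.IsPos ((RedSub.wordPerm P (l.take i)).symm c) := by
      intro i
      induction i with
      | zero =>
        intro _
        have h0 : RedSub.wordPerm P (l.take 0) = 1 := by simp [RedSub.wordPerm]
        rw [h0]
        exact hc
      | succ n ih =>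
        intro hn
        exact hcon n (by omega) (ih (by omega))
    apply hneg
    have := hall l.length le_rfl
    rwa [List.take_length] at this
  obtain ⟨i, hi, hpos, hnpos⟩ := hex
  refine ⟨i, hi, ?_⟩
  have htake : l.take (i + 1) = l.take i ++ [l[i]] := by
    rw [List.take_succ_eq_append_getElem hi]
  have hw : RedSub.wordPerm P (l.take (i + 1)) =
      RedSub.wordPerm P (l.take i) * P.reflectionPerm l[i] := by
    rw [htake, wordPerm_append]
    simp [RedSub.wordPerm]
  have hmem : l[i] ∈ b.support := hl _ (List.getElem_mem hi)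
  -- γ_i = l[i]
  have hγ : (RedSub.wordPerm P (l.take i)).symm c = l[i] := by
    by_contra hne
    apply hnpos
    rw [hw]
    have h2 := Base.IsPos.reflectionPerm hpos hmem hne
    have h3 : (RedSub.wordPerm P (l.take i) * P.reflectionPerm l[i]).symm c =
        P.reflectionPerm l[i] ((RedSub.wordPerm P (l.take i)).symm c) := by
      show (RedSub.wordPerm P (l.take i) * P.reflectionPerm l[i])⁻¹ c = _
      rw [mul_inv_rev, reflectionPerm_inv, Equiv.Perm.mul_apply]
      rfl
    rw [h3]
    exact h2
  have hc' : c = RedSub.wordPerm P (l.take i) l[i] := by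
    rw [← hγ, Equiv.apply_symm_apply]
  rw [hw, hc', reflectionPerm_wordPerm]
  have hsq : P.reflectionPerm l[i] * P.reflectionPerm l[i] = 1 := by
    rw [← sq, reflectionPerm_sq]
  calc RedSub.wordPerm P (l.take i) * P.reflectionPerm l[i] * (RedSub.wordPerm P (l.take i))⁻¹ *
        (RedSub.wordPerm P (l.take i) * P.reflectionPerm l[i])
      = RedSub.wordPerm P (l.take i) * (P.reflectionPerm l[i] * P.reflectionPerm l[i]) := by group
    _ = RedSub.wordPerm P (l.take i) := by rw [hsq, mul_one]

end Groth.Agent.H77.WeylExch
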