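-- helper77: weighted homogeneity of the Witt addition polynomials and a consequence
import Mathlib

set_option autoImplicit false

namespace Groth.Agent.H77

open MvPolynomial Finset

section
variable (p : ℕ) [hp : Fact p.Prime]

/-- The `n`-th Witt addition polynomial is weighted homogeneous of weight `p ^ n`, the variable
`(i, j)` having weight `p ^ j`. -/
theorem wittAdd_isWeightedHomogeneous (n : ℕ) :
    IsWeightedHomogeneous (fun ij : Fin 2 × ℕ => p ^ ij.2) (WittVector.wittAdd p n) (p ^ n) := by
  induction n using Nat.strong_induction_on with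
  | _ n ih =>
  have hprop := wittStructureInt_prop p (X (0 : Fin 2) + X 1 : MvPolynomial (Fin 2) ℤ) n
  have hL : bind₁ (WittVector.wittAdd p) (wittPolynomial p ℤ n) =
      ∑ i ∈ range (n + 1), C ((p : ℤ) ^ i) * (WittVector.wittAdd p i) ^ (p ^ (n - i)) := by
    rw [wittPolynomial_eq_sum_C_mul_X_pow, map_sum]
    refine sum_congr rfl (fun i _ => ?_)
    rw [map_mul, bind₁_C_right, map_pow (bind₁ (WittVector.wittAdd p)), bind₁_X_right]
  have hR : ∀ j : Fin 2, IsWeightedHomogeneous (fun ij : Fin 2 × ℕ => p ^ ij.2)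
      (rename (Prod.mk j) (wittPolynomial p ℤ n)) (p ^ n) := by
    intro j
    rw [wittPolynomial_eq_sum_C_mul_X_pow, map_sum]
    refine IsWeightedHomogeneous.sum _ _ _ (fun i hi => ?_)
    rw [map_mul, rename_C, map_pow (rename (Prod.mk j)), rename_X]
    have h := ((isWeightedHomogeneous_X ℤ (fun ij : Fin 2 × ℕ => p ^ ij.2) (j, i)).pow
      (p ^ (n - i))).C_mul ((p : ℤ) ^ i)
    have hi' : i ≤ n := Nat.lt_succ_iff.mp (mem_range.mp hi)
    have hw : p ^ (n - i) • p ^ i = p ^ n := by
      rw [smul_eq_mul, ← pow_add, Nat.sub_add_cancel hi']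
    rw [hw] at h
    exact h
  have hprop' : bind₁ (WittVector.wittAdd p) (wittPolynomial p ℤ n) =
      rename (Prod.mk (0 : Fin 2)) (wittPolynomial p ℤ n) +
        rename (Prod.mk (1 : Fin 2)) (wittPolynomial p ℤ n) := by
    have : WittVector.wittAdd p = wittStructureInt p (X (0 : Fin 2) + X 1) := rfl
    rw [this, hprop, map_add, bind₁_X_right, bind₁_X_right]
  rw [hL, sum_range_succ, Nat.sub_self, pow_zero, pow_one] at hprop'
  have hlow : IsWeightedHomogeneous (fun ij : Fin 2 × ℕ => p ^ ij.2)
      (∑ i ∈ range n, C ((p : ℤ) ^ i) * (WittVector.wittAdd p i) ^ (p ^ (n - i))) (p ^ n) := by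
    refine IsWeightedHomogeneous.sum _ _ _ (fun i hi => ?_)
    have hi' : i < n := mem_range.mp hi
    have h := ((ih i hi').pow (p ^ (n - i))).C_mul ((p : ℤ) ^ i)
    have hw : p ^ (n - i) • p ^ i = p ^ n := by
      rw [smul_eq_mul, ← pow_add, Nat.sub_add_cancel hi'.le]
    rw [hw] at h
    exact h
  have hmain : IsWeightedHomogeneous (fun ij : Fin 2 × ℕ => p ^ ij.2)
      (C ((p : ℤ) ^ n) * WittVector.wittAdd p n) (p ^ n) := by
    have : C ((p : ℤ) ^ n) * WittVector.wittAdd p n =
        rename (Prod.mk (0 : Fin 2)) (wittPolynomial p ℤ n) +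
          rename (Prod.mk (1 : Fin 2)) (wittPolynomial p ℤ n) -
        ∑ i ∈ range n, C ((p : ℤ) ^ i) * (WittVector.wittAdd p i) ^ (p ^ (n - i)) := by
      rw [← hprop']; ring
    rw [this]
    exact ((hR 0).add (hR 1)).sub hlow
  intro d hd
  apply hmain
  rw [coeff_C_mul]
  exact mul_ne_zero (pow_ne_zero _ (Nat.cast_ne_zero.mpr hp.1.ne_zero)) hd

/-- If all the coefficients lie in an ideal whose `p`-th power vanishes, the `n`-th Witt addition
polynomial evaluates to a linear combination of the two `n`-th coefficients. -/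
theorem peval_wittAdd_of_mem {A : Type*} [CommRing A] (N : Ideal A) (hN : N ^ p = ⊥) (n : ℕ)
    (x : Fin 2 → ℕ → A) (hx : ∀ i j, x i j ∈ N) :
    WittVector.peval (WittVector.wittAdd p n) x =
      algebraMap ℤ A (coeff (Finsupp.single ((0 : Fin 2), n) 1) (WittVector.wittAdd p n)) * x 0 n +
      algebraMap ℤ A (coeff (Finsupp.single ((1 : Fin 2), n) 1) (WittVector.wittAdd p n)) * x 1 n := by
  classical
  set φ := WittVector.wittAdd p n with hφ
  set s₀ : Fin 2 × ℕ →₀ ℕ := Finsupp.single ((0 : Fin 2), n) 1 with hs₀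
  set s₁ : Fin 2 × ℕ →₀ ℕ := Finsupp.single ((1 : Fin 2), n) 1 with hs₁
  have hhom := wittAdd_isWeightedHomogeneous p n
  let F : (Fin 2 × ℕ →₀ ℕ) → A := fun d =>
    algebraMap ℤ A (coeff d φ) * ∏ ij ∈ d.support, (Function.uncurry x ij) ^ d ij
  have hpe : WittVector.peval φ x = ∑ d ∈ φ.support, F d := by
    unfold WittVector.peval
    rw [aeval_def, eval₂_eq]
  have hvan : ∀ d, d ≠ s₀ → d ≠ s₁ → F d = 0 := by
    intro d h0 h1
    by_cases hd : coeff d φ = 0
    · simp [F, hd]
    have hwt : ∑ ij ∈ d.support, d ij * p ^ ij.2 = p ^ n := by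
      have := hhom hd
      rw [Finsupp.weight_apply] at this
      simpa [Finsupp.sum, smul_eq_mul] using this
    have hzero : ∀ i : Fin 2, d (i, n) = 0 := by
      intro i
      by_contra hne
      have hmem : (i, n) ∈ d.support := Finsupp.mem_support_iff.mpr hne
      rw [← Finset.add_sum_erase _ _ hmem] at hwt
      replace hwt : d (i, n) * p ^ n + ∑ x ∈ d.support.erase (i, n), d x * p ^ x.2 = p ^ n := hwt
      have hpos : 0 < p ^ n := pow_pos hp.1.pos n
      have h1' : d (i, n) = 1 := by
        by_contra h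
        have h2 : 2 ≤ d (i, n) := by omega
        have h3 : 2 * p ^ n ≤ d (i, n) * p ^ n := Nat.mul_le_mul_right _ h2
        omega
      rw [h1', one_mul] at hwt
      have hrest : ∑ ij ∈ d.support.erase (i, n), d ij * p ^ ij.2 = 0 := by omega
      have hempty : d.support.erase (i, n) = ∅ := by
        by_contra hne'
        obtain ⟨ij, hij⟩ := Finset.nonempty_iff_ne_empty.mpr hne'
        have h3 := Finset.sum_eq_zero_iff.mp hrest ij hij
        have hd' : d ij ≠ 0 := Finsupp.mem_support_iff.mp (Finset.mem_of_mem_erase hij)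
        have h4 : 0 < p ^ ij.2 := pow_pos hp.1.pos _
        rcases Nat.mul_eq_zero.mp h3 with h | h <;> omega
      have hd_eq : d = Finsupp.single (i, n) 1 := by
        ext ij
        by_cases hij : ij = (i, n)
        · subst hij; simp [h1']
        · rw [Finsupp.single_apply, if_neg (Ne.symm hij)]
          by_contra hne''
          have h5 : ij ∈ d.support.erase (i, n) :=
            Finset.mem_erase.mpr ⟨hij, Finsupp.mem_support_iff.mpr hne''⟩
          rw [hempty] at h5
          exact absurd h5 (Finset.notMem_empty _)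
      fin_cases i
      · exact h0 hd_eq
      · exact h1 hd_eq
    have hlt : ∀ ij ∈ d.support, ij.2 < n := by
      intro ij hij
      have hd' : d ij ≠ 0 := Finsupp.mem_support_iff.mp hij
      have hle : d ij * p ^ ij.2 ≤ p ^ n := by
        rw [← hwt]
        exact Finset.single_le_sum (f := fun ij => d ij * p ^ ij.2) (fun _ _ => Nat.zero_le _) hij
      have hle2 : p ^ ij.2 ≤ p ^ n :=
        le_trans (Nat.le_mul_of_pos_left _ (Nat.pos_of_ne_zero hd')) hle
      have hle3 : ij.2 ≤ n := (Nat.pow_le_pow_iff_right hp.1.one_lt).mp hle2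
      rcases Nat.lt_or_eq_of_le hle3 with h | h
      · exact h
      · exfalso; apply hd'
        obtain ⟨i, j⟩ := ij
        simp only at h; subst h
        exact hzero i
    have hdeg : p ≤ ∑ ij ∈ d.support, d ij := by
      rcases Nat.eq_zero_or_pos n with h0' | hpos
      · exfalso
        have hemp : d.support = ∅ := by
          by_contra hne
          obtain ⟨ij, hij⟩ := Finset.nonempty_iff_ne_empty.mpr hne
          have := hlt ij hij; omega
        rw [hemp, Finset.sum_empty] at hwt
        have := pow_pos hp.1.pos n; omega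
      · have h2 : p ^ n ≤ (∑ ij ∈ d.support, d ij) * p ^ (n - 1) := by
          rw [← hwt, Finset.sum_mul]
          refine Finset.sum_le_sum (fun ij hij =>
            Nat.mul_le_mul_left _ (Nat.pow_le_pow_right hp.1.pos ?_))
          have := hlt ij hij; omega
        have h3 : p ^ n = p * p ^ (n - 1) := by
          rw [← pow_succ']; congr 1; omega
        rw [h3] at h2
        exact Nat.le_of_mul_le_mul_right h2 (pow_pos hp.1.pos _)
    have hprod : ∏ ij ∈ d.support, (Function.uncurry x ij) ^ d ij ∈
        N ^ (∑ ij ∈ d.support, d ij) := by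
      rw [← Finset.prod_pow_eq_pow_sum]
      exact Ideal.prod_mem_prod (fun ij _ => Ideal.pow_mem_pow (hx ij.1 ij.2) _)
    have hz : ∏ ij ∈ d.support, (Function.uncurry x ij) ^ d ij = 0 := by
      have h6 := Ideal.pow_le_pow_right hdeg hprod
      rw [hN] at h6; exact h6
    simp [F, hz]
  have hne : s₀ ≠ s₁ := by
    intro h
    have h7 := congrArg (fun f => f ((0 : Fin 2), n)) h
    simp [s₀, s₁, Finsupp.single_apply] at h7
  rw [hpe]
  have h1 : ∑ d ∈ φ.support, F d = ∑ d ∈ φ.support ∪ {s₀, s₁}, F d := by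
    refine Finset.sum_subset Finset.subset_union_left (fun d _ hd => ?_)
    have h8 : coeff d φ = 0 := by simpa [MvPolynomial.mem_support_iff] using hd
    simp [F, h8]
  have h2 : ∑ d ∈ ({s₀, s₁} : Finset _), F d = ∑ d ∈ φ.support ∪ {s₀, s₁}, F d := by
    refine Finset.sum_subset Finset.subset_union_right (fun d _ hd => ?_)
    simp only [Finset.mem_insert, Finset.mem_singleton, not_or] at hd
    exact hvan d hd.1 hd.2
  rw [h1, ← h2, Finset.sum_pair hne]
  simp [F, s₀, s₁, Finsupp.support_single_ne_zero]

/-- Witt vector addition is componentwise on vectors with coefficients in an ideal whose `p`-th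
power vanishes. -/
theorem add_coeff_of_mem {A : Type*} [CommRing A] (N : Ideal A) (hN : N ^ p = ⊥)
    (a b : WittVector p A) (ha : ∀ j, a.coeff j ∈ N) (hb : ∀ j, b.coeff j ∈ N) (n : ℕ) :
    (a + b).coeff n = a.coeff n + b.coeff n := by
  have hab := peval_wittAdd_of_mem p N hN n ![a.coeff, b.coeff] (by
    intro i j; fin_cases i
    · exact ha j
    · exact hb j)
  have ha0 := peval_wittAdd_of_mem p N hN n ![a.coeff, (0 : WittVector p A).coeff] (by
    intro i j; fin_cases i
    · exact ha j
    · simp)
  have h0b := peval_wittAdd_of_mem p N hN n ![(0 : WittVector p A).coeff, b.coeff] (by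
    intro i j; fin_cases i
    · simp
    · exact hb j)
  rw [← WittVector.add_coeff] at hab ha0 h0b
  rw [add_zero] at ha0
  rw [zero_add] at h0b
  simp only [Matrix.cons_val_zero, Matrix.cons_val_one, WittVector.zero_coeff, mul_zero,
    add_zero, zero_add] at hab ha0 h0b
  rw [hab, ← ha0, ← h0b]

end

end Groth.Agent.H77
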